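import Groth.Agent.H28.ExtSh
import Groth.Agent.PinchPO7.FramePull
import Mathlib.RingTheory.OrzechProperty

/-!
# Pullback of exterior powers
-/

set_option autoImplicit false
set_option linter.style.haveILetI false
set_option linter.unusedSectionVars false
set_option backward.isDefEq.respectTransparency false
set_option backward.isDefEq.respectTransparency.types false
set_option maxHeartbeats 1000000

universe u

open CategoryTheory CategoryTheory.Limits AlgebraicGeometry TopologicalSpace Opposite Set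
open Groth.Agent.AModX Groth.Agent.H28.ExtBase

noncomputable section

namespace Groth.Agent.H28.ExtPull

open Groth.Agent PinchPO7

variable {X S : Scheme.{u}} (f : X ⟶ S) {M : S.Modules}

theorem unitSec_add {V : S.Opens} (a b : Γ(M, V)) : unitSec f M (a + b) = unitSec f M a + unitSec f M b :=
  map_add (((Scheme.Modules.pullbackPushforwardAdjunction f).unit.app M).app V).hom a b

theorem unitSec_smul {V : S.Opens} (c : Γ(S, V)) (a : Γ(M, V)) :
    unitSec f M (c • a) = (f.app V).hom c • unitSec f M a :=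
  Scheme.Modules.Hom.app_smul ((Scheme.Modules.pullbackPushforwardAdjunction f).unit.app M) c a

theorem unitSec_res {V V' : S.Opens} (i : V' ≤ V) (a : Γ(M, V)) :
    res ((Scheme.Modules.pullback f).obj M) (Scheme.Hom.preimage_mono f i) (unitSec f M a) =
      unitSec f M (res M i a) :=
  (ConcreteCategory.congr_hom (((Scheme.Modules.pullbackPushforwardAdjunction f).unit.app
    M).mapPresheaf.naturality (homOfLE i).op) a).symm

variable (M) (m : ℕ)

/-- The alternating maps `e ↦ f^* e₁ ∧ … ∧ f^* e_m`. -/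
def muPull (V : S.Opens) : Γ(M, V) [⋀^Fin m]→ₗ[Γ(S, V)]
    Γ((Scheme.Modules.pushforward f).obj (L ((Scheme.Modules.pullback f).obj M) m), V) where
  toFun e := mu ((Scheme.Modules.pullback f).obj M) m (f ⁻¹ᵁ V) fun k => unitSec f M (e k)
  map_update_add' e k x y := by
    have h : ∀ z, (fun j => unitSec f M (Function.update e k z j)) =
        Function.update (fun j => unitSec f M (e j)) k (unitSec f M z) := fun z =>
      funext fun j => Function.apply_update (fun _ => unitSec f M) e k z j
    rw [h, h, h, unitSec_add]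
    exact (mu ((Scheme.Modules.pullback f).obj M) m (f ⁻¹ᵁ V)).map_update_add _ _ _ _
  map_update_smul' e k c x := by
    have h : ∀ z, (fun j => unitSec f M (Function.update e k z j)) =
        Function.update (fun j => unitSec f M (e j)) k (unitSec f M z) := fun z =>
      funext fun j => Function.apply_update (fun _ => unitSec f M) e k z j
    rw [h, h, unitSec_smul]
    exact (mu ((Scheme.Modules.pullback f).obj M) m (f ⁻¹ᵁ V)).map_update_smul _ _ _ _
  map_eq_zero_of_eq' e j k he hjk :=
    (mu ((Scheme.Modules.pullback f).obj M) m (f ⁻¹ᵁ V)).map_eq_zero_of_eq _ (congrArg (unitSec f M) he) hjk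

theorem muPull_res (V V' : S.Opens) (i : V' ≤ V) (e : Fin m → Γ(M, V)) :
    res ((Scheme.Modules.pushforward f).obj (L ((Scheme.Modules.pullback f).obj M) m)) i (muPull f M m V e) =
      muPull f M m V' (fun k => res M i (e k)) := by
  refine (mu_res ((Scheme.Modules.pullback f).obj M) m (f ⁻¹ᵁ V) (f ⁻¹ᵁ V') (Scheme.Hom.preimage_mono f i) _).trans ?_
  show mu _ m (f ⁻¹ᵁ V') _ = mu _ m (f ⁻¹ᵁ V') _
  exact congrArg _ (funext fun k => unitSec_res f i (e k))

/-- `L M ⟶ f_* L (f^* M)`. -/
def adjMap : L M m ⟶ (Scheme.Modules.pushforward f).obj (L ((Scheme.Modules.pullback f).obj M) m) :=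
  ((PresheafOfModules.sheafificationAdjunction (𝟙 S.ringCatSheaf.obj)).homEquiv (P M m)
    ((Scheme.Modules.pushforward f).obj (L ((Scheme.Modules.pullback f).obj M) m))).symm
    (ExtSh.liftP (muPull f M m) (muPull_res f M m))

theorem adjMap_mu (V : S.Opens) (e : Fin m → Γ(M, V)) :
    (adjMap f M m).app V (mu M m V e) =
      mu ((Scheme.Modules.pullback f).obj M) m (f ⁻¹ᵁ V) (fun k => unitSec f M (e k)) := by
  have h := ((PresheafOfModules.sheafificationAdjunction (𝟙 S.ringCatSheaf.obj)).homEquiv (P M m)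
    ((Scheme.Modules.pushforward f).obj (L ((Scheme.Modules.pullback f).obj M) m))).apply_symm_apply
    (ExtSh.liftP (muPull f M m) (muPull_res f M m))
  rw [Adjunction.homEquiv_unit] at h
  refine (congrArg (fun q : P M m ⟶ DCoh.toP.obj ((Scheme.Modules.pushforward f).obj
    (L ((Scheme.Modules.pullback f).obj M) m)) => (q.app (op V)).hom (wedge M m e)) h).trans ?_
  exact AltGlue.lift_ιMulti (muPull f M m) V e

/-- The comparison `f^* L M ⟶ L (f^* M)`. -/
def comparison : (Scheme.Modules.pullback f).obj (L M m) ⟶ L ((Scheme.Modules.pullback f).obj M) m :=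
  ((Scheme.Modules.pullbackPushforwardAdjunction f).homEquiv (L M m) _).symm (adjMap f M m)

theorem comparison_mu (V : S.Opens) (e : Fin m → Γ(M, V)) :
    (comparison f M m).app (f ⁻¹ᵁ V) (unitSec f (L M m) (mu M m V e)) =
      mu ((Scheme.Modules.pullback f).obj M) m (f ⁻¹ᵁ V) (fun k => unitSec f M (e k)) := by
  have h := ((Scheme.Modules.pullbackPushforwardAdjunction f).homEquiv (L M m)
    (L ((Scheme.Modules.pullback f).obj M) m)).apply_symm_apply (adjMap f M m)
  rw [Adjunction.homEquiv_unit] at h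
  exact (congrArg (fun q : L M m ⟶ (Scheme.Modules.pushforward f).obj
    (L ((Scheme.Modules.pullback f).obj M) m) => q.app V (mu M m V e)) h).trans (adjMap_mu f M m V e)

variable {M}

theorem isIso_comparison (hM : FlatMod.IsFinLocFree M) : IsIso (comparison f M m) := by
  classical
  let B : Set X.Opens := {W | ∃ (U : S.Opens) (r : ℕ) (s : Fin r → Γ(M, U)), H23.Frame.IsFrame M s ∧
    H23.Frame.IsFrame ((Scheme.Modules.pullback f).obj M) (U := f ⁻¹ᵁ U) (fun i => unitSec f M (s i)) ∧
    W ≤ f ⁻¹ᵁ U}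
  have hB : Opens.IsBasis B := by
    refine Opens.isBasis_iff_nbhd.2 fun {W x} hx => ?_
    obtain ⟨U, r, hxU, ⟨e⟩⟩ := hM (f x)
    obtain ⟨s, hs, hs'⟩ := exists_frame_pull e
    exact ⟨W ⊓ f ⁻¹ᵁ U, ⟨U, r, s, hs, hs' f, inf_le_right⟩, ⟨hx, hxU⟩, inf_le_left⟩
  refine QCoh.isIso_of_isBasis _ hB fun W hW => ?_
  obtain ⟨U, r, s, hs, hs', hWU⟩ := hW
  let N := (Scheme.Modules.pullback f).obj M
  let c := Fintype.card (powersetCard (Fin r) m)
  let w := ExtSh.wFrame (m := m) (M := N) fun i => unitSec f M (s i)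
  have hw : H23.Frame.IsFrame (L N m) w := ExtSh.isFrame_wFrame hs'
  obtain ⟨e⟩ := H23.Frame.exists_iso_of_frame _ (ExtSh.isFrame_wFrame (m := m) hs)
  obtain ⟨b, -, hb⟩ := exists_frame_pull e
  have hsurj : Function.Surjective ((comparison f M m).app W) := fun y => by
    obtain ⟨a, rfl⟩ := (hw W hWU).2 y
    refine ⟨∑ i, a i • res ((Scheme.Modules.pullback f).obj (L M m)) hWU
      (unitSec f (L M m) (ExtSh.wFrame (m := m) s i)), ?_⟩
    rw [map_sum]
    refine Finset.sum_congr rfl fun i _ => ?_
    rw [Scheme.Modules.Hom.app_smul]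
    refine congrArg (a i • ·) ((app_res (comparison f M m) hWU _).trans ?_)
    exact congrArg (res (L N m) hWU) (comparison_mu f M m U _)
  let F₁ : (Fin c → Γ(X, W)) ≃ₗ[Γ(X, W)] Γ((Scheme.Modules.pullback f).obj (L M m), W) :=
    LinearEquiv.ofBijective (Fintype.linearCombination Γ(X, W) fun i =>
      res ((Scheme.Modules.pullback f).obj (L M m)) hWU (unitSec f (L M m) (b i))) ((hb f) W hWU)
  let F₂ : (Fin c → Γ(X, W)) ≃ₗ[Γ(X, W)] Γ(L N m, W) :=
    LinearEquiv.ofBijective (Fintype.linearCombination Γ(X, W) fun i => res (L N m) hWU (w i)) (hw W hWU)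
  let θ : Γ((Scheme.Modules.pullback f).obj (L M m), W) →ₗ[Γ(X, W)] Γ(L N m, W) :=
    { toFun := fun z => (comparison f M m).app W z
      map_add' := fun a b => map_add _ a b
      map_smul' := fun a z => Scheme.Modules.Hom.app_smul (comparison f M m) a z }
  let T : (Fin c → Γ(X, W)) →ₗ[Γ(X, W)] (Fin c → Γ(X, W)) := F₂.symm.toLinearMap ∘ₗ θ ∘ₗ F₁.toLinearMap
  have hT : Function.Surjective T := F₂.symm.surjective.comp ((show Function.Surjective θ from hsurj).comp F₁.surjective)
  have hT' : Function.Bijective T := OrzechProperty.bijective_of_surjective_endomorphism T hT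
  have hfac : ⇑θ = ⇑F₂ ∘ ⇑T ∘ ⇑F₁.symm := funext fun z => by
    show θ z = F₂ (F₂.symm (θ (F₁ (F₁.symm z))))
    rw [F₂.apply_symm_apply, F₁.apply_symm_apply]
  show Function.Bijective ⇑θ
  rw [hfac]
  exact F₂.bijective.comp (hT'.comp F₁.symm.bijective)

/-- Exterior powers commute with pullback. -/
theorem nonempty_pullback_L (hM : FlatMod.IsFinLocFree M) :
    Nonempty ((Scheme.Modules.pullback f).obj (L M m) ≅ L ((Scheme.Modules.pullback f).obj M) m) :=
  haveI := isIso_comparison f m hM
  ⟨asIso (comparison f M m)⟩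

end Groth.Agent.H28.ExtPull
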