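import Mathlib.Algebra.Group.ForwardDiff
import Mathlib.Algebra.BigOperators.Group.Finset.Basic
import Mathlib.Tactic.Ring

/-!
# The difference equation of the binomial coefficients
-/

open Finset fwdDiff

namespace Groth.Agent.H28.ChooseRec

/-- `Σ_j (-1)^j C(n+1,j) C(q+n+1-j,n) = 0`. -/
theorem sum_choose (n q : ℕ) :
    ∑ j ∈ range (n + 2), ((-1 : ℤ) ^ j * (n + 1).choose j) * ((q + (n + 1 - j)).choose n : ℤ) = 0 := by
  have h0 : Δ_[1]^[n + 1] (fun x ↦ x.choose n : ℕ → ℤ) = fun _ => 0 := by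
    have h : Δ_[1]^[n] (fun x ↦ x.choose n : ℕ → ℤ) = fun _ => (1 : ℤ) := by
      refine Eq.trans ?_ ((fwdDiff_iter_choose 0 n).trans ?_)
      · rw [Nat.add_zero]
      · funext x; simp
    rw [Function.iterate_succ_apply', h, fwdDiff_const]
  have h1 := fwdDiff_iter_eq_sum_shift (1 : ℕ) (fun x ↦ x.choose n : ℕ → ℤ) (n + 1) q
  rw [h0] at h1
  rw [← Finset.sum_range_reflect] at h1
  refine Eq.trans (Finset.sum_congr rfl fun j hj => ?_) h1.symm
  have hj' : j ≤ n + 1 := by have := Finset.mem_range.1 hj; omega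
  have e : n + 1 + 1 - 1 - j = n + 1 - j := by omega
  rw [e, Nat.choose_symm hj', smul_eq_mul, smul_eq_mul, mul_one, Nat.sub_sub_self hj']

/-- The same, solved for the top term. -/
theorem choose_rec (n q : ℕ) :
    ((q + (n + 1)).choose n : ℤ) = ∑ p ∈ range (n + 1),
      (-1 : ℤ) ^ p • ((n + 1).choose (p + 1) • ((q + (n - p)).choose n : ℤ)) := by
  have h := sum_choose n q
  rw [Finset.sum_range_succ' _ (n + 1)] at h
  simp only [pow_zero, Nat.choose_zero_right, Nat.cast_one, one_mul, Nat.sub_zero] at h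
  rw [add_eq_zero_iff_eq_neg', ← Finset.sum_neg_distrib] at h
  rw [h]
  refine Finset.sum_congr rfl fun p _ => ?_
  rw [Nat.add_sub_add_right, smul_eq_mul, nsmul_eq_mul, pow_succ]
  ring

end Groth.Agent.H28.ChooseRec
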