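import Groth.Agent.H28.KoszulCone
import Groth.Agent.KZ.Basic

/-!
# The class relation of an iterated cone
-/

set_option linter.style.haveILetI false
set_option linter.unusedSectionVars false
set_option backward.isDefEq.respectTransparency false
set_option backward.isDefEq.respectTransparency.types false

universe v w u

open CategoryTheory CategoryTheory.Limits AlgebraicGeometry TopologicalSpace
open scoped ZeroObject

namespace Groth.Agent.H28.KoszulK

open Groth.Agent.H28.KoszulCone Groth.Agent

variable {C : Type w} [Category.{v} C] [Abelian C] {J : Type*} (M : ℤ → C) (x : J → ∀ d : ℤ, M (d - 1) ⟶ M d)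
  {P : ObjectProperty C} (hzero : ∀ Z : C, IsZero Z → P Z) (hbi : ∀ A B : C, P A → P B → P (A ⊞ B))

include hzero hbi in
theorem mem_obj : ∀ (l : List J) (d : ℤ) (p : ℕ), P (M (d - p)) → P (obj M l d p)
  | [], d, 0, h => by simpa [obj] using h
  | _ :: l, d, 0, h => mem_obj l d 0 h
  | [], d, p + 1, _ => hzero _ (isZero_obj M [] d (p + 1) (by simp))
  | _ :: l, d, p + 1, h => hbi _ _ (mem_obj l d (p + 1) h)
      (mem_obj l (d - 1) p (by rwa [show d - 1 - (p : ℤ) = d - ((p + 1 : ℕ) : ℤ) by omega]))

include hzero hbi in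
theorem clSub_obj : ∀ (l : List J) (d : ℤ) (p : ℕ), P (M (d - p)) →
    KZero.clSub P (obj M l d p) = l.length.choose p • KZero.clSub P (M (d - p))
  | [], d, 0, _ => by simp [obj]
  | _ :: l, d, 0, h => (clSub_obj l d 0 h).trans (by simp)
  | [], d, p + 1, _ => by
    rw [KZ.clSub_isZero P (isZero_obj M [] d (p + 1) (by simp)), List.length_nil, Nat.choose_zero_succ, zero_smul]
  | _ :: l, d, p + 1, h => by
    have e : d - 1 - (p : ℤ) = d - ((p + 1 : ℕ) : ℤ) := by omega
    have h' : P (M (d - 1 - (p : ℤ))) := by rwa [e]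
    have hA := mem_obj M hzero hbi l d (p + 1) h
    have hB := mem_obj M hzero hbi l (d - 1) p h'
    have hs := KZ.clSub_ses P
      (S := ShortComplex.mk (biprod.inl : obj M l d (p + 1) ⟶ obj M l d (p + 1) ⊞ obj M l (d - 1) p) biprod.snd biprod.inl_snd)
      (ShortComplex.Splitting.ofHasBinaryBiproduct _ _).shortExact hA (hbi _ _ hA hB) hB
    refine hs.trans ?_
    rw [clSub_obj l d (p + 1) h, clSub_obj l (d - 1) p h', e, ← add_smul, List.length_cons,
      Nat.choose_succ_succ, Nat.add_comm (l.length.choose p)]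

variable (hx : ∀ (i j : J) (d : ℤ), x i (d - 1) ≫ x j d = x j (d - 1) ≫ x i d) (l : List J) (d : ℤ)

/-- The piece of the complex in degree `p`. -/
noncomputable def piece (p : ℕ) : ShortComplex C :=
  ShortComplex.mk (kernel.ι (dd M x l d (p + 1)))
    (kernel.lift (dd M x l d p) (dd M x l d (p + 1)) (dd_dd M x hx l d p))
    (by rw [← cancel_mono (kernel.ι (dd M x l d p)), Category.assoc, kernel.lift_ι, kernel.condition, zero_comp])

variable (hk : ∀ p, P (kernel (dd M x l d p))) (hM : ∀ p : ℕ, p ≤ l.length → P (M (d - p)))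
  (hS : ∀ p, (piece M x hx l d p).ShortExact) [Epi (dd M x l d 0)]

include hzero hbi hk hM hS in
/-- The alternating relation between the classes. -/
theorem relation : KZero.clSub P (M d) =
    ∑ p ∈ Finset.range l.length, (-1 : ℤ) ^ p • (l.length.choose (p + 1) • KZero.clSub P (M (d - (p + 1 : ℕ)))) := by
  have hobj : ∀ p : ℕ, P (obj M l d p) := fun p => by
    by_cases hp : p ≤ l.length
    · exact mem_obj M hzero hbi l d p (hM p hp)
    · exact hzero _ (isZero_obj M l d p (by omega))
  let c : ℕ → KZero.K0sub P := fun p => KZero.clSub P (obj M l d p)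
  let k : ℕ → KZero.K0sub P := fun p => KZero.clSub P (kernel (dd M x l d p))
  have hstep : ∀ p, c (p + 2) = k (p + 1) + k p := fun p =>
    KZ.clSub_ses P (hS p) (hk (p + 1)) (hobj (p + 2)) (hk p)
  have h0 : c 1 = k 0 + c 0 :=
    KZ.clSub_ses P (KZ.kerSeq_shortExact (dd M x l d 0)) (hk 0) (hobj 1) (hobj 0)
  have hsum : ∀ m : ℕ, c 0 = (∑ p ∈ Finset.range m, (-1 : ℤ) ^ p • c (p + 1)) +
      (if m = 0 then c 0 else (-1 : ℤ) ^ m • k (m - 1)) := by
    intro m
    induction m with
    | zero => simp
    | succ m ih =>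
      rw [Finset.sum_range_succ, if_neg (Nat.succ_ne_zero m), Nat.succ_sub_one]
      refine ih.trans ?_
      rcases m with _ | m
      · simp only [Finset.range_zero, Finset.sum_empty, zero_add, if_pos, pow_zero, one_smul, h0, pow_one,
          neg_smul]
        abel
      · rw [if_neg (Nat.succ_ne_zero m), Nat.succ_sub_one,
          show ((-1 : ℤ) ^ (m + 1 + 1)) = -((-1) ^ (m + 1)) by ring, neg_smul, hstep m, smul_add]
        abel
  have hlast : k l.length = 0 :=
    KZ.clSub_isZero P (IsZero.of_mono (kernel.ι _) (isZero_obj M l d (l.length + 1) (by omega)))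
  have hc0 : c 0 = KZero.clSub P (M d) := by
    refine (clSub_obj M hzero hbi l d 0 (by simpa using hM 0 (Nat.zero_le _))).trans ?_
    simp
  rw [← hc0, hsum (l.length + 1), if_neg (Nat.succ_ne_zero _), Nat.succ_sub_one, hlast, smul_zero, add_zero,
    Finset.sum_range_succ]
  have hz : c (l.length + 1) = 0 := KZ.clSub_isZero P (isZero_obj M l d (l.length + 1) (by omega))
  rw [hz, smul_zero, add_zero]
  refine Finset.sum_congr rfl fun p hp => ?_
  exact congrArg _ (clSub_obj M hzero hbi l d (p + 1) (hM (p + 1) (Finset.mem_range.1 hp)))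

end Groth.Agent.H28.KoszulK
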