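import Groth.Agent.H28.KRRTw
import Groth.Agent.H28.KoszulK
import Groth.Agent.KFlatLib.Perfect.Top
import Groth.Agent.KFlatLib.Perfect.Tensor
import Mathlib.Tactic.Abel

/-!
# `K₀` of regular bundles on `P^n_T`
-/

set_option linter.style.haveILetI false
set_option linter.unusedSectionVars false
set_option backward.isDefEq.respectTransparency false
set_option backward.isDefEq.respectTransparency.types false

universe w u

open CategoryTheory CategoryTheory.Limits AlgebraicGeometry TopologicalSpace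

namespace Groth.Agent.H28.KRegK0

open Groth.Agent Groth.Agent.H28.KRRTw Groth.Agent.H28.KRRReg

variable {n : ℕ} {T : Scheme.{u}}

/-- Regular bundles. -/
abbrev RP (n : ℕ) (T : Scheme.{u}) : ObjectProperty (KRR.PY n T).Modules :=
  fun M => FlatMod.IsFinLocFree M ∧ KRR.IsRegSheaf n T M

/-- Bundles. -/
abbrev VP (n : ℕ) (T : Scheme.{u}) : ObjectProperty (KRR.PY n T).Modules :=
  fun M => FlatMod.IsFinLocFree M

theorem isReg_of_isZero {Z : (KRR.PY n T).Modules} (h : IsZero Z) : KRR.IsRegSheaf n T Z := fun i _ =>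
  RKoszul.rz_of_isZero (KRR.pr n T) ((Tw n T (-(i : ℤ))).map_isZero h) i

theorem isReg_of_iso {A B : (KRR.PY n T).Modules} (e : A ≅ B) (h : KRR.IsRegSheaf n T A) :
    KRR.IsRegSheaf n T B := fun i hi =>
  isZero_R_of_iso ⟨(Tw n T (-(i : ℤ))).mapIso e⟩ i (h i hi)

theorem rp_zero {Z : (KRR.PY n T).Modules} (h : IsZero Z) : RP n T Z :=
  ⟨KFlatLib.isFinLocFree_of_isZero h, isReg_of_isZero h⟩

theorem rp_biprod {A B : (KRR.PY n T).Modules} (hA : RP n T A) (hB : RP n T B) : RP n T (A ⊞ B) :=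
  ⟨KFlatLib.isFinLocFree_biprod hA.1 hB.1,
    isReg_mid (S := ShortComplex.mk (biprod.inl : A ⟶ A ⊞ B) biprod.snd biprod.inl_snd)
      (ShortComplex.Splitting.ofHasBinaryBiproduct A B).shortExact hA.2 hB.2⟩

theorem rp_of_iso {A B : (KRR.PY n T).Modules} (e : A ≅ B) (h : RP n T A) : RP n T B :=
  ⟨H23.PullPush.isFinLocFree_of_iso e h.1, isReg_of_iso e h.2⟩

theorem vp_twF (d : ℤ) {F : (KRR.PY n T).Modules} (hF : VP n T F) : VP n T (KRR.twF n T d F) :=
  KFlatLib.isFinLocFree_tensor (fun x =>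
    let ⟨U, hx, ⟨e⟩⟩ := isInvertible_twistOver (n := n) (T := T) d x
    ⟨U, 1, hx, ⟨e ≪≫ (coproductUniqueIso fun _ : Fin 1 => Coh.structureModule (U : Scheme.{u})).symm⟩⟩) hF

theorem shortExact_twF {S : ShortComplex (KRR.PY n T).Modules} (hS : S.ShortExact) (d : ℤ) :
    (S.map (Tw n T d)).ShortExact :=
  ShortComplex.shortExact_of_iso
    (S.mapNatIso ((KFlatLib.tensorBiFlipIso (KRR.PY n T)).app (Twist.twistOver n T d)))
    (KFlatLib.flatObj_of_isFlat
    (KFlatLib.isFlat_of_isFinLocFree (fun x =>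
      let ⟨U, hx, ⟨e⟩⟩ := isInvertible_twistOver (n := n) (T := T) d x
      ⟨U, 1, hx, ⟨e ≪≫ (coproductUniqueIso fun _ : Fin 1 =>
        Coh.structureModule (U : Scheme.{u})).symm⟩⟩)) S hS)

section Relation

variable (E : (KRR.PY n T).Modules)

/-- The twists of `E`. -/
noncomputable abbrev M (d : ℤ) : (KRR.PY n T).Modules := (Tw n T d).obj E

/-- The coordinates. -/
noncomputable abbrev xs (j : ULift.{u} (Fin (n + 1))) (d : ℤ) : M E (d - 1) ⟶ M E d := (mul j d).app E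

/-- The list of coordinates. -/
noncomputable abbrev ls (n : ℕ) : List (ULift.{u} (Fin (n + 1))) :=
  (Finset.univ : Finset (ULift.{u} (Fin (n + 1)))).toList

theorem length_ls : (ls.{u} n).length = n + 1 := by simp [ls]

/-- The pieces are short exact. -/
theorem shortExact_piece (d : ℤ) (p : ℕ) :
    (KoszulK.piece (M E) (xs E) (mul_comm' E) (ls.{u} n) d p).ShortExact :=
  KoszulCone.shortExact_piece (M E) (xs E) (mul_comm' E) (ls.{u} n) d p
    (KoszulCone.exact_dd (M E) (xs E) (mul_comm' E) (ls.{u} n) (covered E) d p)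

theorem epi_dd (d : ℤ) : Epi (KoszulCone.dd (M E) (xs E) (ls.{u} n) d 0) :=
  KoszulCone.epi_dd (M E) (xs E) (mul_comm' E) (ls.{u} n) (covered E) d

theorem vp_kernel (hE : VP n T E) (d : ℤ) :
    ∀ p, VP n T (kernel (KoszulCone.dd (M E) (xs E) (ls.{u} n) d p))
  | 0 => by
    haveI := epi_dd E d
    exact KFlatLib.isFinLocFree_kernel _
      (KoszulK.mem_obj (M E) (P := VP n T) (fun _ h => KFlatLib.isFinLocFree_of_isZero h)
        (fun _ _ => KFlatLib.isFinLocFree_biprod) _ _ _ (vp_twF _ hE))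
      (KoszulK.mem_obj (M E) (P := VP n T) (fun _ h => KFlatLib.isFinLocFree_of_isZero h)
        (fun _ _ => KFlatLib.isFinLocFree_biprod) _ _ _ (vp_twF _ hE))
  | p + 1 => by
    have hS := shortExact_piece E d p
    haveI := hS.epi_g
    refine H23.PullPush.isFinLocFree_of_iso
      ((hS.fIsKernel.conePointUniqueUpToIso
        (limit.isLimit (parallelPair (KoszulK.piece (M E) (xs E) (mul_comm' E) (ls.{u} n) d p).g 0))).symm :
          kernel (KoszulK.piece (M E) (xs E) (mul_comm' E) (ls.{u} n) d p).g ≅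
            (KoszulK.piece (M E) (xs E) (mul_comm' E) (ls.{u} n) d p).X₁) ?_
    exact KFlatLib.isFinLocFree_kernel _
      (KoszulK.mem_obj (M E) (P := VP n T) (fun _ h => KFlatLib.isFinLocFree_of_isZero h)
        (fun _ _ => KFlatLib.isFinLocFree_biprod) _ _ _ (vp_twF _ hE))
      (vp_kernel hE d p)

theorem rp_M (hE : RP n T E) (a : ℕ) : RP n T (M E (a : ℤ)) :=
  ⟨vp_twF _ hE.1, isReg_twF E hE.2 a⟩

theorem reg_obj (hE : RP n T E) (p : ℕ) :
    KRR.IsRegSheaf n T (KoszulCone.obj (M E) (ls.{u} n) ((n + 1 : ℕ) : ℤ) p) := by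
  by_cases h : p ≤ n + 1
  · refine (KoszulK.mem_obj (M E) (P := RP n T) (fun _ => rp_zero) (fun _ _ => rp_biprod) (ls.{u} n) ((n + 1 : ℕ) : ℤ) p ?_).2
    have e : ((n + 1 : ℕ) : ℤ) - (p : ℤ) = ((n + 1 - p : ℕ) : ℤ) := by omega
    rw [e]
    exact rp_M E hE _
  · exact isReg_of_isZero (KoszulCone.isZero_obj (M E) (ls.{u} n) _ _ (by rw [length_ls]; omega))

theorem reg_step (hE : RP n T E) (d : ℤ) (p : ℕ)
    (hobj : KRR.IsRegSheaf n T (KoszulCone.obj (M E) (ls.{u} n) d (p + 2)))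
    (h : KRR.IsRegSheaf n T (kernel (KoszulCone.dd (M E) (xs E) (ls.{u} n) d (p + 1)))) :
    KRR.IsRegSheaf n T (kernel (KoszulCone.dd (M E) (xs E) (ls.{u} n) d p)) := by
  have h1 : KRR.IsRegSheaf n T (KRR.twF n T (1 : ℤ) (kernel (KoszulCone.dd (M E) (xs E) (ls.{u} n) d (p + 1)))) :=
    Nat.cast_one (R := ℤ) ▸ isReg_twF _ h 1
  have h2 : KRR.IsRegSheaf n T (KoszulK.piece (M E) (xs E) (mul_comm' E) (ls.{u} n) d p).X₂ := hobj
  exact isReg_quot (S := KoszulK.piece (M E) (xs E) (mul_comm' E) (ls.{u} n) d p) (shortExact_piece E d p) h2 h1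

theorem reg_kernel (hE : RP n T E) (m : ℕ) :
    ∀ p : ℕ, n + 1 ≤ p + m → KRR.IsRegSheaf n T (kernel (KoszulCone.dd (M E) (xs E) (ls.{u} n) ((n + 1 : ℕ) : ℤ) p)) := by
  induction m with
  | zero =>
    intro p hp
    exact isReg_of_isZero (IsZero.of_mono (kernel.ι _)
      (KoszulCone.isZero_obj (M E) (ls.{u} n) _ (p + 1) (by rw [length_ls]; omega)))
  | succ m ih =>
    intro p hp
    exact reg_step E hE _ p (reg_obj E hE (p + 2)) (ih (p + 1) (by omega))

/-- The Koszul relation. -/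
theorem relation {P : ObjectProperty (KRR.PY n T).Modules} (hzero : ∀ Z, IsZero Z → P Z)
    (hbi : ∀ A B, P A → P B → P (A ⊞ B))
    (hk : ∀ p, P (kernel (KoszulCone.dd (M E) (xs E) (ls.{u} n) ((n + 1 : ℕ) : ℤ) p)))
    (hM : ∀ a : ℕ, P (M E (a : ℤ))) :
    KZero.clSub P (M E ((n + 1 : ℕ) : ℤ)) = ∑ p ∈ Finset.range (n + 1),
      (-1 : ℤ) ^ p • ((n + 1).choose (p + 1) • KZero.clSub P (M E ((n - p : ℕ) : ℤ))) := by
  haveI := epi_dd E ((n + 1 : ℕ) : ℤ)
  have h := KoszulK.relation (M E) (xs E) (P := P) hzero hbi (mul_comm' E) (ls.{u} n) ((n + 1 : ℕ) : ℤ) hk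
    (fun p hp => by
      rw [length_ls] at hp
      rw [← Nat.cast_sub hp]
      exact hM _) (shortExact_piece E _)
  rw [h, length_ls]
  refine Finset.sum_congr rfl fun p hp => ?_
  have : p < n + 1 := Finset.mem_range.1 hp
  rw [show ((n + 1 : ℕ) : ℤ) - ((p + 1 : ℕ) : ℤ) = ((n - p : ℕ) : ℤ) by omega]

end Relation

section Sol

variable {G : Type w} [AddCommGroup G]

/-- The value at `0` forced by the Koszul relation. -/
def sol (n : ℕ) (φ : ℕ → G) : G :=
  (-1 : ℤ) ^ n • (φ (n + 1) - ∑ p ∈ Finset.range n, (-1 : ℤ) ^ p • ((n + 1).choose (p + 1) • φ (n - p)))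

theorem eq_sol (n : ℕ) (φ : ℕ → G)
    (h : φ (n + 1) = ∑ p ∈ Finset.range (n + 1), (-1 : ℤ) ^ p • ((n + 1).choose (p + 1) • φ (n - p))) :
    φ 0 = sol n φ := by
  rw [sol, h, Finset.sum_range_succ, add_sub_cancel_left, Nat.choose_self, one_smul, Nat.sub_self, ← mul_smul,
    ← mul_pow]
  simp

theorem sol_congr (n : ℕ) {φ ψ : ℕ → G} (h : ∀ m, 1 ≤ m → φ m = ψ m) : sol n φ = sol n ψ := by
  rw [sol, sol, h _ (by omega)]
  congr 2
  exact Finset.sum_congr rfl fun p hp => by rw [h _ (by have := Finset.mem_range.1 hp; omega)]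

theorem sol_add (n : ℕ) (φ ψ : ℕ → G) : sol n (fun m => φ m + ψ m) = sol n φ + sol n ψ := by
  simp only [sol, smul_add, Finset.sum_add_distrib, smul_sub]
  abel

theorem map_sol {H : Type*} [AddCommGroup H] (f : G →+ H) (n : ℕ) (φ : ℕ → G) :
    f (sol n φ) = sol n fun m => f (φ m) := by
  simp only [sol, map_zsmul, map_sub, map_sum, map_nsmul]

end Sol

/-- The class of `E` in `K₀` of regular bundles, computed from the `j`-th twist on. -/
noncomputable def α : ℕ → (KRR.PY n T).Modules → KZero.K0sub (RP n T)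
  | 0, E => KZero.clSub (RP n T) E
  | j + 1, E => sol n fun m => α j (KRR.twF n T (m : ℤ) E)

/-- `E` becomes regular after twisting `j` times. -/
abbrev R (n : ℕ) (T : Scheme.{u}) (j : ℕ) (E : (KRR.PY n T).Modules) : Prop :=
  FlatMod.IsFinLocFree E ∧ KRR.IsRegSheaf n T (KRR.twF n T (j : ℤ) E)

theorem R_twF {j : ℕ} {E : (KRR.PY n T).Modules} (h : R n T (j + 1) E) (m : ℕ) (hm : 1 ≤ m) :
    R n T j (KRR.twF n T (m : ℤ) E) := by
  refine ⟨vp_twF _ h.1, ?_⟩
  obtain ⟨k, rfl⟩ := Nat.exists_eq_add_of_le hm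
  exact isReg_of_iso ((twF_twF (k : ℤ) ((j + 1 : ℕ) : ℤ) _ rfl E).some ≪≫
    (twF_twF (j : ℤ) ((1 + k : ℕ) : ℤ) _ (by push_cast; ring) E).some.symm) (isReg_twF _ h.2 k)

theorem R_succ {j : ℕ} {E : (KRR.PY n T).Modules} (h : R n T j E) : R n T (j + 1) E :=
  ⟨h.1, isReg_of_iso (twF_twF ((1 : ℕ) : ℤ) (j : ℤ) _ (by push_cast; ring) E).some (isReg_twF _ h.2 1)⟩

theorem R_of_le {j k : ℕ} (hjk : j ≤ k) {E : (KRR.PY n T).Modules} (h : R n T j E) : R n T k E := by
  induction hjk with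
  | refl => exact h
  | step _ ih => exact R_succ ih

theorem rp_of_R_zero {E : (KRR.PY n T).Modules} (h : R n T 0 E) : RP n T E :=
  ⟨h.1, isReg_of_iso (twF_zero E).some h.2⟩

theorem R_zero_of_rp {E : (KRR.PY n T).Modules} (h : RP n T E) : R n T 0 E :=
  ⟨h.1, isReg_of_iso (twF_zero E).some.symm h.2⟩

theorem α_iso : ∀ (j : ℕ) {A B : (KRR.PY n T).Modules}, (A ≅ B) → R n T j A → α j A = α j B
  | 0, A, B, e, hA => by
    have h := rp_of_R_zero hA
    exact KZ.clSub_iso _ e h (rp_of_iso e h) (isZero_zero _) (rp_zero (isZero_zero _))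
  | j + 1, A, B, e, hA => sol_congr n fun m hm =>
    α_iso j ((Tw n T (m : ℤ)).mapIso e) (R_twF hA m hm)

theorem α_ses : ∀ (j : ℕ) (S : ShortComplex (KRR.PY n T).Modules), S.ShortExact →
    R n T j S.X₁ → R n T j S.X₂ → R n T j S.X₃ → α j S.X₂ = α j S.X₁ + α j S.X₃
  | 0, S, hS, h₁, h₂, h₃ =>
    KZ.clSub_ses _ hS (rp_of_R_zero h₁) (rp_of_R_zero h₂) (rp_of_R_zero h₃)
  | j + 1, S, hS, h₁, h₂, h₃ => by
    refine (sol_congr n fun m hm => ?_).trans (sol_add n _ _)
    exact α_ses j (S.map (Tw n T (m : ℤ))) (shortExact_twF hS _) (R_twF h₁ m hm) (R_twF h₂ m hm) (R_twF h₃ m hm)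

theorem α_succ : ∀ (j : ℕ) {E : (KRR.PY n T).Modules}, R n T j E → α (j + 1) E = α j E
  | 0, E, hE => by
    have h := rp_of_R_zero hE
    let φ : ℕ → KZero.K0sub (RP n T) := fun m => KZero.clSub (RP n T) (M E (m : ℤ))
    have h0 : φ 0 = sol n φ := eq_sol n φ (relation E (fun _ => rp_zero) (fun _ _ => rp_biprod)
      (fun p => ⟨vp_kernel E h.1 _ p, reg_kernel E h (n + 1) p (by omega)⟩) (rp_M E h))
    exact h0.symm.trans (KZ.clSub_iso _ (twF_zero E).some (rp_M E h 0) h (isZero_zero _) (rp_zero (isZero_zero _)))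
  | j + 1, E, hE => sol_congr n fun m hm => α_succ j (R_twF hE m hm)

theorem α_of_le {j k : ℕ} (hjk : j ≤ k) {E : (KRR.PY n T).Modules} (h : R n T j E) : α k E = α j E := by
  induction hjk with
  | refl => rfl
  | step hle ih => rw [α_succ _ (R_of_le hle h), ih]

theorem map_α (ι : KZero.K0sub (RP n T) →+ KZero.K0sub (VP n T))
    (hι : ∀ E, RP n T E → ι (KZero.clSub (RP n T) E) = KZero.clSub (VP n T) E) :
    ∀ (j : ℕ) {E : (KRR.PY n T).Modules}, R n T j E → ι (α j E) = KZero.clSub (VP n T) E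
  | 0, E, hE => hι E (rp_of_R_zero hE)
  | j + 1, E, hE => by
    show ι (sol n _) = _
    rw [map_sol]
    let φ : ℕ → KZero.K0sub (VP n T) := fun m => KZero.clSub (VP n T) (M E (m : ℤ))
    refine (sol_congr n (ψ := φ) fun m hm => map_α ι hι j (R_twF hE m hm)).trans ?_
    have h0 : φ 0 = sol n φ := eq_sol n φ (relation E (fun _ => KFlatLib.isFinLocFree_of_isZero)
      (fun _ _ => KFlatLib.isFinLocFree_biprod) (vp_kernel E hE.1 _) (fun a => vp_twF _ hE.1))
    exact h0.symm.trans (KZ.clSub_iso _ (twF_zero E).some (vp_twF _ hE.1) hE.1 (isZero_zero _)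
      (KFlatLib.isFinLocFree_of_isZero (isZero_zero _)))

/-- Bundles and regular bundles have the same `K₀` when high twists are regular. -/
theorem bijective_of_exists_reg (hT : ∀ E, VP n T E → ∃ j : ℕ, R n T j E)
    (ι : KZero.K0sub (RP n T) →+ KZero.K0sub (VP n T))
    (hι : ∀ E, RP n T E → ι (KZero.clSub (RP n T) E) = KZero.clSub (VP n T) E) : Function.Bijective ι := by
  classical
  let φ : (KRR.PY n T).Modules → KZero.K0sub (RP n T) := fun E => if h : VP n T E then α (hT E h).choose E else 0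
  have hφ : ∀ {E} {j : ℕ}, R n T j E → φ E = α j E := fun {E j} hE => by
    show dite _ _ _ = _
    rw [dif_pos hE.1]
    have hc := (hT E hE.1).choose_spec
    rw [← α_of_le (le_max_left (hT E hE.1).choose j) hc, α_of_le (le_max_right (hT E hE.1).choose j) hE]
  obtain ⟨ψ, hψ⟩ := KZ.exists_liftSub (VP n T) φ fun S hS h₁ h₂ h₃ => by
    obtain ⟨a, ha⟩ := hT _ h₁
    obtain ⟨b, hb⟩ := hT _ h₂
    obtain ⟨c, hc⟩ := hT _ h₃
    have ha' := R_of_le (show a ≤ a + b + c by omega) ha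
    have hb' := R_of_le (show b ≤ a + b + c by omega) hb
    have hc' := R_of_le (show c ≤ a + b + c by omega) hc
    rw [hφ ha', hφ hb', hφ hc']
    exact α_ses _ S hS ha' hb' hc'
  have h1 : ψ.comp ι = AddMonoidHom.id _ := KZ.K0sub_hom_ext _ fun E hE => by
    rw [AddMonoidHom.comp_apply, hι E hE, hψ E hE.1, hφ (R_zero_of_rp hE)]
    rfl
  have h2 : ι.comp ψ = AddMonoidHom.id _ := KZ.K0sub_hom_ext _ fun E hE => by
    obtain ⟨j, hj⟩ := hT E hE
    rw [AddMonoidHom.comp_apply, hψ E hE, hφ hj, map_α ι hι j hj]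
    rfl
  exact Function.bijective_iff_has_inverse.2 ⟨ψ, fun z => DFunLike.congr_fun h1 z, fun z => DFunLike.congr_fun h2 z⟩

end Groth.Agent.H28.KRegK0
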