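import Groth.Agent.AModX.Res
import Groth.Agent.QCoh.Ab.CechBridge
import Groth.Agent.KFlatLib.Scheme.Tensor

/-!
# The augmentation of the Čech complex of a module; isomorphisms are local
-/

set_option linter.style.haveILetI false
set_option linter.unusedSectionVars false
set_option backward.isDefEq.respectTransparency false
set_option backward.isDefEq.respectTransparency.types false

universe u

open CategoryTheory AlgebraicGeometry TopologicalSpace Opposite

namespace Groth.Agent.H28.CechAug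

open Groth.Agent Groth.Agent.QCoh.Ab

variable {X : Scheme.{u}} (M : X.Modules) {ι : Type u} (U : ι → X.Opens)

/-- A global section as a Čech cochain. -/
noncomputable def aug : Γ(M, ⊤) →+ natCochains (X := X.toPresheafedSpace.carrier) M.presheaf U 1 :=
  AddMonoidHom.mk' (fun s => ⟨fun _ W => AModX.res M le_top s, fun _ _ _ _ _ _ => AModX.res_res _ _ _⟩)
    fun a b => Subtype.ext (funext₂ fun _ _ => map_add _ a b)

theorem aug_apply (s : Γ(M, ⊤)) (σ : Fin 1 → ι) (W) : (aug M U s).1 σ W = AModX.res M le_top s := rfl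

variable {U} (hU : ⨆ i, U i = ⊤)

include hU in
theorem injective_aug : Function.Injective (aug M U) := fun s t h => by
  refine AModX.eq_of_locally _ _ fun p _ => ?_
  obtain ⟨i, hi⟩ := Opens.mem_iSup.1 (hU.ge (trivial : p ∈ (⊤ : X.Opens)))
  exact ⟨U i, le_top, hi,
    congrFun (congrFun (congrArg Subtype.val h) (fun _ => i)) ⟨U i, fun _ => le_rfl⟩⟩

theorem cast_idx (c : natCochains (X := X.toPresheafedSpace.carrier) M.presheaf U 1) {σ σ' : Fin 1 → ι}
    (h : σ = σ') (W : X.Opens) (hW : Le (X := X.toPresheafedSpace.carrier) U σ W)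
    (hW' : Le (X := X.toPresheafedSpace.carrier) U σ' W) : c.1 σ ⟨W, hW⟩ = c.1 σ' ⟨W, hW'⟩ := by
  subst h; rfl

theorem natD_zero_apply (c : natCochains (X := X.toPresheafedSpace.carrier) M.presheaf U 1) (τ : Fin 2 → ι)
    (W : {W : X.Opens // Le (X := X.toPresheafedSpace.carrier) U τ W}) :
    (natD (X := X.toPresheafedSpace.carrier) M.presheaf U 0 c).1 τ W =
      c.1 (fun _ => τ 1) ⟨W.1, fun _ => W.2 1⟩ - c.1 (fun _ => τ 0) ⟨W.1, fun _ => W.2 0⟩ := by
  have key : ∀ (a b : Fin 2) (hb : ∀ x : Fin 1, a.succAbove x = b),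
      c.1 (fun x => τ (a.succAbove x)) ⟨W.1, fun x => W.2 (a.succAbove x)⟩ =
        c.1 (fun _ => τ b) ⟨W.1, fun _ => W.2 b⟩ := by
    intro a b hb
    have e : (fun x => τ (a.succAbove x)) = fun _ : Fin 1 => τ b := funext fun x => by rw [hb]
    exact cast_idx M c e W.1 _ _
  show (∑ a : Fin 2, (-1 : ℤ) ^ (a : ℕ) •
    (show ↑(M.presheaf.obj (op W.1)) from
      c.1 (fun x => τ (a.succAbove x)) ⟨W.1, fun x => W.2 (a.succAbove x)⟩)) = _
  rw [Fin.sum_univ_two, key 0 1 (fun x => by fin_cases x; rfl), key 1 0 (fun x => by fin_cases x; rfl)]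
  simp [sub_eq_add_neg]

theorem natD_aug (s : Γ(M, ⊤)) : natD (X := X.toPresheafedSpace.carrier) M.presheaf U 0 (aug M U s) = 0 :=
  Subtype.ext (funext₂ fun τ W => by
    rw [natD_zero_apply, aug_apply, aug_apply, sub_self]
    rfl)

include hU in
theorem exact_aug : Function.Exact (aug M U) (natD (X := X.toPresheafedSpace.carrier) M.presheaf U 0) := by
  intro c
  refine ⟨fun hc => ?_, fun ⟨s, hs⟩ => hs ▸ natD_aug M s⟩
  let sf : ∀ i, Γ(M, U i) := fun i => c.1 (fun _ => i) ⟨U i, fun _ => le_rfl⟩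
  have hres : ∀ (i : ι) (W : X.Opens) (h : W ≤ U i),
      AModX.res M h (sf i) = c.1 (fun _ => i) ⟨W, fun _ => h⟩ := fun i W h =>
    c.2 (fun _ => i) (U i) W (fun _ => le_rfl) (fun _ => h) (homOfLE h)
  obtain ⟨s, hs, -⟩ := TopCat.Sheaf.existsUnique_gluing' ((KFlatLib.toAb X).obj M) U ⊤
    (fun i => homOfLE le_top) hU.ge sf fun i j => by
      show AModX.res M inf_le_left (sf i) = AModX.res M inf_le_right (sf j)
      rw [hres i (U i ⊓ U j) inf_le_left, hres j (U i ⊓ U j) inf_le_right]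
      have h := congrFun (congrFun (congrArg Subtype.val hc) ![i, j])
        ⟨U i ⊓ U j, fun a => by fin_cases a <;> simp⟩
      rw [natD_zero_apply] at h
      exact (sub_eq_zero.1 h).symm
  refine ⟨s, Subtype.ext (funext₂ fun σ W => ?_)⟩
  obtain ⟨i, rfl⟩ : ∃ i, σ = fun _ => i := ⟨σ 0, funext fun a => by rw [Subsingleton.elim a 0]⟩
  rw [aug_apply, ← hres i W.1 (W.2 0), ← hs i]
  exact (AModX.res_res _ _ _).symm

/-- A map of modules bijective on the members of a basis of affine opens is an isomorphism. -/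
theorem isIso_of_affine {M N : X.Modules} (φ : M ⟶ N)
    (h : ∀ W : X.Opens, IsAffineOpen W → Function.Bijective (φ.app W)) : IsIso φ := by
  have hinj : ∀ W : X.Opens, Function.Injective (φ.app W) := fun W a b hab => by
    refine AModX.eq_of_locally _ _ fun p hp => ?_
    obtain ⟨_, ⟨A, hA, rfl⟩, hpA, hAW⟩ := X.isBasis_affineOpens.exists_subset_of_mem_open
      (show p ∈ (W : X.Opens) from hp) W.2
    refine ⟨A, hAW, hpA, (h A hA).1 ?_⟩
    rw [AModX.app_res, AModX.app_res, hab]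
  rw [Scheme.Modules.Hom.isIso_iff_isIso_app]
  intro W
  rw [ConcreteCategory.isIso_iff_bijective]
  refine ⟨hinj W, fun z => ?_⟩
  have hloc : ∀ p : W, ∃ (A : X.Opens) (hA : A ≤ W) (_ : p.1 ∈ A) (a : Γ(M, A)),
      φ.app A a = AModX.res N hA z := fun p => by
    obtain ⟨_, ⟨A, hA, rfl⟩, hpA, hAW⟩ := X.isBasis_affineOpens.exists_subset_of_mem_open
      (show p.1 ∈ (W : X.Opens) from p.2) W.2
    obtain ⟨a, ha⟩ := (h A hA).2 (AModX.res N hAW z)
    exact ⟨A, hAW, hpA, a, ha⟩
  choose A hA hp a ha using hloc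
  obtain ⟨c, hc, -⟩ := TopCat.Sheaf.existsUnique_gluing' ((KFlatLib.toAb X).obj M) A W
    (fun p => homOfLE (hA p)) (fun p hp' => Opens.mem_iSup.2 ⟨⟨p, hp'⟩, hp ⟨p, hp'⟩⟩) a fun p p' => by
      refine hinj _ ?_
      show φ.app _ (AModX.res M inf_le_left (a p)) = φ.app _ (AModX.res M inf_le_right (a p'))
      rw [AModX.app_res, AModX.app_res, ha, ha, AModX.res_res, AModX.res_res]
  refine ⟨c, AModX.eq_of_locally _ _ fun p hp' => ⟨A ⟨p, hp'⟩, hA _, hp _, ?_⟩⟩
  rw [← AModX.app_res, ← ha]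
  exact congrArg _ (hc ⟨p, hp'⟩)

end Groth.Agent.H28.CechAug
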