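import Groth.Agent.H28.PnBox
import Groth.Agent.H28.CechAug
import Groth.Agent.PnCoh.TwistH0
import Groth.Agent.ExistEasy.PP.PullSec
import Groth.Agent.InvX.GenLocusPull

/-!
# Direct images of inverse images along `P^n_T ⟶ T`
-/

set_option linter.style.haveILetI false
set_option linter.unusedSectionVars false
set_option backward.isDefEq.respectTransparency false
set_option backward.isDefEq.respectTransparency.types false

universe u

open CategoryTheory CategoryTheory.Limits AlgebraicGeometry TopologicalSpace Opposite MonoidalCategory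
open MvPolynomial
open scoped TensorProduct

namespace Groth.Agent.H28.Box

open Groth.Agent Groth.Agent.PnCoh Groth.Agent.QCoh.Ab

attribute [local instance] MvPolynomial.gradedAlgebra

variable {n : ℕ} {V T : Scheme.{u}} (g : V ⟶ PS (Fin (n + 1)) R0.{u}) (q : V ⟶ T) (d : ℤ) (G : T.Modules)
  (U : T.Opens) (hU : q ⁻¹ᵁ U = ⊤) [IsAffineHom g] (hUa : IsAffineOpen U)
  (hbox : ∀ D, IsAffineOpen D → IsBox g q D U (hle g q U hU D)) (hG : Coh.IsQCoh G)

include hUa hbox hG in
/-- Global sections of `g^* O(d) ⊗ q^* G`. -/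
theorem bijective_boxHom_top (hd : -((n : ℤ) + 1) < d) :
    Function.Bijective (boxHom g q (O1 n d) G (D := ⊤) (hle g q U hU ⊤)) := by
  let aC := (CechAug.aug (O1.{u} n d) (stdU (Fin (n + 1)) R0.{u})).toIntLinearMap
  let aM := CechAug.aug (Mod g q d G) (cov g)
  have hcovC : ⨆ i, stdU (Fin (n + 1)) R0.{u} i = ⊤ := iSup_stdU
  have hcovM : ⨆ i, cov g i = ⊤ := by
    show ⨆ i, g ⁻¹ᵁ _ = ⊤
    rw [← Scheme.Hom.preimage_iSup, iSup_stdU, Scheme.Hom.preimage_top]
  have key : ∀ z, aM (boxHom g q (O1 n d) G (D := ⊤) (hle g q U hU ⊤) z) =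
      theta g q d G U hU 0 (aC.rTensor Γ(G, U) z) := fun z => by
    induction z using TensorProduct.induction_on with
    | zero => simp only [map_zero]
    | tmul a t =>
      refine Subtype.ext (funext₂ fun σ W => ?_)
      rw [LinearMap.rTensor_tmul, theta_tmul]
      refine Eq.trans ?_ (congrArg (AModX.res _ (le_preimage_tupOpen g σ W.1 W.2))
        (res_boxHom g q (O1 n d) G (hle g q U hU ⊤) (le_top : tupOpen σ ≤ ⊤) (hle g q U hU _) (a ⊗ₜ t)))
      exact (AModX.res_res _ _ _).symm
    | add a b ha hb => simp only [map_add, ha, hb]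
  have hexC : Function.Exact aC (dC.{u} (n := n) d 0) := CechAug.exact_aug _ hcovC
  haveI := isTorsionFree_CC.{u} (n := n) d 2
  haveI := isTorsionFree_CC.{u} (n := n) d 1
  have hcomm : ∀ {A B : Type u} [AddCommGroup A] [AddCommGroup B] (f : A →ₗ[ℤ] B) (w : A ⊗[ℤ] Γ(G, U)),
      f.lTensor Γ(G, U) (TensorProduct.comm ℤ _ _ w) =
        TensorProduct.comm ℤ _ _ (f.rTensor Γ(G, U) w) := by
    intro A B _ _ f w
    induction w using TensorProduct.induction_on with
    | zero => simp only [map_zero]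
    | tmul a b => rfl
    | add a b ha hb => simp only [map_add, ha, hb]
  -- injectivity after tensoring
  have hinj : Function.Injective (aC.rTensor Γ(G, U)) := by
    let e := LinearEquiv.ofBijective (aC.codRestrict (LinearMap.ker (dC.{u} (n := n) d 0))
        fun a => hexC.apply_apply_eq_zero a)
      ⟨fun a b h => CechAug.injective_aug (O1.{u} n d) hcovC (congrArg Subtype.val h), fun c => by
        obtain ⟨a, ha⟩ := (hexC c.1).1 c.2
        exact ⟨a, Subtype.ext ha⟩⟩
    have he : aC = (LinearMap.ker (dC.{u} (n := n) d 0)).subtype ∘ₗ e.toLinearMap := LinearMap.ext fun _ => rfl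
    intro x y hxy
    apply (TensorProduct.comm ℤ Γ(O1.{u} n d, ⊤) Γ(G, U)).injective
    have h2 := congrArg (TensorProduct.comm ℤ _ _) hxy
    rw [← hcomm, ← hcomm, he, LinearMap.lTensor_comp, LinearMap.comp_apply, LinearMap.comp_apply] at h2
    exact (e.lTensor Γ(G, U)).injective (TensorExact.injective_lTensor_ker _ _ h2)
  refine ⟨fun x y h => hinj ((bijective_theta g q d G U hU hUa hbox hG 0).1 ?_), fun s => ?_⟩
  · rw [← key, ← key, h]
  · obtain ⟨z, hz⟩ := (bijective_theta g q d G U hU hUa hbox hG 0).2 (aM s)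
    have hdz : (dC.{u} (n := n) d 0).rTensor Γ(G, U) z = 0 := by
      refine (bijective_theta g q d G U hU hUa hbox hG 1).1 ?_
      rw [← natD_theta, hz, map_zero]
      exact CechAug.natD_aug _ s
    have hex := TensorExact.exact_lTensor Γ(G, U) aC (dC.{u} (n := n) d 0) (dC d 1) hexC (exact_dC d hd 0)
    obtain ⟨y, hy⟩ := (hex (TensorProduct.comm ℤ _ _ z)).1 (by rw [hcomm, hdz, map_zero])
    refine ⟨(TensorProduct.comm ℤ _ _).symm y, CechAug.injective_aug (Mod g q d G) hcovM ?_⟩
    refine (key _).trans ?_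
    rw [← hz]
    refine congrArg _ ((TensorProduct.comm ℤ _ _).injective ?_)
    rw [← hcomm, LinearEquiv.apply_symm_apply, hy]

/-- The section `1` of `O(0)`. -/
noncomputable def one0 (n : ℕ) : Γ(O1.{u} n 0, ⊤) :=
  (Finite.oneHom (𝒜 := homogeneousSubmodule (Fin (n + 1)) R0.{u})).app ⊤
    (show Γ(Coh.structureModule (PS (Fin (n + 1)) R0.{u}), ⊤) from (1 : Γ(PS (Fin (n + 1)) R0.{u}, ⊤)))

theorem isFrame_one0 : InvX.IsFrame (one0.{u} n) := by
  haveI : IsIso (Finite.oneHom (𝒜 := homogeneousSubmodule (Fin (n + 1)) R0.{u})) :=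
    Finite.isIso_oneHom (KRRReg.crd n) KRRReg.crd_mem KRRReg.crd_cover
  exact (InvX.isFrame_one ⊤).map_iso (asIso (Finite.oneHom (𝒜 := homogeneousSubmodule (Fin (n + 1)) R0.{u})))

/-- Constants are the global sections of `O(0)`. -/
noncomputable def e0 (n : ℕ) : homogeneousSubmodule (Fin (n + 1)) R0.{u} 0 ≃+ Γ(O1.{u} n 0, ⊤) :=
  { globalOfEquiv (ι := Fin (n + 1)) (R := R0.{u}) (d := 0) with map_add' := globalOf_add }

theorem e0_one : e0.{u} n ⟨1, SetLike.GradedOne.one_mem⟩ = one0 n := by
  refine Eq.trans ?_ (congrArg (fun s => s.val (op ⊤))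
    (Equiv.apply_symm_apply (SheafOfModules.unitHomEquiv
      (Twist.twist (homogeneousSubmodule (Fin (n + 1)) R0.{u}) 0)) _)).symm
  rfl

theorem bijective_zsmul_one0 : Function.Bijective fun k : ℤ => k • one0.{u} n := by
  let u1 : homogeneousSubmodule (Fin (n + 1)) R0.{u} 0 := ⟨1, SetLike.GradedOne.one_mem⟩
  have h : (fun k : ℤ => k • one0.{u} n) = e0 n ∘ fun k : ℤ => k • u1 := by
    funext k
    show k • one0 n = e0 n (k • u1)
    rw [← e0_one]
    exact (map_zsmul (e0.{u} n).toAddMonoidHom k u1).symm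
  rw [h]
  refine (e0 n).bijective.comp ⟨fun k k' hk => ?_, fun a => ⟨(coeff 0 a.1).down, Subtype.ext ?_⟩⟩
  · have := congrArg (fun p : homogeneousSubmodule (Fin (n + 1)) R0.{u} 0 => (constantCoeff p.1).down) hk
    simpa [u1] using this
  · have hC : a.1 = C (coeff 0 a.1) :=
      totalDegree_eq_zero_iff_eq_C.1 (Nat.le_zero.1 (IsHomogeneous.totalDegree_le a.2))
    show (coeff 0 a.1).down • (1 : MvPolynomial (Fin (n + 1)) R0.{u}) = a.1
    rw [zsmul_one, ← map_intCast (C : R0.{u} →+* _)]
    exact Eq.trans (congrArg C (ULift.ext _ _ (by simp))) hC.symm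

include hUa hbox hG in
/-- Sections of an inverse image. -/
theorem bijective_pullSec :
    Function.Bijective (QCoh.pullSec q G (hle g q U hU ⊤) : Γ(G, U) → _) := by
  let a : Γ((Scheme.Modules.pullback g).obj (O1.{u} n 0), g ⁻¹ᵁ ⊤) := QCoh.pullSec g (O1.{u} n 0) le_rfl (one0 n)
  have ha : InvX.IsFrame a := by
    have h := InvX.isFrame_pullElt g (isFrame_one0.{u} (n := n))
    show InvX.IsFrame (AModX.res _ (le_refl _) (InvX.pullElt g (one0 n)))
    rw [AModX.res_self]
    exact h
  have ht := bijective_tmul_frame (M := (Scheme.Modules.pullback g).obj (O1.{u} n 0))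
    (N := (Scheme.Modules.pullback q).obj G) ha
  refine (Function.Bijective.of_comp_iff' ht _).1 ?_
  have hb := bijective_boxHom_top g q 0 G U hU hUa hbox hG (by omega)
  let e := LinearEquiv.ofBijective (LinearMap.toSpanSingleton ℤ Γ(O1.{u} n 0, ⊤) (one0 n))
    bijective_zsmul_one0
  have he : (fun t : Γ(G, U) => one0.{u} n ⊗ₜ[ℤ] t) =
      (TensorProduct.congr e (LinearEquiv.refl ℤ Γ(G, U))) ∘ (TensorProduct.lid ℤ Γ(G, U)).symm := by
    funext t
    simp [e]
  have h1 : Function.Bijective fun t : Γ(G, U) => one0.{u} n ⊗ₜ[ℤ] t := by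
    rw [he]
    exact (LinearEquiv.bijective _).comp (LinearEquiv.bijective _)
  exact hb.comp h1

end Groth.Agent.H28.Box

namespace Groth.Agent.H28.PnH0

open Groth.Agent Groth.Agent.H28.KRRTw Groth.Agent.H28.PnBox

variable {n : ℕ} {T : Scheme.{u}}

theorem bijective_pullSec_ι {X : Scheme.{u}} (W : X.Opens) (M : X.Modules) :
    Function.Bijective (QCoh.pullSec W.ι M (W.ι_preimage_self.ge : (⊤ : W.toScheme.Opens) ≤ W.ι ⁻¹ᵁ W) :
      Γ(M, W) → _) := by
  have h := Adjunction.unit_leftAdjointUniq_hom_app (Scheme.Modules.restrictAdjunction W.ι)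
    (Scheme.Modules.pullbackPushforwardAdjunction W.ι) M
  have he : IsIso (((Scheme.Modules.pullbackPushforwardAdjunction W.ι).unit.app M).app W) := by
    rw [← h]
    show IsIso (((Scheme.Modules.restrictAdjunction W.ι).unit.app M).app W ≫
      ((Scheme.Modules.restrictFunctorIsoPullback W.ι).hom.app M).app (W.ι ⁻¹ᵁ W))
    haveI : IsIso (((Scheme.Modules.restrictAdjunction W.ι).unit.app M).app W) := by
      rw [Scheme.Modules.restrictAdjunction_unit_app_app]
      have hW : W.ι ''ᵁ (W.ι ⁻¹ᵁ W) = W := by rw [W.ι_preimage_self, W.ι_image_top]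
      rw [Subsingleton.elim (homOfLE (W.ι.image_preimage_le W)) (eqToHom hW)]
      infer_instance
    haveI : IsIso (((Scheme.Modules.restrictFunctorIsoPullback W.ι).hom.app M).app (W.ι ⁻¹ᵁ W)) :=
      Scheme.Modules.Hom.isIso_iff_isIso_app.1 inferInstance _
    infer_instance
  haveI : IsIso (((Scheme.Modules.pullback W.ι).obj M).presheaf.map
      (homOfLE (W.ι_preimage_self.ge : (⊤ : W.toScheme.Opens) ≤ W.ι ⁻¹ᵁ W)).op) := by
    rw [Subsingleton.elim (homOfLE _) (eqToHom W.ι_preimage_self.symm)]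
    infer_instance
  exact (ConcreteCategory.bijective_of_isIso (((Scheme.Modules.pullback W.ι).obj M).presheaf.map _)).comp
    (ConcreteCategory.bijective_of_isIso _)

theorem isIso_unit (G : T.Modules) (hG : Coh.IsQCoh G) :
    IsIso ((Scheme.Modules.pullbackPushforwardAdjunction (KRR.pr n T)).unit.app G) := by
  refine CechAug.isIso_of_affine _ fun U hU => ?_
  haveI := isAffineHom_gU (n := n) U hU
  let P := (Scheme.Modules.pullback (KRR.pr n T)).obj G
  let V := PU (n := n) U
  have hq := Box.bijective_pullSec (gU (n := n) U) (qU (n := n) U) G U (qU_preimage U) hU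
    (fun D hD => isBox U hU D hD) hG
  have hι := bijective_pullSec_ι V P
  have hc : Function.Bijective (((Scheme.Modules.pullbackComp V.ι (KRR.pr n T)).hom.app G).app ⊤) :=
    (ConcreteCategory.isIso_iff_bijective _).1 (Scheme.Modules.Hom.isIso_iff_isIso_app.1 inferInstance ⊤)
  have key : (fun t : Γ(G, U) => ((Scheme.Modules.pullbackComp V.ι (KRR.pr n T)).hom.app G).app ⊤
      (QCoh.pullSec V.ι P V.ι_preimage_self.ge (QCoh.pullSec (KRR.pr n T) G (le_refl V) t))) =
      fun t => QCoh.pullSec (qU (n := n) U) G (qU_preimage U).ge t :=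
    funext fun t => ExistEasy.pullSec_comp V.ι (KRR.pr n T) G (le_refl V) V.ι_preimage_self.ge t
  have hq' : Function.Bijective fun t : Γ(G, U) => QCoh.pullSec (qU (n := n) U) G (qU_preimage U).ge t := hq
  rw [← key] at hq'
  have h2 : Function.Bijective fun t : Γ(G, U) => QCoh.pullSec (KRR.pr n T) G (le_refl V) t :=
    (Function.Bijective.of_comp_iff' (hc.comp hι) _).1 hq'
  have h3 : ∀ t : Γ(G, U),
      ((Scheme.Modules.pullbackPushforwardAdjunction (KRR.pr n T)).unit.app G).app U t =
        QCoh.pullSec (KRR.pr n T) G (le_refl V) t := fun t => (AModX.res_self _).symm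
  exact ⟨fun a b h => h2.1 ((h3 a).symm.trans (h.trans (h3 b))),
    fun z => (h2.2 z).imp fun t ht => (h3 t).trans ht⟩

/-- Direct image of the counit at a quasi-coherent direct image. -/
theorem isIso_push_counit (F : (KRR.PY n T).Modules)
    (hF : Coh.IsQCoh ((Scheme.Modules.pushforward (KRR.pr n T)).obj F)) :
    IsIso ((Scheme.Modules.pushforward (KRR.pr n T)).map
      ((Scheme.Modules.pullbackPushforwardAdjunction (KRR.pr n T)).counit.app F)) := by
  haveI := isIso_unit (n := n) _ hF
  exact IsIso.of_isIso_fac_left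
    ((Scheme.Modules.pullbackPushforwardAdjunction (KRR.pr n T)).right_triangle_components F)

end Groth.Agent.H28.PnH0
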