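import Mathlib.Algebra.Homology.Single
import Mathlib.Algebra.Homology.QuasiIso
import Mathlib.Algebra.Homology.SingleHomology
import Mathlib.Algebra.Homology.ShortComplex.ShortExact

/-!
# Splicing short exact sequences into a resolution
-/

universe v u

open CategoryTheory CategoryTheory.Limits

namespace Groth.Agent.H28.Splice

variable {C : Type u} [Category.{v} C] [Abelian C] (Z L : ℕ → C) (f : ∀ i, Z (i + 1) ⟶ L i)
  (g : ∀ i, L i ⟶ Z i) (w : ∀ i, f i ≫ g i = 0)

include w in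
theorem d_comp_d (i : ℕ) : (g (i + 1 + 1) ≫ f (i + 1)) ≫ g (i + 1) ≫ f i = 0 := by
  rw [Category.assoc, ← Category.assoc (f (i + 1)), w, zero_comp, comp_zero]

/-- The spliced complex. -/
noncomputable def cx : ChainComplex C ℕ :=
  ChainComplex.of L (fun i => g (i + 1) ≫ f i) (d_comp_d Z L f g w)

theorem cx_d (i : ℕ) : (cx Z L f g w).d (i + 1) i = g (i + 1) ≫ f i :=
  ChainComplex.of_d L (fun i => g (i + 1) ≫ f i) i

theorem cx_d_comp : (cx Z L f g w).d 1 0 ≫ g 0 = 0 := by
  refine (congrArg (· ≫ g 0) (cx_d Z L f g w 0)).trans ?_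
  exact (Category.assoc _ _ _).trans ((congrArg (g 1 ≫ ·) (w 0)).trans comp_zero)

/-- The augmentation. -/
noncomputable def aug : cx Z L f g w ⟶ (ChainComplex.single₀ C).obj (Z 0) :=
  (ChainComplex.toSingle₀Equiv _ _).symm ⟨g 0, cx_d_comp Z L f g w⟩

variable (h : ∀ i, (ShortComplex.mk (f i) (g i) (w i)).ShortExact)

include h in
theorem exact_at (i : ℕ) :
    (ShortComplex.mk (g (i + 1 + 1) ≫ f (i + 1)) (g (i + 1) ≫ f i) (d_comp_d Z L f g w i)).Exact := by
  have hm : Mono (f i) := (h i).mono_f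
  have he : Epi (g (i + 1 + 1)) := (h (i + 1 + 1)).epi_g
  let S := ShortComplex.mk (g (i + 1 + 1) ≫ f (i + 1)) (g (i + 1)) (by rw [Category.assoc, w, comp_zero])
  let φ : S ⟶ ShortComplex.mk (f (i + 1)) (g (i + 1)) (w (i + 1)) :=
    { τ₁ := g (i + 1 + 1), τ₂ := 𝟙 _, τ₃ := 𝟙 _, comm₁₂ := (Category.comp_id _).symm
      comm₂₃ := (Category.id_comp _).trans (Category.comp_id _).symm }
  let ψ : S ⟶ ShortComplex.mk (g (i + 1 + 1) ≫ f (i + 1)) (g (i + 1) ≫ f i) (d_comp_d Z L f g w i) :=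
    { τ₁ := 𝟙 _, τ₂ := 𝟙 _, τ₃ := f i, comm₁₂ := (Category.id_comp _).trans (Category.comp_id _).symm
      comm₂₃ := Category.id_comp _ }
  haveI : Epi φ.τ₁ := he
  haveI : IsIso φ.τ₂ := inferInstanceAs (IsIso (𝟙 _))
  haveI : Mono φ.τ₃ := inferInstanceAs (Mono (𝟙 _))
  haveI : Epi ψ.τ₁ := inferInstanceAs (Epi (𝟙 _))
  haveI : IsIso ψ.τ₂ := inferInstanceAs (IsIso (𝟙 _))
  haveI : Mono ψ.τ₃ := hm
  exact (ShortComplex.exact_iff_of_epi_of_isIso_of_mono ψ).1
    ((ShortComplex.exact_iff_of_epi_of_isIso_of_mono φ).2 (h (i + 1)).exact)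

include h in
theorem quasiIso_aug : QuasiIso (aug Z L f g w) := by
  rw [quasiIso_iff]
  rintro (_ | i)
  · rw [ChainComplex.quasiIsoAt₀_iff, ShortComplex.quasiIso_iff_of_zeros']
    · have he : Epi (g 1) := (h 1).epi_g
      have hg : (aug Z L f g w).f 0 = g 0 := ChainComplex.toSingle₀Equiv_symm_apply_f_zero _ _
      refine (ShortComplex.exact_and_epi_g_iff_of_iso
        (S₂ := ShortComplex.mk (g 1 ≫ f 0) (g 0) (by rw [Category.assoc, w, comp_zero])) ?_).2 ⟨?_, (h 0).epi_g⟩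
      · refine ShortComplex.isoMk (Iso.refl _) (Iso.refl _) (Iso.refl _) ?_ ?_
        · exact (Category.id_comp _).trans ((cx_d Z L f g w 0).symm.trans (Category.comp_id _).symm)
        · exact (Category.id_comp _).trans (hg.symm.trans (Category.comp_id _).symm)
      · let φ : ShortComplex.mk (g 1 ≫ f 0) (g 0) (by rw [Category.assoc, w, comp_zero]) ⟶
            ShortComplex.mk (f 0) (g 0) (w 0) :=
          { τ₁ := g 1, τ₂ := 𝟙 _, τ₃ := 𝟙 _, comm₁₂ := (Category.comp_id _).symm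
            comm₂₃ := (Category.id_comp _).trans (Category.comp_id _).symm }
        haveI : Epi φ.τ₁ := he
        haveI : IsIso φ.τ₂ := inferInstanceAs (IsIso (𝟙 _))
        haveI : Mono φ.τ₃ := inferInstanceAs (Mono (𝟙 _))
        exact (ShortComplex.exact_iff_of_epi_of_isIso_of_mono φ).2 (h 0).exact
    all_goals rfl
  · rw [quasiIsoAt_iff_exactAt' _ _ (ChainComplex.exactAt_succ_single_obj _ _),
      HomologicalComplex.exactAt_iff' _ (i + 1 + 1) (i + 1) i (by simp) (by simp)]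
    refine ShortComplex.exact_of_iso ?_ (exact_at Z L f g w h i)
    exact ShortComplex.isoMk (Iso.refl _) (Iso.refl _) (Iso.refl _)
      ((Category.id_comp _).trans ((cx_d Z L f g w (i + 1)).trans (Category.comp_id _).symm))
      ((Category.id_comp _).trans ((cx_d Z L f g w i).trans (Category.comp_id _).symm))

end Groth.Agent.H28.Splice
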