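import Groth.Agent.H28.KRREpi
import Groth.Agent.H28.PnH0
import Groth.Agent.H28.Splice
import Groth.Agent.QCoh.Tilde

/-!
# The canonical resolution of a regular quasi-coherent module
-/

set_option linter.style.haveILetI false
set_option linter.unusedSectionVars false
set_option backward.isDefEq.respectTransparency false
set_option backward.isDefEq.respectTransparency.types false

universe u

open CategoryTheory CategoryTheory.Limits AlgebraicGeometry TopologicalSpace Opposite MonoidalCategory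
open scoped TensorProduct

namespace Groth.Agent.H28.RegRes

open Groth.Agent Groth.Agent.H28.KRRTw Groth.Agent.H28.KRRReg

section General

variable {X Y : Scheme.{u}} (f : X ⟶ Y)

theorem isZero_push_iff {A : X.Modules} :
    RKoszul.RZ f A 0 ↔ IsZero ((Scheme.Modules.pushforward f).obj A) := by
  have := QCoh.Ab.push_preservesFiniteLimits (X := X.toPresheafedSpace.carrier)
    (Y := Y.toPresheafedSpace.carrier) f.base
  let e := (Coh.pushAb f).rightDerivedZeroIsoSelf.app ((QCoh.toAbFunctor X).obj A)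
  refine ⟨fun h => ?_, fun h => ?_⟩
  · have h' : IsZero ((QCoh.toAbFunctor Y).obj ((Scheme.Modules.pushforward f).obj A)) := h.of_iso e.symm
    haveI : (QCoh.toAbFunctor Y).Faithful :=
      inferInstanceAs (SheafOfModules.toSheaf Y.ringCatSheaf).Faithful
    rw [IsZero.iff_id_eq_zero]
    exact (QCoh.toAbFunctor Y).map_injective (h'.eq_of_src _ _)
  · exact IsZero.of_iso ((QCoh.toAbFunctor Y).map_isZero h) e

theorem rz_sub {S : ShortComplex X.Modules} (hS : S.ShortExact) (i : ℕ)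
    (h₂ : RKoszul.RZ f S.X₂ (i + 1)) (h₃ : RKoszul.RZ f S.X₃ i) : RKoszul.RZ f S.X₁ (i + 1) := by
  let := HasDerivedCategory.standard (Sheaf (Opens.grothendieckTopology X) AddCommGrpCat.{u})
  let := HasDerivedCategory.standard (Sheaf (Opens.grothendieckTopology Y) AddCommGrpCat.{u})
  obtain ⟨δ, w₁, w₂, w₃, -, -, e₃⟩ :=
    TriCat.exists_rightDerived_ses (Coh.pushAb f) (QCoh.toAb_shortExact hS) i
  exact e₃.isZero_X₂ (h₃.eq_of_src _ _) (h₂.eq_of_tgt _ _)

theorem rz_sub_zero {S : ShortComplex X.Modules} (hS : S.ShortExact)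
    (h₂ : RKoszul.RZ f S.X₂ 0) : RKoszul.RZ f S.X₁ 0 := by
  haveI := hS.mono_f
  haveI : (Scheme.Modules.pushforward f).PreservesMonomorphisms :=
    Functor.preservesMonomorphisms_of_adjunction (Scheme.Modules.pullbackPushforwardAdjunction f)
  exact (isZero_push_iff f).2 (IsZero.of_mono ((Scheme.Modules.pushforward f).map S.f) ((isZero_push_iff f).1 h₂))

end General

variable {n : ℕ} {T : Scheme.{u}}

/-- Twisting is exact. -/
theorem shortExact_tw {S : ShortComplex (KRR.PY n T).Modules} (hS : S.ShortExact) (d : ℤ) :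
    (S.map (Tw n T d)).ShortExact :=
  ShortComplex.shortExact_of_iso
    (S.mapNatIso ((KFlatLib.tensorBiFlipIso (KRR.PY n T)).app (Twist.twistOver n T d)))
    (KFlatLib.flatObj_of_isFlat
    (KFlatLib.isFlat_of_isFinLocFree (fun x =>
      let ⟨U, hx, ⟨e⟩⟩ := isInvertible_twistOver (n := n) (T := T) d x
      ⟨U, 1, hx, ⟨e ≪≫ (coproductUniqueIso fun _ : Fin 1 =>
        Coh.structureModule (U : Scheme.{u})).symm⟩⟩)) S hS)

theorem isQCoh_tw {F : (KRR.PY n T).Modules} (hF : Coh.IsQCoh F) (d : ℤ) : Coh.IsQCoh ((Tw n T d).obj F) :=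
  KFlatLib.isQCoh_tensor (QCoh.isQCoh_pullback _ (PnCoh.isQCoh_twist_mvPolynomial _ _ d)) hF

theorem isQCoh_push {F : (KRR.PY n T).Modules} (hF : Coh.IsQCoh F) :
    Coh.IsQCoh ((Scheme.Modules.pushforward (KRR.pr n T)).obj F) := by
  haveI : IsProper (KRR.pr n T) :=
    MorphismProperty.pullback_snd _ _ (PnCoh.Chow.isProper_toSpec n (ULift.{u} ℤ))
  exact QCoh.isQCoh_pushforward _ hF

/-- Sections of `O(d) ⊗ p^*G` vanish for negative `d`. -/
theorem rz_zero_tw_pullback (G : T.Modules) (hG : Coh.IsQCoh G) (i : ℕ) (hi : 1 ≤ i) (hin : i ≤ n) :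
    RKoszul.RZ (KRR.pr n T) ((Tw n T (-(i : ℤ))).obj ((Scheme.Modules.pullback (KRR.pr n T)).obj G)) 0 := by
  let M := (Tw n T (-(i : ℤ))).obj ((Scheme.Modules.pullback (KRR.pr n T)).obj G)
  refine (isZero_push_iff _).2 (KRREpi.isZero_of_affine (isQCoh_push (isQCoh_tw (QCoh.isQCoh_pullback _ hG) _))
    fun y => ?_)
  obtain ⟨_, ⟨U, hU, rfl⟩, hy, -⟩ := T.isBasis_affineOpens.exists_subset_of_mem_open
    (show y ∈ (⊤ : T.Opens) from trivial) (⊤ : T.Opens).2
  refine ⟨U, hU, hy, ?_⟩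
  haveI := PnBox.isAffineHom_gU (n := n) U hU
  obtain ⟨e⟩ := PnBox.nonempty_restrict_iso (n := n) U (-(i : ℤ)) G
  have hb := Box.bijective_boxHom_top (PnBox.gU (n := n) U) (PnBox.qU (n := n) U) (-(i : ℤ)) G U
    (PnBox.qU_preimage U) hU (fun D hD => PnBox.isBox U hU D hD) hG (by omega)
  haveI : Subsingleton Γ(Box.O1.{u} n (-(i : ℤ)), ⊤) :=
    PnCoh.subsingleton_global (ι := Fin (n + 1)) (R := Box.R0.{u}) (by simp; omega) (by omega)
  have h0 : ∀ z : Γ(Box.Mod (PnBox.gU (n := n) U) (PnBox.qU (n := n) U) (-(i : ℤ)) G, ⊤), z = 0 := fun z => by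
    obtain ⟨w, rfl⟩ := hb.2 z
    rw [Subsingleton.elim w 0, map_zero]
  intro t
  have heq : PnBox.PU (n := n) U = (PnBox.PU (n := n) U).ι ''ᵁ ⊤ := (Scheme.Opens.ι_image_top _).symm
  have hinj : Function.Injective (AModX.res M heq.ge) := fun a b h => by
    have := congrArg (AModX.res M heq.le) h
    rwa [AModX.res_res, AModX.res_res, AModX.res_self, AModX.res_self] at this
  refine hinj ?_
  rw [map_zero]
  refine ((ConcreteCategory.isIso_iff_bijective _).1
    (Scheme.Modules.Hom.isIso_iff_isIso_app.1 (show IsIso e.hom from inferInstance) ⊤)).1 ?_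
  exact (h0 _).trans (map_zero (e.hom.app ⊤).hom).symm

/-- The counit. -/
noncomputable abbrev eps (W : (KRR.PY n T).Modules) :
    (Scheme.Modules.pullback (KRR.pr n T)).obj ((Scheme.Modules.pushforward (KRR.pr n T)).obj W) ⟶ W :=
  (Scheme.Modules.pullbackPushforwardAdjunction (KRR.pr n T)).counit.app W

/-- The successive syzygies, twisted to be regular. -/
noncomputable def W (F : (KRR.PY n T).Modules) : ℕ → (KRR.PY n T).Modules
  | 0 => F
  | k + 1 => (Tw n T 1).obj (kernel (eps (W F k)))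

theorem shortExact_eps {W : (KRR.PY n T).Modules} (hW : Coh.IsQCoh W) (hR : KRR.IsRegSheaf n T W) :
    (ShortComplex.mk (kernel.ι (eps W)) (eps W) (kernel.condition _)).ShortExact := by
  haveI := KRREpi.epi_counit W hW hR
  exact ShortComplex.ShortExact.mk' (ShortComplex.exact_of_f_is_kernel _ (kernelIsKernel _)) inferInstance inferInstance

variable {F : (KRR.PY n T).Modules} (hF : Coh.IsQCoh F) (hreg : KRR.IsRegSheaf n T F)

theorem W_succ (F : (KRR.PY n T).Modules) (k : ℕ) :
    W F (k + 1) = (Tw n T 1).obj (kernel (eps (W F k))) := rfl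

theorem isReg_kernel {G : (KRR.PY n T).Modules} (hq : Coh.IsQCoh G) (hr : KRR.IsRegSheaf n T G) :
    KRR.IsRegSheaf n T (KRR.twF n T 1 (kernel (eps G))) := by
  have h2 : KRR.IsRegSheaf n T (KRR.twF n T (1 : ℤ)
      ((Scheme.Modules.pullback (KRR.pr n T)).obj ((Scheme.Modules.pushforward (KRR.pr n T)).obj G))) :=
    Nat.cast_one (R := ℤ) ▸ isReg_twF _ (PnBox.isReg_pullback _ (isQCoh_push hq)) 1
  haveI := PnH0.isIso_push_counit G (isQCoh_push hq)
  exact isReg_sub (S := ShortComplex.mk (kernel.ι (eps G)) (eps G) (kernel.condition _))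
    (shortExact_eps hq hr) h2 hr inferInstance

theorem isQCoh_kernel_eps {G : (KRR.PY n T).Modules} (hq : Coh.IsQCoh G) :
    Coh.IsQCoh ((Tw n T 1).obj (kernel (eps G))) :=
  isQCoh_tw (QCoh.isQCoh_kernel (QCoh.isQCoh_pullback _ (isQCoh_push hq)) hq _) 1

include hF hreg in
theorem W_spec (k : ℕ) : Coh.IsQCoh (W F k) ∧ KRR.IsRegSheaf n T (W F k) := by
  induction k with
  | zero => exact ⟨hF, hreg⟩
  | succ k ih =>
    rw [W_succ]
    exact ⟨isQCoh_kernel_eps ih.1, isReg_kernel ih.1 ih.2⟩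

include hF hreg in
/-- The syzygies twisted down are acyclic. -/
theorem rz_W : ∀ k : ℕ, k ≤ n + 1 → ∀ j : ℕ, 1 ≤ j → j ≤ k → ∀ q : ℕ,
    RKoszul.RZ (KRR.pr n T) ((Tw n T (-(j : ℤ))).obj (W F k)) q
  | 0, _, j, h1, h2, _ => absurd h2 (by omega)
  | k + 1, hk, j + 1, _, hj, q => by
    obtain ⟨hq, hr⟩ := W_spec hF hreg k
    let G := (Scheme.Modules.pushforward (KRR.pr n T)).obj (W F k)
    have hG : Coh.IsQCoh G := isQCoh_push hq
    have hS := shortExact_tw (shortExact_eps hq hr) (-(j : ℤ))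
    refine RKoszul.rz_of_iso (KRR.pr n T)
      (twF_twF (-((j + 1 : ℕ) : ℤ)) 1 (-(j : ℤ)) (by push_cast; ring) (kernel (eps (W F k)))).some.symm q ?_
    show RKoszul.RZ (KRR.pr n T) ((Tw n T (-(j : ℤ))).obj (kernel (eps (W F k)))) q
    obtain rfl | hj0 := Nat.eq_zero_or_pos j
    · have hw := (W_spec hF hreg (k + 1)).2
      cases q with
      | zero =>
        haveI : (Scheme.Modules.pushforward (KRR.pr n T)).PreservesMonomorphisms :=
          Functor.preservesMonomorphisms_of_adjunction (Scheme.Modules.pullbackPushforwardAdjunction _)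
        haveI := PnH0.isIso_push_counit (W F k) hG
        refine RKoszul.rz_of_iso (KRR.pr n T) (twF_zero _).some.symm 0 ((isZero_push_iff _).2 ?_)
        refine IsZero.of_mono_eq_zero ((Scheme.Modules.pushforward (KRR.pr n T)).map (kernel.ι (eps (W F k)))) ?_
        rw [← cancel_mono ((Scheme.Modules.pushforward (KRR.pr n T)).map (eps (W F k))), zero_comp,
          ← Functor.map_comp, kernel.condition]
        exact (Scheme.Modules.pushforward (KRR.pr n T)).map_zero _ _
      | succ q =>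
        have h : RKoszul.RZ (KRR.pr n T) ((Tw n T ((q : ℤ) - ((q + 1 : ℕ) : ℤ))).obj (W F (k + 1))) (q + 1) :=
          rz_add _ hw q (q + 1) (by omega)
        exact RKoszul.rz_of_iso (KRR.pr n T)
          (twF_twF _ 1 (-((0 : ℕ) : ℤ)) (by push_cast; ring) (kernel (eps (W F k)))).some (q + 1) h
    · cases q with
      | zero => exact rz_sub_zero _ hS (rz_zero_tw_pullback G hG j hj0 (by omega))
      | succ q =>
        exact rz_sub _ hS q (PnBox.rz_tw_pullback G hG _ (q + 1) (by omega) (Or.inl (by omega)))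
          (rz_W k (by omega) j hj0 (by omega) q)

include hF hreg in
theorem isZero_W : ∀ m : ℕ, IsZero (W F (n + 1 + m))
  | 0 => by
    obtain ⟨hq, hr⟩ := W_spec hF hreg (n + 1)
    have h0 : RKoszul.RZ (KRR.pr n T) (W F (n + 1)) 0 := by
      refine RKoszul.rz_of_iso (KRR.pr n T) (twF_zero _).some 0 ?_
      refine RKoszul.rz_zero (KRR.pr n T) (fun d => (Tw n T d).obj (W F (n + 1))) (fun j d => (mul j d).app _)
        (mul_comm' _) _ (covered _) 0 0 fun p => ?_
      refine RKoszul.rz_obj (KRR.pr n T) (fun d => (Tw n T d).obj (W F (n + 1))) _ _ _ _ ?_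
      rw [zero_sub, Nat.zero_add]
      by_cases hp : p + 1 ≤ n + 1
      · exact rz_W hF hreg (n + 1) le_rfl (p + 1) (by omega) hp p
      · exact PnBox.rz_of_lt (isQCoh_tw hq _) p (by omega)
    haveI := KRREpi.epi_counit _ hq hr
    exact IsZero.of_epi (eps (W F (n + 1)))
      ((Scheme.Modules.pullback (KRR.pr n T)).map_isZero ((isZero_push_iff _).1 h0))
  | m + 1 => (Tw n T 1).map_isZero (IsZero.of_mono (kernel.ι _)
      ((Scheme.Modules.pullback (KRR.pr n T)).map_isZero
        ((Scheme.Modules.pushforward (KRR.pr n T)).map_isZero (isZero_W m))))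

/-- The comparison of twisted kernels. -/
noncomputable def eK (F : (KRR.PY n T).Modules) (k : ℕ) :
    (Tw n T (-((k + 1 : ℕ) : ℤ))).obj (W F (k + 1)) ≅ (Tw n T (-(k : ℤ))).obj (kernel (eps (W F k))) :=
  (twF_twF (-((k + 1 : ℕ) : ℤ)) 1 (-(k : ℤ)) (by push_cast; ring) (kernel (eps (W F k)))).some

/-- The inclusion of a syzygy. -/
noncomputable def fk (F : (KRR.PY n T).Modules) (k : ℕ) :
    (Tw n T (-((k + 1 : ℕ) : ℤ))).obj (W F (k + 1)) ⟶ (Tw n T (-(k : ℤ))).obj
      ((Scheme.Modules.pullback (KRR.pr n T)).obj ((Scheme.Modules.pushforward (KRR.pr n T)).obj (W F k))) :=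
  (eK F k).hom ≫ (Tw n T (-(k : ℤ))).map (kernel.ι (eps (W F k)))

theorem fk_comp (F : (KRR.PY n T).Modules) (k : ℕ) :
    fk F k ≫ (Tw n T (-(k : ℤ))).map (eps (W F k)) = 0 := by
  rw [fk, Category.assoc, ← Functor.map_comp, kernel.condition, Functor.map_zero, comp_zero]

include hF hreg in
theorem exists_resolution :
    ∃ (Tm : ℕ → T.Modules) (L : ChainComplex (KRR.PY n T).Modules ℕ)
      (π : L ⟶ (ChainComplex.single₀ (KRR.PY n T).Modules).obj F),
      (∀ i, Coh.IsQCoh (Tm i)) ∧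
      (∀ i, i ≤ n → Nonempty (L.X i ≅
        KRR.twF n T (-(i : ℤ)) ((Scheme.Modules.pullback (KRR.pr n T)).obj (Tm i)))) ∧
      (∀ i, n < i → IsZero (L.X i)) ∧ QuasiIso π := by
  let Z := fun k : ℕ => (Tw n T (-(k : ℤ))).obj (W F k)
  let L := fun k : ℕ => (Tw n T (-(k : ℤ))).obj
    ((Scheme.Modules.pullback (KRR.pr n T)).obj ((Scheme.Modules.pushforward (KRR.pr n T)).obj (W F k)))
  let g : ∀ k, L k ⟶ Z k := fun k => (Tw n T (-(k : ℤ))).map (eps (W F k))
  have hS : ∀ k, (ShortComplex.mk (fk F k : Z (k + 1) ⟶ L k) (g k) (fk_comp F k)).ShortExact := fun k => by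
    refine ShortComplex.shortExact_of_iso ?_
      (shortExact_tw (shortExact_eps (W_spec hF hreg k).1 (W_spec hF hreg k).2) (-(k : ℤ)))
    exact ShortComplex.isoMk (eK F k).symm (Iso.refl _) (Iso.refl _)
      (((Iso.inv_hom_id_assoc (eK F k) _)).trans (Category.comp_id _).symm)
      ((Category.id_comp _).trans (Category.comp_id _).symm)
  let e0 : Z 0 ≅ F := (twF_zero F).some
  haveI := Splice.quasiIso_aug Z L (fk F) g (fk_comp F) hS
  refine ⟨fun k => (Scheme.Modules.pushforward (KRR.pr n T)).obj (W F k), Splice.cx Z L (fk F) g (fk_comp F),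
    Splice.aug Z L (fk F) g (fk_comp F) ≫ (ChainComplex.single₀ _).map e0.hom,
    fun k => isQCoh_push (W_spec hF hreg k).1, fun i _ => ⟨Iso.refl _⟩, fun i hi => ?_, inferInstance⟩
  obtain ⟨m, rfl⟩ := Nat.exists_eq_add_of_le (show n + 1 ≤ i by omega)
  exact (Tw n T _).map_isZero ((Scheme.Modules.pullback (KRR.pr n T)).map_isZero
    ((Scheme.Modules.pushforward (KRR.pr n T)).map_isZero (isZero_W hF hreg m)))

end Groth.Agent.H28.RegRes
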