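import Groth.Agent.H28.GenReg
import Groth.Agent.H28.KRegK0
import Groth.Agent.H28.RegRes
import Groth.Agent.H28.ChooseRec
import Groth.Agent.H28.PnH0

/-!
# Direct images of regular bundles on `P^n_T`, `T` quasi-compact, and the classes of `p_*((p^*G)(b))`
-/

set_option linter.style.haveILetI false
set_option linter.unusedSectionVars false
set_option backward.isDefEq.respectTransparency false
set_option backward.isDefEq.respectTransparency.types false

universe v w u

open CategoryTheory CategoryTheory.Limits AlgebraicGeometry TopologicalSpace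

namespace Groth.Agent.H28.GenPush

open Groth.Agent Groth.Agent.H28.KRRTw Groth.Agent.H28.KRRReg Groth.Agent.H28.KRegK0

/-- The kernel of an epimorphism of bundles. -/
theorem lf_X₁ {X : Scheme.{u}} {S : ShortComplex X.Modules} (hS : S.ShortExact)
    (h₂ : FlatMod.IsFinLocFree S.X₂) (h₃ : FlatMod.IsFinLocFree S.X₃) : FlatMod.IsFinLocFree S.X₁ := by
  haveI := hS.epi_g
  exact H23.PullPush.isFinLocFree_of_iso
    ((hS.fIsKernel.conePointUniqueUpToIso (limit.isLimit (parallelPair S.g 0))).symm : kernel S.g ≅ S.X₁)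
    (KFlatLib.isFinLocFree_kernel S.g h₂ h₃)

/-- Direct image is exact on sequences with acyclic kernel. -/
theorem shortExact_push {X Y : Scheme.{u}} (f : X ⟶ Y) {S : ShortComplex X.Modules} (hS : S.ShortExact)
    (h₁ : RKoszul.RZ f S.X₁ 1) : (S.map (Scheme.Modules.pushforward f)).ShortExact := by
  haveI := (Scheme.Modules.pullbackPushforwardAdjunction f).isRightAdjoint
  haveI : PreservesFiniteLimits (Scheme.Modules.pushforward f) := inferInstance
  haveI := hS.mono_f
  exact ShortComplex.ShortExact.mk'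
    (ShortComplex.exact_of_f_is_kernel _ (KernelFork.mapIsLimit _ hS.fIsKernel (Scheme.Modules.pushforward f)))
    (inferInstanceAs (Mono ((Scheme.Modules.pushforward f).map S.f)))
    (RKoszul.epi_push_map f hS h₁)

theorem cl_iso {X : Scheme.{u}} {A B : X.Modules} (e : A ≅ B) (hA : FlatMod.IsFinLocFree A)
    (hB : FlatMod.IsFinLocFree B) : KRR.cl X A = KRR.cl X B :=
  KZ.clSub_iso _ e hA hB (isZero_zero _) (KFlatLib.isFinLocFree_of_isZero (isZero_zero _))

variable {n : ℕ} {T : Scheme.{u}}

/-- Direct image is locally free. -/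
abbrev QP (n : ℕ) (T : Scheme.{u}) : ObjectProperty (KRR.PY n T).Modules :=
  fun M => FlatMod.IsFinLocFree ((Scheme.Modules.pushforward (KRR.pr n T)).obj M)

theorem qp_zero {Z : (KRR.PY n T).Modules} (h : IsZero Z) : QP n T Z :=
  KFlatLib.isFinLocFree_of_isZero ((Scheme.Modules.pushforward (KRR.pr n T)).map_isZero h)

theorem qp_biprod {A B : (KRR.PY n T).Modules} (hA : QP n T A) (hB : QP n T B) : QP n T (A ⊞ B) := by
  haveI := (Scheme.Modules.pullbackPushforwardAdjunction (KRR.pr n T)).isRightAdjoint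
  haveI : PreservesBinaryBiproduct A B (Scheme.Modules.pushforward (KRR.pr n T)) :=
    preservesBinaryBiproduct_of_preservesBinaryProduct _
  exact H23.PullPush.isFinLocFree_of_iso ((Scheme.Modules.pushforward (KRR.pr n T)).mapBiprod A B).symm
    (KFlatLib.isFinLocFree_biprod hA hB)

theorem qp_of_iso {A B : (KRR.PY n T).Modules} (e : A ≅ B) (h : QP n T A) : QP n T B :=
  H23.PullPush.isFinLocFree_of_iso ((Scheme.Modules.pushforward (KRR.pr n T)).mapIso e) h

variable (E : (KRR.PY n T).Modules)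

/-- Kernels in the Koszul complex, when the terms have locally free direct image. -/
theorem qp_kernel (d : ℤ) (N : ℕ)
    (hobj : ∀ p ≤ N, QP n T (KoszulCone.obj (M E) (ls.{u} n) d p))
    (hR : ∀ p, RKoszul.RZ (KRR.pr n T) (kernel (KoszulCone.dd (M E) (xs E) (ls.{u} n) d p)) 1) :
    ∀ p < N, QP n T (kernel (KoszulCone.dd (M E) (xs E) (ls.{u} n) d p))
  | 0, hp => by
    haveI := epi_dd E d
    exact lf_X₁ (shortExact_push _ (KZ.kerSeq_shortExact (KoszulCone.dd (M E) (xs E) (ls.{u} n) d 0)) (hR 0))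
      (hobj 1 hp) (hobj 0 (Nat.zero_le _))
  | p + 1, hp =>
    lf_X₁ (shortExact_push _ (shortExact_piece E d p) (hR (p + 1))) (hobj (p + 2) hp)
      (qp_kernel d N hobj hR p (Nat.lt_of_succ_lt hp))

variable {E}

/-- The descending step. -/
theorem qp_of_twists (hE : RP n T E) (h : ∀ a : ℕ, 1 ≤ a → QP n T (M E (a : ℤ))) : QP n T E := by
  let d : ℤ := ((n + 1 : ℕ) : ℤ)
  let l := ls.{u} n
  have hl : l.length = n + 1 := length_ls (n := n)
  have hobj : ∀ p ≤ n, QP n T (KoszulCone.obj (M E) l d p) := fun p hp =>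
    KoszulK.mem_obj (M E) (P := QP n T) (fun _ => qp_zero) (fun _ _ => qp_biprod) l d p (by
      rw [show d - (p : ℤ) = ((n + 1 - p : ℕ) : ℤ) by omega]
      exact h _ (by omega))
  have hk := qp_kernel E d n hobj fun p => rz_self _ (reg_kernel E hE (n + 1) p (by omega)) 1 le_rfl
  have hz : ∀ p, n ≤ p → IsZero (kernel (KoszulCone.dd (M E) (xs E) l d p)) := fun p hp => by
    haveI := (shortExact_piece E d p).epi_g
    exact IsZero.of_epi (KoszulK.piece (M E) (xs E) (mul_comm' E) l d p).g
      (KoszulCone.isZero_obj (M E) l _ (p + 2) (by omega))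
  have htop : QP n T (KoszulCone.obj (M E) l d (n + 1)) → QP n T E := by
    intro ht
    -- the top term is `E(0)`, a sum of one copy
    have e : ∀ (l : List (ULift.{u} (Fin (n + 1)))) (d : ℤ),
        Nonempty (KoszulCone.obj (M E) l d l.length ≅ M E (d - (l.length : ℤ))) := by
      intro l
      induction l with
      | nil => intro d; exact ⟨eqToIso (by simp [KoszulCone.obj])⟩
      | cons a l ih =>
        intro d
        obtain ⟨e⟩ := ih (d - 1)
        exact ⟨biprod.mapIso
            ((KoszulCone.isZero_obj (M E) l d (l.length + 1) (by omega)).iso (isZero_zero _))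
            (Iso.refl _) ≪≫ (isoZeroBiprod (Y := KoszulCone.obj (M E) l (d - 1) l.length) (isZero_zero _)).symm ≪≫
          e ≪≫ eqToIso (congrArg (M E) (by simp only [List.length_cons]; omega))⟩
    obtain ⟨e'⟩ := e l d
    rw [hl] at e'
    exact qp_of_iso (e' ≪≫ eqToIso (congrArg (M E) (by omega)) ≪≫ (twF_zero E).some) ht
  refine htop ?_
  rcases Nat.eq_zero_or_pos n with h0 | h0
  · subst h0
    haveI := epi_dd E d
    haveI : Mono (KoszulCone.dd (M E) (xs E) l d 0) := Preadditive.mono_of_isZero_kernel _ (hz 0 le_rfl)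
    haveI := isIso_of_mono_of_epi (KoszulCone.dd (M E) (xs E) l d 0)
    exact qp_of_iso (asIso (KoszulCone.dd (M E) (xs E) l d 0)).symm (hobj 0 le_rfl)
  · obtain ⟨q, rfl⟩ : ∃ q, n = q + 1 := ⟨n - 1, by omega⟩
    have hS := shortExact_piece E d q
    haveI : IsIso (KoszulK.piece (M E) (xs E) (mul_comm' E) l d q).g :=
      (hS.isIso_g_iff).2 (hz (q + 1) le_rfl)
    exact qp_of_iso (asIso (KoszulK.piece (M E) (xs E) (mul_comm' E) l d q).g).symm (hk q (by omega))

theorem qp_of_R [CompactSpace T] : ∀ (j : ℕ) (F : (KRR.PY n T).Modules), RP n T F →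
    (∀ a : ℕ, j ≤ a → QP n T (M F (a : ℤ))) → QP n T F
  | 0, F, _, h => qp_of_iso (twF_zero F).some (h 0 le_rfl)
  | j + 1, F, hF, h => qp_of_twists hF fun a ha =>
    qp_of_R j (M F (a : ℤ)) (rp_M F hF a) fun b hb =>
      qp_of_iso (twF_twF (b : ℤ) (a : ℤ) ((b + a : ℕ) : ℤ) (by push_cast; ring) F).some.symm (h _ (by omega))

/-- The direct image of a regular bundle is a bundle. -/
theorem isFinLocFree_push [CompactSpace T] {F : (KRR.PY n T).Modules} (hF : RP n T F) : QP n T F := by
  obtain ⟨m₀, hm⟩ := GenReg.exists_twist hF.1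
  exact qp_of_R m₀ F hF fun a ha => (hm a ha).2

theorem exists_R [CompactSpace T] (E : (KRR.PY n T).Modules) (hE : VP n T E) : ∃ j : ℕ, R n T j E := by
  obtain ⟨m₀, hm⟩ := GenReg.exists_twist hE
  exact ⟨m₀, hE, (hm m₀ le_rfl).1⟩

end Groth.Agent.H28.GenPush
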