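import Groth.Agent.H28.KvbLam
import Groth.Agent.H23.PicInv
import Groth.Agent.H23.PullPush
import Groth.Agent.KFlatLib.Perfect.LocFree
import Groth.Agent.KZ.CycleTensor
import Groth.Agent.Lib.InvEnd
import Groth.Prelude.Def_KRR

/-!
# The model of `K(X)` for connected `X`
-/

set_option autoImplicit false
set_option linter.style.haveILetI false
set_option linter.unusedSectionVars false
set_option backward.isDefEq.respectTransparency false
set_option backward.isDefEq.respectTransparency.types false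

universe v w u

open CategoryTheory CategoryTheory.Limits AlgebraicGeometry TopologicalSpace Opposite
open Groth.Agent.AModX ZeroObject

noncomputable section

namespace Groth.Agent.H28.KvbModel

open Groth.Agent Groth.Agent.H28.KvbLam

variable {X : Scheme.{u}}

/-- A module has a frame of length `r` at a point. -/
def FrameAt (E : X.Modules) (r : ℕ) (x : X) : Prop :=
  ∃ (U : X.Opens) (s : Fin r → Γ(E, U)), x ∈ U ∧ H23.Frame.IsFrame E s

theorem frameAt_unique {E : X.Modules} {r r' : ℕ} {x : X} (h : FrameAt E r x) (h' : FrameAt E r' x) : r = r' := by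
  obtain ⟨U, s, hx, hs⟩ := h
  obtain ⟨U', s', hx', hs'⟩ := h'
  haveI : Nontrivial Γ(X, U ⊓ U') := (X.presheaf.germ (U ⊓ U') x ⟨hx, hx'⟩).hom.domain_nontrivial
  simpa using Fintype.card_congr ((ExtBase.frameBasis hs (inf_le_left : U ⊓ U' ≤ U)).indexEquiv
    (ExtBase.frameBasis hs' (inf_le_right : U ⊓ U' ≤ U')))

theorem exists_frameAt {E : X.Modules} (hE : FlatMod.IsFinLocFree E) (x : X) : ∃ r, FrameAt E r x := by
  obtain ⟨U, r, hx, ⟨e⟩⟩ := hE x
  obtain ⟨s, hs⟩ := H23.Frame.exists_frame e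
  exact ⟨r, U, s, hx, hs⟩

theorem frameAt_of_rank {E : X.Modules} {r : ℕ} (hE : FlatMod.IsFinLocFreeOfRank r E) (x : X) : FrameAt E r x := by
  obtain ⟨U, hx, ⟨e⟩⟩ := hE x
  obtain ⟨s, hs⟩ := H23.Frame.exists_frame e
  exact ⟨U, s, hx, hs⟩

theorem rank_of_frameAt {E : X.Modules} {r : ℕ} (h : ∀ x, FrameAt E r x) : FlatMod.IsFinLocFreeOfRank r E :=
  fun x => by
    obtain ⟨U, s, hx, hs⟩ := h x
    exact ⟨U, hx, H23.Frame.exists_iso_of_frame s hs⟩

theorem lf_of_rank {E : X.Modules} {r : ℕ} (hE : FlatMod.IsFinLocFreeOfRank r E) : FlatMod.IsFinLocFree E :=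
  fun x => let ⟨U, hx, e⟩ := hE x; ⟨U, r, hx, e⟩

theorem frameAt_ses {S : ShortComplex X.Modules} (hS : S.ShortExact) {r r' : ℕ} {x : X}
    (h₁ : FrameAt S.X₁ r x) (h₃ : FrameAt S.X₃ r' x) : FrameAt S.X₂ (r + r') x := by
  obtain ⟨U₁, s', hx₁, hs'⟩ := h₁
  obtain ⟨U₃, s'', hx₃, hs''⟩ := h₃
  obtain ⟨U, s, hx, hs⟩ := ExtFil.exists_frame_mid hS hs' hs'' hx₁ hx₃
  exact ⟨U, s, hx, hs⟩

theorem frameAt_O (x : X) : FrameAt (Coh.structureModule X) 1 x := by
  refine ⟨⊤, fun _ => H23.Frame.one ⊤, trivial, fun W h => ?_⟩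
  have e : H23.Frame.comb (Coh.structureModule X) (fun _ : Fin 1 => H23.Frame.one ⊤) W h = fun c => c 0 := by
    funext c
    rw [H23.Frame.comb, Fin.sum_univ_one]
    refine (congrArg (c 0 • ·) (map_one (X.presheaf.map (homOfLE h).op).hom)).trans ?_
    exact mul_one (c 0)
  rw [e]
  exact ⟨fun c c' h => funext fun i => by rw [Fin.eq_zero i]; exact h, fun a => ⟨fun _ => a, rfl⟩⟩

/-- On a connected scheme the rank is constant. -/
theorem exists_rank [ConnectedSpace ↥X] {E : X.Modules} (hE : FlatMod.IsFinLocFree E) :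
    ∃ r, FlatMod.IsFinLocFreeOfRank r E := by
  classical
  let f : X → ℕ := fun x => (exists_frameAt hE x).choose
  have hloc : IsLocallyConstant f := (IsLocallyConstant.iff_exists_open f).2 fun x => by
    obtain ⟨U, s, hx, hs⟩ := (exists_frameAt hE x).choose_spec
    exact ⟨U, U.2, hx, fun y hy => frameAt_unique (exists_frameAt hE y).choose_spec ⟨U, s, hy, hs⟩⟩
  obtain ⟨x₀⟩ := (inferInstance : Nonempty ↥X)
  refine ⟨f x₀, rank_of_frameAt fun x => ?_⟩
  rw [hloc.apply_eq_of_preconnectedSpace x₀ x]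
  exact (exists_frameAt hE x).choose_spec

theorem isZero_L {E : X.Modules} {r : ℕ} (hE : FlatMod.IsFinLocFreeOfRank r E) {i : ℕ} (hi : r < i) :
    IsZero (ExtBase.L E i) := by
  refine (IsZero.iff_id_eq_zero _).2 ?_
  refine Scheme.Modules.hom_ext _ _ fun V => AddCommGrpCat.hom_ext (AddMonoidHom.ext fun t => ?_)
  refine eq_of_locally _ _ fun y hy => ?_
  obtain ⟨U, s, hyU, hs⟩ := frameAt_of_rank hE y
  refine ⟨V ⊓ U, inf_le_left, ⟨hy, hyU⟩, ?_⟩
  haveI : IsEmpty (Set.powersetCard (Fin r) i) := ⟨fun S => by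
    have h1 := Set.powersetCard.card_eq S
    have h2 := Finset.card_le_univ (S : Finset (Fin r))
    rw [Fintype.card_fin] at h2
    omega⟩
  haveI : Subsingleton Γ(ExtBase.L E i, V ⊓ U) :=
    ((ExtSh.bijective_eta hs (inf_le_right : V ⊓ U ≤ U)).comp
      (ExtSh.bijective_wComb (m := i) hs (inf_le_right : V ⊓ U ≤ U))).2.subsingleton
  exact Subsingleton.elim _ _

theorem rank_tens {E F : X.Modules} {n m k : ℕ} (hn : FlatMod.IsFinLocFreeOfRank n E)
    (hm : FlatMod.IsFinLocFreeOfRank m F) (hk : FlatMod.IsFinLocFreeOfRank k (tens E F)) (x : X) : k = n * m := by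
  obtain ⟨b⟩ := KZ.CycleClass.exists_basis hn x
  obtain ⟨b'⟩ := KZ.CycleClass.exists_basis hm x
  obtain ⟨b''⟩ := KZ.CycleClass.exists_basis hk x
  let φ := (KFlatLib.stalkTensorIso x E F).symm.toLinearEquiv
  simpa using Fintype.card_congr (b''.indexEquiv ((b.tensorProduct b').map φ.symm))

theorem exists_sub (x : SGA6.Kvb X) : ∃ A B : X.Modules, FlatMod.IsFinLocFree A ∧ FlatMod.IsFinLocFree B ∧
    x = cl A - cl B := by
  obtain ⟨z, rfl⟩ := QuotientAddGroup.mk_surjective x
  have hz : FlatMod.IsFinLocFree (0 : X.Modules) := KFlatLib.isFinLocFree_of_isZero (isZero_zero _)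
  have hof : ∀ E : Subtype (fun M : X.Modules => FlatMod.IsFinLocFree M),
      (QuotientAddGroup.mk (FreeAbelianGroup.of E) : SGA6.Kvb X) = cl E.1 :=
    fun E => (KZ.clSub_of_prop (fun M : X.Modules => FlatMod.IsFinLocFree M) E.2).symm
  have h0 : cl (0 : X.Modules) = 0 := KZ.clSub_isZero _ (isZero_zero _)
  induction z using FreeAbelianGroup.induction_on with
  | zero => exact ⟨0, 0, hz, hz, by rw [sub_self]; rfl⟩
  | of E => exact ⟨E.1, 0, E.2, hz, by
      rw [hof, h0, sub_zero]⟩
  | neg E _ => exact ⟨0, E.1, hz, E.2, by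
      rw [QuotientAddGroup.mk_neg, hof, h0, zero_sub]⟩
  | add a b ha hb =>
    obtain ⟨A, B, hA, hB, ha⟩ := ha
    obtain ⟨A', B', hA', hB', hb⟩ := hb
    have hcl : ∀ {E F : X.Modules}, FlatMod.IsFinLocFree E → FlatMod.IsFinLocFree F → cl (E ⊞ F) = cl E + cl F :=
      fun {E F} hE hF => KZ.clSub_ses (P := fun M : X.Modules => FlatMod.IsFinLocFree M)
        (ShortComplex.Splitting.ofHasBinaryBiproduct E F).shortExact hE (KFlatLib.isFinLocFree_biprod hE hF) hF
    refine ⟨A ⊞ A', B ⊞ B', KFlatLib.isFinLocFree_biprod hA hA', KFlatLib.isFinLocFree_biprod hB hB', ?_⟩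
    rw [QuotientAddGroup.mk_add, ha, hb, hcl hA hA', hcl hB hB']
    abel

/-- The statement of the existence of a model. -/
theorem exists_isModel [ConnectedSpace ↥X] :
    ∃ (K : Type (u + 1)) (_ : CommRing K) (_ : LambdaRing.LambdaOps K) (P : LambdaRing.PosStructure K)
      (φ : SGA6.Kvb X →+ K), KRR.IsModel X K P φ := by
  classical
  obtain ⟨mul, lam, hcomm, hassoc, hone, hmul, hlam, hl0, hl1, hadd⟩ := KvbLam.exists_lambdaStructure X
  letI R : CommRing (SGA6.Kvb X) :=
    { (inferInstance : AddCommGroup (SGA6.Kvb X)) with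
      mul := fun x y => mul x y
      one := cl (Coh.structureModule X)
      left_distrib := fun x y z => (mul x).map_add y z
      right_distrib := fun x y z => DFunLike.congr_fun (mul.map_add x y) z
      zero_mul := fun x => DFunLike.congr_fun mul.map_zero x
      mul_zero := fun x => (mul x).map_zero
      mul_assoc := hassoc
      one_mul := hone
      mul_one := fun x => (hcomm x _).trans (hone x)
      mul_comm := hcomm }
  letI Λ : LambdaRing.LambdaOps (SGA6.Kvb X) := { lam := lam, lam_zero := hl0, lam_one := hl1, lam_add := hadd }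
  obtain ⟨x₀⟩ := (inferInstance : Nonempty ↥X)
  obtain ⟨rk, hrk⟩ := KZ.exists_liftSub (P := fun M : X.Modules => FlatMod.IsFinLocFree M)
    (fun E => if h : FlatMod.IsFinLocFree E then ((exists_frameAt h x₀).choose : ℤ) else 0) fun S hS h₁ h₂ h₃ => by
      rw [dif_pos h₁, dif_pos h₂, dif_pos h₃, ← Nat.cast_add]
      exact congrArg _ (frameAt_unique (exists_frameAt h₂ x₀).choose_spec
        (frameAt_ses hS (exists_frameAt h₁ x₀).choose_spec (exists_frameAt h₃ x₀).choose_spec))
  have hrank : ∀ (n : ℕ) (E : X.Modules), FlatMod.IsFinLocFreeOfRank n E → rk (cl E) = n := fun n E h => by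
    rw [hrk E (lf_of_rank h), dif_pos (lf_of_rank h)]
    exact congrArg _ (frameAt_unique (exists_frameAt (lf_of_rank h) x₀).choose_spec (frameAt_of_rank h x₀))
  have hO : FlatMod.IsFinLocFreeOfRank 1 (Coh.structureModule X) := rank_of_frameAt frameAt_O
  have hsum : ∀ {n m : ℕ} {E F : X.Modules}, FlatMod.IsFinLocFreeOfRank n E → FlatMod.IsFinLocFreeOfRank m F →
      FlatMod.IsFinLocFreeOfRank (n + m) (E ⊞ F) ∧ cl (E ⊞ F) = cl E + cl F := fun {n m E F} hE hF => by
    have hse : (ShortComplex.mk (biprod.inl : E ⟶ E ⊞ F) biprod.snd biprod.inl_snd).ShortExact :=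
      (ShortComplex.Splitting.ofHasBinaryBiproduct E F).shortExact
    exact ⟨rank_of_frameAt fun x => frameAt_ses hse (frameAt_of_rank hE x) (frameAt_of_rank hF x),
      KZ.clSub_ses (P := fun M : X.Modules => FlatMod.IsFinLocFree M) hse (lf_of_rank hE)
        (KFlatLib.isFinLocFree_biprod (lf_of_rank hE) (lf_of_rank hF)) (lf_of_rank hF)⟩
  have haugmul : ∀ x y, rk (x * y) = rk x * rk y := by
    have h1 : ∀ E F, FlatMod.IsFinLocFree E → FlatMod.IsFinLocFree F → rk (cl E * cl F) = rk (cl E) * rk (cl F) := by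
      intro E F hE hF
      obtain ⟨n, hn⟩ := exists_rank hE
      obtain ⟨m, hm⟩ := exists_rank hF
      obtain ⟨k, hk⟩ := exists_rank (lf_tens hE hF)
      show rk (mul (cl E) (cl F)) = _
      rw [hmul E F hE hF, hrank _ _ hk, hrank _ _ hn, hrank _ _ hm]
      have hkn : k = n * m := rank_tens hn hm hk x₀
      rw [hkn, Nat.cast_mul]
    intro x y
    suffices e : rk.comp (AddMonoidHom.mulLeft x) = (AddMonoidHom.mulLeft (rk x)).comp rk from DFunLike.congr_fun e y
    refine KZ.K0sub_hom_ext _ fun F hF => ?_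
    suffices e : rk.comp (AddMonoidHom.mulRight (cl F)) = (AddMonoidHom.mulRight (rk (cl F))).comp rk from
      DFunLike.congr_fun e x
    exact KZ.K0sub_hom_ext _ fun E hE => h1 E F hE hF
  let aug : SGA6.Kvb X →+* ℤ :=
    { rk with map_one' := by exact hrank 1 _ hO, map_mul' := haugmul }
  let P : LambdaRing.PosStructure (SGA6.Kvb X) :=
    { aug := aug
      aug_surjective := fun z => ⟨(z : SGA6.Kvb X), map_intCast aug z⟩
      pos := {x | ∃ (n : ℕ) (E : X.Modules), 1 ≤ n ∧ FlatMod.IsFinLocFreeOfRank n E ∧ cl E = x}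
      add_mem := by
        rintro _ _ ⟨n, E, hn, hE, rfl⟩ ⟨m, F, hm, hF, rfl⟩
        exact ⟨n + m, E ⊞ F, by omega, (hsum hE hF).1, (hsum hE hF).2⟩
      mul_mem := by
        rintro _ _ ⟨n, E, hn, hE, rfl⟩ ⟨m, F, hm, hF, rfl⟩
        obtain ⟨k, hk⟩ := exists_rank (lf_tens (lf_of_rank hE) (lf_of_rank hF))
        refine ⟨k, tens E F, ?_, hk, (hmul E F (lf_of_rank hE) (lf_of_rank hF)).symm⟩
        rw [rank_tens hE hF hk x₀]
        exact Nat.one_le_iff_ne_zero.2 (by positivity)
      natCast_mem := by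
        intro n hn
        induction n with
        | zero => omega
        | succ n ih =>
          rcases Nat.eq_zero_or_pos n with rfl | hn'
          · exact ⟨1, _, le_rfl, hO, by rw [Nat.cast_one]; rfl⟩
          · obtain ⟨m, E, hm, hE, hEn⟩ := ih hn'
            exact ⟨m + 1, E ⊞ Coh.structureModule X, by omega, (hsum hE hO).1, by
              rw [(hsum hE hO).2, hEn, Nat.cast_succ]; rfl⟩
      exists_sub := fun x => by
        obtain ⟨A, B, hA, hB, hx⟩ := exists_sub x
        obtain ⟨a, ha⟩ := exists_rank hA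
        obtain ⟨b, hb⟩ := exists_rank hB
        refine ⟨_, _, ⟨a + 1, _, by omega, (hsum ha hO).1, rfl⟩, ⟨b + 1, _, by omega, (hsum hb hO).1, rfl⟩, ?_⟩
        rw [(hsum ha hO).2, (hsum hb hO).2, hx]
        abel
      aug_pos := by
        rintro _ ⟨n, E, hn, hE, rfl⟩
        show 0 < rk (cl E)
        rw [hrank n E hE]
        omega
      lam_eq_zero := by
        rintro _ ⟨n, E, hn, hE, rfl⟩ i hi
        have hi' : n < i := by
          have : rk (cl E) < (i : ℤ) := hi
          rw [hrank n E hE] at this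
          omega
        refine (hlam i E _ (lf_of_rank hE) (ExtSh.isExtPow_L i (lf_of_rank hE))).trans ?_
        exact KZ.clSub_isZero _ (isZero_L hE hi')
      isUnit_lam := by
        rintro _ ⟨n, E, hn, hE, rfl⟩
        show IsUnit (lam (rk (cl E)).toNat (cl E))
        rw [hrank n E hE, Int.toNat_natCast, hlam n E _ (lf_of_rank hE) (ExtSh.isExtPow_L n (lf_of_rank hE))]
        have hinv : PicF.IsInvertible (ExtBase.L E n) := InvX.isInvertible_of_frames fun x => by
          obtain ⟨U, s, hxU, hs⟩ := frameAt_of_rank hE x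
          exact ⟨U, hxU, _, ExtBase.isFrame_wedge hs⟩
        obtain ⟨D, hD, ⟨e⟩⟩ := H23.PicInv.exists_inverse hinv
        have hDl : FlatMod.IsFinLocFree D := lf_of_rank (fun x => InvEnd.isFinLocFreeOfRank_one hD x)
        refine IsUnit.of_mul_eq_one (cl D) ?_
        refine (hmul _ D (ExtSh.isFinLocFree_L n (lf_of_rank hE)) hDl).trans ?_
        exact cl_iso e (lf_tens (ExtSh.isFinLocFree_L n (lf_of_rank hE)) hDl) }
  exact ⟨SGA6.Kvb X, R, Λ, P, AddMonoidHom.id _,
    { bijective := Function.bijective_id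
      map_one := rfl
      map_mul := hmul
      map_lam := fun i E L hE _ hL => hlam i E L hE hL
      aug_cl := fun n E hE => hrank n E hE
      mem_pos_iff := fun x => Iff.rfl }⟩

end Groth.Agent.H28.KvbModel
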