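import Groth.Agent.KFlatLib.Scheme.Pullback
import Groth.Agent.KFlatLib.Scheme.Tensor
import Groth.Agent.KFlatLib.Perfect.LocFree
import Groth.Agent.KZ.Basic
import Groth.Prelude.Def_KRR

/-!
# Inverse images of short exact sequences with flat quotient
-/

set_option linter.style.haveILetI false
set_option linter.unusedSectionVars false
set_option backward.isDefEq.respectTransparency false
set_option backward.isDefEq.respectTransparency.types false

universe v w u

open CategoryTheory CategoryTheory.Limits AlgebraicGeometry TopologicalSpace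

namespace Groth.Agent.H28.PullVB

open Groth.Agent

theorem shortExact_extendScalars {R S : Type u} [CommRing R] [CommRing S] (φ : R →+* S)
    {T : ShortComplex (ModuleCat.{u} R)} (hT : T.ShortExact) (h₃ : Module.Flat R T.X₃) :
    (T.map (ModuleCat.extendScalars.{u, u, u} φ)).ShortExact := by
  letI := φ.toAlgebra
  have hsurj := (ModuleCat.epi_iff_surjective _).1 hT.epi_g
  have hinj := (ModuleCat.mono_iff_injective _).1 hT.mono_f
  have hex := (ShortComplex.ShortExact.moduleCat_exact_iff_function_exact _).1 hT.exact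
  refine ShortComplex.ShortExact.mk' ?_ ?_ ?_
  · rw [ShortComplex.ShortExact.moduleCat_exact_iff_function_exact]
    exact lTensor_exact S hex hsurj
  · rw [ModuleCat.mono_iff_injective]
    exact LinearMap.lTensor_injective_of_exact_of_flat _ hsurj _ hinj hex S
  · rw [ModuleCat.epi_iff_surjective]
    exact LinearMap.lTensor_surjective S hsurj

variable {X Y : Scheme.{u}} (f : X ⟶ Y)

/-- Inverse image preserves short exact sequences whose third term is flat. -/
theorem shortExact_pullback {S : ShortComplex Y.Modules} (hS : S.ShortExact) (h₃ : FlatMod.IsFlat S.X₃) :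
    (S.map (Scheme.Modules.pullback f)).ShortExact := by
  rw [KFlatLib.shortExact_iff_stalk]
  intro x
  have h : ((S.map (DerSch.stalkFunctor Y (f.base x))).map (ModuleCat.extendScalars.{u, u, u} (f.stalkMap x).hom)).ShortExact :=
    shortExact_extendScalars (f.stalkMap x).hom (T := S.map (DerSch.stalkFunctor Y (f.base x)))
      ((KFlatLib.shortExact_iff_stalk S).1 hS (f.base x)) (h₃ (f.base x))
  exact ShortComplex.shortExact_of_iso (S.mapNatIso (KFlatLib.stalkPullbackIso f x)).symm h

/-- The inverse image on `K₀` of bundles. -/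
theorem exists_pullHom : ∃ g : SGA6.Kvb Y →+ SGA6.Kvb X,
    ∀ E : Y.Modules, FlatMod.IsFinLocFree E → g (KRR.cl Y E) = KRR.cl X ((Scheme.Modules.pullback f).obj E) :=
  KZ.exists_liftSub (KRR.vbP Y) (fun E => KRR.cl X ((Scheme.Modules.pullback f).obj E))
    fun _ hS h₁ h₂ h₃ => KZ.clSub_ses (KRR.vbP X) (shortExact_pullback f hS (KFlatLib.isFlat_of_isFinLocFree h₃))
      (KFlatLib.isFinLocFree_pullback f h₁) (KFlatLib.isFinLocFree_pullback f h₂) (KFlatLib.isFinLocFree_pullback f h₃)

/-- The pull-back on models exists and is unique. -/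
theorem existsUnique_isPull {KX : Type v} [CommRing KX] (φX : SGA6.Kvb X →+ KX)
    {KY : Type w} [CommRing KY] (φY : SGA6.Kvb Y →+ KY) (hY : Function.Bijective φY) :
    ∃! g : KY →+ KX, KRR.IsPull f φY φX g := by
  obtain ⟨g₀, hg₀⟩ := exists_pullHom f
  let e := AddEquiv.ofBijective φY hY
  refine ⟨(φX.comp g₀).comp e.symm.toAddMonoidHom, fun E hE => ?_, fun g hg => ?_⟩
  · show φX (g₀ (e.symm (e (KRR.cl Y E)))) = _
    rw [AddEquiv.symm_apply_apply, hg₀ E hE]
  · have h : g.comp φY = φX.comp g₀ := KZ.K0sub_hom_ext _ fun E hE => by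
      show g (φY (KRR.cl Y E)) = φX (g₀ (KRR.cl Y E))
      rw [hg E hE, hg₀ E hE]
    refine AddMonoidHom.ext fun x => ?_
    obtain ⟨y, rfl⟩ := e.surjective x
    exact (DFunLike.congr_fun h y).trans (congrArg (fun z => φX (g₀ z)) (e.symm_apply_apply y).symm)

end Groth.Agent.H28.PullVB
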