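import Groth.Agent.H28.ExtPull
import Groth.Agent.H28.KvbModel
import Groth.Agent.H28.PullVB
import Groth.Agent.KFlatLib.Scheme.PullTensor

/-!
# Pull-back is a homomorphism of λ-rings
-/

set_option autoImplicit false
set_option linter.style.haveILetI false
set_option linter.unusedSectionVars false
set_option backward.isDefEq.respectTransparency false
set_option backward.isDefEq.respectTransparency.types false

universe v w u

open CategoryTheory CategoryTheory.Limits AlgebraicGeometry TopologicalSpace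

noncomputable section

namespace Groth.Agent.H28.KvbPull

open Groth.Agent Groth.Agent.H28.KvbLam

variable {X Y : Scheme.{u}} (f : X ⟶ Y)

theorem lf_pull {E : Y.Modules} (hE : FlatMod.IsFinLocFree E) :
    FlatMod.IsFinLocFree ((Scheme.Modules.pullback f).obj E) :=
  KFlatLib.isFinLocFree_pullback f hE

theorem cl_pull_extPow {E W : Y.Modules} {m : ℕ} (hE : FlatMod.IsFinLocFree E) (hW : ExtPow.IsExtPow m E W) :
    cl ((Scheme.Modules.pullback f).obj W) = cl (ExtBase.L ((Scheme.Modules.pullback f).obj E) m) := by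
  obtain ⟨e⟩ := ExtSh.nonempty_iso_L hE hW
  obtain ⟨e'⟩ := ExtPull.nonempty_pullback_L f m hE
  exact (cl_iso (((Scheme.Modules.pullback f).mapIso e).symm ≪≫ e').symm
    (ExtSh.isFinLocFree_L m (lf_pull f hE))).symm

/-- Pull-back of the structure module. -/
def unitIso : (Scheme.Modules.pullback f).obj (Coh.structureModule Y) ≅ Coh.structureModule X :=
  PinchPO7.unitIso f

/-- Pull-back of tensor products. -/
def tensIso (E F : Y.Modules) : (Scheme.Modules.pullback f).obj (tens E F) ≅
    tens ((Scheme.Modules.pullback f).obj E) ((Scheme.Modules.pullback f).obj F) :=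
  haveI := KFlatLib.isIso_pullTensorHom f E F
  asIso (KFlatLib.pullTensorHom f E F)

section Model

variable {f}
variable {KX : Type v} [CommRing KX] [LambdaRing.LambdaOps KX] {PX : LambdaRing.PosStructure KX}
  {φX : SGA6.Kvb X →+ KX} (hX : KRR.IsModel X KX PX φX)
  {KY : Type w} [CommRing KY] [LambdaRing.LambdaOps KY] {PY : LambdaRing.PosStructure KY}
  {φY : SGA6.Kvb Y →+ KY} (hY : KRR.IsModel Y KY PY φY)
  {g : KY →+ KX} (hg : KRR.IsPull f φY φX g)

include hY in
theorem exists_cl (x : KY) : ∃ A B : Y.Modules, FlatMod.IsFinLocFree A ∧ FlatMod.IsFinLocFree B ∧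
    x = φY (cl A) - φY (cl B) := by
  obtain ⟨y, rfl⟩ := hY.bijective.2 x
  obtain ⟨A, B, hA, hB, rfl⟩ := KvbModel.exists_sub y
  exact ⟨A, B, hA, hB, map_sub φY _ _⟩

include hX hY hg in
theorem map_one : g 1 = 1 := by
  rw [← hY.map_one, hg _ lf_O, ← hX.map_one]
  exact congrArg φX (cl_iso (unitIso f) (lf_pull f lf_O))

include hX hY hg in
theorem map_mul (x y : KY) : g (x * y) = g x * g y := by
  have h : ∀ E F, FlatMod.IsFinLocFree E → FlatMod.IsFinLocFree F →
      g (φY (cl E) * φY (cl F)) = g (φY (cl E)) * g (φY (cl F)) := fun E F hE hF => by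
    rw [hY.map_mul E F hE hF, hg _ (lf_tens hE hF), hg E hE, hg F hF, hX.map_mul _ _ (lf_pull f hE) (lf_pull f hF)]
    exact congrArg φX (cl_iso (tensIso f E F) (lf_pull f (lf_tens hE hF)))
  obtain ⟨A, B, hA, hB, rfl⟩ := exists_cl hY x
  obtain ⟨C, D, hC, hD, rfl⟩ := exists_cl hY y
  simp only [sub_mul, mul_sub, map_sub, h A C hA hC, h A D hA hD, h B C hB hC, h B D hB hD]

/-- Pull-back as a ring homomorphism. -/
def ringHom : KY →+* KX where
  toFun := g
  map_one' := map_one hX hY hg
  map_mul' := map_mul hX hY hg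
  map_zero' := g.map_zero
  map_add' := g.map_add

include hX hY hg in
theorem map_lam_cl {E : Y.Modules} (hE : FlatMod.IsFinLocFree E) (i : ℕ) :
    g (LambdaRing.LambdaOps.lam i (φY (cl E))) = LambdaRing.LambdaOps.lam i (g (φY (cl E))) := by
  rw [hY.map_lam i E _ hE (ExtSh.isFinLocFree_L i hE) (ExtSh.isExtPow_L i hE), hg _ (ExtSh.isFinLocFree_L i hE),
    hg E hE, hX.map_lam i _ _ (lf_pull f hE) (ExtSh.isFinLocFree_L i (lf_pull f hE)) (ExtSh.isExtPow_L i (lf_pull f hE))]
  exact congrArg φX (cl_pull_extPow f hE (ExtSh.isExtPow_L i hE))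

include hX hY hg in
theorem map_lam (i : ℕ) (x : KY) : g (LambdaRing.LambdaOps.lam i x) = LambdaRing.LambdaOps.lam i (g x) := by
  obtain ⟨A, B, hA, hB, hx⟩ := exists_cl hY x
  have hAB : φY (cl A) = x + φY (cl B) := by rw [hx, sub_add_cancel]
  induction i using Nat.strong_induction_on with
  | _ i ih =>
    have h1 := LambdaRing.LambdaOps.lam_add i x (φY (cl B))
    have h2 := LambdaRing.LambdaOps.lam_add i (g x) (g (φY (cl B)))
    rw [← hAB] at h1
    rw [← map_add, ← hAB] at h2
    rw [Finset.sum_range_succ, Nat.sub_self, LambdaRing.LambdaOps.lam_zero, mul_one] at h1 h2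
    have h3 := congrArg g h1
    rw [map_add, map_lam_cl hX hY hg hA, map_sum, h2] at h3
    have h4 : ∑ k ∈ Finset.range i, g (LambdaRing.LambdaOps.lam k x * LambdaRing.LambdaOps.lam (i - k) (φY (cl B))) =
        ∑ k ∈ Finset.range i, LambdaRing.LambdaOps.lam k (g x) * LambdaRing.LambdaOps.lam (i - k) (g (φY (cl B))) :=
      Finset.sum_congr rfl fun k hk => by
        rw [map_mul hX hY hg, ih k (Finset.mem_range.1 hk), map_lam_cl hX hY hg hB]
    rw [h4] at h3
    exact (add_left_cancel h3).symm

end Model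

end Groth.Agent.H28.KvbPull
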