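import Groth.Agent.H28.LamTwist
import Groth.Agent.H28.KvbPull
import Groth.Agent.Lambda.GammaFil

/-!
# Line elements of models: `λ^i (u z) = u^i λ^i z`, and pull-back of ranks
-/

set_option autoImplicit false
set_option linter.style.haveILetI false
set_option linter.unusedSectionVars false
set_option backward.isDefEq.respectTransparency false
set_option backward.isDefEq.respectTransparency.types false

universe v w u

open CategoryTheory CategoryTheory.Limits AlgebraicGeometry TopologicalSpace Finset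

noncomputable section

namespace Groth.Agent.H28.LineTwist

open Groth.Agent Groth.Agent.H28.KvbLam

section Alg

variable {K : Type v} [CommRing K] [LambdaRing.LambdaOps K]

theorem gamma_succ (s : ℕ) (z : K) :
    LambdaRing.gamma (s + 1) z = ∑ i ∈ range (s + 1), (s.choose i : K) * LambdaRing.LambdaOps.lam (i + 1) z := by
  rw [LambdaRing.gamma, if_neg s.succ_ne_zero, sum_range_succ']
  simp

/-- `γ^r` of a product with an element twisting `λ`. -/
theorem gamma_mul_of_twist {u z : K}
    (h : ∀ i, LambdaRing.LambdaOps.lam i (u * z) = u ^ i * LambdaRing.LambdaOps.lam i z) (s : ℕ) :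
    LambdaRing.gamma (s + 1) (u * z) = ∑ i ∈ range (s + 1),
      (s.choose i : K) * u ^ (i + 1) * (1 - u) ^ (s - i) * LambdaRing.gamma (i + 1) z := by
  simp only [gamma_succ, h, mul_sum]
  have h1 : ∀ i ∈ range (s + 1), (∑ j ∈ range (i + 1), (s.choose i : K) * u ^ (i + 1) * (1 - u) ^ (s - i) *
      ((i.choose j : K) * LambdaRing.LambdaOps.lam (j + 1) z)) = ∑ j ∈ range (s + 1),
        (s.choose i : K) * u ^ (i + 1) * (1 - u) ^ (s - i) * ((i.choose j : K) * LambdaRing.LambdaOps.lam (j + 1) z) := by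
    intro i hi
    refine sum_subset (range_subset_range.2 (mem_range.1 hi)) fun j _ hj => ?_
    rw [mem_range, not_lt] at hj
    rw [Nat.choose_eq_zero_of_lt hj, Nat.cast_zero, zero_mul, mul_zero]
  rw [sum_congr rfl h1, sum_comm]
  refine sum_congr rfl fun j hj => ?_
  rw [mem_range] at hj
  have hb : ((u + (1 - u)) ^ (s - j) : K) = 1 := by rw [add_sub_cancel, one_pow]
  rw [← mul_assoc, show (s.choose j : K) * u ^ (j + 1) = (s.choose j : K) * u ^ (j + 1) * (u + (1 - u)) ^ (s - j) by
    rw [hb, mul_one], add_pow, mul_sum, sum_mul]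
  have h2 : ∀ i ∈ range j, (s.choose i : K) * u ^ (i + 1) * (1 - u) ^ (s - i) *
      ((i.choose j : K) * LambdaRing.LambdaOps.lam (j + 1) z) = 0 := fun i hi => by
    rw [Nat.choose_eq_zero_of_lt (mem_range.1 hi), Nat.cast_zero, zero_mul, mul_zero]
  rw [show s + 1 = j + (s - j + 1) by omega, sum_range_add _ j, sum_eq_zero h2, zero_add]
  refine sum_congr rfl fun p hp => ?_
  rw [mem_range] at hp
  have hc : (s.choose (j + p) : K) * ((j + p).choose j : K) = (s.choose j : K) * ((s - j).choose p : K) := by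
    rw [← Nat.cast_mul, ← Nat.cast_mul, Nat.choose_mul (Nat.le_add_right j p), Nat.add_sub_cancel_left]
  calc _ = (s.choose j : K) * ((s - j).choose p : K) *
        (u ^ (j + 1) * u ^ p * (1 - u) ^ (s - j - p) * LambdaRing.LambdaOps.lam (j + 1) z) := by ring
    _ = _ := by
      rw [← hc, show s - (j + p) = s - j - p by omega]
      ring

/-- If `λ` is twisted by `u` on sums, so is it on differences. -/
theorem twist_sub {u z b : K}
    (h1 : ∀ i, LambdaRing.LambdaOps.lam i (u * (z + b)) = u ^ i * LambdaRing.LambdaOps.lam i (z + b))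
    (h2 : ∀ i, LambdaRing.LambdaOps.lam i (u * b) = u ^ i * LambdaRing.LambdaOps.lam i b) (i : ℕ) :
    LambdaRing.LambdaOps.lam i (u * z) = u ^ i * LambdaRing.LambdaOps.lam i z := by
  induction i using Nat.strong_induction_on with
  | _ i ih =>
    have e := h1 i
    rw [mul_add, LambdaRing.LambdaOps.lam_add, LambdaRing.LambdaOps.lam_add, mul_sum, sum_range_succ,
      sum_range_succ, Nat.sub_self, LambdaRing.LambdaOps.lam_zero, LambdaRing.LambdaOps.lam_zero, mul_one,
      mul_one] at e
    have e' : ∑ k ∈ range i, LambdaRing.LambdaOps.lam k (u * z) * LambdaRing.LambdaOps.lam (i - k) (u * b) =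
        ∑ k ∈ range i, u ^ i * (LambdaRing.LambdaOps.lam k z * LambdaRing.LambdaOps.lam (i - k) b) :=
      sum_congr rfl fun k hk => by
        have hki : u ^ k * u ^ (i - k) = u ^ i := by
          rw [← pow_add, Nat.add_sub_cancel' (mem_range.1 hk).le]
        rw [ih k (mem_range.1 hk), h2, ← hki]
        ring
    rw [e'] at e
    exact add_left_cancel e

end Alg

section Model

variable {X : Scheme.{u}} {K : Type v} [CommRing K] [LambdaRing.LambdaOps K] {P : LambdaRing.PosStructure K}
  {φ : SGA6.Kvb X →+ K} (hK : KRR.IsModel X K P φ) {L : X.Modules} (hL : PicF.IsInvertible L)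

include hL in
theorem lf_invertible : FlatMod.IsFinLocFree L :=
  KvbModel.lf_of_rank fun x => InvEnd.isFinLocFreeOfRank_one hL x

include hK hL in
theorem isLine_cl : P.IsLine (φ (cl L)) := by
  have h1 : FlatMod.IsFinLocFreeOfRank 1 L := fun x => InvEnd.isFinLocFreeOfRank_one hL x
  exact ⟨(hK.mem_pos_iff _).2 ⟨1, L, le_rfl, h1, rfl⟩, by rw [hK.aug_cl 1 L h1, Nat.cast_one]⟩

include hK hL in
theorem cl_tensorPow : ∀ n : ℕ, φ (cl (CohB1.tensorPow L n)) = φ (cl L) ^ n
  | 0 => by rw [pow_zero]; exact hK.map_one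
  | n + 1 => by
    rw [pow_succ, ← cl_tensorPow n]
    exact (hK.map_mul _ _ (lf_invertible (InvX.isInvertible_tensorPow hL n)) (lf_invertible hL)).symm

theorem tm_eq (A B : X.Modules) : CohB1.tensorMod A B = ((DCoh.tensorBi (X := X)).obj A).obj B := rfl

include hK hL in
theorem lam_twist_cl {E : X.Modules} (hE : FlatMod.IsFinLocFree E) (i : ℕ) :
    LambdaRing.LambdaOps.lam i (φ (cl L) * φ (cl E)) = φ (cl L) ^ i * LambdaRing.LambdaOps.lam i (φ (cl E)) := by
  have h := LamTwist.isExtPow_twist hL hE i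
  rw [tm_eq, tm_eq] at h
  have hP := lf_invertible (InvX.isInvertible_tensorPow hL i)
  have hX := ExtSh.isFinLocFree_L i hE
  rw [← cl_tensorPow hK hL i, hK.map_lam i E _ hE hX (ExtSh.isExtPow_L i hE), hK.map_mul _ _ hP hX,
    hK.map_mul _ _ (lf_invertible hL) hE]
  exact hK.map_lam i _ _ (lf_tens (lf_invertible hL) hE) (lf_tens hP hX) h

include hK hL in
theorem lam_twist (z : K) (i : ℕ) :
    LambdaRing.LambdaOps.lam i (φ (cl L) * z) = φ (cl L) ^ i * LambdaRing.LambdaOps.lam i z := by
  obtain ⟨A, B, hA, hB, hz⟩ := KvbPull.exists_cl hK z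
  have hAB : z + φ (cl B) = φ (cl A) := by rw [hz, sub_add_cancel]
  refine twist_sub (b := φ (cl B)) (fun j => ?_) (lam_twist_cl hK hL hB) i
  rw [hAB]
  exact lam_twist_cl hK hL hA j

end Model

section Rank

variable {X Y : Scheme.{u}} (f : X ⟶ Y)

theorem rank_pull {E : Y.Modules} {r : ℕ} (hE : FlatMod.IsFinLocFreeOfRank r E) :
    FlatMod.IsFinLocFreeOfRank r ((Scheme.Modules.pullback f).obj E) :=
  KvbModel.rank_of_frameAt fun x => by
    obtain ⟨U, hxU, ⟨e⟩⟩ := hE (f x)
    obtain ⟨s, -, hs⟩ := PinchPO7.exists_frame_pull e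
    exact ⟨f ⁻¹ᵁ U, _, hxU, hs f⟩

variable {f}
variable [ConnectedSpace ↥Y]
  {KX : Type v} [CommRing KX] [LambdaRing.LambdaOps KX] {PX : LambdaRing.PosStructure KX}
  {φX : SGA6.Kvb X →+ KX} (hX : KRR.IsModel X KX PX φX)
  {KY : Type w} [CommRing KY] [LambdaRing.LambdaOps KY] {PY : LambdaRing.PosStructure KY}
  {φY : SGA6.Kvb Y →+ KY} (hY : KRR.IsModel Y KY PY φY)
  {g : KY →+ KX} (hg : KRR.IsPull f φY φX g)

include hX hY hg in
theorem aug_pull (y : KY) : PX.aug (g y) = PY.aug y := by
  obtain ⟨A, B, hA, hB, rfl⟩ := KvbPull.exists_cl hY y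
  obtain ⟨a, ha⟩ := KvbModel.exists_rank hA
  obtain ⟨b, hb⟩ := KvbModel.exists_rank hB
  rw [map_sub g, hg A hA, hg B hB, map_sub, map_sub, hX.aug_cl a _ (rank_pull f ha), hX.aug_cl b _ (rank_pull f hb),
    hY.aug_cl a A ha, hY.aug_cl b B hb]

end Rank

end Groth.Agent.H28.LineTwist
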