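import Groth.Agent.H28.ExtFil
import Groth.Agent.H28.ExtPull
import Groth.Agent.H28.KvbModel
import Groth.Agent.H28.GenPush
import Groth.Agent.KFlatLib.Perfect.Top
import Groth.Agent.H23.PicInv
import Groth.Agent.H28.LineTwist
import Groth.Agent.H28.KvbPull

/-!
# The standard coresolution on a projective bundle
-/

set_option autoImplicit false
set_option linter.style.haveILetI false
set_option linter.unusedSectionVars false
set_option backward.isDefEq.respectTransparency false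
set_option backward.isDefEq.respectTransparency.types false

universe u

open CategoryTheory CategoryTheory.Limits AlgebraicGeometry TopologicalSpace Opposite

noncomputable section

namespace Groth.Agent.H28.PBCores

open Groth.Agent Groth.Agent.H23.PicMul

variable {X : Scheme.{u}}

/-- Tensoring with a bundle is exact. -/
theorem shortExact_tens {V : X.Modules} (hV : FlatMod.IsFinLocFree V) {S : ShortComplex X.Modules}
    (hS : S.ShortExact) : (S.map (DCoh.tensorBi.obj V)).ShortExact :=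
  ShortComplex.shortExact_of_iso (S.mapNatIso ((KFlatLib.tensorBiFlipIso X).app V))
    (KFlatLib.flatObj_of_isFlat (KFlatLib.isFlat_of_isFinLocFree hV) S hS)

/-- Replacing the terms of the image of a short exact sequence by isomorphic ones. -/
theorem exists_ses {F : X.Modules ⥤ X.Modules} [F.PreservesZeroMorphisms] {A' B' C' : X.Modules} {f' : A' ⟶ B'}
    {g' : B' ⟶ C'} {w' : f' ≫ g' = 0} (hF : ((ShortComplex.mk f' g' w').map F).ShortExact) {A B C : X.Modules}
    (eA : F.obj A' ≅ A) (eB : F.obj B' ≅ B) (eC : F.obj C' ≅ C) :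
    ∃ (f : A ⟶ B) (g : B ⟶ C) (w : f ≫ g = 0), (ShortComplex.mk f g w).ShortExact :=
  ⟨eA.inv ≫ F.map f' ≫ eB.hom, eB.inv ≫ F.map g' ≫ eC.hom, by simp [← F.map_comp_assoc, w'],
    ShortComplex.shortExact_of_iso (ShortComplex.isoMk eA eB eC (by simp) (by simp)) hF⟩

theorem exists_tens_ses {A' B' C' : X.Modules} {f' : A' ⟶ B'} {g' : B' ⟶ C'} {w' : f' ≫ g' = 0}
    (hS : (ShortComplex.mk f' g' w').ShortExact) {V : X.Modules} (hV : FlatMod.IsFinLocFree V) {A B C : X.Modules}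
    (eA : (DCoh.tensorBi.obj V).obj A' ≅ A) (eB : (DCoh.tensorBi.obj V).obj B' ≅ B)
    (eC : (DCoh.tensorBi.obj V).obj C' ≅ C) :
    ∃ (f : A ⟶ B) (g : B ⟶ C) (w : f ≫ g = 0), (ShortComplex.mk f g w).ShortExact :=
  exists_ses (shortExact_tens hV hS) eA eB eC

theorem isInvertible_iff_rank {L : X.Modules} : PicF.IsInvertible L ↔ FlatMod.IsFinLocFreeOfRank 1 L := by
  constructor
  · intro h x
    obtain ⟨U, hx, ⟨e⟩⟩ := h x
    exact ⟨U, hx, ⟨e ≪≫ (coproductUniqueIso fun _ : Fin 1 => Coh.structureModule (U : Scheme.{u})).symm⟩⟩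
  · intro h x
    obtain ⟨U, hx, ⟨e⟩⟩ := h x
    exact ⟨U, hx, ⟨e ≪≫ coproductUniqueIso fun _ : Fin 1 => Coh.structureModule (U : Scheme.{u})⟩⟩

/-- The top exterior power is a line bundle. -/
theorem rank_top {M : X.Modules} {n : ℕ} (hM : FlatMod.IsFinLocFreeOfRank n M) :
    FlatMod.IsFinLocFreeOfRank 1 (ExtBase.L M n) := by
  refine KvbModel.rank_of_frameAt fun x => ?_
  obtain ⟨U, s, hx, hs⟩ := KvbModel.frameAt_of_rank hM x
  have h1 : Fintype.card (Set.powersetCard (Fin n) n) = 1 := by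
    rw [← Nat.card_eq_fintype_card, Set.powersetCard.card, Nat.card_eq_fintype_card, Fintype.card_fin, Nat.choose_self]
  exact h1 ▸ ⟨U, _, hx, ExtSh.isFrame_wFrame hs⟩

/-- The determinant of an extension by a line. -/
theorem det_ext {S : ShortComplex X.Modules} (hS : S.ShortExact) {n : ℕ}
    (h₁ : FlatMod.IsFinLocFreeOfRank n S.X₁) (h₃ : FlatMod.IsFinLocFreeOfRank 1 S.X₃) :
    Nonempty (CohB1.tensorMod (ExtBase.L S.X₁ n) S.X₃ ≅ ExtBase.L S.X₂ (n + 1)) := by
  have l₁ := KvbModel.lf_of_rank h₁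
  have l₃ := KvbModel.lf_of_rank h₃
  have hg := ExtFil.exists_good hS l₁ l₃
  have hT : ∀ i j, 2 ≤ j → IsZero (DCoh.shP.obj (ExtFil.TP S i j)) := fun i j hj => by
    obtain ⟨e⟩ := ExtFil.nonempty_tensor_iso (S := S) i j
    exact ((DCoh.tensorBi.obj (ExtBase.L S.X₁ i)).map_isZero (KvbModel.isZero_L h₃ hj)).of_iso e
  have hC : ∀ (i j : ℕ) (h : i + j = n + 1), 1 ≤ j → IsZero (ExtFil.C (S := S) (n + 1) i j h) := by
    intro i
    induction i with
    | zero =>
      intro j h _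
      obtain rfl : j = n + 1 := by omega
      haveI := ExtFil.epi_a_zero (S := S) (n + 1)
      exact isZero_cokernel_of_epi (ExtFil.a S (Nat.zero_add (n + 1)))
    | succ i ih =>
      intro j h' hj
      have h : i + (j + 1) = n + 1 := by omega
      obtain ⟨θ, q, w, hse⟩ := ExtFil.step hg h h'
      refine (IsZero.iff_id_eq_zero _).2 ?_
      haveI := hse.epi_g
      haveI : Mono q := hse.exact.mono_g ((hT i (j + 1) (by omega)).eq_of_src _ _)
      exact (IsZero.iff_id_eq_zero _).1 ((ih (j + 1) h (by omega)).of_iso (@asIso _ _ _ _ q (isIso_of_mono_of_epi q)))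
  obtain ⟨θ, q, w, hse⟩ := ExtFil.step (i := n) (j := 0) hg (n := n + 1) rfl rfl
  obtain ⟨θ', w', hse'⟩ := ExtFil.last hg (n := n + 1) rfl
  haveI := hse.mono_f
  haveI : Epi θ := hse.exact.epi_f ((hC n 1 rfl le_rfl).eq_of_tgt _ _)
  haveI := isIso_of_mono_of_epi θ
  have hz : IsZero (DCoh.shP.obj (ExtFil.TP S (n + 1) 0)) := by
    obtain ⟨e⟩ := ExtFil.nonempty_tensor_iso (S := S) (n + 1) 0
    exact ((DCoh.tensorBi.map_isZero (KvbModel.isZero_L h₁ (Nat.lt_succ_self n))).obj _).of_iso e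
  haveI : Mono (cokernel.π (ExtFil.a S (show n + 1 + 0 = n + 1 from rfl))) :=
    hse'.exact.mono_g (hz.eq_of_src _ _)
  haveI : IsIso (cokernel.π (ExtFil.a S (show n + 1 + 0 = n + 1 from rfl))) := isIso_of_mono_of_epi _
  obtain ⟨e⟩ := ExtFil.nonempty_tensor_iso (S := S) n 1
  obtain ⟨e₁⟩ := ExtSh.nonempty_iso_L l₃ (KvbLam.isExtPow_one S.X₃)
  exact ⟨(DCoh.tensorBi.obj (ExtBase.L S.X₁ n)).mapIso e₁.symm ≪≫ e.symm ≪≫ asIso θ ≪≫
    (asIso (cokernel.π (ExtFil.a S (show n + 1 + 0 = n + 1 from rfl)))).symm⟩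

/-- The coresolution of `A` cut out by an extension by a line. -/
theorem exists_line_ses {S : ShortComplex X.Modules} (hS : S.ShortExact) (l₁ : FlatMod.IsFinLocFree S.X₁)
    (l₃ : FlatMod.IsFinLocFree S.X₃) (n : ℕ) {Li : X.Modules} (hLi : FlatMod.IsFinLocFree Li) {A B : X.Modules}
    (eA : CohB1.tensorMod Li (ExtBase.L S.X₁ n) ≅ A) (eB : CohB1.tensorMod Li (ExtBase.L S.X₂ n) ≅ B) :
    ∃ (Q : X.Modules) (f : A ⟶ B) (g : B ⟶ Q) (w : f ≫ g = 0),
      FlatMod.IsFinLocFree Q ∧ (ShortComplex.mk f g w).ShortExact := by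
  obtain ⟨θ, w, hse⟩ := ExtFil.last (ExtFil.exists_good hS l₁ l₃) (n := n) rfl
  obtain ⟨e⟩ := ExtFil.nonempty_tensor_iso (S := S) n 0
  obtain ⟨e₀⟩ := ExtSh.nonempty_iso_L l₃ (KvbLam.isExtPow_zero S.X₃)
  obtain ⟨e₀'⟩ := H23.PicMul.unit (ExtBase.L S.X₁ n)
  have hC := (ExtFil.cl_C hS l₁ l₃ (n := n) n 0 rfl).1
  let e₁ := e ≪≫ (DCoh.tensorBi.obj (ExtBase.L S.X₁ n)).mapIso e₀ ≪≫ e₀'
  obtain ⟨f, g, w', h⟩ := exists_tens_ses hse hLi ((DCoh.tensorBi.obj Li).mapIso e₁ ≪≫ eA) eB (Iso.refl _)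
  exact ⟨_, f, g, w', KFlatLib.isFinLocFree_tensor hLi hC, h⟩

set_option maxHeartbeats 1600000 in
/-- The standard coresolution of the structure module: the middle term is a twisted inverse image. -/
theorem exists_cores {T : Scheme.{u}} (π : X ⟶ T) {E : T.Modules} {O1 : X.Modules} {n : ℕ}
    (hE : FlatMod.IsFinLocFreeOfRank (n + 1) E) (h1 : FlatMod.IsFinLocFreeOfRank 1 O1)
    (q : (Scheme.Modules.pullback π).obj E ⟶ O1) [Epi q] :
    ∃ (G : T.Modules) (Q : X.Modules) (f : Coh.structureModule X ⟶ CohB1.tensorMod O1 ((Scheme.Modules.pullback π).obj G))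
      (g : CohB1.tensorMod O1 ((Scheme.Modules.pullback π).obj G) ⟶ Q) (w : f ≫ g = 0),
      FlatMod.IsFinLocFree G ∧ FlatMod.IsFinLocFree Q ∧ (ShortComplex.mk f g w).ShortExact := by
  have lE := KvbModel.lf_of_rank hE
  have l1 := KvbModel.lf_of_rank h1
  let S : ShortComplex X.Modules := ShortComplex.mk (kernel.ι q) q (kernel.condition q)
  have hS : S.ShortExact := KZ.kerSeq_shortExact q
  have lπ : FlatMod.IsFinLocFree S.X₂ := KvbPull.lf_pull π lE
  have lK : FlatMod.IsFinLocFree S.X₁ := KFlatLib.isFinLocFree_kernel q lπ l1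
  have hrπ : ∀ x, KvbModel.FrameAt S.X₂ (n + 1) x := fun x =>
    KvbModel.frameAt_of_rank (LineTwist.rank_pull π hE) x
  have hK : FlatMod.IsFinLocFreeOfRank n S.X₁ := KvbModel.rank_of_frameAt fun x => by
    obtain ⟨r, hr⟩ := KvbModel.exists_frameAt lK x
    have := KvbModel.frameAt_unique (hrπ x) (KvbModel.frameAt_ses hS hr (KvbModel.frameAt_of_rank h1 x))
    obtain rfl : r = n := by omega
    exact hr
  -- the line `det E` and its inverse
  have hD : PicF.IsInvertible (ExtBase.L E (n + 1)) := isInvertible_iff_rank.2 (rank_top hE)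
  obtain ⟨Di, hDi, hDD⟩ := H23.PicInv.exists_inverse hD
  have lDi : FlatMod.IsFinLocFree Di := KvbModel.lf_of_rank (isInvertible_iff_rank.1 hDi)
  have hdet : PicF.cl (ExtBase.L S.X₁ n) * PicF.cl O1 =
      PicF.cl ((Scheme.Modules.pullback π).obj (ExtBase.L E (n + 1))) := by
    rw [← cl_tensor]
    obtain ⟨e⟩ := det_ext hS hK h1
    obtain ⟨e'⟩ := ExtPull.nonempty_pullback_L (f := π) (M := E) (m := n + 1) lE
    exact cl_eq_iff.2 ⟨e ≪≫ e'.symm⟩
  let Li := CohB1.tensorMod O1 ((Scheme.Modules.pullback π).obj Di)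
  have lLi : FlatMod.IsFinLocFree Li := KFlatLib.isFinLocFree_tensor l1 (KvbPull.lf_pull π lDi)
  have hunit : PicF.cl (CohB1.tensorMod Li (ExtBase.L S.X₁ n)) = 1 := by
    have hpp : PicF.cl ((Scheme.Modules.pullback π).obj (ExtBase.L E (n + 1))) *
        PicF.cl ((Scheme.Modules.pullback π).obj Di) = 1 := by
      rw [← cl_tensor]
      obtain ⟨e⟩ := hDD
      obtain ⟨e'⟩ := H23.PicMul.pull π (ExtBase.L E (n + 1)) Di
      obtain ⟨e''⟩ := PicClLib.nonempty_pullback_structureModule π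
      exact cl_eq_iff.2 ⟨e'.symm ≪≫ (Scheme.Modules.pullback π).mapIso e ≪≫ e''⟩
    rw [cl_tensor, cl_tensor, ← hpp, ← hdet, mul_comm (PicF.cl (ExtBase.L S.X₁ n)) (PicF.cl O1), mul_right_comm]
  -- the sequence
  obtain ⟨eO⟩ : Nonempty (CohB1.tensorMod Li (ExtBase.L S.X₁ n) ≅ Coh.structureModule X) :=
    cl_eq_iff.1 (hunit.trans one_def)
  obtain ⟨eM⟩ : Nonempty (CohB1.tensorMod Li (ExtBase.L S.X₂ n) ≅
      CohB1.tensorMod O1 ((Scheme.Modules.pullback π).obj (CohB1.tensorMod Di (ExtBase.L E n)))) := by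
    obtain ⟨e⟩ := ExtPull.nonempty_pullback_L (f := π) (M := E) (m := n) lE
    obtain ⟨e'⟩ := H23.PicMul.pull π Di (ExtBase.L E n)
    refine cl_eq_iff.1 ?_
    rw [cl_tensor, cl_tensor, cl_tensor, cl_eq_iff.2 ⟨e'⟩, cl_tensor, cl_eq_iff.2 ⟨e⟩, mul_assoc]
  obtain ⟨Q, f, g, w', hQ, h⟩ := exists_line_ses (S := S) (Li := Li) hS lK l1 n lLi eO eM
  have lG : FlatMod.IsFinLocFree (CohB1.tensorMod Di (ExtBase.L E n)) :=
    KFlatLib.isFinLocFree_tensor (M := Di) (N := ExtBase.L E n) lDi (ExtSh.isFinLocFree_L n lE)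
  exact ⟨CohB1.tensorMod Di (ExtBase.L E n), Q, f, g, w', lG, hQ, h⟩

end Groth.Agent.H28.PBCores
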