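import Mathlib.LinearAlgebra.ExteriorPower.Basis
import Mathlib.LinearAlgebra.TensorProduct.Basis
import Mathlib.LinearAlgebra.StdBasis
import Mathlib.Data.Nat.Choose.Vandermonde
import Mathlib.LinearAlgebra.ExteriorAlgebra.Grading
import Mathlib.RingTheory.OrzechProperty
import Mathlib.RingTheory.FiniteType

/-!
# The filtration of the exterior powers of an extension of modules
-/

set_option autoImplicit false
set_option linter.unusedSectionVars false

universe u

open scoped TensorProduct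
open Submodule

noncomputable section

namespace Groth.Agent.H28.ExtAlg

variable {R : Type u} [CommRing R] {M M' M'' : Type u} [AddCommGroup M] [Module R M] [AddCommGroup M'] [Module R M']
  [AddCommGroup M''] [Module R M'']

/-- Multiplication of exterior powers. -/
def mul {i j n : ℕ} (h : i + j = n) : ↥(⋀[R]^i M) →ₗ[R] ↥(⋀[R]^j M) →ₗ[R] ↥(⋀[R]^n M) :=
  LinearMap.mk₂ R (fun x y => ⟨x.1 * y.1, h ▸ SetLike.mul_mem_graded (A := fun k : ℕ => ⋀[R]^k M) x.2 y.2⟩)
    (fun _ _ _ => Subtype.ext (add_mul _ _ _)) (fun _ _ _ => Subtype.ext (smul_mul_assoc _ _ _))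
    (fun _ _ _ => Subtype.ext (mul_add _ _ _)) fun _ _ _ => Subtype.ext (mul_smul_comm _ _ _)

theorem coe_mul {i j n : ℕ} (h : i + j = n) (x : ↥(⋀[R]^i M)) (y : ↥(⋀[R]^j M)) :
    (mul h x y : ExteriorAlgebra R M) = x.1 * y.1 := rfl

variable (f : M' →ₗ[R] M) (p : M →ₗ[R] M'') (σ : M'' →ₗ[R] M)

/-- `Λ^i M' ⊗ Λ^j M → Λ^n M`. -/
def A {i j n : ℕ} (h : i + j = n) : ↥(⋀[R]^i M') ⊗[R] ↥(⋀[R]^j M) →ₗ[R] ↥(⋀[R]^n M) :=
  TensorProduct.lift ((mul h).comp (exteriorPower.map i f))

/-- The projection to `Λ^i M' ⊗ Λ^j M''`. -/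
def pr (i j : ℕ) : ↥(⋀[R]^i M') ⊗[R] ↥(⋀[R]^j M) →ₗ[R] ↥(⋀[R]^i M') ⊗[R] ↥(⋀[R]^j M'') :=
  LinearMap.lTensor _ (exteriorPower.map j p)

/-- `Λ^i M' ⊗ Λ^j M'' → Λ^n M` attached to a splitting. -/
def Θ {i j n : ℕ} (h : i + j = n) : ↥(⋀[R]^i M') ⊗[R] ↥(⋀[R]^j M'') →ₗ[R] ↥(⋀[R]^n M) :=
  (A f h).comp (LinearMap.lTensor _ (exteriorPower.map j σ))

variable {p σ}

theorem coe_A {i j n : ℕ} (h : i + j = n) (a : Fin i → M') (b : Fin j → M) :
    (A f h (exteriorPower.ιMulti R i a ⊗ₜ[R] exteriorPower.ιMulti R j b) : ExteriorAlgebra R M) =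
      ExteriorAlgebra.ιMulti R i (f ∘ a) * ExteriorAlgebra.ιMulti R j b := by
  rw [A, TensorProduct.lift.tmul, LinearMap.comp_apply, coe_mul, exteriorPower.map_apply_ιMulti]
  rfl

theorem tensor_ext {i j : ℕ} {P : Type u} [AddCommGroup P] [Module R P]
    {φ ψ : ↥(⋀[R]^i M') ⊗[R] ↥(⋀[R]^j M) →ₗ[R] P}
    (h : ∀ (a : Fin i → M') (b : Fin j → M),
      φ (exteriorPower.ιMulti R i a ⊗ₜ[R] exteriorPower.ιMulti R j b) =
        ψ (exteriorPower.ιMulti R i a ⊗ₜ[R] exteriorPower.ιMulti R j b)) : φ = ψ := by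
  refine TensorProduct.ext (exteriorPower.linearMap_ext (AlternatingMap.ext fun a => ?_))
  exact exteriorPower.linearMap_ext (AlternatingMap.ext fun b => h a b)

theorem ιMulti_cons {j : ℕ} (s : M) (b : Fin j → M) :
    ExteriorAlgebra.ιMulti R (j + 1) (Fin.cons s b) = ExteriorAlgebra.ι R s * ExteriorAlgebra.ιMulti R j b := by
  rw [ExteriorAlgebra.ιMulti_succ_apply, Fin.cons_zero]
  rfl

theorem ιMulti_snoc {i : ℕ} (a : Fin i → M) (w : M) :
    ExteriorAlgebra.ιMulti R (i + 1) (Fin.snoc a w) = ExteriorAlgebra.ιMulti R i a * ExteriorAlgebra.ι R w := by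
  rw [ExteriorAlgebra.ιMulti_apply, ExteriorAlgebra.ιMulti_apply, List.ofFn_succ']
  simp

theorem diff_mem (hps : ∀ x, p (σ x) = x) (hker : ∀ x, p x = 0 → x ∈ LinearMap.range f) :
    ∀ (j : ℕ) (b : Fin (j + 1) → M),
      ExteriorAlgebra.ιMulti R (j + 1) b - ExteriorAlgebra.ιMulti R (j + 1) (fun k => σ (p (b k))) ∈
        span R (Set.range fun q : M' × (Fin j → M) =>
          ExteriorAlgebra.ι R (f q.1) * ExteriorAlgebra.ιMulti R j q.2) := by
  have hw : ∀ x, ∃ w, x = σ (p x) + f w := fun x => by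
    obtain ⟨w, hw⟩ := hker (x - σ (p x)) (by rw [map_sub, hps, sub_self])
    exact ⟨w, by rw [hw, add_sub_cancel]⟩
  intro j
  induction j with
  | zero =>
    intro b
    obtain ⟨w, hw⟩ := hw (b 0)
    refine subset_span ⟨(w, Fin.elim0), ?_⟩
    simp only [ExteriorAlgebra.ιMulti_succ_apply, ExteriorAlgebra.ιMulti_zero_apply, mul_one]
    rw [← map_sub]
    exact congrArg _ (eq_sub_of_add_eq' hw.symm)
  | succ j ih =>
    intro b
    obtain ⟨w, hw⟩ := hw (b 0)
    have hs : ExteriorAlgebra.ιMulti R (j + 1 + 1) b -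
        ExteriorAlgebra.ιMulti R (j + 1 + 1) (fun k => σ (p (b k))) =
        ExteriorAlgebra.ι R (f w) * ExteriorAlgebra.ιMulti R (j + 1) (Fin.tail b) +
          ExteriorAlgebra.ι R (σ (p (b 0))) * (ExteriorAlgebra.ιMulti R (j + 1) (Fin.tail b) -
            ExteriorAlgebra.ιMulti R (j + 1) (fun k => σ (p (Fin.tail b k)))) := by
      rw [← Fin.cons_self_tail b, ← Fin.cons_self_tail (fun k => σ (p ((Fin.cons (b 0) (Fin.tail b) : _ → M) k))),
        ιMulti_cons, ιMulti_cons]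
      show ExteriorAlgebra.ι R (b 0) * ExteriorAlgebra.ιMulti R (j + 1) (Fin.tail b) -
          ExteriorAlgebra.ι R (σ (p (b 0))) * ExteriorAlgebra.ιMulti R (j + 1) (fun k => σ (p (Fin.tail b k))) = _
      simp only [Fin.cons_self_tail]
      rw [mul_sub, add_sub, ← add_mul, ← map_add, add_comm (f w), ← hw]
    rw [hs]
    refine add_mem (subset_span ⟨(w, Fin.tail b), rfl⟩) ?_
    suffices ∀ z ∈ span R (Set.range fun q : M' × (Fin j → M) =>
        ExteriorAlgebra.ι R (f q.1) * ExteriorAlgebra.ιMulti R j q.2),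
        ExteriorAlgebra.ι R (σ (p (b 0))) * z ∈ span R (Set.range fun q : M' × (Fin (j + 1) → M) =>
          ExteriorAlgebra.ι R (f q.1) * ExteriorAlgebra.ιMulti R (j + 1) q.2) from this _ (ih (Fin.tail b))
    intro z hz
    induction hz using span_induction with
    | mem y hy =>
      obtain ⟨⟨v, c⟩, rfl⟩ := hy
      have h1 : ExteriorAlgebra.ι R (σ (p (b 0))) * (ExteriorAlgebra.ι R (f v) * ExteriorAlgebra.ιMulti R j c) =
          -(ExteriorAlgebra.ι R (f v) * ExteriorAlgebra.ιMulti R (j + 1) (Fin.cons (σ (p (b 0))) c)) := by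
        rw [ιMulti_cons, ← mul_assoc, ← mul_assoc, ← neg_mul,
          eq_neg_of_add_eq_zero_left (ExteriorAlgebra.ι_add_mul_swap (σ (p (b 0))) (f v))]
      rw [h1]
      exact neg_mem (subset_span ⟨(v, Fin.cons (σ (p (b 0))) c), rfl⟩)
    | zero => simp
    | add y y' _ _ h h' => rw [mul_add]; exact add_mem h h'
    | smul r y _ h => rw [mul_smul_comm]; exact smul_mem _ r h

theorem A_sub_Θ (hps : ∀ x, p (σ x) = x) (hker : ∀ x, p x = 0 → x ∈ LinearMap.range f) {i j n : ℕ}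
    (h : i + (j + 1) = n) (h' : i + 1 + j = n) (x : ↥(⋀[R]^i M') ⊗[R] ↥(⋀[R]^(j + 1) M)) :
    A f h x - Θ f σ h (pr p i (j + 1) x) ∈ LinearMap.range (A f h') := by
  have h0 : (LinearMap.range (A f h')).mkQ.comp (A f h - (Θ f σ h).comp (pr p i (j + 1))) = 0 := by
    refine tensor_ext fun a b => ?_
    rw [LinearMap.comp_apply, LinearMap.zero_apply, Submodule.mkQ_apply, Submodule.Quotient.mk_eq_zero,
      LinearMap.sub_apply, LinearMap.comp_apply]
    have key : ∀ z ∈ span R (Set.range fun q : M' × (Fin j → M) =>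
        ExteriorAlgebra.ι R (f q.1) * ExteriorAlgebra.ιMulti R j q.2),
        ExteriorAlgebra.ιMulti R i (f ∘ a) * z ∈ (LinearMap.range (A f h')).map (Submodule.subtype _) := by
      intro z hz
      induction hz using span_induction with
      | mem y hy =>
        obtain ⟨⟨v, c⟩, rfl⟩ := hy
        refine ⟨A f h' (exteriorPower.ιMulti R (i + 1) (Fin.snoc a v) ⊗ₜ[R] exteriorPower.ιMulti R j c), ⟨_, rfl⟩, ?_⟩
        rw [Submodule.coe_subtype, coe_A, Fin.comp_snoc, ιMulti_snoc, mul_assoc]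
      | zero => simp
      | add y y' _ _ h h' => rw [mul_add]; exact add_mem h h'
      | smul r y _ h => rw [mul_smul_comm]; exact smul_mem _ r h
    obtain ⟨y, hy, hye⟩ := key _ (diff_mem f hps hker j b)
    rw [SetLike.mem_coe] at hy
    convert hy using 1
    symm
    refine Subtype.ext ?_
    rw [Submodule.coe_subtype] at hye
    rw [hye, mul_sub, Submodule.coe_sub]
    simp only [Θ, pr, LinearMap.comp_apply, LinearMap.lTensor_tmul, exteriorPower.map_apply_ιMulti, coe_A]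
    rfl
  exact (Submodule.Quotient.mk_eq_zero _).1 (LinearMap.congr_fun h0 x)

theorem A_eq_Θ (h0 : ∀ (b : Fin 0 → M'') , (fun k => σ (b k)) = Fin.elim0) {i n : ℕ} (h : i + 0 = n)
    (x : ↥(⋀[R]^i M') ⊗[R] ↥(⋀[R]^0 M)) : A f h x = Θ f σ h (pr p i 0 x) := by
  have hh : A f h = (Θ f σ h).comp (pr p i 0) := by
    refine tensor_ext fun a b => ?_
    simp only [Θ, pr, LinearMap.comp_apply, LinearMap.lTensor_tmul, exteriorPower.map_apply_ιMulti]
    rw [Subsingleton.elim (σ ∘ p ∘ b) b]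
  exact LinearMap.congr_fun hh x

theorem range_A_zero {n : ℕ} (h : 0 + n = n) : LinearMap.range (A f h) = ⊤ := by
  refine LinearMap.range_eq_top.2 fun z => ?_
  refine ⟨exteriorPower.ιMulti R 0 (Fin.elim0 : Fin 0 → M') ⊗ₜ[R] z, Subtype.ext ?_⟩
  rw [A, TensorProduct.lift.tmul, LinearMap.comp_apply, coe_mul, exteriorPower.map_apply_ιMulti,
    exteriorPower.ιMulti_apply_coe, ExteriorAlgebra.ιMulti_zero_apply, one_mul]

/-- The source of all the `Θ`. -/
abbrev Tot (R M' M'' : Type u) [CommRing R] [AddCommGroup M'] [Module R M'] [AddCommGroup M''] [Module R M'']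
    (n : ℕ) : Type u :=
  ∀ k : Fin (n + 1), ↥(⋀[R]^(k : ℕ) M') ⊗[R] ↥(⋀[R]^(n - k) M'')

variable (σ) in
/-- The sum of the `Θ`. -/
def tot (n : ℕ) : Tot R M' M'' n →ₗ[R] ↥(⋀[R]^n M) :=
  ∑ k : Fin (n + 1), (Θ f σ (Nat.add_sub_cancel' k.is_le)).comp (LinearMap.proj k)

/-- Tuples supported in degrees at least `i`. -/
def supp (R M' M'' : Type u) [CommRing R] [AddCommGroup M'] [Module R M'] [AddCommGroup M''] [Module R M'']
    (n i : ℕ) : Submodule R (Tot R M' M'' n) :=
  ⨅ k : Fin (n + 1), ⨅ _ : (k : ℕ) < i, LinearMap.ker (LinearMap.proj k)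

theorem single_mem_supp {n i : ℕ} (k : Fin (n + 1)) (hk : i ≤ k) (t : ↥(⋀[R]^(k : ℕ) M') ⊗[R] ↥(⋀[R]^(n - k) M'')) :
    (Pi.single k t : Tot R M' M'' n) ∈ supp R M' M'' n i := by
  simp only [supp, Submodule.mem_iInf, LinearMap.mem_ker, LinearMap.proj_apply]
  intro l hl
  exact Pi.single_eq_of_ne (by rintro rfl; omega) _

theorem tot_single {n : ℕ} (k : Fin (n + 1)) (t : ↥(⋀[R]^(k : ℕ) M') ⊗[R] ↥(⋀[R]^(n - k) M'')) :
    tot f σ n (Pi.single k t) = Θ f σ (Nat.add_sub_cancel' k.is_le) t := by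
  rw [tot, LinearMap.sum_apply, Finset.sum_eq_single k]
  · rw [LinearMap.comp_apply, LinearMap.proj_apply, Pi.single_eq_same]
  · intro l _ hl
    rw [LinearMap.comp_apply, LinearMap.proj_apply, Pi.single_eq_of_ne hl, map_zero]
  · exact fun h => absurd (Finset.mem_univ k) h

theorem range_A_le (hps : ∀ x, p (σ x) = x) (hker : ∀ x, p x = 0 → x ∈ LinearMap.range f) {n : ℕ} :
    ∀ (j i : ℕ) (h : i + j = n), LinearMap.range (A f h) ≤ (supp R M' M'' n i).map (tot f σ n) := by
  intro j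
  induction j with
  | zero =>
    rintro i h _ ⟨x, rfl⟩
    rw [A_eq_Θ (p := p) f (fun b => funext fun k => k.elim0) h x]
    obtain rfl : i = n := by omega
    have key : ∀ (j : ℕ) (hj : i + j = i) (t : ↥(⋀[R]^i M') ⊗[R] ↥(⋀[R]^j M'')),
        Θ f σ hj t ∈ (supp R M' M'' i i).map (tot f σ i) := by
      intro j hj t
      obtain rfl : j = i - i := by omega
      exact ⟨_, single_mem_supp (Fin.last i) le_rfl t, tot_single f (Fin.last i) t⟩
    exact key _ h _
  | succ j ih =>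
    rintro i h _ ⟨x, rfl⟩
    have h' : i + 1 + j = n := by omega
    rw [← sub_add_cancel (A f h x) (Θ f σ h (pr p i (j + 1) x))]
    refine add_mem (Submodule.map_mono ?_ (ih (i + 1) h' (A_sub_Θ f hps hker h h' x))) ?_
    · simp only [supp]
      exact le_iInf fun k => le_iInf fun hk => iInf₂_le k (by omega)
    · have key : ∀ (l : ℕ) (hl : i + l = n) (t : ↥(⋀[R]^i M') ⊗[R] ↥(⋀[R]^l M'')),
          Θ f σ hl t ∈ (supp R M' M'' n i).map (tot f σ n) := by
        intro l hl t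
        obtain rfl : l = n - i := by omega
        exact ⟨_, single_mem_supp ⟨i, by omega⟩ le_rfl t, tot_single f ⟨i, by omega⟩ t⟩
      exact key _ h _

theorem tot_surjective (hps : ∀ x, p (σ x) = x) (hker : ∀ x, p x = 0 → x ∈ LinearMap.range f) (n : ℕ) :
    Function.Surjective (tot f σ n) := fun z => by
  obtain ⟨c, -, hc⟩ := range_A_le f hps hker n 0 (Nat.zero_add n) ((range_A_zero f _).symm ▸ Submodule.mem_top : z ∈ _)
  exact ⟨c, hc⟩

/-- A free split extension. -/
structure Split (p : M →ₗ[R] M'') (σ : M'' →ₗ[R] M) : Prop where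
  sec : ∀ x, p (σ x) = x
  inj : Function.Injective f
  ker : ∀ x, p x = 0 → x ∈ LinearMap.range f
  comp : ∀ w, p (f w) = 0

theorem tot_injective (hs : Split f p σ) {r' r'' : ℕ} (b' : Module.Basis (Fin r') R M')
    (b'' : Module.Basis (Fin r'') R M'') (n : ℕ) : Function.Injective (tot f σ n) := by
  classical
  let e : (M' × M'') ≃ₗ[R] M := LinearEquiv.ofBijective (f.coprod σ) ⟨by
    rw [injective_iff_map_eq_zero]
    rintro ⟨a, c⟩ h
    rw [LinearMap.coprod_apply] at h
    have hc : c = 0 := by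
      have := congrArg p h
      rwa [map_add, hs.comp, hs.sec, zero_add, map_zero] at this
    subst hc
    rw [map_zero, add_zero] at h
    exact Prod.ext (hs.inj (h.trans (map_zero f).symm)) rfl, fun x => by
    obtain ⟨w, hw⟩ := hs.ker (x - σ (p x)) (by rw [map_sub, hs.sec, sub_self])
    exact ⟨(w, p x), by rw [LinearMap.coprod_apply, hw, sub_add_cancel]⟩⟩
  let b : Module.Basis (Fin (r' + r'')) R M := ((b'.prod b'').map e).reindex finSumFinEquiv
  let B : Module.Basis (Σ k : Fin (n + 1), Set.powersetCard (Fin r') (k : ℕ) × Set.powersetCard (Fin r'') (n - k)) R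
      (Tot R M' M'' n) :=
    Pi.basis fun k => (b'.exteriorPower (k : ℕ)).tensorProduct (b''.exteriorPower (n - k))
  have hcard : Nat.card (Σ k : Fin (n + 1), Set.powersetCard (Fin r') (k : ℕ) × Set.powersetCard (Fin r'') (n - k)) =
      Nat.card (Set.powersetCard (Fin (r' + r'')) n) := by
    rw [Nat.card_sigma, Set.powersetCard.card, Nat.card_fin, Nat.add_choose_eq,
      Finset.Nat.sum_antidiagonal_eq_sum_range_succ (fun a c => r'.choose a * r''.choose c),
      ← Fin.sum_univ_eq_sum_range (fun a => r'.choose a * r''.choose (n - a))]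
    refine Finset.sum_congr rfl fun k _ => ?_
    rw [Nat.card_prod, Set.powersetCard.card, Set.powersetCard.card, Nat.card_fin, Nat.card_fin]
  let q := B.equiv (b.exteriorPower n) (Finite.equivFinOfCardEq rfl |>.trans
    ((finCongr hcard).trans (Finite.equivFinOfCardEq rfl).symm))
  haveI : Module.Finite R (Tot R M' M'' n) := Module.Finite.of_basis B
  have hinj := OrzechProperty.injective_of_surjective_endomorphism ((q.symm : _ →ₗ[R] _).comp (tot f σ n))
    (q.symm.surjective.comp (tot_surjective f hs.sec hs.ker n))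
  exact Function.Injective.of_comp (f := (q.symm : ↥(⋀[R]^n M) → Tot R M' M'' n)) hinj

theorem pr_eq_zero_of_A_mem (hs : Split f p σ) {r' r'' : ℕ} (b' : Module.Basis (Fin r') R M')
    (b'' : Module.Basis (Fin r'') R M'') {i j n : ℕ} (h : i + j = n)
    (x : ↥(⋀[R]^i M') ⊗[R] ↥(⋀[R]^j M)) (hx : A f h x ∈ (supp R M' M'' n (i + 1)).map (tot f σ n)) :
    pr p i j x = 0 := by
  have hmem : Θ f σ h (pr p i j x) ∈ (supp R M' M'' n (i + 1)).map (tot f σ n) := by
    cases j with
    | zero => rwa [← A_eq_Θ (p := p) f (fun b => funext fun k => k.elim0) h x]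
    | succ j =>
      have h' : i + 1 + j = n := by omega
      rw [← sub_sub_cancel (A f h x) (Θ f σ h (pr p i (j + 1) x))]
      exact sub_mem hx (range_A_le f hs.sec hs.ker j (i + 1) h' (A_sub_Θ f hs.sec hs.ker h h' x))
  have key : ∀ (l : ℕ) (hl : i + l = n) (t : ↥(⋀[R]^i M') ⊗[R] ↥(⋀[R]^l M'')),
      Θ f σ hl t ∈ (supp R M' M'' n (i + 1)).map (tot f σ n) → t = 0 := by
    intro l hl t ht
    obtain rfl : l = n - i := by omega
    obtain ⟨c, hc, hce⟩ := ht
    rw [← tot_single f ⟨i, by omega⟩ t] at hce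
    obtain rfl := tot_injective f hs b' b'' n hce
    simp only [supp, SetLike.mem_coe, Submodule.mem_iInf, LinearMap.mem_ker, LinearMap.proj_apply] at hc
    simpa using hc ⟨i, by omega⟩ (Nat.lt_succ_self i)
  exact key _ h _ hmem

theorem supp_top {n : ℕ} : supp R M' M'' n (n + 1) = ⊥ := by
  refine eq_bot_iff.2 fun c hc => ?_
  simp only [supp, Submodule.mem_iInf, LinearMap.mem_ker, LinearMap.proj_apply] at hc
  exact funext fun k => hc k k.2

/-- `Λ^i M' ⊗ Λ^{j+1} M → Λ^n M` kills the kernel of the projection modulo the next step. -/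
theorem A_mem_of_pr_eq_zero (hs : Split f p σ) {i j n : ℕ} (h : i + (j + 1) = n) (h' : i + 1 + j = n)
    (x : ↥(⋀[R]^i M') ⊗[R] ↥(⋀[R]^(j + 1) M)) (hx : pr p i (j + 1) x = 0) :
    A f h x ∈ LinearMap.range (A f h') := by
  simpa [hx] using A_sub_Θ f hs.sec hs.ker h h' x

theorem A_eq_zero_of_pr_eq_zero (hs : Split f p σ) {i n : ℕ} (h : i + 0 = n)
    (x : ↥(⋀[R]^i M') ⊗[R] ↥(⋀[R]^0 M)) (hx : pr p i 0 x = 0) : A f h x = 0 := by
  rw [A_eq_Θ (p := p) f (σ := σ) (fun b => funext fun k => k.elim0) h x, hx, map_zero]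

theorem pr_surjective (hps : ∀ x, p (σ x) = x) (i j : ℕ) : Function.Surjective (pr (M' := M') p i j) := fun t => by
  refine ⟨LinearMap.lTensor _ (exteriorPower.map j σ) t, ?_⟩
  rw [pr, ← LinearMap.comp_apply, ← LinearMap.lTensor_comp, ← exteriorPower.map_comp,
    show p ∘ₗ σ = LinearMap.id from LinearMap.ext hps, exteriorPower.map_id, LinearMap.lTensor_id, LinearMap.id_apply]

/-- The head of the filtration step. -/
theorem coe_A_snoc {i j n : ℕ} (h : i + (j + 1) = n) (h' : i + 1 + j = n) (c : Fin (i + 1) → M') (b : Fin j → M) :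
    A f h' (exteriorPower.ιMulti R (i + 1) c ⊗ₜ[R] exteriorPower.ιMulti R j b) =
      A f h (exteriorPower.ιMulti R i (Fin.init c) ⊗ₜ[R]
        exteriorPower.ιMulti R (j + 1) (Fin.cons (f (c (Fin.last i))) b)) := by
  refine Subtype.ext ?_
  rw [coe_A, coe_A, ιMulti_cons, ← mul_assoc, ← ιMulti_snoc]
  exact congrArg (fun g => ExteriorAlgebra.ιMulti R (i + 1) g * _)
    ((Fin.snoc_init_self (f ∘ c)).symm.trans (by rfl))

end Groth.Agent.H28.ExtAlg
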