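import Groth.Agent.H28.ExtSh
import Groth.Agent.H28.ExtAlg
import Groth.Agent.QCoh.CokerQC
import Groth.Agent.Lib.BasisHom
import Groth.Agent.KZ.Basic
import Groth.Agent.KFlatLib.Scheme.TensorAssoc
import Groth.Agent.KFlatLib.Perfect.Tensor

/-!
# The classes of the exterior powers of an extension of bundles
-/

set_option autoImplicit false
set_option linter.style.haveILetI false
set_option linter.unusedSectionVars false
set_option backward.isDefEq.respectTransparency false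
set_option backward.isDefEq.respectTransparency.types false
set_option maxHeartbeats 1000000

universe v w u

open CategoryTheory CategoryTheory.Limits AlgebraicGeometry TopologicalSpace Opposite MonoidalCategory
open Groth.Agent.AModX Groth.Agent.H28.ExtBase
open scoped TensorProduct

noncomputable section

namespace Groth.Agent.H28.ExtFil

open Groth.Agent

/-- A step of a filtration, as cokernels. -/
theorem step_exact {C : Type w} [Category.{v} C] [Abelian C] {R R' T L : C} (a : R ⟶ L) (a' : R' ⟶ L) (π : R ⟶ T)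
    [Epi π] (h : a' ≫ cokernel.π a = 0) (hk : kernel.ι π ≫ a ≫ cokernel.π a' = 0)
    (hk' : kernel.ι (a ≫ cokernel.π a') ≫ π = 0) :
    ∃ (θ : T ⟶ cokernel a') (q : cokernel a' ⟶ cokernel a) (w : θ ≫ q = 0),
      (ShortComplex.mk θ q w).ShortExact := by
  let θ : T ⟶ cokernel a' := Abelian.epiDesc π (a ≫ cokernel.π a') hk
  have hθ : π ≫ θ = a ≫ cokernel.π a' := Abelian.comp_epiDesc _ _ _
  let q : cokernel a' ⟶ cokernel a := cokernel.desc a' (cokernel.π a) h
  have hq : cokernel.π a' ≫ q = cokernel.π a := cokernel.π_desc _ _ _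
  have w : θ ≫ q = 0 := by
    rw [← cancel_epi π, reassoc_of% hθ, hq, cokernel.condition, comp_zero]
  haveI : Mono θ := by
    refine Preadditive.mono_of_cancel_zero _ fun {Z} g hg => ?_
    obtain ⟨A, ρ, hρ, y, hy⟩ := surjective_up_to_refinements_of_epi π g
    have h0 : y ≫ a ≫ cokernel.π a' = 0 := by
      rw [← hθ, ← Category.assoc, ← hy, Category.assoc, hg, comp_zero]
    have h1 : y ≫ π = 0 := by
      rw [← kernel.lift_ι (a ≫ cokernel.π a') y h0, Category.assoc, hk', comp_zero]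
    exact (cancel_epi ρ).1 (by rw [hy, h1, comp_zero])
  haveI : Epi (cokernel.π a' ≫ q) := hq ▸ inferInstance
  haveI : Epi q := epi_of_epi (cokernel.π a') q
  refine ⟨θ, q, w, ⟨ShortComplex.exact_of_g_is_cokernel _ (Cofork.IsColimit.mk' _ fun s => ?_)⟩⟩
  have hs : θ ≫ s.π = 0 := by simpa using s.condition
  have h2 : a ≫ cokernel.π a' ≫ s.π = 0 := by rw [← reassoc_of% hθ, hs, comp_zero]
  refine ⟨cokernel.desc a (cokernel.π a' ≫ s.π) h2, ?_, fun {m} hm => ?_⟩
  · show q ≫ _ = _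
    rw [← cancel_epi (cokernel.π a'), reassoc_of% hq, cokernel.π_desc]
  · rw [← cancel_epi (cokernel.π a), cokernel.π_desc, ← hq, Category.assoc]
    exact congrArg _ hm

variable {X : Scheme.{u}}

/-- The maps on sections. -/
def appL {A B : X.Modules} (φ : A ⟶ B) (V : X.Opens) :
    A.val.obj (op V) →ₗ[Γ(X, V)] B.val.obj (op V) :=
  { toFun := fun x => φ.app V x
    map_add' := fun x y => map_add _ x y
    map_smul' := fun c x => Scheme.Modules.Hom.app_smul φ c x }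

theorem appL_res {A B : X.Modules} (φ : A ⟶ B) {V W : X.Opens} (i : W ≤ V) (x : Γ(A, V)) :
    appL φ W (res A i x) = res B i (appL φ V x) :=
  app_res φ i x

/-- The maps of exterior power presheaves. -/
def pMap {A B : X.Modules} (φ : A ⟶ B) (m : ℕ) : P A m ⟶ P B m :=
  PresheafOfModules.homMk
    { app := fun V => AddCommGrpCat.ofHom (exteriorPower.map m (appL φ V.unop)).toAddMonoidHom
      naturality := fun V V' g => AddCommGrpCat.hom_ext (ext_of_wedge A m fun c e => by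
        show exteriorPower.map m (appL φ V'.unop) (resExt A m g.unop.le (c • wedge A m e)) =
          resExt B m g.unop.le (exteriorPower.map m (appL φ V.unop) (c • wedge A m e))
        rw [resExt_smul, resExt_wedge, map_smul, map_smul, exteriorPower.map_apply_ιMulti,
          exteriorPower.map_apply_ιMulti, resExt_smul, resExt_wedge]
        exact congrArg (fun z => resR g.unop.le c • wedge B m z) (funext fun k => appL_res φ _ _)) }
    fun V c x => (exteriorPower.map m (appL φ V.unop)).map_smul c x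

variable (S : ShortComplex X.Modules)

/-- The presheaf `Λ^i E' ⊗ Λ^j E`. -/
def RP (i j : ℕ) : CohB1.PMod X := P S.X₁ i ⊗ P S.X₂ j

/-- The presheaf `Λ^i E' ⊗ Λ^j E''`. -/
def TP (i j : ℕ) : CohB1.PMod X := P S.X₁ i ⊗ P S.X₃ j

/-- The projection. -/
def prP (i j : ℕ) : RP S i j ⟶ TP S i j := 𝟙 (P S.X₁ i) ⊗ₘ pMap S.g j

/-- The sections of the map to `Λ^n E`. -/
def aV {i j n : ℕ} (h : i + j = n) (V : X.Opens) :
    Ext' S.X₁ i V ⊗[Γ(X, V)] Ext' S.X₂ j V →ₗ[Γ(X, V)] Ext' S.X₂ n V :=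
  ExtAlg.A (appL S.f V) h

theorem semilinear_tensor_eq {R R' A B Q A' B' Q' : Type u} [CommRing R] [CommRing R'] [AddCommGroup A] [Module R A]
    [AddCommGroup B] [Module R B] [AddCommGroup Q] [Module R Q] [AddCommGroup A'] [Module R' A'] [AddCommGroup B']
    [Module R' B'] [AddCommGroup Q'] [Module R' Q'] (ρ : R →+* R') (u : A →+ A')
    (hu : ∀ c x, u (c • x) = ρ c • u x) (v : B →+ B') (hv : ∀ c x, v (c • x) = ρ c • v x) (w : Q →+ Q')
    (hw : ∀ c x, w (c • x) = ρ c • w x) (f : A ⊗[R] B →ₗ[R] Q) (f' : A' ⊗[R'] B' →ₗ[R'] Q')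
    {sA : Set A} (hA : Submodule.span R sA = ⊤) {sB : Set B} (hB : Submodule.span R sB = ⊤)
    (h : ∀ a ∈ sA, ∀ b ∈ sB, f' (u a ⊗ₜ[R'] v b) = w (f (a ⊗ₜ[R] b))) (x : A) (y : B) :
    f' (u x ⊗ₜ[R'] v y) = w (f (x ⊗ₜ[R] y)) := by
  have hx : x ∈ Submodule.span R sA := hA ▸ Submodule.mem_top
  induction hx using Submodule.span_induction with
  | mem a ha =>
    have hy : y ∈ Submodule.span R sB := hB ▸ Submodule.mem_top
    induction hy using Submodule.span_induction with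
    | mem b hb => exact h a ha b hb
    | zero => simp
    | add p q _ _ hp hq => simp [TensorProduct.tmul_add, hp, hq]
    | smul c p _ hp => simp [hv, hw, TensorProduct.tmul_smul, hp]
  | zero => simp
  | add p q _ _ hp hq => simp [TensorProduct.add_tmul, hp, hq]
  | smul c p _ hp => simp [hu, hw, ← TensorProduct.smul_tmul', hp]

theorem aV_wedge {i j : ℕ} (U : X.Opens) (a : Fin i → Γ(S.X₁, U)) (b : Fin j → Γ(S.X₂, U)) :
    aV S (rfl : i + j = i + j) U (wedge S.X₁ i a ⊗ₜ[Γ(X, U)] wedge S.X₂ j b) =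
      wedge S.X₂ (i + j) (Fin.append (fun k => appL S.f U (a k)) b) := by
  refine Subtype.ext ((ExtAlg.coe_A _ _ _ _).trans ?_)
  rw [exteriorPower.ιMulti_apply_coe, ExteriorAlgebra.ιMulti_apply, ExteriorAlgebra.ιMulti_apply,
    ExteriorAlgebra.ιMulti_apply, ← List.prod_append, ← List.ofFn_fin_append]
  refine congrArg List.prod (congrArg List.ofFn (funext fun k => ?_))
  refine Fin.addCases (fun p => ?_) (fun p => ?_) k <;> simp

theorem aV_res {i j n : ℕ} (h : i + j = n) {V W : X.Opens} (l : W ≤ V) (x : Ext' S.X₁ i V) (y : Ext' S.X₂ j V) :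
    aV S h W (resExt S.X₁ i l x ⊗ₜ[Γ(X, W)] resExt S.X₂ j l y) =
      resExt S.X₂ n l (aV S h V (x ⊗ₜ[Γ(X, V)] y)) := by
  refine semilinear_tensor_eq (resR l) (resExt S.X₁ i l) (resExt_smul S.X₁ i l) (resExt S.X₂ j l)
    (resExt_smul S.X₂ j l) (resExt S.X₂ n l) (resExt_smul S.X₂ n l) (aV S h V) (aV S h W)
    (exteriorPower.ιMulti_span Γ(X, V) i _) (exteriorPower.ιMulti_span Γ(X, V) j _) ?_ x y
  rintro _ ⟨a, rfl⟩ _ ⟨b, rfl⟩
  subst h
  rw [aV_wedge, resExt_wedge, resExt_wedge, resExt_wedge, aV_wedge]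
  refine congrArg (wedge S.X₂ (i + j)) (funext fun k => ?_)
  refine Fin.addCases (fun p => ?_) (fun p => ?_) k
  · simp only [Fin.append_left]; exact appL_res _ _ _
  · simp only [Fin.append_right]

/-- The map to `Λ^n E`. -/
def aP {i j n : ℕ} (h : i + j = n) : RP S i j ⟶ P S.X₂ n :=
  PresheafOfModules.homMk
    { app := fun V => AddCommGrpCat.ofHom (aV S h V.unop).toAddMonoidHom
      naturality := fun V V' g => AddCommGrpCat.hom_ext (AddMonoidHom.ext fun z => by
        show aV S h V'.unop ((RP S i j).presheaf.map g z) = resExt S.X₂ n g.unop.le (aV S h V.unop z)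
        induction z using TensorProduct.induction_on with
        | zero => simp only [map_zero]
        | tmul x y => exact aV_res S h g.unop.le x y
        | add a b ha hb =>
          refine (congrArg (aV S h V'.unop) (map_add ((RP S i j).presheaf.map g).hom a b)).trans ?_
          rw [map_add, map_add, map_add]
          exact congr($ha + $hb)) }
    fun V c x => (aV S h V.unop).map_smul c x

/-- The sheafified projection. -/
def π (i j : ℕ) : DCoh.shP.obj (RP S i j) ⟶ DCoh.shP.obj (TP S i j) := DCoh.shP.map (prP S i j)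

/-- The sheafified map. -/
def a {i j n : ℕ} (h : i + j = n) : DCoh.shP.obj (RP S i j) ⟶ L S.X₂ n := DCoh.shP.map (aP S h)

/-- The unit on sections. -/
def η (Q : CohB1.PMod X) (V : X.Opens) (x : Q.obj (op V)) : Γ(DCoh.shP.obj Q, V) :=
  ((KFlatLib.unitShP Q).app (op V)).hom x

theorem η_map {Q Q' : CohB1.PMod X} (φ : Q ⟶ Q') (V : X.Opens) (x : Q.obj (op V)) :
    (DCoh.shP.map φ).app V (η Q V x) = η Q' V ((φ.app (op V)).hom x) :=
  (congrArg (fun q : Q ⟶ DCoh.toP.obj (DCoh.shP.obj Q') => (q.app (op V)).hom x)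
    (KFlatLib.unitShP_naturality φ)).symm

theorem res_η (Q : CohB1.PMod X) {V W : X.Opens} (l : W ≤ V) (x : Q.obj (op V)) :
    res _ l (η Q V x) = η Q W (Q.presheaf.map (homOfLE l).op x) :=
  (PresheafOfModules.naturality_apply (KFlatLib.unitShP Q) (homOfLE l).op x).symm

theorem η_zero (Q : CohB1.PMod X) (V : X.Opens) : η Q V 0 = 0 := map_zero _

theorem exists_η (Q : CohB1.PMod X) {V : X.Opens} (t : Γ(DCoh.shP.obj Q, V)) {y : X} (hy : y ∈ V) :
    ∃ (W : X.Opens) (l : W ≤ V) (p : Q.obj (op W)), y ∈ W ∧ η Q W p = res _ l t := by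
  haveI := KFlatLib.isIso_stalk_unitShP (x := y) Q
  obtain ⟨q, hq⟩ := (ConcreteCategory.bijective_of_isIso ((KFlatLib.stalkP y).map (KFlatLib.unitShP Q))).2
    (KFlatLib.germP (DCoh.toP.obj (DCoh.shP.obj Q)) V hy t)
  obtain ⟨W', hyW', p, rfl⟩ := KFlatLib.exists_germP q
  have hq' := (KFlatLib.stalkModMap_germ (KFlatLib.unitShP Q) W' hyW' p).symm.trans hq
  obtain ⟨W, hyW, i, j, hij⟩ := TopCat.Presheaf.germ_eq (C := AddCommGrpCat.{u}) (DCoh.shP.obj Q).presheaf y hyW' hy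
    _ _ hq'
  exact ⟨W, j.le, Q.presheaf.map (homOfLE i.le).op p, hyW, (res_η Q i.le p).symm.trans hij⟩

theorem exists_res_eq_zero (Q : CohB1.PMod X) {V : X.Opens} (p : Q.obj (op V)) (hp : η Q V p = 0) {y : X}
    (hy : y ∈ V) : ∃ (W : X.Opens) (l : W ≤ V), y ∈ W ∧ Q.presheaf.map (homOfLE l).op p = 0 := by
  haveI := KFlatLib.isIso_stalk_unitShP (x := y) Q
  have hinj := (ConcreteCategory.bijective_of_isIso ((KFlatLib.stalkP y).map (KFlatLib.unitShP Q))).1
  have h0 : KFlatLib.germP Q V hy p = KFlatLib.germP Q V hy 0 := by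
    refine hinj ((KFlatLib.stalkModMap_germ (KFlatLib.unitShP Q) V hy _).trans
      (Eq.trans ?_ (KFlatLib.stalkModMap_germ (KFlatLib.unitShP Q) V hy _).symm))
    exact congrArg _ (hp.trans (map_zero ((KFlatLib.unitShP Q).app (op V)).hom).symm)
  obtain ⟨W, hyW, i, j, hij⟩ := TopCat.Presheaf.germ_eq (C := AddCommGrpCat.{u}) Q.presheaf y hy hy _ _ h0
  exact ⟨W, i.le, hyW, hij.trans (map_zero _)⟩

theorem hom_eq_zero {Q : CohB1.PMod X} {N : X.Modules} (φ : DCoh.shP.obj Q ⟶ N)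
    (h : ∀ (V : X.Opens) (p : Q.obj (op V)), φ.app V (η Q V p) = 0) : φ = 0 := by
  refine Scheme.Modules.hom_ext _ _ fun V => AddCommGrpCat.hom_ext (AddMonoidHom.ext fun t => ?_)
  refine eq_of_locally _ _ fun y hy => ?_
  obtain ⟨W, l, p, hyW, hp⟩ := exists_η Q t hy
  refine ⟨W, l, hyW, ?_⟩
  show res N l (φ.app V t) = res N l 0
  rw [← app_res, ← hp, h, map_zero]

/-- The split data over small opens. -/
def Good (U : X.Opens) : Prop :=
  ∃ (r' r'' : ℕ), ∀ V : X.Opens, V ≤ U → ∃ σ : S.X₃.val.obj (op V) →ₗ[Γ(X, V)] S.X₂.val.obj (op V),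
    ExtAlg.Split (appL S.f V) (appL S.g V) σ ∧
      Nonempty (Module.Basis (Fin r') Γ(X, V) (S.X₁.val.obj (op V))) ∧
      Nonempty (Module.Basis (Fin r'') Γ(X, V) (S.X₃.val.obj (op V)))

variable {S} (hS : S.ShortExact)

include hS in
theorem exists_good (h₁ : FlatMod.IsFinLocFree S.X₁) (h₃ : FlatMod.IsFinLocFree S.X₃) (x : X) :
    ∃ U : X.Opens, x ∈ U ∧ Good S U := by
  obtain ⟨U₁, r', hx₁, ⟨e₁⟩⟩ := h₁ x
  obtain ⟨s', hs'⟩ := H23.Frame.exists_frame e₁
  obtain ⟨U₃, r'', hx₃, ⟨e₃⟩⟩ := h₃ x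
  obtain ⟨s'', hs''⟩ := H23.Frame.exists_frame e₃
  haveI := hS.epi_g
  haveI := hS.mono_f
  choose W hW hxW t ht using fun k => QCoh.exists_local_preimage S.g (s'' k) hx₃
  let U : X.Opens := U₁ ⊓ U₃ ⊓ Finset.univ.inf W
  have hxU : x ∈ U := ⟨⟨hx₁, hx₃⟩, by
    rw [Opens.coe_finset_inf]
    simpa using hxW⟩
  refine ⟨U, hxU, r', r'', fun V hV => ?_⟩
  have hV₁ : V ≤ U₁ := hV.trans (inf_le_left.trans inf_le_left)
  have hV₃ : V ≤ U₃ := hV.trans (inf_le_left.trans inf_le_right)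
  have hVW : ∀ k, V ≤ W k := fun k => hV.trans (inf_le_right.trans (Finset.inf_le (Finset.mem_univ k)))
  let b'' := frameBasis hs'' hV₃
  refine ⟨b''.constr Γ(X, V) fun k => res S.X₂ (hVW k) (t k), ⟨fun z => ?_, ?_, fun z hz => ?_, fun w => ?_⟩,
    ⟨frameBasis hs' hV₁⟩, ⟨b''⟩⟩
  · suffices e : (appL S.g V).comp (b''.constr Γ(X, V) fun k => res S.X₂ (hVW k) (t k)) = LinearMap.id from
      LinearMap.congr_fun e z
    refine b''.ext fun k => ?_
    rw [LinearMap.comp_apply, Module.Basis.constr_basis, LinearMap.id_apply, frameBasis_apply]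
    refine (appL_res S.g (hVW k) (t k)).trans ?_
    refine (congrArg (res S.X₃ (hVW k)) (ht k)).trans ?_
    exact res_res (hW k) (hVW k) (s'' k)
  · exact QCoh.app_injective S.f V
  · exact BasisHom.exists_app_eq_of_exact hS.exact V z hz
  · exact congrArg (fun φ : S.X₁ ⟶ S.X₃ => φ.app V w) S.zero

theorem aP_snoc {i j n : ℕ} (h : i + (j + 1) = n) (h' : i + 1 + j = n) (V : X.Opens) (p : (RP S (i + 1) j).obj (op V)) :
    ∃ q : (RP S i (j + 1)).obj (op V), aV S h V q = aV S h' V p := by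
  suffices hle : LinearMap.range (aV S h' V) ≤ LinearMap.range (aV S h V) from hle ⟨p, rfl⟩
  have h0 : (LinearMap.range (aV S h V)).mkQ.comp (aV S h' V) = 0 := ExtAlg.tensor_ext fun c b => by
    rw [LinearMap.comp_apply, LinearMap.zero_apply, Submodule.mkQ_apply, Submodule.Quotient.mk_eq_zero,
      aV, aV, ExtAlg.coe_A_snoc (appL S.f V) h h']
    exact ⟨_, rfl⟩
  rintro _ ⟨z, rfl⟩
  exact (Submodule.Quotient.mk_eq_zero _).1 (LinearMap.congr_fun h0 z)

theorem a_app {i j n : ℕ} (h : i + j = n) (V : X.Opens) (p : (RP S i j).obj (op V)) :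
    (a S h).app V (η _ V p) = η (P S.X₂ n) V (aV S h V p) :=
  η_map (aP S h) V p

theorem a_comp {i j n : ℕ} (h : i + (j + 1) = n) (h' : i + 1 + j = n) : a S h' ≫ cokernel.π (a S h) = 0 :=
  hom_eq_zero _ fun V p => by
    obtain ⟨q, hq⟩ := aP_snoc h h' V p
    show (cokernel.π (a S h)).app V ((a S h').app V (η _ V p)) = 0
    rw [a_app, ← hq, ← a_app]
    exact congrArg (fun φ : DCoh.shP.obj (RP S i (j + 1)) ⟶ cokernel (a S h) => φ.app V (η _ V q))
      (cokernel.condition (a S h))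

section Local

variable (hg : ∀ x : X, ∃ U : X.Opens, x ∈ U ∧ Good S U)

include hg in
/-- Locally, a section killed by the projection comes from a presheaf section killed by it. -/
theorem exists_ker {i j : ℕ} {V : X.Opens} (t : Γ(DCoh.shP.obj (RP S i j), V)) (ht : (π S i j).app V t = 0) {y : X}
    (hy : y ∈ V) : ∃ (W : X.Opens) (l : W ≤ V) (p : (RP S i j).obj (op W)) (U : X.Opens),
      y ∈ W ∧ W ≤ U ∧ Good S U ∧ η _ W p = res _ l t ∧ ExtAlg.pr (appL S.g W) i j p = 0 := by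
  obtain ⟨U, hyU, hU⟩ := hg y
  obtain ⟨W₁, l₁, p₁, hy₁, hp₁⟩ := exists_η _ t hy
  have h0 : η (TP S i j) W₁ (((prP S i j).app (op W₁)).hom p₁) = 0 := by
    rw [← η_map, hp₁]
    show (π S i j).app W₁ (res _ l₁ t) = 0
    rw [app_res, ht, map_zero]
  obtain ⟨W₂, l₂, hy₂, hp₂⟩ := exists_res_eq_zero _ _ h0 hy₁
  refine ⟨W₂ ⊓ U, (inf_le_left.trans l₂).trans l₁, (RP S i j).presheaf.map (homOfLE (inf_le_left.trans l₂)).op p₁, U,
    ⟨hy₂, hyU⟩, inf_le_right, hU, ?_, ?_⟩
  · rw [← res_η, hp₁, res_res]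
  · have h1 : (prP S i j).app (op (W₂ ⊓ U)) ((RP S i j).presheaf.map (homOfLE (inf_le_left.trans l₂)).op p₁) =
        (TP S i j).presheaf.map (homOfLE (inf_le_left.trans l₂)).op ((prP S i j).app (op W₁) p₁) :=
      PresheafOfModules.naturality_apply (prP S i j) _ p₁
    refine (Eq.trans ?_ h1).trans ?_
    · rfl
    · have h2 : (TP S i j).presheaf.map (homOfLE (inf_le_left.trans l₂)).op =
          (TP S i j).presheaf.map (homOfLE l₂).op ≫ (TP S i j).presheaf.map (homOfLE (inf_le_left : W₂ ⊓ U ≤ W₂)).op := by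
        rw [← Functor.map_comp]
        rfl
      rw [h2]
      show (TP S i j).presheaf.map _ ((TP S i j).presheaf.map _ _) = 0
      rw [hp₂, map_zero]

include hg in
theorem ker_π_comp {i j n : ℕ} (h : i + j = n) {Z : X.Modules} (c : L S.X₂ n ⟶ Z)
    (hc : ∀ (W U : X.Opens), W ≤ U → Good S U → ∀ p : (RP S i j).obj (op W), ExtAlg.pr (appL S.g W) i j p = 0 →
      c.app W (η (P S.X₂ n) W (aV S h W p)) = 0) :
    kernel.ι (π S i j) ≫ a S h ≫ c = 0 := by
  refine Scheme.Modules.hom_ext _ _ fun V => AddCommGrpCat.hom_ext (AddMonoidHom.ext fun t => ?_)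
  refine eq_of_locally _ _ fun y hy => ?_
  have ht : (π S i j).app V ((kernel.ι (π S i j)).app V t) = 0 := congr(($(kernel.condition (π S i j))).app V t)
  obtain ⟨W, l, p, U, hyW, hWU, hU, hp, hp0⟩ := exists_ker hg _ ht hy
  refine ⟨W, l, hyW, ?_⟩
  show res Z l (c.app V ((a S h).app V ((kernel.ι (π S i j)).app V t))) = res Z l 0
  rw [← app_res, ← app_res, ← hp, a_app, hc W U hWU hU p hp0, map_zero]

include hg in
theorem ker_comp_π {i j n : ℕ} (h : i + j = n) {Z : X.Modules} (c : L S.X₂ n ⟶ Z)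
    (hc : ∀ (V : X.Opens) (s : Γ(L S.X₂ n, V)), c.app V s = 0 → ∀ y ∈ V,
      ∃ (W : X.Opens) (l : W ≤ V) (q : Ext' S.X₂ n W), y ∈ W ∧ η (P S.X₂ n) W q = res _ l s ∧
        ∀ (W' : X.Opens) (l' : W' ≤ W) (U : X.Opens), W' ≤ U → Good S U →
          ∀ σ, ExtAlg.Split (appL S.f W') (appL S.g W') σ →
            resExt S.X₂ n l' q ∈ (ExtAlg.supp Γ(X, W') (S.X₁.val.obj (op W')) (S.X₃.val.obj (op W')) n (i + 1)).map
              (ExtAlg.tot (appL S.f W') σ n)) :
    kernel.ι (a S h ≫ c) ≫ π S i j = 0 := by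
  refine Scheme.Modules.hom_ext _ _ fun V => AddCommGrpCat.hom_ext (AddMonoidHom.ext fun t => ?_)
  refine eq_of_locally _ _ fun y hy => ?_
  set x := (kernel.ι (a S h ≫ c)).app V t
  have ht : c.app V ((a S h).app V x) = 0 := congr(($(kernel.condition (a S h ≫ c))).app V t)
  obtain ⟨W₀, l₀, q, hy₀, hq, hqm⟩ := hc V _ ht y hy
  obtain ⟨W₁, l₁, p, hy₁, hp⟩ := exists_η _ (res _ l₀ x) hy₀
  have h0 : η (P S.X₂ n) W₁ (aV S h W₁ p - resExt S.X₂ n l₁ q) = 0 := by
    refine (map_sub ((KFlatLib.unitShP (P S.X₂ n)).app (op W₁)).hom _ _).trans (sub_eq_zero.2 ?_)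
    show η (P S.X₂ n) W₁ (aV S h W₁ p) = η (P S.X₂ n) W₁ (resExt S.X₂ n l₁ q)
    rw [← a_app, hp, app_res, app_res, ← hq]
    exact res_η (P S.X₂ n) l₁ q
  obtain ⟨W₂, l₂, hy₂, hp₂⟩ := exists_res_eq_zero _ _ h0 hy₁
  obtain ⟨U, hyU, hU⟩ := hg y
  have hgood := hU
  obtain ⟨r', r'', hU'⟩ := hU
  let W := W₂ ⊓ U
  have l : W ≤ W₁ := inf_le_left.trans l₂
  obtain ⟨σ, hσ, ⟨b'⟩, ⟨b''⟩⟩ := hU' W inf_le_right
  refine ⟨W, (l.trans l₁).trans l₀, ⟨hy₂, hyU⟩, ?_⟩
  show res _ _ ((π S i j).app V x) = res _ _ 0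
  rw [map_zero, ← app_res, ← res_res l₀ (l.trans l₁), ← res_res l₁ l, ← hp, res_η]
  refine (η_map (prP S i j) W _).trans ?_
  refine (congrArg (η (TP S i j) W) ?_).trans (η_zero _ _)
  refine ExtAlg.pr_eq_zero_of_A_mem (appL S.f W) hσ b' b'' h _ ?_
  have h3 : aV S h W ((RP S i j).presheaf.map (homOfLE l).op p) = resExt S.X₂ n (l.trans l₁) q := by
    have h4 : resExt S.X₂ n l (aV S h W₁ p) = aV S h W ((RP S i j).presheaf.map (homOfLE l).op p) :=
      (PresheafOfModules.naturality_apply (aP S h) (homOfLE l).op p).symm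
    have h5 : resExt S.X₂ n l₂ (aV S h W₁ p - resExt S.X₂ n l₁ q) = 0 := hp₂
    have hcomp : ∀ {A B D : X.Opens} (u : B ≤ A) (v : D ≤ B) (z : Ext' S.X₂ n A),
        resExt S.X₂ n v (resExt S.X₂ n u z) = resExt S.X₂ n (v.trans u) z := fun {A B D} u v z => by
      have e := congrArg (fun φ => φ.hom z) ((Fab S.X₂ n).map_comp (homOfLE u).op (homOfLE v).op)
      exact e.symm
    have h6 := congrArg (resExt S.X₂ n (inf_le_left : W ≤ W₂)) h5
    rw [hcomp, map_sub, hcomp, map_zero, sub_eq_zero] at h6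
    exact h4.symm.trans h6
  show ExtAlg.A (appL S.f W) h _ ∈ _
  exact h3 ▸ hqm W (l.trans l₁) U inf_le_right hgood σ hσ

end Local

theorem epi_π (hg : ∀ x : X, ∃ U : X.Opens, x ∈ U ∧ Good S U) (i j : ℕ) : Epi (π S i j) := by
  refine Preadditive.epi_of_cancel_zero _ fun {Z} c hc => ?_
  refine hom_eq_zero _ fun V p => eq_of_locally _ _ fun y hy => ?_
  obtain ⟨U, hyU, r', r'', hU⟩ := hg y
  obtain ⟨σ, hσ, -⟩ := hU (V ⊓ U) inf_le_right
  obtain ⟨p', hp'⟩ := ExtAlg.pr_surjective (M' := S.X₁.val.obj (op (V ⊓ U))) hσ.sec i j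
    ((TP S i j).presheaf.map (homOfLE inf_le_left).op p)
  refine ⟨V ⊓ U, inf_le_left, ⟨hy, hyU⟩, ?_⟩
  rw [map_zero, ← app_res, res_η, ← hp']
  refine (congrArg (c.app (V ⊓ U)) (η_map (prP S i j) (V ⊓ U) p').symm).trans ?_
  exact congr(($hc).app (V ⊓ U) (η _ (V ⊓ U) p'))

/-- The cokernels of the filtration. -/
def C (n i j : ℕ) (h : i + j = n) : X.Modules := cokernel (a S h)

theorem epi_a_zero (n : ℕ) : Epi (a S (Nat.zero_add n)) := by
  refine Preadditive.epi_of_cancel_zero _ fun {Z} c hc => ?_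
  refine hom_eq_zero _ fun V p => ?_
  obtain ⟨q, hq⟩ := (LinearMap.range_eq_top.1 (ExtAlg.range_A_zero (appL S.f V) (Nat.zero_add n))) p
  rw [← hq]
  refine (congrArg (c.app V) (a_app (Nat.zero_add n) V q).symm).trans ?_
  exact congr(($hc).app V (η _ V q))

theorem exists_frame_mid (hS : S.ShortExact) {U₁ U₃ : X.Opens} {r' r'' : ℕ} {s' : Fin r' → Γ(S.X₁, U₁)}
    (hs' : H23.Frame.IsFrame S.X₁ s') {s'' : Fin r'' → Γ(S.X₃, U₃)} (hs'' : H23.Frame.IsFrame S.X₃ s'') {x : X}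
    (hx₁ : x ∈ U₁) (hx₃ : x ∈ U₃) :
    ∃ (U : X.Opens) (s : Fin (r' + r'') → Γ(S.X₂, U)), x ∈ U ∧ H23.Frame.IsFrame S.X₂ s := by
  haveI := hS.epi_g
  haveI := hS.mono_f
  choose W hW hxW t ht using fun k => QCoh.exists_local_preimage S.g (s'' k) hx₃
  let U : X.Opens := U₁ ⊓ U₃ ⊓ Finset.univ.inf W
  have hxU : x ∈ U := ⟨⟨hx₁, hx₃⟩, by
    rw [Opens.coe_finset_inf]
    simpa using hxW⟩
  have hU₁ : U ≤ U₁ := inf_le_left.trans inf_le_left
  have hU₃ : U ≤ U₃ := inf_le_left.trans inf_le_right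
  have hUW : ∀ k, U ≤ W k := fun k => inf_le_right.trans (Finset.inf_le (Finset.mem_univ k))
  refine ⟨U, Fin.append (fun k => S.f.app U (res S.X₁ hU₁ (s' k))) (fun k => res S.X₂ (hUW k) (t k)), hxU,
    fun V hV => ?_⟩
  let b' := frameBasis hs' (hV.trans hU₁)
  let b'' := frameBasis hs'' (hV.trans hU₃)
  let σ : S.X₃.val.obj (op V) →ₗ[Γ(X, V)] S.X₂.val.obj (op V) :=
    b''.constr Γ(X, V) fun k => (res S.X₂ (hV.trans (hUW k)) (t k) : S.X₂.val.obj (op V))
  have hps : ∀ z, appL S.g V (σ z) = z := fun z => by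
    suffices e : (appL S.g V).comp σ = LinearMap.id from LinearMap.congr_fun e z
    refine b''.ext fun k => ?_
    rw [LinearMap.comp_apply, Module.Basis.constr_basis, LinearMap.id_apply, frameBasis_apply]
    exact ((appL_res S.g _ (t k)).trans (congrArg (res S.X₃ _) (ht k))).trans (res_res _ _ _)
  have hbij : Function.Bijective ((appL S.f V).coprod σ) := by
    refine ⟨(injective_iff_map_eq_zero _).2 ?_, fun z => ?_⟩
    · rintro ⟨u, v⟩ huv
      rw [LinearMap.coprod_apply] at huv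
      have h0 : appL S.g V (appL S.f V u) = 0 := congrArg (fun φ : S.X₁ ⟶ S.X₃ => φ.app V u) S.zero
      have hv : v = 0 := by
        have := congrArg (appL S.g V) huv
        rwa [map_add, h0, hps, zero_add, map_zero] at this
      subst hv
      rw [map_zero, add_zero] at huv
      exact Prod.ext (QCoh.app_injective S.f V (huv.trans (map_zero (appL S.f V)).symm)) rfl
    · obtain ⟨u, hu⟩ := BasisHom.exists_app_eq_of_exact hS.exact V (z - σ (appL S.g V z))
        (show appL S.g V _ = 0 by rw [map_sub, hps, sub_self])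
      exact ⟨(u, appL S.g V z), by
        rw [LinearMap.coprod_apply, show appL S.f V u = z - σ (appL S.g V z) from hu, sub_add_cancel]⟩
  let b := ((b'.prod b'').map (LinearEquiv.ofBijective _ hbij)).reindex finSumFinEquiv
  have hb : H23.Frame.comb S.X₂ (Fin.append (fun k => S.f.app U (res S.X₁ hU₁ (s' k))) fun k => res S.X₂ (hUW k) (t k))
      V hV = ⇑b.equivFun.symm := funext fun c => by
    rw [Module.Basis.equivFun_symm_apply, H23.Frame.comb]
    refine Finset.sum_congr rfl fun k _ => congrArg (c k • ·) ?_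
    refine Fin.addCases (fun p => ?_) (fun p => ?_) k
    · simp only [b, Fin.append_left, Module.Basis.reindex_apply, finSumFinEquiv_symm_apply_castAdd,
        Module.Basis.map_apply, Module.Basis.prod_apply, Sum.elim_inl, Function.comp_apply,
        LinearEquiv.ofBijective_apply, LinearMap.coprod_apply, LinearMap.inl_apply, map_zero, add_zero]
      rw [frameBasis_apply]
      exact ((appL_res S.f hV (res S.X₁ hU₁ (s' p))).symm).trans (congrArg (appL S.f V) (res_res hU₁ hV (s' p)))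
    · simp only [b, Fin.append_right, Module.Basis.reindex_apply, finSumFinEquiv_symm_apply_natAdd,
        Module.Basis.map_apply, Module.Basis.prod_apply, Sum.elim_inr, Function.comp_apply,
        LinearEquiv.ofBijective_apply, LinearMap.coprod_apply, LinearMap.inr_apply, map_zero, zero_add]
      refine Eq.trans ?_ (Module.Basis.constr_basis b'' Γ(X, V) _ p).symm
      exact res_res (hUW p) hV (t p)
  rw [hb]
  exact LinearEquiv.bijective _

theorem isFinLocFree_mid (hS : S.ShortExact) (h₁ : FlatMod.IsFinLocFree S.X₁) (h₃ : FlatMod.IsFinLocFree S.X₃) :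
    FlatMod.IsFinLocFree S.X₂ := fun x => by
  obtain ⟨U₁, r', hx₁, ⟨e₁⟩⟩ := h₁ x
  obtain ⟨s', hs'⟩ := H23.Frame.exists_frame e₁
  obtain ⟨U₃, r'', hx₃, ⟨e₃⟩⟩ := h₃ x
  obtain ⟨s'', hs''⟩ := H23.Frame.exists_frame e₃
  obtain ⟨U, s, hxU, hs⟩ := exists_frame_mid hS hs' hs'' hx₁ hx₃
  exact ⟨U, _, hxU, H23.Frame.exists_iso_of_frame s hs⟩

theorem step (hg : ∀ x : X, ∃ U : X.Opens, x ∈ U ∧ Good S U) {i j n : ℕ} (h : i + (j + 1) = n)
    (h' : i + 1 + j = n) : ∃ (θ : DCoh.shP.obj (TP S i (j + 1)) ⟶ C (S := S) n (i + 1) j h')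
      (q : C (S := S) n (i + 1) j h' ⟶ C (S := S) n i (j + 1) h) (w : θ ≫ q = 0),
      (ShortComplex.mk θ q w).ShortExact := by
  haveI := epi_π hg i (j + 1)
  refine step_exact _ _ _ (a_comp h h') (ker_π_comp hg h _ fun W U hWU hU p hp => ?_)
    (ker_comp_π hg h _ fun V s hs y hy => ?_)
  · obtain ⟨r', r'', hU⟩ := hU
    obtain ⟨σ, hσ, -⟩ := hU W hWU
    obtain ⟨q, hq⟩ := ExtAlg.A_mem_of_pr_eq_zero (appL S.f W) hσ h h' p hp
    rw [show aV S h W p = aV S h' W q from hq.symm, ← a_app]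
    exact congr(($(cokernel.condition (a S h'))).app W (η _ W q))
  · obtain ⟨W₁, l₁, hy₁, z, hz⟩ := QCoh.exists_local_range (a S h') s hs hy
    obtain ⟨W, l, p, hyW, hp⟩ := exists_η _ z hy₁
    refine ⟨W, l.trans l₁, aV S h' W p, hyW, ?_, fun W' l' U hU hg' σ hσ => ?_⟩
    · rw [← a_app, hp, app_res]
      refine (congrArg (res _ l) hz).trans ?_
      exact res_res l₁ l s
    · refine ExtAlg.range_A_le (appL S.f W') hσ.sec hσ.ker j (i + 1) h'
        ⟨(RP S (i + 1) j).presheaf.map (homOfLE l').op p, ?_⟩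
      exact PresheafOfModules.naturality_apply (aP S h') (homOfLE l').op p

theorem last (hg : ∀ x : X, ∃ U : X.Opens, x ∈ U ∧ Good S U) {n : ℕ} (h : n + 0 = n) :
    ∃ (θ : DCoh.shP.obj (TP S n 0) ⟶ L S.X₂ n) (w : θ ≫ cokernel.π (a S h) = 0),
      (ShortComplex.mk θ (cokernel.π (a S h)) w).ShortExact := by
  haveI := epi_π hg n 0
  have hk : kernel.ι (π S n 0) ≫ a S h ≫ 𝟙 (L S.X₂ n) = 0 := ker_π_comp hg h _ fun W U hWU hU p hp => by
    obtain ⟨r', r'', hU⟩ := hU
    obtain ⟨σ, hσ, -⟩ := hU W hWU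
    rw [show aV S h W p = 0 from ExtAlg.A_eq_zero_of_pr_eq_zero (appL S.f W) hσ h p hp, η_zero]
    rfl
  have hk' : kernel.ι (a S h ≫ 𝟙 (L S.X₂ n)) ≫ π S n 0 = 0 := ker_comp_π hg h _ fun V s hs y hy =>
    ⟨V, le_rfl, 0, hy, by
      rw [η_zero, res_self]
      exact hs.symm, fun W' l' U hU hg' σ hσ => by rw [map_zero]; exact zero_mem _⟩
  rw [Category.comp_id] at hk
  let θ := Abelian.epiDesc (π S n 0) (a S h) hk
  have hθ : π S n 0 ≫ θ = a S h := Abelian.comp_epiDesc _ _ _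
  have w : θ ≫ cokernel.π (a S h) = 0 := by
    rw [← cancel_epi (π S n 0), reassoc_of% hθ, cokernel.condition, comp_zero]
  haveI : Mono θ := by
    refine Preadditive.mono_of_cancel_zero _ fun {Z} g hg => ?_
    obtain ⟨A, ρ, hρ, y, hy⟩ := surjective_up_to_refinements_of_epi (π S n 0) g
    have h0 : y ≫ a S h ≫ 𝟙 (L S.X₂ n) = 0 := by
      rw [Category.comp_id, ← hθ, ← Category.assoc, ← hy, Category.assoc, hg, comp_zero]
    exact (cancel_epi ρ).1 (by
      rw [hy, ← kernel.lift_ι (a S h ≫ 𝟙 (L S.X₂ n)) y h0, Category.assoc, hk', comp_zero, comp_zero])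
  refine ⟨θ, w, ⟨ShortComplex.exact_of_g_is_cokernel _ (Cofork.IsColimit.mk' _ fun s => ?_)⟩⟩
  have hs : θ ≫ s.π = 0 := by simpa using s.condition
  have h2 : a S h ≫ s.π = 0 := by
    have := congrArg (fun q => q ≫ s.π) hθ
    rw [← this, Category.assoc, hs, comp_zero]
  refine ⟨cokernel.desc (a S h) s.π h2, cokernel.π_desc _ _ _, fun {m} hm => ?_⟩
  rw [← cancel_epi (cokernel.π (a S h)), cokernel.π_desc]
  exact hm

theorem nonempty_tensor_iso (i j : ℕ) :
    Nonempty (DCoh.shP.obj (TP S i j) ≅ (DCoh.tensorBi.obj (L S.X₁ i)).obj (L S.X₃ j)) := by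
  let φ : TP S i j ⟶ DCoh.toP.obj (L S.X₁ i) ⊗ DCoh.toP.obj (L S.X₃ j) :=
    KFlatLib.unitShP (P S.X₁ i) ⊗ₘ KFlatLib.unitShP (P S.X₃ j)
  haveI : IsIso (DCoh.shP.map φ) := KFlatLib.isIso_shP_map_of_stalk φ fun x => by
    haveI := KFlatLib.isIso_stalk_unitShP (x := x) (P S.X₁ i)
    haveI := KFlatLib.isIso_stalk_unitShP (x := x) (P S.X₃ j)
    exact KFlatLib.isIso_stalkP_map_tensorHom _ _ x
  exact ⟨asIso (DCoh.shP.map φ)⟩

local notation "LF" => (fun M : X.Modules => FlatMod.IsFinLocFree M)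

theorem cl_C (hS : S.ShortExact) (h₁ : FlatMod.IsFinLocFree S.X₁) (h₃ : FlatMod.IsFinLocFree S.X₃) {n : ℕ} :
    ∀ (i j : ℕ) (h : i + j = n), FlatMod.IsFinLocFree (C (S := S) n i j h) ∧
      KZero.clSub LF (C (S := S) n i j h) =
        ∑ k ∈ Finset.range i, KZero.clSub LF ((DCoh.tensorBi.obj (L S.X₁ k)).obj (L S.X₃ (n - k))) := by
  intro i
  induction i with
  | zero =>
    intro j h
    obtain rfl : j = n := by omega
    haveI := epi_a_zero (S := S) j
    have hz : IsZero (C (S := S) j 0 j h) := isZero_cokernel_of_epi (a S (Nat.zero_add j))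
    exact ⟨KFlatLib.isFinLocFree_of_isZero hz, by rw [KZ.clSub_isZero _ hz, Finset.range_zero, Finset.sum_empty]⟩
  | succ i ih =>
    intro j h'
    have h : i + (j + 1) = n := by omega
    obtain ⟨hC, hcl⟩ := ih (j + 1) h
    obtain ⟨θ, q, w, hse⟩ := step (exists_good hS h₁ h₃) h h'
    obtain ⟨e⟩ := nonempty_tensor_iso (S := S) i (j + 1)
    have hT' : FlatMod.IsFinLocFree ((DCoh.tensorBi.obj (L S.X₁ i)).obj (L S.X₃ (j + 1))) :=
      KFlatLib.isFinLocFree_tensor (ExtSh.isFinLocFree_L i h₁) (ExtSh.isFinLocFree_L (j + 1) h₃)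
    have hT := H23.PullPush.isFinLocFree_of_iso e.symm hT'
    have hmid : FlatMod.IsFinLocFree (C (S := S) n (i + 1) j h') :=
      isFinLocFree_mid (S := ShortComplex.mk θ q w) hse hT hC
    refine ⟨hmid, ?_⟩
    have hn : ∀ (m : ℕ), m = n - i → FlatMod.IsFinLocFree ((DCoh.tensorBi.obj (L S.X₁ i)).obj (L S.X₃ m)) →
        KZero.clSub LF ((DCoh.tensorBi.obj (L S.X₁ i)).obj (L S.X₃ m)) =
          KZero.clSub LF ((DCoh.tensorBi.obj (L S.X₁ i)).obj (L S.X₃ (n - i))) := fun m hm _ => by subst hm; rfl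
    rw [KZ.clSub_ses (P := LF) hse hT hmid hC, hcl, Finset.sum_range_succ, add_comm]
    exact congrArg _ ((KZ.clSub_iso _ e hT hT' (isZero_zero _) (KFlatLib.isFinLocFree_of_isZero (isZero_zero _))).trans
      (hn (j + 1) (by omega) hT'))

/-- The class of an exterior power of an extension. -/
theorem cl_extension (hS : S.ShortExact) (h₁ : FlatMod.IsFinLocFree S.X₁) (h₃ : FlatMod.IsFinLocFree S.X₃) (n : ℕ) :
    KZero.clSub LF (L S.X₂ n) =
      ∑ k ∈ Finset.range (n + 1), KZero.clSub LF ((DCoh.tensorBi.obj (L S.X₁ k)).obj (L S.X₃ (n - k))) := by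
  obtain ⟨hC, hcl⟩ := cl_C hS h₁ h₃ n 0 (Nat.add_zero n)
  obtain ⟨θ, w, hse⟩ := last (exists_good hS h₁ h₃) (Nat.add_zero n)
  obtain ⟨e⟩ := nonempty_tensor_iso (S := S) n 0
  have hT' : FlatMod.IsFinLocFree ((DCoh.tensorBi.obj (L S.X₁ n)).obj (L S.X₃ 0)) :=
    KFlatLib.isFinLocFree_tensor (ExtSh.isFinLocFree_L n h₁) (ExtSh.isFinLocFree_L 0 h₃)
  have hT := H23.PullPush.isFinLocFree_of_iso e.symm hT'
  rw [KZ.clSub_ses (P := LF) hse hT (ExtSh.isFinLocFree_L n (isFinLocFree_mid hS h₁ h₃)) hC,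
    KZ.clSub_iso (P := LF) e hT hT' (isZero_zero _) (KFlatLib.isFinLocFree_of_isZero (isZero_zero _)),
    Finset.sum_range_succ, Nat.sub_self]
  exact (add_comm _ _).trans (congrArg (· + _) hcl)

end Groth.Agent.H28.ExtFil
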