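import Groth.Agent.H28.PBChart
import Groth.Agent.H28.GenPush
import Groth.Agent.H28.ExtFil
import Groth.Agent.H28.KvbModel
import Groth.Agent.H28.ExtPull
import Groth.Agent.KFlatLib.Perfect.Top
import Groth.Agent.KFlatLib.Scheme.RpushRestrict
import Groth.Agent.ConsPropLib.FibreLocFree

/-!
# The charts of a projective bundle
-/

set_option autoImplicit false
set_option linter.style.haveILetI false
set_option linter.unusedSectionVars false
set_option backward.isDefEq.respectTransparency false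
set_option backward.isDefEq.respectTransparency.types false

universe u

open CategoryTheory CategoryTheory.Limits AlgebraicGeometry TopologicalSpace Opposite

noncomputable section

namespace Groth.Agent.H28.PBAtlas

open Groth.Agent

section Gen

variable {X Y : Scheme.{u}}

theorem lf_of_iso {A B : X.Modules} (e : A ≅ B) (h : FlatMod.IsFinLocFree A) : FlatMod.IsFinLocFree B :=
  H23.PullPush.isFinLocFree_of_iso e h

/-- A module of rank zero is zero. -/
theorem isZero_of_frames {M : X.Modules} (h : ∀ x, KvbModel.FrameAt M 0 x) : IsZero M := by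
  refine (IsZero.iff_id_eq_zero _).2 ?_
  refine Scheme.Modules.hom_ext _ _ fun V => AddCommGrpCat.hom_ext (AddMonoidHom.ext fun t => ?_)
  refine AModX.eq_of_locally _ _ fun y hy => ?_
  obtain ⟨U, s, hyU, hs⟩ := h y
  refine ⟨V ⊓ U, inf_le_left, ⟨hy, hyU⟩, ?_⟩
  haveI : Subsingleton Γ(M, V ⊓ U) := (hs (V ⊓ U) inf_le_right).2.subsingleton
  exact Subsingleton.elim _ _

/-- A surjection between bundles of the same rank is an isomorphism. -/
theorem isIso_of_epi {A B : X.Modules} (f : A ⟶ B) [Epi f] (hA : FlatMod.IsFinLocFree A)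
    (hB : FlatMod.IsFinLocFree B) (e : Nonempty (A ≅ B)) : IsIso f := by
  obtain ⟨e⟩ := e
  have hK : FlatMod.IsFinLocFree (kernel f) := KFlatLib.isFinLocFree_kernel f hA hB
  have hz : IsZero (kernel f) := isZero_of_frames fun x => by
    obtain ⟨r, hr⟩ := KvbModel.exists_frameAt hK x
    obtain ⟨U, m, hx, ⟨eA⟩⟩ := hA x
    obtain ⟨sA, hsA⟩ := H23.Frame.exists_frame eA
    obtain ⟨sB, hsB⟩ := H23.Frame.exists_frame
      ((Scheme.Modules.restrictFunctor U.ι).mapIso e.symm ≪≫ eA)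
    have h2 := KvbModel.frameAt_ses (S := ShortComplex.mk (kernel.ι f) f (kernel.condition _))
      (KZ.kerSeq_shortExact f) hr (⟨U, sB, hx, hsB⟩ : KvbModel.FrameAt B m x)
    obtain rfl : r = 0 := by
      have := KvbModel.frameAt_unique h2 (⟨U, sA, hx, hsA⟩ : KvbModel.FrameAt A m x)
      omega
    exact hr
  haveI : Mono f := Preadditive.mono_of_isZero_kernel _ hz
  exact isIso_of_mono_of_epi f

/-- A module which vanishes on a cover is zero. -/
theorem isZero_of_restrict (G : X.Modules)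
    (h : ∀ p : X, ∃ U : X.Opens, p ∈ U ∧ IsZero ((Scheme.Modules.pullback U.ι).obj G)) : IsZero G := by
  rw [IsZero.iff_id_eq_zero]
  refine Scheme.Modules.hom_ext _ _ fun W => ?_
  ext x
  refine AModX.eq_of_locally _ _ fun p hp => ?_
  obtain ⟨U, hpU, hz⟩ := h p
  have hz' : IsZero (G.restrict U.ι) := hz.of_iso ((Scheme.Modules.restrictFunctorIsoPullback U.ι).app G)
  refine ⟨U.ι ''ᵁ (U.ι ⁻¹ᵁ W), ?_, ⟨⟨p, hpU⟩, hp, rfl⟩, ?_⟩
  · rintro _ ⟨z, hz, rfl⟩; exact hz
  · have h0 := (IsZero.iff_id_eq_zero _).1 hz'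
    have h1 := fun y : Γ(G, U.ι ''ᵁ (U.ι ⁻¹ᵁ W)) =>
      congrArg (fun φ : G.restrict U.ι ⟶ G.restrict U.ι => φ.app (U.ι ⁻¹ᵁ W) y) h0
    exact (h1 _).trans (map_zero (AModX.res G _)).symm

theorem isLeftAdjoint_pullback (f : X ⟶ Y) : (Scheme.Modules.pullback f).IsLeftAdjoint :=
  (Scheme.Modules.pullbackPushforwardAdjunction f).isLeftAdjoint

/-- Surjectivity is local. -/
theorem epi_of_restrict {A B : X.Modules} (f : A ⟶ B)
    (h : ∀ p : X, ∃ U : X.Opens, p ∈ U ∧ Epi ((Scheme.Modules.pullback U.ι).map f)) : Epi f := by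
  refine Preadditive.epi_of_isZero_cokernel _ (isZero_of_restrict _ fun p => ?_)
  obtain ⟨U, hp, hU⟩ := h p
  refine ⟨U, hp, ?_⟩
  haveI := isLeftAdjoint_pullback U.ι
  exact (isZero_cokernel_of_epi ((Scheme.Modules.pullback U.ι).map f)).of_iso
    (PreservesCokernel.iso (Scheme.Modules.pullback U.ι) f)

/-- Inverse image along an isomorphism is direct image along the inverse. -/
def pullIsoPush (h : X ⟶ Y) [IsIso h] : Scheme.Modules.pullback h ≅ Scheme.Modules.pushforward (inv h) :=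
  Adjunction.leftAdjointUniq (Scheme.Modules.pullbackPushforwardAdjunction h)
    (CategoryTheory.Equivalence.mk (Scheme.Modules.pushforward (inv h)) (Scheme.Modules.pushforward h)
      ((Scheme.Modules.pushforwardId Y).symm ≪≫
        Scheme.Modules.pushforwardCongr (IsIso.inv_hom_id h).symm ≪≫
        (Scheme.Modules.pushforwardComp (inv h) h).symm)
      (Scheme.Modules.pushforwardComp h (inv h) ≪≫
        Scheme.Modules.pushforwardCongr (IsIso.hom_inv_id h) ≪≫
        Scheme.Modules.pushforwardId X)).toAdjunction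

/-- Inverse image along an open immersion is exact. -/
theorem shortExact_pull (j : X ⟶ Y) [IsOpenImmersion j] {S : ShortComplex Y.Modules} (hS : S.ShortExact) :
    (S.map (Scheme.Modules.pullback j)).ShortExact := by
  haveI := isLeftAdjoint_pullback j
  haveI : PreservesFiniteColimits (Scheme.Modules.pullback j) := inferInstance
  haveI : PreservesFiniteLimits (Scheme.Modules.pullback j) :=
    preservesFiniteLimits_of_natIso (Scheme.Modules.restrictFunctorIsoPullback j)
  exact hS.map_of_exact (Scheme.Modules.pullback j)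

end Gen

variable {X P : Scheme.{u}} (π : P ⟶ X) (O1 : P.Modules) (G : X.Modules) (n : ℕ)

/-- An affine open over which the bundle is `P^n` and the auxiliary module is free. -/
structure Chart where
  /-- the open -/
  U : X.affineOpens
  /-- the trivialisation -/
  θ : KRR.PY n (U.1 : Scheme.{u}) ⟶ (π ⁻¹ᵁ U.1 : P.Opens)
  isIso : IsIso θ
  hθ : θ ≫ (π ∣_ U.1) = KRR.pr n (U.1 : Scheme.{u})
  twist : Nonempty ((Scheme.Modules.pullback θ).obj ((Scheme.Modules.pullback (π ⁻¹ᵁ U.1).ι).obj O1) ≅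
    Twist.twistOver n (U.1 : Scheme.{u}) 1)
  free : ∃ k : ℕ, Nonempty ((Scheme.Modules.pullback U.1.ι).obj G ≅ FlatMod.freeMod (U.1 : Scheme.{u}) k)

variable {π O1 G n}

namespace Chart

variable (c : Chart π O1 G n)

instance : IsIso c.θ := c.isIso

/-- The base of a chart. -/
abbrev B : Scheme.{u} := (c.U.1 : Scheme.{u})

instance : IsAffine c.B := c.U.2

/-- The chart as an open immersion. -/
def j : KRR.PY n c.B ⟶ P := c.θ ≫ (π ⁻¹ᵁ c.U.1).ι

instance : IsOpenImmersion c.j := by unfold j; infer_instance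

theorem j_π : c.j ≫ π = KRR.pr n c.B ≫ c.U.1.ι := by
  rw [j, Category.assoc, ← morphismRestrict_ι, ← Category.assoc, c.hθ]

theorem range_j : Set.range c.j = π ⁻¹' (c.U.1 : Set X) := by
  have h : Function.Surjective c.θ := (TopCat.homeoOfIso (asIso c.θ.base)).surjective
  show Set.range ((π ⁻¹ᵁ c.U.1).ι ∘ c.θ) = _
  rw [Set.range_comp, h.range_eq, Set.image_univ, Scheme.Opens.range_ι]
  rfl

/-- Restriction to the chart of `π_*`. -/
def push : Scheme.Modules.pushforward π ⋙ Scheme.Modules.pullback c.U.1.ι ≅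
    Scheme.Modules.pullback c.j ⋙ Scheme.Modules.pushforward (KRR.pr n c.B) :=
  Functor.isoWhiskerLeft _ (Scheme.Modules.restrictFunctorIsoPullback c.U.1.ι).symm ≪≫
  KFlatLib.pushRestrictIso π c.U.1 ≪≫
  Functor.isoWhiskerRight (Scheme.Modules.restrictFunctorIsoPullback (π ⁻¹ᵁ c.U.1).ι) _ ≪≫
  Functor.isoWhiskerLeft _ (Scheme.Modules.pushforwardCongr
      (show π ∣_ c.U.1 = inv c.θ ≫ KRR.pr n c.B by rw [← c.hθ, IsIso.inv_hom_id_assoc]) ≪≫
    (Scheme.Modules.pushforwardComp (inv c.θ) (KRR.pr n c.B)).symm ≪≫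
    Functor.isoWhiskerRight (pullIsoPush c.θ).symm _) ≪≫
  (Functor.associator _ _ _).symm ≪≫
  Functor.isoWhiskerRight (Scheme.Modules.pullbackComp c.θ (π ⁻¹ᵁ c.U.1).ι) _

theorem nonempty_O1 : Nonempty ((Scheme.Modules.pullback c.j).obj O1 ≅ Twist.twistOver n c.B 1) := by
  obtain ⟨e⟩ := c.twist
  exact ⟨((Scheme.Modules.pullbackComp c.θ (π ⁻¹ᵁ c.U.1).ι).app O1).symm ≪≫ e⟩

/-- Restriction to the chart of `π^*`. -/
def pull (N : X.Modules) : (Scheme.Modules.pullback c.j).obj ((Scheme.Modules.pullback π).obj N) ≅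
    (Scheme.Modules.pullback (KRR.pr n c.B)).obj ((Scheme.Modules.pullback c.U.1.ι).obj N) :=
  (Scheme.Modules.pullbackComp c.j π).app N ≪≫ (Scheme.Modules.pullbackCongr c.j_π).app N ≪≫
    ((Scheme.Modules.pullbackComp (KRR.pr n c.B) c.U.1.ι).app N).symm

end Chart

set_option maxHeartbeats 1600000 in
/-- There is a finite atlas. -/
theorem exists_atlas [CompactSpace X] {E : X.Modules} {q : (Scheme.Modules.pullback π).obj E ⟶ O1}
    (hP : KRR.IsProjBundle π E O1 q) (hE : FlatMod.IsFinLocFreeOfRank (n + 1) E) (hG : FlatMod.IsFinLocFree G) :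
    ∃ s : Finset X, ∃ a : X → Chart π O1 G n, ∀ x : X, ∃ y ∈ s, x ∈ (a y).U.1 := by
  classical
  have hch : ∀ x : X, ∃ c : Chart π O1 G n, x ∈ c.U.1 := fun x => by
    obtain ⟨U₁, b, hx₁, hb⟩ := KvbModel.frameAt_of_rank hE x
    obtain ⟨U₂, k, hx₂, ⟨e⟩⟩ := hG x
    obtain ⟨s, hs⟩ := H23.Frame.exists_frame e
    obtain ⟨_, ⟨W, hW, rfl⟩, hx, hWle⟩ := X.isBasis_affineOpens.exists_subset_of_mem_open
      (show x ∈ U₁ ⊓ U₂ from ⟨hx₁, hx₂⟩) (U₁ ⊓ U₂).2
    have h₁ : (W : X.Opens) ≤ U₁ := fun z hz => (hWle hz).1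
    have h₂ : (W : X.Opens) ≤ U₂ := fun z hz => (hWle hz).2
    obtain ⟨θ, hθi, hθ, hθe⟩ := PBChart.exists_chart (U := W) hP (hb.res h₁)
    obtain ⟨e'⟩ := H23.Frame.exists_iso_of_frame _ (hs.res h₂)
    exact ⟨⟨⟨W, hW⟩, θ, hθi, hθ, hθe, k,
      ⟨((Scheme.Modules.restrictFunctorIsoPullback (Scheme.Opens.ι W)).app G).symm ≪≫ e'⟩⟩, hx⟩
  choose a ha using hch
  obtain ⟨s, hs⟩ := (isCompact_univ (X := X)).elim_finite_subcover (fun x : X => ((a x).U.1 : Set X))
    (fun x => (a x).U.1.2) fun y _ => Set.mem_iUnion.2 ⟨y, ha y⟩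
  refine ⟨s, a, fun x => ?_⟩
  obtain ⟨y, hy, h⟩ := Set.mem_iUnion₂.1 (hs (Set.mem_univ x))
  exact ⟨y, hy, h⟩

end Groth.Agent.H28.PBAtlas
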