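import Groth.Agent.PBlow.Chart
import Groth.Agent.H23.GrassFlag
import Groth.Agent.H23.ProjBd.Coords
import Groth.Agent.H28.PBAtlas

/-!
# A bundle with coordinates is a projective bundle
-/

set_option autoImplicit false
set_option linter.style.haveILetI false
set_option linter.unusedSectionVars false
set_option backward.isDefEq.respectTransparency false
set_option backward.isDefEq.respectTransparency.types false

universe u

open CategoryTheory CategoryTheory.Limits AlgebraicGeometry TopologicalSpace Opposite MvPolynomial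

noncomputable section

namespace Groth.Agent.H28.PBExist

open Groth.Agent Groth.Agent.AModX Groth.Agent.PBlow Grass

/-- A quotient of an inverse image generates. -/
theorem exists_mem_locus_of_epi {X P : Scheme.{u}} {π : P ⟶ X} {E : X.Modules} {O1 : P.Modules}
    (q : (Scheme.Modules.pullback π).obj E ⟶ O1) [Epi q] (hinv : FlatMod.IsFinLocFreeOfRank 1 O1) {U : X.Opens}
    {n : ℕ} (b : Fin n → Γ(E, U)) (hb : H23.Frame.IsFrame E b) {p : P} (hp : p ∈ π ⁻¹ᵁ U) :
    ∃ k, p ∈ locus q b k := by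
  obtain ⟨W₀, hpW, ε₀, hε₀⟩ := exists_frame_rank_one hinv p
  let W := W₀ ⊓ π ⁻¹ᵁ U
  let ε := res O1 (inf_le_left : W ≤ W₀) ε₀
  have hε : InvX.IsFrame ε := hε₀.res _
  have hc := fun i => hε.exists_coord le_rfl (res O1 (inf_le_right : W ≤ π ⁻¹ᵁ U) (sig q b i))
  choose g hg using hc
  simp only [res_self] at hg
  by_cases H : ∃ i, p ∈ P.basicOpen (g i)
  · obtain ⟨i, hi⟩ := H
    exact ⟨i, basicOpen_le_locus q b inf_le_right hε (hg i) hi⟩
  exfalso
  push Not at H
  let h := P.fromSpecResidueField p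
  let K := Spec (P.residueField p)
  have hW : (⊤ : K.Opens) ≤ h ⁻¹ᵁ W := fun z _ => by
    show P.fromSpecResidueField p z ∈ W
    rw [Scheme.fromSpecResidueField_apply]
    exact ⟨hpW, hp⟩
  obtain ⟨e, he⟩ := exists_iso_of_frame (isFrame_pullSec h hW hε)
  haveI : (Scheme.Modules.pullback h).IsLeftAdjoint :=
    (Scheme.Modules.pullbackPushforwardAdjunction h).isLeftAdjoint
  let s := (Scheme.Modules.pullbackCongr (rfl : h ≫ π = h ≫ π)).inv.app E ≫
    (Scheme.Modules.pullbackComp h π).inv.app E ≫ (Scheme.Modules.pullback h).map q ≫ e.hom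
  haveI : Epi s := inferInstance
  have hzero : ∀ i, h.appLE W ⊤ hW (g i) = 0 := fun i => by
    by_contra hne
    have hf : IsField Γ(K, ⊤) := (MulEquiv.isField (Field.toIsField (P.residueField p))
      (Scheme.ΓSpecIso (P.residueField p)).commRingCatIsoToRingEquiv.toMulEquiv)
    obtain ⟨c, hc⟩ := hf.mul_inv_cancel hne
    have hu := K.basicOpen_of_isUnit (IsUnit.of_mul_eq_one c hc)
    rw [Scheme.basicOpen_appLE] at hu
    obtain ⟨z⟩ : Nonempty K := inferInstanceAs (Nonempty (PrimeSpectrum (P.residueField p)))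
    have : z ∈ (⊤ : K.Opens) ⊓ h ⁻¹ᵁ P.basicOpen (g i) := by rw [hu]; trivial
    have h2 : P.fromSpecResidueField p z ∈ P.basicOpen (g i) := this.2
    rw [Scheme.fromSpecResidueField_apply] at h2
    exact H i h2
  have hgU : (⊤ : K.Opens) ≤ (h ≫ π) ⁻¹ᵁ U := hW.trans (h.preimage_mono inf_le_right)
  have hs : s = 0 := hom_ext_frame (h ≫ π) hb hgU fun i => by
    refine (comp_app q b h _ rfl e hgU hgU i).trans ?_
    have h1 : QCoh.pullSec h O1 hgU (sig q b i) = h.appLE W ⊤ hW (g i) • QCoh.pullSec h O1 hW ε := by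
      rw [← QCoh.pullSec_smul, ← hg i, pullSec_restr]
    rw [h1, Scheme.Modules.Hom.app_smul, hzero i, zero_smul]
    rfl
  have h01 : (𝟙 (Coh.structureModule K)) = 0 := by rw [← cancel_epi s, hs, zero_comp, zero_comp]
  have h1 : (1 : Γ(K, ⊤)) = 0 :=
    congrArg (fun f : Coh.structureModule K ⟶ Coh.structureModule K =>
      Scheme.Modules.Hom.app f ⊤ (show Γ(Coh.structureModule K, ⊤) from (1 : Γ(K, ⊤)))) h01
  have : Nontrivial Γ(K, ⊤) := (Scheme.ΓSpecIso (P.residueField p)).commRingCatIsoToRingEquiv.symm.injective.nontrivial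
  exact one_ne_zero h1

/-- A surjection between lines is an isomorphism. -/
theorem isIso_of_epi_line {T : Scheme.{u}} {A B : T.Modules} (f : A ⟶ B) [Epi f]
    (hA : FlatMod.IsFinLocFreeOfRank 1 A) (hB : FlatMod.IsFinLocFreeOfRank 1 B) : IsIso f := by
  have hK : FlatMod.IsFinLocFree (kernel f) :=
    KFlatLib.isFinLocFree_kernel f (KvbModel.lf_of_rank hA) (KvbModel.lf_of_rank hB)
  have hz : IsZero (kernel f) := PBAtlas.isZero_of_frames fun x => by
    obtain ⟨r, hr⟩ := KvbModel.exists_frameAt hK x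
    have h2 := KvbModel.frameAt_ses (S := ShortComplex.mk (kernel.ι f) f (kernel.condition _))
      (KZ.kerSeq_shortExact f) hr (KvbModel.frameAt_of_rank hB x)
    have := KvbModel.frameAt_unique h2 (KvbModel.frameAt_of_rank hA x)
    obtain rfl : r = 0 := by omega
    exact hr
  haveI : Mono f := Preadditive.mono_of_isZero_kernel _ hz
  exact isIso_of_mono_of_epi f

section

variable {X P : Scheme.{u}} {π : P ⟶ X} {E : X.Modules} {O1 : P.Modules}
  (q : (Scheme.Modules.pullback π).obj E ⟶ O1)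

/-- Affine coordinate charts. -/
def Good {U : X.Opens} {m : ℕ} (b : Fin (m + 1) → Γ(E, U)) : Prop :=
  IsAffineOpen U ∧ H23.Frame.IsFrame E b ∧ (∀ p ∈ π ⁻¹ᵁ U, ∃ k, p ∈ locus q b k) ∧
    ∀ k, IsAffineOpen (locus q b k) ∧ Function.Bijective (coordHom q b k)

theorem good_of_coords {U : X.Opens} {m : ℕ} (b : Fin (m + 1) → Γ(E, U)) (hb : H23.Frame.IsFrame E b)
    (c : H23.ProjBd.Coords π O1 m U) (hs : ∀ l, c.s l = sig q b l) : Good q b := by
  have hle : ∀ j, c.W j ≤ locus q b j := fun j => le_locus q b (c.le j) (hs j ▸ c.frame j)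
  have heq : ∀ j, locus q b j = c.W j := fun k => le_antisymm (fun z hz => by
    obtain ⟨j, hj⟩ := c.cover z (locus_le q b k hz)
    by_cases hjk : j = k
    · exact hjk ▸ hj
    obtain ⟨i, rfl⟩ := Fin.exists_succAbove_eq (Ne.symm hjk)
    refine c.basicOpen_le j i ?_
    let W := c.W j ⊓ locus q b (j.succAbove i)
    have hfj : InvX.IsFrame (res O1 (inf_le_left.trans (c.le j) : W ≤ π ⁻¹ᵁ U) (c.s j)) := by
      have h := (c.frame j).res (inf_le_left : W ≤ c.W j)
      rwa [res_res] at h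
    have hfk : InvX.IsFrame (res O1 (inf_le_left.trans (c.le j) : W ≤ π ⁻¹ᵁ U) (c.s (j.succAbove i))) := by
      have h := (isFrame_sig q b (j.succAbove i)).res (inf_le_right : W ≤ locus q b (j.succAbove i))
      rw [res_res] at h
      rwa [hs]
    have hψ := congrArg (res O1 (inf_le_left : W ≤ c.W j)) (c.ψ_X j i)
    rw [res_smul, res_res, res_res] at hψ
    obtain ⟨d, hd⟩ := hfk.exists_coord le_rfl (res O1 (inf_le_left.trans (c.le j) : W ≤ π ⁻¹ᵁ U) (c.s j))
    rw [res_self, ← hψ, ← mul_smul] at hd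
    have hu : IsUnit (resR (inf_le_left : W ≤ c.W j) (c.ψ j (MvPolynomial.X i))) :=
      IsUnit.of_mul_eq_one d (hfj.coord_unique le_rfl (by rw [res_self, one_smul, mul_comm]; exact hd.symm))
    have h := P.basicOpen_of_isUnit hu
    have hz' : z ∈ P.basicOpen (resR (inf_le_left : W ≤ c.W j) (c.ψ j (MvPolynomial.X i))) := h.ge ⟨hj, hz⟩
    exact ((Scheme.basicOpen_res P (c.ψ j (MvPolynomial.X i)) (homOfLE (inf_le_left : W ≤ c.W j)).op).le hz').2) (hle k)
  have hcoord : ∀ k g, resR (heq k).ge (coordHom q b k g) = c.ψ k g := by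
    intro k g
    refine RingHom.congr_fun (f := (resR (heq k).ge).comp (coordHom q b k)) (g := c.ψ k) ?_ g
    refine MvPolynomial.ringHom_ext (fun a => ?_) fun i => ?_
    · rw [RingHom.comp_apply, coordHom_C, c.ψ_C]
      exact ConcreteCategory.congr_hom (Scheme.Hom.appLE_map π (locus_le q b k) (homOfLE (heq k).ge).op) a
    · rw [RingHom.comp_apply, coordHom_X]
      refine (c.frame k).coord_unique le_rfl ?_
      rw [res_self, c.ψ_X, hs, hs]
      have h := congrArg (res O1 (heq k).ge) (ratio_smul q b k (k.succAbove i))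
      rw [res_smul, res_res, res_res] at h
      exact h
  refine ⟨c.isAffine, hb, fun p hp => (c.cover p hp).imp fun j hj => hle j hj,
    fun k => ⟨(heq k) ▸ c.affine k, ?_⟩⟩
  have hbij : Function.Bijective (resR (heq k).ge) :=
    ⟨fun a b hab => by simpa [resR_resR] using congrArg (resR (heq k).le) hab,
      fun a => ⟨resR (heq k).le a, by simp [resR_resR]⟩⟩
  refine (Function.Bijective.of_comp_iff' hbij _).1 ?_
  have : (⇑(resR (heq k).ge) ∘ ⇑(coordHom q b k)) = c.ψ k := funext (hcoord k)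
  rw [this]
  exact c.bij k

variable {U : X.Opens} {m : ℕ} {b : Fin (m + 1) → Γ(E, U)}

/-- Morphisms to an affine open are determined by functions. -/
theorem hom_ext_affine {T : Scheme.{u}} {W : P.Opens} (hW : IsAffineOpen W) (h h' : T ⟶ P) (hh : ⊤ ≤ h ⁻¹ᵁ W)
    (hh' : ⊤ ≤ h' ⁻¹ᵁ W) (e : ∀ y : Γ(P, W), h.appLE W ⊤ hh y = h'.appLE W ⊤ hh' y) : h = h' := by
  haveI : IsAffine W.toScheme := hW
  have hr : ∀ (f : T ⟶ P), ⊤ ≤ f ⁻¹ᵁ W → Set.range f ⊆ Set.range W.ι := fun f hf => by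
    rintro _ ⟨z, rfl⟩
    rw [Scheme.Opens.range_ι]
    exact hf (show z ∈ (⊤ : T.Opens) from trivial)
  rw [← IsOpenImmersion.lift_fac W.ι h (hr h hh), ← IsOpenImmersion.lift_fac W.ι h' (hr h' hh')]
  congr 1
  refine ext_of_isAffine ?_
  ext x
  obtain ⟨y, rfl⟩ := (ConcreteCategory.bijective_of_isIso W.topIso.inv).2 x
  have key : ∀ (f : T ⟶ P) (hf : ⊤ ≤ f ⁻¹ᵁ W),
      (IsOpenImmersion.lift W.ι f (hr f hf)).appTop (W.topIso.inv y) = f.appLE W ⊤ hf y := fun f hf => by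
    have h1 := ConcreteCategory.congr_hom (Scheme.Hom.appLE_comp_appLE (IsOpenImmersion.lift W.ι f (hr f hf)) W.ι
      W ⊤ ⊤ W.ι_preimage_self.ge le_top) y
    rw [CommRingCat.comp_apply, appLE_top] at h1
    have h2 : W.ι.appLE W ⊤ W.ι_preimage_self.ge y = W.topIso.inv y := by
      simp [Scheme.Opens.topIso, Scheme.Opens.ι_appLE]
      rfl
    rw [h2] at h1
    refine h1.trans ?_
    simp only [IsOpenImmersion.lift_fac]
  exact (key h hh).trans ((e y).trans (key h' hh').symm)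

theorem rel_unique' (hG : Good q b) (hinv : FlatMod.IsFinLocFreeOfRank 1 O1) {T : Scheme.{u}} (h h' : T ⟶ P)
    (hh : h ≫ π = h' ≫ π) (t : Fin (m + 1) → Γ(T, ⊤)) {k : Fin (m + 1)} (hk : t k = 1)
    (hr : Rel q b h t) (hr' : Rel q b h' t) : h = h' := by
  have hV := le_preimage_of_rel q b hinv h t hk hr
  have hV' := le_preimage_of_rel q b hinv h' t hk hr'
  refine hom_ext_affine (hG.2.2.2 k).1 h h' hV hV' fun y => ?_
  obtain ⟨g, rfl⟩ := (hG.2.2.2 k).2.2 y
  refine RingHom.congr_fun (f := (h.appLE _ ⊤ hV).hom.comp (coordHom q b k))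
    (g := (h'.appLE _ ⊤ hV').hom.comp (coordHom q b k)) (MvPolynomial.ringHom_ext (fun a => ?_) fun i => ?_) g
  · show h.appLE _ ⊤ hV (coordHom q b k (C a)) = h'.appLE _ ⊤ hV' (coordHom q b k (C a))
    rw [coordHom_C]
    refine (ConcreteCategory.congr_hom (Scheme.Hom.appLE_comp_appLE h π U _ ⊤ (locus_le q b k) hV) a).trans
      (Eq.trans ?_ (ConcreteCategory.congr_hom (Scheme.Hom.appLE_comp_appLE h' π U _ ⊤ (locus_le q b k) hV') a).symm)
    simp only [hh]
  · show h.appLE _ ⊤ hV (coordHom q b k (MvPolynomial.X i)) = h'.appLE _ ⊤ hV' (coordHom q b k (MvPolynomial.X i))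
    rw [coordHom_X, value_eq q b h t hk hr hV, value_eq q b h' t hk hr' hV']

theorem exists_rel' (hG : Good q b) {T : Scheme.{u}} (g : T ⟶ X) (hgU : ⊤ ≤ g ⁻¹ᵁ U) (t : Fin (m + 1) → Γ(T, ⊤))
    {k : Fin (m + 1)} (hk : t k = 1) : ∃ h : T ⟶ P, h ≫ π = g ∧ Rel q b h t := by
  obtain ⟨hUa, -, -, hc⟩ := hG
  let V := locus q b k
  let e := RingEquiv.ofBijective (coordHom q b k) (hc k).2
  let φ : Γ(P, V) →+* Γ(T, ⊤) :=
    (eval₂Hom (g.appLE U ⊤ hgU).hom fun i => t (k.succAbove i)).comp e.symm.toRingHom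
  haveI : IsAffine V.toScheme := (hc k).1
  let h : T ⟶ P := T.toSpecΓ ≫ Spec.map (CommRingCat.ofHom φ) ≫ (hc k).1.fromSpec
  have hV : ⊤ ≤ h ⁻¹ᵁ V := fun z _ =>
    (hc k).1.range_fromSpec.le (Set.mem_range_self ((T.toSpecΓ ≫ Spec.map (CommRingCat.ofHom φ)) z))
  have happ : ∀ y, h.appLE V ⊤ hV y = φ y := fun y => by
    have h2 : (hc k).1.fromSpec.appLE V ⊤ (hc k).1.fromSpec_preimage_self.ge = (Scheme.ΓSpecIso Γ(P, V)).inv := by
      have h5 := (hc k).1.fromSpec_app_self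
      rw [Scheme.Hom.appLE]
      show (hc k).1.fromSpec.app (locus q b k) ≫ _ = _
      rw [h5, Category.assoc]
      simp [← Functor.map_comp]
      rfl
    have h3 := ConcreteCategory.congr_hom (Scheme.Hom.appLE_comp_appLE (T.toSpecΓ ≫ Spec.map (CommRingCat.ofHom φ))
      (hc k).1.fromSpec V ⊤ ⊤ (hc k).1.fromSpec_preimage_self.ge le_top) y
    rw [CommRingCat.comp_apply, h2, appLE_top, Scheme.Hom.comp_appTop, CommRingCat.comp_apply] at h3
    have h4 := ConcreteCategory.congr_hom (Scheme.ΓSpecIso_inv_naturality (CommRingCat.ofHom φ)) y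
    rw [CommRingCat.comp_apply, CommRingCat.comp_apply] at h4
    erw [← h4, Scheme.toSpecΓ_appTop] at h3
    simp only [Category.assoc] at h3
    refine h3.symm.trans ?_
    exact congrArg (fun f => f.hom (φ y)) (Scheme.ΓSpecIso Γ(T, ⊤)).inv_hom_id
  have hC : ∀ a, φ (π.appLE U V (locus_le q b k) a) = g.appLE U ⊤ hgU a := fun a => by
    rw [← coordHom_C q b k a]
    show eval₂Hom _ _ (e.symm (e (C a))) = _
    rw [RingEquiv.symm_apply_apply, eval₂Hom_C]
  have hU' : ⊤ ≤ (h ≫ π) ⁻¹ᵁ U := hV.trans (h.preimage_mono (locus_le q b k))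
  have hg : h ≫ π = g := by
    refine hom_ext_affine hUa (h ≫ π) g hU' hgU fun a => ?_
    refine (ConcreteCategory.congr_hom (Scheme.Hom.appLE_comp_appLE h π U V ⊤ (locus_le q b k) hV) a).symm.trans ?_
    rw [CommRingCat.comp_apply, happ, hC]
  refine ⟨h, hg, ?_⟩
  have hval : (fun i => h.appLE V ⊤ hV (ratio q b k i)) = t := funext fun i => by
    rw [happ]
    induction i using Fin.succAboveCases k with
    | x => rw [ratio_self, map_one, hk]
    | p i =>
      rw [← coordHom_X]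
      show eval₂Hom _ _ (e.symm (e (MvPolynomial.X i))) = _
      rw [RingEquiv.symm_apply_apply, eval₂Hom_X']
  exact hval ▸ rel_of_locus q b h hV

/-- Solutions of the classification problem. -/
def Sol {T : Scheme.{u}} (g : T ⟶ X) {L : T.Modules} (s : (Scheme.Modules.pullback g).obj E ⟶ L) (h : T ⟶ P) : Prop :=
  ∃ (hg : h ≫ π = g) (e : (Scheme.Modules.pullback h).obj O1 ≅ L), quotBC hg q ≫ e.hom = s

theorem sol_comp {T : Scheme.{u}} {g : T ⟶ X} {L L' : T.Modules} {s : (Scheme.Modules.pullback g).obj E ⟶ L}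
    {h : T ⟶ P} (hs : Sol q g s h) (φ : L ≅ L') : Sol q g (s ≫ φ.hom) h := by
  obtain ⟨hg, e, he⟩ := hs
  exact ⟨hg, e ≪≫ φ, by rw [Iso.trans_hom, ← Category.assoc, he]⟩

theorem sol_restrict {T T' : Scheme.{u}} {g : T ⟶ X} {L : T.Modules} {s : (Scheme.Modules.pullback g).obj E ⟶ L}
    {h : T ⟶ P} (hs : Sol q g s h) (j : T' ⟶ T) {g' : T' ⟶ X} (hj : j ≫ g = g') :
    Sol q g' (quotBC hj s) (j ≫ h) := by
  obtain ⟨hg, e, he⟩ := hs
  have hπ : (j ≫ h) ≫ π = g' := by rw [Category.assoc, hg, hj]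
  have key := H23.GrassFlag.quotBC_quotBC (E := E) (π' := g) (a := h) (b := j) (g := j ≫ h) (g' := g')
    hg rfl hπ hj q e.hom
  have h2 : quotBC (E := O1) (rfl : j ≫ h = j ≫ h) e.hom =
      (Scheme.Modules.pullbackComp j h).inv.app O1 ≫ (Scheme.Modules.pullback j).map e.hom := by
    simp [quotBC, Scheme.Modules.pullbackCongr]
  refine ⟨hπ, ((Scheme.Modules.pullbackComp j h).app O1).symm ≪≫ (Scheme.Modules.pullback j).mapIso e, ?_⟩
  rw [he] at key
  rw [← key, h2]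
  rfl

theorem sol_chart (hG : Good q b) (hinv : FlatMod.IsFinLocFreeOfRank 1 O1) {T : Scheme.{u}} (g : T ⟶ X)
    (hgU : ⊤ ≤ g ⁻¹ᵁ U) {L : T.Modules} (s : (Scheme.Modules.pullback g).obj E ⟶ L) (k : Fin (m + 1))
    (hk : InvX.IsFrame (s.app ⊤ (QCoh.pullSec g E hgU (b k)))) : ∃! h : T ⟶ P, Sol q g s h := by
  obtain ⟨ι, hι⟩ := exists_iso_of_frame hk
  let t : Fin (m + 1) → Γ(T, ⊤) := fun i => (s ≫ ι.hom).app ⊤ (QCoh.pullSec g E hgU (b i))
  have htk : t k = 1 := hι
  obtain ⟨h, hg, hle, e, he⟩ := exists_rel' q hG g hgU t htk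
  have to_rel : ∀ h' : T ⟶ P, Sol q g s h' → h' ≫ π = g ∧ Rel q b h' t := fun h' hs => by
    obtain ⟨hg', e', he'⟩ := sol_comp q hs ι
    have hle' : ⊤ ≤ h' ⁻¹ᵁ (π ⁻¹ᵁ U) := by subst hg'; exact hgU
    refine ⟨hg', hle', e', fun i => ?_⟩
    refine (comp_app q b h' g hg' e' hgU hle' i).symm.trans ?_
    exact congrArg (fun f => Scheme.Modules.Hom.app f ⊤ (QCoh.pullSec g E hgU (b i))) he'
  have h0 : quotBC hg q ≫ e.hom = s ≫ ι.hom :=
    hom_ext_frame g hG.2.1 hgU fun i => (comp_app q b h g hg e hgU hle i).trans (he i)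
  refine ⟨h, ⟨hg, e ≪≫ ι.symm, ?_⟩, fun h' hs => ?_⟩
  · show quotBC hg q ≫ e.hom ≫ ι.inv = s
    rw [← Category.assoc, h0, Category.assoc, Iso.hom_inv_id, Category.comp_id]
  · exact rel_unique' q hG hinv h' h ((to_rel h' hs).1.trans hg.symm) t htk (to_rel h' hs).2 ⟨hle, e, he⟩

theorem quotBC_app {T T' : Scheme.{u}} {g : T ⟶ X} {L : T.Modules} (s : (Scheme.Modules.pullback g).obj E ⟶ L)
    (j : T' ⟶ T) {g' : T' ⟶ X} (hj : j ≫ g = g') (hgU : ⊤ ≤ g' ⁻¹ᵁ U) (hle : ⊤ ≤ j ⁻¹ᵁ (g ⁻¹ᵁ U)) (i : Fin (m + 1)) :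
    (quotBC hj s).app ⊤ (QCoh.pullSec g' E hgU (b i)) = QCoh.pullSec j L hle (sig s b i) := by
  have h := comp_app s b j g' hj (Iso.refl _) hgU hle i
  rw [Iso.refl_hom, Category.comp_id] at h
  exact h

theorem restrict_kernel_zero {T T' : Scheme.{u}} (j : T' ⟶ T) [IsOpenImmersion j] {g : T ⟶ X} {L M : T.Modules}
    {B : T'.Modules} (a : (Scheme.Modules.pullback g).obj E ⟶ M) (s : (Scheme.Modules.pullback g).obj E ⟶ L)
    (v : (Scheme.Modules.pullback (j ≫ g)).obj E ⟶ B) (e1 : B ≅ (Scheme.Modules.pullback j).obj M)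
    (e3 : B ≅ (Scheme.Modules.pullback j).obj L) (h1 : v ≫ e1.hom = quotBC (rfl : j ≫ g = j ≫ g) a)
    (h3 : v ≫ e3.hom = quotBC (rfl : j ≫ g = j ≫ g) s) :
    (Scheme.Modules.restrictFunctor j).map (kernel.ι a ≫ s) = 0 := by
  have hu : ∀ {N : T.Modules} (u : (Scheme.Modules.pullback g).obj E ⟶ N),
      (Scheme.Modules.pullback j).map u =
        (Scheme.Modules.pullbackComp j g).hom.app E ≫ quotBC (rfl : j ≫ g = j ≫ g) u := fun u => by
    simp [quotBC, Scheme.Modules.pullbackCongr]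
  have hmap : (Scheme.Modules.pullback j).map (kernel.ι a ≫ s) = 0 := by
    have e : (Scheme.Modules.pullback j).map s = (Scheme.Modules.pullback j).map a ≫ e1.inv ≫ e3.hom := by
      rw [hu s, hu a, ← h1, ← h3]
      simp
    rw [Functor.map_comp, e, ← Category.assoc, ← Functor.map_comp, kernel.condition, Functor.map_zero, zero_comp]
  have hn := (Scheme.Modules.restrictFunctorIsoPullback j).hom.naturality (kernel.ι a ≫ s)
  rw [hmap, comp_zero] at hn
  exact (cancel_mono _).1 (hn.trans zero_comp.symm)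

set_option maxHeartbeats 1000000 in
/-- A bundle with coordinates is a projective bundle. -/
theorem isProjBundle (hinv : FlatMod.IsFinLocFreeOfRank 1 O1)
    (hcov : ∀ x : X, ∃ (U : X.Opens) (m : ℕ) (b : Fin (m + 1) → Γ(E, U)), x ∈ U ∧ Good q b) :
    KRR.IsProjBundle π E O1 q := by
  have hepi : Epi q := by
    refine Preadditive.epi_of_cancel_zero _ fun {Z} φ hφ => ?_
    refine Scheme.Modules.hom_ext _ _ fun V => ?_
    ext x
    refine eq_of_locally _ _ fun p hp => ?_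
    obtain ⟨U, m, b, hxU, -, hb, hcv, -⟩ := hcov (π p)
    obtain ⟨k, hk⟩ := hcv p hxU
    let W := V ⊓ locus q b k
    refine ⟨W, inf_le_left, ⟨hp, hk⟩, ?_⟩
    obtain ⟨c, hc⟩ := (isFrame_sig q b k).exists_coord (inf_le_right : W ≤ locus q b k)
      (res O1 (inf_le_left : W ≤ V) x)
    have h0 : φ.app (π ⁻¹ᵁ U) (sig q b k) = 0 :=
      congrArg (fun f => Scheme.Modules.Hom.app f (π ⁻¹ᵁ U) (InvX.pullElt π (b k))) hφ
    rw [res_res] at hc
    rw [← app_res, hc, Scheme.Modules.Hom.app_smul, app_res, h0, map_zero, smul_zero]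
    exact (map_zero (res Z (inf_le_left : W ≤ V))).symm
  refine ⟨hinv, hepi, fun T g L hL s hs => ?_⟩
  haveI := hepi
  haveI := hs
  have hlocal : ∀ y : T, ∃ V : T.Opens, y ∈ V ∧ ∀ (T' : Scheme.{u}) (j : T' ⟶ T), ⊤ ≤ j ⁻¹ᵁ V →
      ∃! h : T' ⟶ P, Sol q (j ≫ g) (quotBC rfl s) h := fun y => by
    obtain ⟨U, m, b, hxU, hG⟩ := hcov (g y)
    obtain ⟨k, hk⟩ := exists_mem_locus_of_epi s hL b hG.2.1 hxU
    refine ⟨locus s b k, hk, fun T' j hj => ?_⟩
    have hle : ⊤ ≤ j ⁻¹ᵁ (g ⁻¹ᵁ U) := hj.trans (j.preimage_mono (locus_le s b k))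
    refine sol_chart q hG hinv (j ≫ g) hle (quotBC rfl s) k ?_
    rw [quotBC_app s j rfl hle hle k, ← pullSec_restr j (locus_le s b k) hj]
    exact isFrame_pullSec j hj (isFrame_sig s b k)
  choose V hyV hV using hlocal
  let 𝒰 := T.openCoverOfIsOpenCover V (IsOpenCover.mk (eq_top_iff.2 fun y _ => Opens.mem_iSup.2 ⟨y, hyV y⟩))
  have huniq : ∀ h h' : T ⟶ P, Sol q g s h → Sol q g s h' → h = h' := fun h h' hh hh' => by
    refine Scheme.Cover.hom_ext 𝒰 _ _ fun (y : T) => ?_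
    exact (hV y _ (V y).ι (V y).ι_preimage_self.ge).unique (sol_restrict q hh (V y).ι rfl)
      (sol_restrict q hh' (V y).ι rfl)
  choose hy hhy using fun y => (hV y _ (V y).ι (V y).ι_preimage_self.ge).exists
  have hcompat : ∀ y y' : T, pullback.fst (V y).ι (V y').ι ≫ hy y = pullback.snd (V y).ι (V y').ι ≫ hy y' := by
    intro y y'
    let a := pullback.fst (V y).ι (V y').ι
    let a' := pullback.snd (V y).ι (V y').ι
    have hle : ⊤ ≤ (a ≫ (V y).ι) ⁻¹ᵁ V y := fun z _ => (a z).2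
    have key : ∀ (z : T) (b : pullback (V y).ι (V y').ι ⟶ (V z : Scheme.{u})) (hb : b ≫ (V z).ι = a ≫ (V y).ι),
        Sol q ((a ≫ (V y).ι) ≫ g) (quotBC rfl s) (b ≫ hy z) := fun z b hb => by
      have hg' : b ≫ (V z).ι ≫ g = (a ≫ (V y).ι) ≫ g := by rw [← Category.assoc, hb]
      have h1 := sol_restrict q (hhy z) b hg'
      have k := H23.GrassFlag.quotBC_quotBC (E := E) (π := g) (π' := (V z).ι ≫ g) (a := (V z).ι) (b := b)
        (g := a ≫ (V y).ι) (g' := (a ≫ (V y).ι) ≫ g) rfl hb rfl hg' s (𝟙 _)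
      rw [Category.comp_id] at k
      let ψ : (Scheme.Modules.pullback (a ≫ (V y).ι)).obj L ≅
          (Scheme.Modules.pullback b).obj ((Scheme.Modules.pullback (V z).ι).obj L) :=
        (Scheme.Modules.pullbackCongr hb).symm.app L ≪≫ ((Scheme.Modules.pullbackComp b (V z).ι).app L).symm
      have hψ : quotBC hb (𝟙 ((Scheme.Modules.pullback (V z).ι).obj L)) = ψ.hom := by
        simp [quotBC, ψ]
      rw [← k, hψ] at h1
      have e0 : ∀ {A : (pullback (V y).ι (V y').ι).Modules}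
          (u : A ⟶ (Scheme.Modules.pullback (a ≫ (V y).ι)).obj L), (u ≫ ψ.hom) ≫ ψ.symm.hom = u := fun u => by
        rw [Category.assoc, Iso.symm_hom, Iso.hom_inv_id, Category.comp_id]
      have h2 := sol_comp q h1 ψ.symm
      rwa [e0] at h2
    exact (hV y _ (a ≫ (V y).ι) hle).unique (key y a rfl) (key y' a' pullback.condition.symm)
  let h := 𝒰.glueMorphisms hy hcompat
  have hι : ∀ y, (V y).ι ≫ h = hy y := fun y => 𝒰.ι_glueMorphisms hy hcompat y
  have hg : h ≫ π = g := Scheme.Cover.hom_ext 𝒰 _ _ fun (y : T) => by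
    show (V y).ι ≫ h ≫ π = (V y).ι ≫ g
    rw [← Category.assoc, hι]
    exact (hhy y).choose
  haveI : Epi (quotBC hg q) := H23.GrassFlag.epi_quotBC hg q
  have h00 : Sol q g (quotBC hg q) h := ⟨hg, Iso.refl _, Category.comp_id (quotBC hg q)⟩
  have hker : kernel.ι (quotBC hg q) ≫ s = 0 := by
    refine Scheme.Modules.hom_ext _ _ fun W => ?_
    ext x
    refine eq_of_locally _ _ fun y hyW => ?_
    obtain ⟨hg1, e1, he1⟩ := sol_restrict q h00 (V y).ι (g' := (V y).ι ≫ g) rfl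
    have h2 : Sol q ((V y).ι ≫ g) (quotBC rfl s) ((V y).ι ≫ h) := by
      rw [hι y]; exact hhy y
    obtain ⟨hg2, e3, he3⟩ := h2
    let O := (V y).ι ''ᵁ ((V y).ι ⁻¹ᵁ W)
    refine ⟨O, ?_, ⟨⟨y, hyV y⟩, hyW, rfl⟩, ?_⟩
    · rintro _ ⟨z, hz, rfl⟩; exact hz
    · have hr : (Scheme.Modules.restrictFunctor (V y).ι).map (kernel.ι (quotBC hg q) ≫ s) = 0 :=
        restrict_kernel_zero (V y).ι (quotBC hg q) s (quotBC hg1 q) e1 e3 he1 he3
      have hO : O ≤ W := by rintro _ ⟨z, hz, rfl⟩; exact hz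
      rw [← app_res]
      refine (congrArg (fun ψ => Scheme.Modules.Hom.app ψ ((V y).ι ⁻¹ᵁ W) (res _ hO x)) hr).trans ?_
      exact (map_zero (res L hO)).symm
  let e := Abelian.epiDesc (quotBC hg q) s hker
  have hse : quotBC hg q ≫ e = s := Abelian.comp_epiDesc _ _ _
  haveI : Epi (quotBC hg q ≫ e) := by rw [hse]; exact hs
  haveI : Epi e := epi_of_epi (quotBC hg q) e
  haveI : IsIso e := isIso_of_epi_line e (H23.GrassFlag.rank_pullback h hinv) hL
  refine ⟨h, ⟨hg, asIso e, ?_⟩, fun h' hh' => ?_⟩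
  · simpa [quotBC] using hse
  · obtain ⟨hg', e', he'⟩ := hh'
    exact huniq h' h ⟨hg', e', by simpa [quotBC] using he'⟩ ⟨hg, asIso e, hse⟩

end

end Groth.Agent.H28.PBExist
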