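import Groth.Agent.H28.PBSym
import Groth.Agent.RelTildeX.ExistsTwist
import Groth.Agent.RelTildeX.Invertible
import Groth.Agent.H23.ProjBd.OfRelProj

/-!
The canonical map from a module to the direct image of the fundamental sheaf of its projective bundle.
-/

noncomputable section

universe u

set_option autoImplicit false
set_option linter.style.haveILetI false
set_option linter.unusedSectionVars false
set_option backward.isDefEq.respectTransparency false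
set_option backward.isDefEq.respectTransparency.types false

open CategoryTheory AlgebraicGeometry TopologicalSpace Opposite
open Groth.Agent Groth.Agent.AModX Groth.Agent.SymAlgX
open scoped HomogeneousIdeal

namespace Groth.Agent.H28.PBHom

/-- The constant `a / 1`. -/
abbrev over1 {A : Type u} [CommRing A] {𝒜 : ℕ → AddSubgroup A} [GradedRing 𝒜] (a : A) (y : ProjectiveSpectrum 𝒜) :
    GrTwist.Loc 𝒜 y :=
  Localization.mk a
    (⟨1, fun h => y.isPrime.ne_top ((Ideal.eq_top_iff_one _).mpr h)⟩ : y.asHomogeneousIdeal.toIdeal.primeCompl)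

variable {X P : Scheme.{u}} {E : X.Modules} {𝒮 : RelProj.QCGrAlg X} {j : E ⟶ 𝒮.toModule}
  (hj : RelProj.IsGrSymAlg E 𝒮 j) {p : P ⟶ X}
  {chart : ∀ (U : X.Opens) (hU : IsAffineOpen U), (((p ⁻¹ᵁ U : P.Opens) : Scheme.{u}) ≅ Proj (𝒮.deg U hU))}
  {O1 : P.Modules}
  {lam : ∀ (U : X.Opens) (hU : IsAffineOpen U),
    O1 ⟶ (Scheme.Modules.pushforward (RelProj.emb p chart U hU)).obj (GrTwist.twist (𝒮.deg U hU) 1)}
  (hO1 : RelProj.IsRelTwist 𝒮 p chart 1 O1 lam)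

local notation "𝐞" => RelProj.emb p chart

/-- The section with value `j(e) / 1`. -/
def fund (U : X.Opens) (hU : IsAffineOpen U) (e : Γ(E, U)) : Γ(O1, p ⁻¹ᵁ U) :=
  (Equiv.ofBijective _ (hO1.bijective U hU (p ⁻¹ᵁ U) le_rfl)).symm
    (show Γ(GrTwist.twist (𝒮.deg U hU) 1, 𝐞 U hU ⁻¹ᵁ (p ⁻¹ᵁ U)) from
      GrTwist.resN (𝒜 := 𝒮.deg U hU) 1 (homOfLE le_top : (𝐞 U hU ⁻¹ᵁ (p ⁻¹ᵁ U)) ⟶ ⊤).op
        (GrTwist.globalOf (𝒮.deg U hU) (⟨jv 𝒮.toQCAlg j U e, hj.2 U hU e⟩ : 𝒮.deg U hU 1)))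

theorem val_fund {U : X.Opens} (hU : IsAffineOpen U) (e : Γ(E, U)) {V : P.Opens} (hV : V ≤ p ⁻¹ᵁ U)
    (y : ↥(𝐞 U hU ⁻¹ᵁ V)) :
    GrTwist.val (V := 𝐞 U hU ⁻¹ᵁ V) ((lam U hU).app V (res O1 hV (fund hj hO1 U hU e))) y =
      over1 (jv 𝒮.toQCAlg j U e) y.1 := by
  rw [app_res]
  have h : (lam U hU).app (p ⁻¹ᵁ U) (fund hj hO1 U hU e) =
      (show Γ(GrTwist.twist (𝒮.deg U hU) 1, 𝐞 U hU ⁻¹ᵁ (p ⁻¹ᵁ U)) from
        GrTwist.resN (𝒜 := 𝒮.deg U hU) 1 (homOfLE le_top : (𝐞 U hU ⁻¹ᵁ (p ⁻¹ᵁ U)) ⟶ ⊤).op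
          (GrTwist.globalOf (𝒮.deg U hU) (⟨jv 𝒮.toQCAlg j U e, hj.2 U hU e⟩ : 𝒮.deg U hU 1))) :=
    (Equiv.ofBijective _ (hO1.bijective U hU (p ⁻¹ᵁ U) le_rfl)).apply_symm_apply _
  rw [h]
  rfl

include hO1 in
theorem eq_of_val {U : X.Opens} (hU : IsAffineOpen U) {V : P.Opens} (hV : V ≤ p ⁻¹ᵁ U) (s t : Γ(O1, V))
    (h : ∀ y : ↥(𝐞 U hU ⁻¹ᵁ V), GrTwist.val (V := 𝐞 U hU ⁻¹ᵁ V) ((lam U hU).app V s) y =
      GrTwist.val (V := 𝐞 U hU ⁻¹ᵁ V) ((lam U hU).app V t) y) : s = t :=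
  (hO1.bijective U hU V hV).1 (Subtype.ext (funext fun y => Subtype.ext (h y)))

variable (hP : RelProj.IsRelProj 𝒮 p chart)

include hP in
theorem fund_basic {U D : X.Opens} (hU : IsAffineOpen U) (hD : IsAffineOpen D)
    (h : RelTildeX.Exists.IsBasic U D) (e : Γ(E, U)) :
    res O1 (p.preimage_mono h.le) (fund hj hO1 U hU e) = fund hj hO1 D hD (res E h.le e) := by
  obtain ⟨r, rfl⟩ := h
  refine eq_of_val hO1 hD le_rfl _ _ fun y => ?_
  have hy' : (𝐞 U hU).base (ProjectiveSpectrum.comap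
      (𝒮.res hU (hU.basicOpen r) (X.basicOpen_le r)) (𝒮.irrelevant_le_map U hU r) y.1) ∈ p ⁻¹ᵁ X.basicOpen r := by
    have := RelTildeX.Exists.emb_pt p chart hP hU (hU.basicOpen r) ⟨r, rfl⟩ y.1
    rw [RelTildeX.Exists.pt] at this
    exact this.symm ▸ y.2
  refine (hO1.compat U hU r _ _ y.1 y.2 hy').trans ?_
  rw [val_fund hj hO1 hU e (p.preimage_mono (X.basicOpen_le r))]
  have h2 := val_fund hj hO1 hD (res E (X.basicOpen_le r) e) le_rfl y
  rw [res_self] at h2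
  refine Eq.trans ?_ h2.symm
  rw [over1, GrTwist.locMap_mk, over1]
  refine congr_arg₂ Localization.mk ?_ (Subtype.ext (map_one _))
  exact rB_jv 𝒮.toQCAlg j (X.basicOpen_le r) e

include hP in
theorem appLE_emb {U : X.Opens} (hU : IsAffineOpen U) {f : 𝒮.presheaf.obj (op U)} {m : ℕ}
    (hf : f ∈ 𝒮.deg U hU m) (hm : 0 < m) (hle : Proj.basicOpen (𝒮.deg U hU) f ≤ (𝐞 U hU ≫ p) ⁻¹ᵁ U) :
    (𝐞 U hU ≫ p).appLE U (Proj.basicOpen (𝒮.deg U hU) f) hle =
      𝒮.strZero U hU ≫ CommRingCat.ofHom (HomogeneousLocalization.fromZeroRingHom (𝒮.deg U hU) _) ≫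
        Proj.awayToSection (𝒮.deg U hU) f := by
  let 𝒜 := 𝒮.deg U hU
  let hDa : IsAffineOpen (Proj.basicOpen 𝒜 f) := Proj.isAffineOpen_basicOpen 𝒜 f hf hm
  apply Spec.map_injective
  rw [← cancel_mono hU.fromSpec, IsAffineOpen.SpecMap_appLE_fromSpec _ hU hDa]
  have hover : 𝐞 U hU ≫ p = Proj.toSpecZero 𝒜 ≫ Spec.map (𝒮.strZero U hU) ≫ hU.fromSpec := by
    rw [RelProj.emb, Category.assoc, ← hP.chart_over U hU, Iso.inv_hom_id_assoc]
  rw [hover, IsAffineOpen.fromSpec, Category.assoc, Iso.inv_comp_eq, IsAffineOpen.isoSpec_hom]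
  rw [← Category.assoc (Proj.basicOpen 𝒜 f).ι]
  have hz : (Proj.basicOpen 𝒜 f).ι ≫ Proj.toSpecZero 𝒜 =
      Proj.basicOpenToSpec 𝒜 f ≫
        Spec.map (CommRingCat.ofHom (HomogeneousLocalization.fromZeroRingHom 𝒜 _)) := by
    have h := Proj.awayι_toSpecZero 𝒜 f hf hm
    rw [Proj.awayι, Category.assoc, Iso.inv_comp_eq, Proj.basicOpenIsoSpec_hom] at h
    exact h
  rw [hz, Proj.basicOpenToSpec]
  simp only [Spec.map_comp, Category.assoc]
  rfl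

variable (hgen : 𝒮.IsGenDegOne)

set_option maxHeartbeats 1000000 in
include hP hgen in
theorem val_base {U : X.Opens} (hU : IsAffineOpen U) (r : Γ(X, U)) (y : ↥(𝐞 U hU ⁻¹ᵁ (p ⁻¹ᵁ U))) :
    (((𝐞 U hU).app (p ⁻¹ᵁ U) (p.app U r)).1 y).val = over1 ((𝒮.str.app (op U)).hom r) y.1 := by
  obtain ⟨f, hf, hfy⟩ : ∃ f ∈ 𝒮.deg U hU 1, f ∉ y.1.asHomogeneousIdeal := by
    by_contra! hall
    exact y.1.not_irrelevant_le (show ((𝒮.deg U hU)₊).toIdeal ≤ y.1.asHomogeneousIdeal.toIdeal from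
      RelTildeX.irrelevant_eq_span_deg_one hgen U hU ▸ Ideal.span_le.mpr hall)
  have hle : Proj.basicOpen (𝒮.deg U hU) f ≤ (𝐞 U hU ≫ p) ⁻¹ᵁ U := fun z _ =>
    RelTildeX.Exists.mem_of_chart p chart hU z
  have h1 : ((𝐞 U hU).app (p ⁻¹ᵁ U) (p.app U r)).1 y =
      ((𝐞 U hU ≫ p).appLE U (Proj.basicOpen (𝒮.deg U hU) f) hle r).1 ⟨y.1, hfy⟩ := rfl
  rw [h1, appLE_emb hP hU hf one_pos hle]
  refine (ProjectiveSpectrum.Proj.awayToSection_apply (𝒮.deg U hU) f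
    (HomogeneousLocalization.fromZeroRingHom (𝒮.deg U hU) (Submonoid.powers f) (𝒮.strZero U hU r))
    ⟨y.1, hfy⟩).trans ?_
  rw [over1, show (HomogeneousLocalization.fromZeroRingHom (𝒮.deg U hU) (Submonoid.powers f) (𝒮.strZero U hU r)).val =
    Localization.mk ((𝒮.str.app (op U)).hom r) (1 : Submonoid.powers f) from rfl, Localization.mk_eq_mk',
    Localization.mk_eq_mk', IsLocalization.map_mk']
  rfl

include hP hgen in
theorem fund_smul {U : X.Opens} (hU : IsAffineOpen U) (r : Γ(X, U)) (e : Γ(E, U)) :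
    fund hj hO1 U hU (r • e) = p.app U r • fund hj hO1 U hU e := by
  refine eq_of_val hO1 hU le_rfl _ _ fun y => ?_
  have h1 := val_fund hj hO1 hU (r • e) le_rfl y
  have h2 := val_fund hj hO1 hU e le_rfl y
  rw [res_self] at h1 h2
  rw [H23.ProjBd.val_smul hU, h1, h2, val_base hP hgen hU r y]
  rw [show jv 𝒮.toQCAlg j U (r • e) = (𝒮.str.app (op U)).hom r * jv 𝒮.toQCAlg j U e from
    Scheme.Modules.Hom.app_smul j r e, over1, over1, over1, Localization.mk_mul]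
  exact congrArg _ (Subtype.ext (mul_one (1 : 𝒮.presheaf.obj (op U))).symm)

theorem fund_add {U : X.Opens} (hU : IsAffineOpen U) (e e' : Γ(E, U)) :
    fund hj hO1 U hU (e + e') = fund hj hO1 U hU e + fund hj hO1 U hU e' := by
  refine eq_of_val hO1 hU le_rfl _ _ fun y => ?_
  have h1 := val_fund hj hO1 hU (e + e') le_rfl y
  have h2 := val_fund hj hO1 hU e le_rfl y
  have h3 := val_fund hj hO1 hU e' le_rfl y
  rw [res_self] at h1 h2 h3
  refine h1.trans (Eq.trans ?_ (congrArg (fun t => GrTwist.val (V := 𝐞 U hU ⁻¹ᵁ (p ⁻¹ᵁ U)) t y)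
    (map_add ((lam U hU).app (p ⁻¹ᵁ U)).hom _ _)).symm)
  show _ = GrTwist.val (V := 𝐞 U hU ⁻¹ᵁ (p ⁻¹ᵁ U)) _ y + GrTwist.val (V := 𝐞 U hU ⁻¹ᵁ (p ⁻¹ᵁ U)) _ y
  rw [h2, h3, over1, over1, over1, show jv 𝒮.toQCAlg j U (e + e') = jv 𝒮.toQCAlg j U e + jv 𝒮.toQCAlg j U e' from
    map_add (j.app U).hom e e', Localization.add_mk_self]

include hP in
theorem fund_res {U V : X.Opens} (hU : IsAffineOpen U) (hV : IsAffineOpen V) (i : V ≤ U) (e : Γ(E, U)) :
    res O1 (p.preimage_mono i) (fund hj hO1 U hU e) = fund hj hO1 V hV (res E i e) := by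
  refine AModX.eq_of_locally _ _ fun z hz => ?_
  obtain ⟨D, hD, hUD, hVD, hxD⟩ := RelTildeX.Exists.exists_common hU hV (x := p z) ⟨i hz, hz⟩
  refine ⟨p ⁻¹ᵁ D, p.preimage_mono hVD.le, hxD, ?_⟩
  rw [res_res, fund_basic hj hO1 hP hV hD hVD, res_res]
  exact fund_basic hj hO1 hP hU hD hUD e

include hP hgen in
theorem exists_hom : ∃ φ : E ⟶ (Scheme.Modules.pushforward p).obj O1,
    ∀ (U : X.Opens) (hU : IsAffineOpen U) (e : Γ(E, U)), φ.app U e = fund hj hO1 U hU e := by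
  let M := (Scheme.Modules.pushforward p).obj O1
  let Msh : TopCat.Sheaf AddCommGrpCat.{u} X.carrier := ⟨M.presheaf, M.isSheaf⟩
  let α : (Scheme.AffineZariskiSite.toOpensFunctor X).op ⋙ E.presheaf ⟶
      (Scheme.AffineZariskiSite.toOpensFunctor X).op ⋙ M.presheaf :=
    { app := fun U => AddCommGrpCat.ofHom
        (show Γ(E, U.unop.1) →+ Γ(O1, p ⁻¹ᵁ U.unop.1) from
          AddMonoidHom.mk' (fund hj hO1 U.unop.1 U.unop.2) (fund_add hj hO1 U.unop.2))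
      naturality := fun U V i => by
        ext e
        exact (fund_res hj hO1 hP U.unop.2 V.unop.2
          (Scheme.AffineZariskiSite.toOpens_mono (leOfHom i.unop)) e).symm }
  let eqv := Functor.IsCoverDense.restrictHomEquivHom (G := Scheme.AffineZariskiSite.toOpensFunctor X)
    (K := Opens.grothendieckTopology X) (ℱ := E.presheaf) (ℱ' := Msh)
  let β : E.presheaf ⟶ M.presheaf := eqv α
  have happ : ∀ (U : X.Opens) (hU : IsAffineOpen U) (e : Γ(E, U)), β.app (op U) e = fund hj hO1 U hU e :=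
    fun U hU e => ConcreteCategory.congr_hom (NatTrans.congr_app (eqv.symm_apply_apply α) (op ⟨U, hU⟩)) e
  refine ⟨⟨PresheafOfModules.homMk β fun O (r : Γ(X, O.unop)) (e : Γ(E, O.unop)) => ?_⟩, happ⟩
  refine AModX.eq_of_locally (M := M) _ _ fun x hx => ?_
  obtain ⟨_, ⟨U, hU, rfl⟩, hxU, hUO⟩ := X.isBasis_affineOpens.exists_subset_of_mem_open hx O.unop.2
  refine ⟨U, hUO, hxU, ?_⟩
  have hn : ∀ z : Γ(E, O.unop), res M hUO (β.app O z) = β.app (op U) (res E hUO z) := fun z =>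
    (ConcreteCategory.congr_hom (β.naturality (homOfLE hUO).op) z).symm
  show res M hUO (β.app O (r • e)) = res M hUO (r • (show Γ(M, O.unop) from β.app O e))
  rw [hn, res_smul, res_smul, hn, happ U hU, happ U hU]
  exact fund_smul hj hO1 hP hgen hU _ _

end Groth.Agent.H28.PBHom

end
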