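import Groth.Agent.H28.PBExist
import Groth.Agent.H28.PBHom
import Groth.Agent.H28.PBCores
import Groth.Agent.QCoh.LocFree
import Groth.Agent.Proj16.RelExist

/-!
Existence of projective bundles.
-/

noncomputable section

universe u

set_option autoImplicit false
set_option linter.style.haveILetI false
set_option linter.unusedSectionVars false
set_option backward.isDefEq.respectTransparency false
set_option backward.isDefEq.respectTransparency.types false

open CategoryTheory CategoryTheory.Limits AlgebraicGeometry TopologicalSpace Opposite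
open Groth.Agent Groth.Agent.AModX Groth.Agent.SymAlgX Groth.Agent.PBlow

namespace Groth.Agent.H28.PBMake

variable {X : Scheme.{u}} {E : X.Modules} {𝒮 : RelProj.QCGrAlg X} {j : E ⟶ 𝒮.toModule}

theorem exists_pres (hq : Coh.IsQCoh E) (hj : RelProj.IsGrSymAlg E 𝒮 j) {U : X.Opens} (hU : IsAffineOpen U)
    {n : ℕ} (b : Fin (n + 1) → Γ(E, U)) (hb : H23.Frame.IsFrame E b) :
    ∃ D : H23.ProjBd.ChartRing.Pres (𝒮.deg U hU) Γ(X, U) n,
      D.base = (𝒮.str.app (op U)).hom ∧ ∀ l, D.T l = jv 𝒮.toQCAlg j U (b l) := by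
  classical
  let L : (Fin (n + 1) → Γ(X, U)) →ₗ[Γ(X, U)] Γ(E, U) :=
    ∑ i, (LinearMap.proj (R := Γ(X, U)) i).smulRight (b i)
  have hL : Function.Bijective L := by
    refine Eq.subst (motive := Function.Bijective) (funext fun c => ?_) (hb U le_rfl)
    simp only [L, LinearMap.sum_apply, LinearMap.smulRight_apply, LinearMap.proj_apply, H23.Frame.comb]
    exact Finset.sum_congr rfl fun i _ => congrArg (c i • ·) (QCoh.map_id' _ _)
  let B : Module.Basis (Fin (n + 1)) Γ(X, U) Γ(E, U) := Module.Basis.ofEquivFun (LinearEquiv.ofBijective L hL).symm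
  have hB : ∀ l, B l = b l := fun l => by
    rw [Module.Basis.coe_ofEquivFun]
    simp [L, Pi.single_apply]
  let e := SymmetricAlgebra.equivMvPolynomial B
  refine ⟨{ base := (𝒮.str.app (op U)).hom
            base_mem := fun r => 𝒮.str_mem U hU r
            T := fun l => jv 𝒮.toQCAlg j U (b l)
            T_mem := fun l => hj.2 U hU (b l)
            bij := ?_ }, rfl, fun l => rfl⟩
  have : MvPolynomial.eval₂Hom (𝒮.str.app (op U)).hom (fun l => jv 𝒮.toQCAlg j U (b l)) =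
      (liftAt 𝒮.toQCAlg j U).comp e.symm.toRingEquiv.toRingHom := by
    refine MvPolynomial.ringHom_ext (fun r => ?_) fun l => ?_
    · rw [MvPolynomial.eval₂Hom_C]
      show _ = liftAt 𝒮.toQCAlg j U (e.symm (MvPolynomial.C r))
      rw [show e.symm (MvPolynomial.C r) = algebraMap _ _ r from e.symm.commutes r, liftAt_algebraMap]
    · rw [MvPolynomial.eval₂Hom_X']
      show _ = liftAt 𝒮.toQCAlg j U (e.symm (MvPolynomial.X l))
      rw [SymmetricAlgebra.equivMvPolynomial_symm_X, liftAt_ι, hB]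
  rw [this]
  exact (liftAt_bijective hq 𝒮.toQCAlg hj.1 hU).comp e.symm.bijective

/-- A quasi-coherent module which locally has frames has a projective bundle. -/
theorem exists_isProjBundle (hq : Coh.IsQCoh E)
    (hfr : ∀ x : X, ∃ (U : X.Opens) (n : ℕ) (b : Fin (n + 1) → Γ(E, U)), x ∈ U ∧ H23.Frame.IsFrame E b) :
    ∃ (P : Scheme.{u}) (p : P ⟶ X) (O1 : P.Modules) (q : (Scheme.Modules.pullback p).obj E ⟶ O1),
      KRR.IsProjBundle p E O1 q := by
  let 𝒮 := PBSym.grSymAlg hq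
  let j : E ⟶ 𝒮.toModule := symJ hq
  have hj : RelProj.IsGrSymAlg E 𝒮 j := PBSym.isGrSymAlg hq
  obtain ⟨P, p, chart, hP⟩ := Proj16.exists_isRelProj 𝒮
  obtain ⟨O1, lam, hO1⟩ := RelTildeX.Exists.exists_isRelTwist (𝒮 := 𝒮) p chart hP 1
  have hgen : 𝒮.IsGenDegOne := SymAlgX.isGenDegOne hq hj
  have hinv : FlatMod.IsFinLocFreeOfRank 1 O1 :=
    PBCores.isInvertible_iff_rank.1 (RelTildeX.isInvertible_twist hgen hO1)
  obtain ⟨φ, hφ⟩ := PBHom.exists_hom hj hO1 hP hgen
  let q := ((Scheme.Modules.pullbackPushforwardAdjunction p).homEquiv E O1).symm φ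
  refine ⟨P, p, O1, q, PBExist.isProjBundle q hinv fun x => ?_⟩
  obtain ⟨W, n, b₀, hxW, hb₀⟩ := hfr x
  obtain ⟨_, ⟨U, hU, rfl⟩, hxU, hUW⟩ := X.isBasis_affineOpens.exists_subset_of_mem_open hxW W.isOpen
  let b : Fin (n + 1) → Γ(E, U) := fun i => E.presheaf.map (homOfLE hUW).op (b₀ i)
  have hb : H23.Frame.IsFrame E b := hb₀.res hUW
  obtain ⟨D, hD, hT⟩ := exists_pres hq hj hU b hb
  refine ⟨U, n, b, hxU, PBExist.good_of_coords q b hb (H23.ProjBd.coordsOfPres hP hU D hD hO1) fun l => ?_⟩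
  have h1 : φ.app U (b l) = sig q b l := by
    show _ = q.app (p ⁻¹ᵁ U) (InvX.pullElt p (b l))
    rw [← ((Scheme.Modules.pullbackPushforwardAdjunction p).homEquiv E O1).apply_symm_apply φ,
      Adjunction.homEquiv_unit]
    rfl
  refine Eq.trans ?_ ((hφ U hU (b l)).symm.trans h1)
  show H23.ProjBd.sd hU D l hO1 = PBHom.fund hj hO1 U hU (b l)
  refine PBHom.eq_of_val hO1 hU le_rfl _ _ fun y => ?_
  have ha := H23.ProjBd.val_sd hU D l hO1 (le_rfl : p ⁻¹ᵁ U ≤ p ⁻¹ᵁ U) y
  have hc := PBHom.val_fund hj hO1 hU (b l) (le_rfl : p ⁻¹ᵁ U ≤ p ⁻¹ᵁ U) y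
  rw [res_self] at ha hc
  rw [ha, hc, hT]

theorem exists_of_rank {n : ℕ} (hE : FlatMod.IsFinLocFreeOfRank (n + 1) E) :
    ∃ (P : Scheme.{u}) (p : P ⟶ X) (O1 : P.Modules) (q : (Scheme.Modules.pullback p).obj E ⟶ O1),
      KRR.IsProjBundle p E O1 q :=
  exists_isProjBundle (QCoh.isQCoh_of_isFinLocFree (KvbModel.lf_of_rank hE)) fun x => by
    obtain ⟨U, hxU, ⟨i⟩⟩ := hE x
    obtain ⟨b, hb⟩ := H23.Frame.exists_frame i
    exact ⟨U, n, b, hxU, hb⟩

end Groth.Agent.H28.PBMake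

end
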