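import Groth.Agent.PnCoh.Finite.TwistInv
import Groth.Agent.PnCoh.Sections
import Groth.Agent.PicClLib.Basic
import Groth.Agent.KFlatLib.Scheme.PullTensorCx
import Groth.Agent.KFlatLib.Scheme.TensorAssoc
import Groth.Agent.KFlatLib.Perfect.LocFree
import Groth.Agent.KFlatLib.Scheme.Tensor
import Groth.Agent.QCoh.HHExact
import Groth.Agent.QCoh.Ab.Rpush
import Groth.Agent.TriCat.AcyclicObj
import Groth.Agent.KFlatLib.Perfect.Tensor
import Groth.Prelude.Def_KRR

/-!
# Regular sheaves on `P^n_T`: twists and short exact sequences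
-/

universe u

open CategoryTheory CategoryTheory.Limits AlgebraicGeometry TopologicalSpace

namespace Groth.Agent.H28.KRRReg

variable {n : ℕ} {T : Scheme.{u}}

/-- The coordinates over `ULift ℤ`. -/
noncomputable def crd (n : ℕ) : ULift.{u} (Fin (n + 1)) → MvPolynomial (Fin (n + 1)) (ULift.{u} ℤ) :=
  fun j => MvPolynomial.X j.down

theorem crd_mem (j : ULift.{u} (Fin (n + 1))) :
    crd n j ∈ CohB1.polyGrading n (ULift.{u} ℤ) 1 :=
  MvPolynomial.isHomogeneous_X _ j.down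

theorem crd_cover :
    ⨆ j, PnCoh.Finite.D (CohB1.polyGrading n (ULift.{u} ℤ)) (crd.{u} n j) = ⊤ := by
  refine top_le_iff.1 ?_
  refine le_trans (PnCoh.iSup_mOpen_single (ι := Fin (n + 1)) (R := ULift.{u} ℤ)).ge ?_
  exact iSup_le fun j => le_iSup_of_le (ULift.up j) le_rfl

theorem isInvertible_twistOver (d : ℤ) : PicF.IsInvertible (Twist.twistOver n T d) :=
  PicClLib.isInvertible_pullback _ (PnCoh.Finite.isInvertible_twist (crd n) crd_mem crd_cover d)

theorem twistOver_add (a b : ℤ) :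
    Nonempty (CohB1.tensorMod (Twist.twistOver n T a) (Twist.twistOver n T b) ≅
      Twist.twistOver n T (a + b)) := by
  obtain ⟨e⟩ := PnCoh.Finite.twist_tensor_iso (crd n) crd_mem crd_cover a b
  exact ⟨(((KFlatLib.pullTensorBiIso (pullback.fst (CohB1.ProjSpace.toSpec n (ULift.{u} ℤ))
    (specULiftZIsTerminal.from T))).app (Twist.twistProjSpace n (ULift.{u} ℤ) a)).app
    (Twist.twistProjSpace n (ULift.{u} ℤ) b)).symm ≪≫ (Scheme.Modules.pullback _).mapIso e⟩

theorem twF_twF (a b c : ℤ) (h : a + b = c) (F : (KRR.PY n T).Modules) :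
    Nonempty (KRR.twF n T a (KRR.twF n T b F) ≅ KRR.twF n T c F) := by
  subst h
  obtain ⟨e⟩ := twistOver_add (n := n) (T := T) a b
  exact ⟨((((KFlatLib.tensorAssocSch (KRR.PY n T)).app (Twist.twistOver n T a)).app
    (Twist.twistOver n T b)).app F).symm ≪≫ (DCoh.tensorBi.mapIso e).app F⟩

theorem twistOver_zero : Nonempty (Twist.twistOver n T 0 ≅ Coh.structureModule (KRR.PY n T)) := by
  obtain ⟨e⟩ := PicClLib.nonempty_pullback_structureModule
    (pullback.fst (CohB1.ProjSpace.toSpec n (ULift.{u} ℤ)) (specULiftZIsTerminal.from T))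
  exact ⟨(Scheme.Modules.pullback _).mapIso
    (@asIso _ _ _ _ _ (PnCoh.Finite.isIso_oneHom (crd n) crd_mem crd_cover)).symm ≪≫ e⟩

theorem twF_zero (F : (KRR.PY n T).Modules) : Nonempty (KRR.twF n T 0 F ≅ F) := by
  obtain ⟨e⟩ := twistOver_zero (n := n) (T := T)
  exact ⟨(DCoh.tensorBi.mapIso e).app F ≪≫ KFlatLib.structureTensorIso F⟩

variable {S : ShortComplex (KRR.PY n T).Modules}

/-- The twisted sequence of underlying abelian sheaves. -/
noncomputable abbrev twS (d : ℤ) (S : ShortComplex (KRR.PY n T).Modules) :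
    ShortComplex (Sheaf (Opens.grothendieckTopology (KRR.PY n T)) AddCommGrpCat.{u}) :=
  (S.map (DCoh.tensorBi.obj (Twist.twistOver n T d))).map (QCoh.toAbFunctor (KRR.PY n T))

theorem twS_shortExact (hS : S.ShortExact) (d : ℤ) : (twS d S).ShortExact :=
  QCoh.toAb_shortExact (ShortComplex.shortExact_of_iso
    (S.mapNatIso ((KFlatLib.tensorBiFlipIso (KRR.PY n T)).app (Twist.twistOver n T d)))
    (KFlatLib.flatObj_of_isFlat
    (KFlatLib.isFlat_of_isFinLocFree (fun x =>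
      let ⟨U, hx, ⟨e⟩⟩ := isInvertible_twistOver (n := n) (T := T) d x
      ⟨U, 1, hx, ⟨e ≪≫ (coproductUniqueIso fun _ : Fin 1 =>
        Coh.structureModule (U : Scheme.{u})).symm⟩⟩)) S hS))

/-- The vanishing expressed by regularity, transported along isomorphisms. -/
theorem isZero_R_of_iso {F G : (KRR.PY n T).Modules} (e : Nonempty (F ≅ G)) (i : ℕ)
    (h : IsZero ((Coh.RpushAb (KRR.pr n T) i).obj (Coh.toAb F))) :
    IsZero ((Coh.RpushAb (KRR.pr n T) i).obj (Coh.toAb G)) :=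
  h.of_iso ((Coh.RpushAb (KRR.pr n T) i).mapIso
    ((QCoh.toAbFunctor (KRR.PY n T)).mapIso e.some)).symm

theorem isReg_mid (hS : S.ShortExact) (hreg₁ : KRR.IsRegSheaf n T S.X₁)
    (hreg₃ : KRR.IsRegSheaf n T S.X₃) : KRR.IsRegSheaf n T S.X₂ := by
  intro i hi
  let := HasDerivedCategory.standard
    (Sheaf (Opens.grothendieckTopology (KRR.PY n T)) AddCommGrpCat.{u})
  let := HasDerivedCategory.standard (Sheaf (Opens.grothendieckTopology T) AddCommGrpCat.{u})
  obtain ⟨δ, w₁, w₂, w₃, h₁, -, -⟩ :=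
    TriCat.exists_rightDerived_ses (Coh.pushAb (KRR.pr n T)) (twS_shortExact hS (-(i : ℤ))) i
  exact h₁.isZero_X₂ ((hreg₁ i hi).eq_of_src _ _) ((hreg₃ i hi).eq_of_tgt _ _)

theorem isReg_quot (hS : S.ShortExact) (hreg₂ : KRR.IsRegSheaf n T S.X₂)
    (hreg₁ : KRR.IsRegSheaf n T (KRR.twF n T 1 S.X₁)) : KRR.IsRegSheaf n T S.X₃ := by
  intro i hi
  let := HasDerivedCategory.standard
    (Sheaf (Opens.grothendieckTopology (KRR.PY n T)) AddCommGrpCat.{u})
  let := HasDerivedCategory.standard (Sheaf (Opens.grothendieckTopology T) AddCommGrpCat.{u})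
  obtain ⟨δ, w₁, w₂, w₃, -, h₂, -⟩ :=
    TriCat.exists_rightDerived_ses (Coh.pushAb (KRR.pr n T)) (twS_shortExact hS (-(i : ℤ))) i
  exact h₂.isZero_X₂ ((hreg₂ i hi).eq_of_src _ _)
    ((isZero_R_of_iso (twF_twF (-((i + 1 : ℕ) : ℤ)) 1 (-(i : ℤ)) (by push_cast; ring) S.X₁) (i + 1)
      (hreg₁ (i + 1) (by omega))).eq_of_tgt _ _)

theorem epi_R_zero {A B : Sheaf (Opens.grothendieckTopology (KRR.PY n T)) AddCommGrpCat.{u}}
    (g : A ⟶ B) [Epi ((Coh.pushAb (KRR.pr n T)).map g)] :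
    Epi (((Coh.pushAb (KRR.pr n T)).rightDerived 0).map g) := by
  have := QCoh.Ab.push_preservesFiniteLimits (X := (KRR.PY n T).toPresheafedSpace.carrier)
    (Y := T.toPresheafedSpace.carrier) (KRR.pr n T).base
  have e := (Coh.pushAb (KRR.pr n T)).rightDerivedZeroIsoSelf.hom.naturality g
  rw [← IsIso.eq_comp_inv, Category.assoc] at e
  rw [e]
  infer_instance

theorem isReg_sub (hS : S.ShortExact) (hreg₂ : KRR.IsRegSheaf n T (KRR.twF n T 1 S.X₂))
    (hreg₃ : KRR.IsRegSheaf n T S.X₃)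
    (hepi : Epi ((Scheme.Modules.pushforward (KRR.pr n T)).map S.g)) :
    KRR.IsRegSheaf n T (KRR.twF n T 1 S.X₁) := by
  intro i hi
  obtain ⟨k, rfl⟩ := Nat.exists_eq_add_of_le' hi
  have key : ∀ M : (KRR.PY n T).Modules,
      Nonempty (KRR.twF n T (-((k + 1 : ℕ) : ℤ)) (KRR.twF n T 1 M) ≅ KRR.twF n T (-(k : ℤ)) M) :=
    fun M => twF_twF _ _ _ (by push_cast; ring) M
  let := HasDerivedCategory.standard
    (Sheaf (Opens.grothendieckTopology (KRR.PY n T)) AddCommGrpCat.{u})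
  let := HasDerivedCategory.standard (Sheaf (Opens.grothendieckTopology T) AddCommGrpCat.{u})
  obtain ⟨δ, w₁, w₂, w₃, -, -, h₃⟩ :=
    TriCat.exists_rightDerived_ses (Coh.pushAb (KRR.pr n T)) (twS_shortExact hS (-(k : ℤ))) k
  have hδ : δ = 0 := by
    obtain rfl | hk := Nat.eq_zero_or_pos k
    · obtain ⟨e₂⟩ := twF_zero S.X₂
      have nat : DCoh.tensorBi.obj (Twist.twistOver n T (-((0 : ℕ) : ℤ))) ≅ 𝟭 _ :=
        DCoh.tensorBi.mapIso (twistOver_zero (n := n) (T := T)).some ≪≫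
          ((KFlatLib.tensorBiFlipIso (KRR.PY n T)).app
            (Coh.structureModule (KRR.PY n T))).symm ≪≫
          KFlatLib.tensorStructureIso (KRR.PY n T)
      have hg : Epi ((Coh.pushAb (KRR.pr n T)).map (twS (-((0 : ℕ) : ℤ)) S).g) := by
        have := (QCoh.toAbFunctor T).preservesFiniteColimits_of_preservesHomology
        have : Epi ((QCoh.toAbFunctor T).map
          ((Scheme.Modules.pushforward (KRR.pr n T)).map S.g)) := by
          have := hepi
          infer_instance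
        have h' : Epi ((Coh.pushAb (KRR.pr n T)).map ((QCoh.toAbFunctor _).map S.g)) := this
        refine ((MorphismProperty.epimorphisms _).arrow_mk_iso_iff ?_).2 h'
        exact ((Functor.mapArrow (QCoh.toAbFunctor _ ⋙ Coh.pushAb (KRR.pr n T))).mapIso
          (((Functor.mapArrowFunctor _ _).mapIso nat).app (Arrow.mk S.g)))
      have := epi_R_zero (n := n) (T := T) (twS (-((0 : ℕ) : ℤ)) S).g
      rw [← cancel_epi (((Coh.pushAb (KRR.pr n T)).rightDerived 0).map (twS (-((0 : ℕ) : ℤ)) S).g), w₂,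
        comp_zero]
    · exact (hreg₃ k hk).eq_of_src _ _
  exact isZero_R_of_iso ⟨(key S.X₁).some.symm⟩ (k + 1)
    (h₃.isZero_X₂ hδ
      ((isZero_R_of_iso (key S.X₂) (k + 1) (hreg₂ (k + 1) (by omega))).eq_of_tgt _ _))

end Groth.Agent.H28.KRRReg
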