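import Groth.Agent.H28.GenBasis
import Groth.Agent.H28.PullVB
import Groth.Agent.H23.PicMul

/-!
# Base change for direct images of regular bundles of `P^n`
-/

set_option linter.style.haveILetI false
set_option linter.unusedSectionVars false
set_option backward.isDefEq.respectTransparency false
set_option backward.isDefEq.respectTransparency.types false

universe v w u

open CategoryTheory CategoryTheory.Limits AlgebraicGeometry TopologicalSpace

namespace Groth.Agent.H28.PnBC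

open Groth.Agent Groth.Agent.H28.KRRTw Groth.Agent.H28.KRRReg Groth.Agent.H28.KRegK0 Groth.Agent.H28.GenPsi

variable {n : ℕ} {Y Y₁ : Scheme.{u}} (φ : Y₁ ⟶ Y)

/-- The map of projective spaces. -/
noncomputable abbrev ψ : KRR.PY n Y₁ ⟶ KRR.PY n Y := KRR.projSpaceMap n φ

theorem ψ_pr : ψ (n := n) φ ≫ KRR.pr n Y = KRR.pr n Y₁ ≫ φ := pullback.lift_snd _ _ _

theorem ψ_toPn : ψ (n := n) φ ≫ toPn n Y = toPn n Y₁ :=
  (pullback.lift_fst _ _ _).trans (Category.comp_id _)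

theorem pullback_twistOver (d : ℤ) :
    Nonempty ((Scheme.Modules.pullback (ψ (n := n) φ)).obj (Twist.twistOver n Y d) ≅ Twist.twistOver n Y₁ d) :=
  ⟨(Scheme.Modules.pullbackComp (ψ (n := n) φ) (toPn n Y)).app (Twist.twistProjSpace n (ULift.{u} ℤ) d) ≪≫
    (Scheme.Modules.pullbackCongr (ψ_toPn φ)).app _⟩

theorem pullback_tw (d : ℤ) (E : (KRR.PY n Y).Modules) :
    Nonempty ((Scheme.Modules.pullback (ψ (n := n) φ)).obj ((Tw n Y d).obj E) ≅
      (Tw n Y₁ d).obj ((Scheme.Modules.pullback (ψ (n := n) φ)).obj E)) := by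
  obtain ⟨e⟩ := H23.PicMul.pull (ψ (n := n) φ) (Twist.twistOver n Y d) E
  obtain ⟨e'⟩ := pullback_twistOver (n := n) φ d
  refine ⟨?_⟩
  refine (show (Scheme.Modules.pullback (ψ (n := n) φ)).obj ((Tw n Y d).obj E) ≅ _ from e) ≪≫ ?_
  exact (DCoh.tensorBi.mapIso e').app ((Scheme.Modules.pullback (ψ (n := n) φ)).obj E)

/-- The inverse image of an inverse image. -/
noncomputable def pullP (G : Y.Modules) :
    (Scheme.Modules.pullback (ψ (n := n) φ)).obj (P n G) ≅ P n ((Scheme.Modules.pullback φ).obj G) :=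
  (Scheme.Modules.pullbackComp (ψ (n := n) φ) (KRR.pr n Y)).app G ≪≫
    (Scheme.Modules.pullbackCongr (ψ_pr φ)).app G ≪≫
      ((Scheme.Modules.pullbackComp (KRR.pr n Y₁) φ).app G).symm

section Res

variable [CompactSpace Y] {F : (KRR.PY n Y).Modules} (hF : RP n Y F)

/-- The inverse image of a syzygy. -/
noncomputable abbrev V (F : (KRR.PY n Y).Modules) (k : ℕ) : (KRR.PY n Y₁).Modules :=
  (Scheme.Modules.pullback (ψ (n := n) φ)).obj (RegRes.W F k)

include hF in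
theorem ses_V (k : ℕ) :
    ((ShortComplex.mk (kernel.ι (RegRes.eps (RegRes.W F k))) (RegRes.eps (RegRes.W F k)) (kernel.condition _)).map
      (Scheme.Modules.pullback (ψ (n := n) φ))).ShortExact := by
  have hs := RegRes.W_spec (QCoh.isQCoh_of_isFinLocFree hF.1) hF.2 k
  exact PullVB.shortExact_pullback _ (RegRes.shortExact_eps hs.1 hs.2)
    (KFlatLib.isFlat_of_isFinLocFree (GenBasis.lf_W hF k))

theorem ker_iso (k : ℕ) (b : ℤ) :
    Nonempty ((Tw n Y₁ b).obj ((Scheme.Modules.pullback (ψ (n := n) φ)).obj (kernel (RegRes.eps (RegRes.W F k)))) ≅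
      (Tw n Y₁ (b - 1)).obj (V φ F (k + 1))) := by
  obtain ⟨e⟩ := pullback_tw (n := n) φ 1 (kernel (RegRes.eps (RegRes.W F k)))
  obtain ⟨e'⟩ := twF_twF (n := n) (T := Y₁) (b - 1) 1 b (by ring)
    ((Scheme.Modules.pullback (ψ (n := n) φ)).obj (kernel (RegRes.eps (RegRes.W F k))))
  exact ⟨((Tw n Y₁ (b - 1)).mapIso e ≪≫ e').symm⟩

include hF in
theorem lf_push_W (k : ℕ) :
    FlatMod.IsFinLocFree ((Scheme.Modules.pushforward (KRR.pr n Y)).obj (RegRes.W F k)) :=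
  GenPush.isFinLocFree_push
    ⟨GenBasis.lf_W hF k, (RegRes.W_spec (QCoh.isQCoh_of_isFinLocFree hF.1) hF.2 k).2⟩

include hF in
/-- The inverse images of the syzygies are acyclic in a range. -/
theorem rz_V : ∀ j k : ℕ, n + 1 ≤ k + j → ∀ (b : ℤ) (q : ℕ),
    (1 ≤ q ∧ -(q : ℤ) ≤ b) ∨ (b = -(k : ℤ) ∧ q + 1 = k) →
      RKoszul.RZ (KRR.pr n Y₁) ((Tw n Y₁ b).obj (V φ F k)) q := by
  intro j
  induction j with
  | zero =>
    intro k hk b q _
    obtain ⟨m, rfl⟩ := Nat.exists_eq_add_of_le (show n + 1 ≤ k by omega)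
    exact RKoszul.rz_of_isZero _ ((Tw n Y₁ b).map_isZero ((Scheme.Modules.pullback (ψ (n := n) φ)).map_isZero
      (RegRes.isZero_W (QCoh.isQCoh_of_isFinLocFree hF.1) hF.2 m))) q
  | succ j ih =>
    intro k hk b q hbq
    by_cases hkn : n + 1 ≤ k + j
    · exact ih k hkn b q hbq
    let G := (Scheme.Modules.pushforward (KRR.pr n Y)).obj (RegRes.W F k)
    let H := (Scheme.Modules.pullback φ).obj G
    have hH : Coh.IsQCoh H :=
      QCoh.isQCoh_of_isFinLocFree (KFlatLib.isFinLocFree_pullback φ (lf_push_W hF k))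
    have hmid : RKoszul.RZ (KRR.pr n Y₁) ((Tw n Y₁ b).obj
        ((Scheme.Modules.pullback (ψ (n := n) φ)).obj (P n G))) q := by
      refine RKoszul.rz_of_iso _ ((Tw n Y₁ b).mapIso (pullP φ G)).symm q ?_
      obtain hq | hq := Nat.eq_zero_or_pos q
      · subst hq
        obtain ⟨hb, hk1⟩ : b = -(k : ℤ) ∧ 0 + 1 = k := hbq.resolve_left (by omega)
        subst hb
        exact RegRes.rz_zero_tw_pullback H hH k (by omega) (by omega)
      · exact PnBox.rz_tw_pullback H hH b q hq (by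
          obtain hqn | hqn := Nat.lt_or_ge n q
          · exact Or.inr hqn
          · exact Or.inl (by rcases hbq with ⟨_, hb⟩ | ⟨hb, hk1⟩ <;> omega))
    have hker : RKoszul.RZ (KRR.pr n Y₁) ((Tw n Y₁ b).obj
        ((Scheme.Modules.pullback (ψ (n := n) φ)).obj (kernel (RegRes.eps (RegRes.W F k))))) (q + 1) :=
      RKoszul.rz_of_iso _ (ker_iso φ k b).some.symm (q + 1) (ih (k + 1) (by omega) (b - 1) (q + 1) (by
        rcases hbq with ⟨hq, hb⟩ | ⟨hb, hk1⟩
        · exact Or.inl ⟨by omega, by push_cast; omega⟩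
        · exact Or.inr ⟨by subst hb; push_cast; ring, by omega⟩))
    exact RKoszul.rz_quot _ (RegRes.shortExact_tw (ses_V φ hF k) b) q hmid hker

include hF in
/-- The inverse image of a regular bundle is regular. -/
theorem isReg_pullback :
    KRR.IsRegSheaf n Y₁ ((Scheme.Modules.pullback (ψ (n := n) φ)).obj F) := fun i hi =>
  rz_V φ hF (n + 1) 0 (by omega) (-(i : ℤ)) i (Or.inl ⟨hi, le_rfl⟩)

include hF in
theorem rz_ker (q : ℕ) (hq : q ≤ 1) :
    RKoszul.RZ (KRR.pr n Y₁)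
      ((Scheme.Modules.pullback (ψ (n := n) φ)).obj (kernel (RegRes.eps (RegRes.W F 0)))) q := by
  refine RKoszul.rz_of_iso _ (twF_zero _).some q ?_
  refine RKoszul.rz_of_iso _ (ker_iso φ 0 0).some.symm q (rz_V φ hF (n + 1) 1 (by omega) _ q ?_)
  obtain rfl | h1 := Nat.eq_zero_or_pos q
  · exact Or.inr ⟨by norm_num, rfl⟩
  · exact Or.inl ⟨h1, by omega⟩

include hF in
theorem isIso_push_eps :
    IsIso ((Scheme.Modules.pushforward (KRR.pr n Y₁)).map
      ((Scheme.Modules.pullback (ψ (n := n) φ)).map (RegRes.eps F))) := by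
  have hS := GenPush.shortExact_push (KRR.pr n Y₁) (ses_V φ hF 0) (rz_ker φ hF 1 le_rfl)
  exact (hS.isIso_g_iff).2 ((RegRes.isZero_push_iff _).1 (rz_ker φ hF 0 (by omega)))

include hF in
/-- The base change morphism of a regular bundle is an isomorphism. -/
theorem isIso_bcMap (hsq : ψ (n := n) φ ≫ KRR.pr n Y = KRR.pr n Y₁ ≫ φ) : IsIso (KRR.bcMap n φ hsq F) := by
  let G := (Scheme.Modules.pushforward (KRR.pr n Y)).obj F
  haveI := isIso_push_eps φ hF
  haveI := PnH0.isIso_unit (n := n) ((Scheme.Modules.pullback φ).obj G)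
    (QCoh.isQCoh_of_isFinLocFree (KFlatLib.isFinLocFree_pullback φ (GenPush.isFinLocFree_push hF)))
  simp only [KRR.bcMap, Adjunction.homEquiv_unit, Functor.map_comp]
  infer_instance

include hF in
theorem cl_bc :
    KRR.cl Y₁ ((Scheme.Modules.pullback φ).obj ((Scheme.Modules.pushforward (KRR.pr n Y)).obj F)) =
      KRR.cl Y₁ ((Scheme.Modules.pushforward (KRR.pr n Y₁)).obj
        ((Scheme.Modules.pullback (ψ (n := n) φ)).obj F)) := by
  haveI := isIso_bcMap φ hF (ψ_pr φ)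
  have h := KFlatLib.isFinLocFree_pullback φ (GenPush.isFinLocFree_push hF)
  exact GenPush.cl_iso (asIso (KRR.bcMap n φ (ψ_pr φ) F)) h
    (H23.PullPush.isFinLocFree_of_iso (asIso (KRR.bcMap n φ (ψ_pr φ) F)) h)

end Res

/-- `φ^K p_K = p_{1,K} ψ^K`, for any maps with the defining values. -/
theorem pull_push [CompactSpace Y] {KP : Type v} [AddCommGroup KP] {KY : Type v} [AddCommGroup KY]
    {KP₁ : Type v} [AddCommGroup KP₁] {KY₁ : Type v} [AddCommGroup KY₁]
    (φP : SGA6.Kvb (KRR.PY n Y) →+ KP) (φY : SGA6.Kvb Y →+ KY)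
    (φP₁ : SGA6.Kvb (KRR.PY n Y₁) →+ KP₁) (φY₁ : SGA6.Kvb Y₁ →+ KY₁)
    (gφ : KY →+ KY₁) (hgφ : ∀ G, FlatMod.IsFinLocFree G →
      gφ (φY (KRR.cl Y G)) = φY₁ (KRR.cl Y₁ ((Scheme.Modules.pullback φ).obj G)))
    (gψ : KP →+ KP₁) (hgψ : ∀ E, FlatMod.IsFinLocFree E →
      gψ (φP (KRR.cl (KRR.PY n Y) E)) =
        φP₁ (KRR.cl (KRR.PY n Y₁) ((Scheme.Modules.pullback (ψ (n := n) φ)).obj E)))
    (b : KP →+ KY) (hb : ∀ E, FlatMod.IsFinLocFree E → KRR.IsRegSheaf n Y E →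
      b (φP (KRR.cl (KRR.PY n Y) E)) = φY (KRR.cl Y ((Scheme.Modules.pushforward (KRR.pr n Y)).obj E)))
    (b₁ : KP₁ →+ KY₁) (hb₁ : ∀ E, FlatMod.IsFinLocFree E → KRR.IsRegSheaf n Y₁ E →
      b₁ (φP₁ (KRR.cl (KRR.PY n Y₁) E)) =
        φY₁ (KRR.cl Y₁ ((Scheme.Modules.pushforward (KRR.pr n Y₁)).obj E)))
    (z : SGA6.Kvb (KRR.PY n Y)) : gφ (b (φP z)) = b₁ (gψ (φP z)) := by
  let S : AddSubgroup (SGA6.Kvb (KRR.PY n Y)) :=
    ((gφ.comp b).comp φP).eqLocus ((b₁.comp gψ).comp φP)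
  suffices h : S = ⊤ from (h ▸ AddSubgroup.mem_top z : z ∈ S)
  refine GenBasis.eq_top_of_mem S fun k G _ hG => ?_
  have hR : RP n Y (M (P n G) (k : ℤ)) := rp_M _ (rp_pullback hG) k
  show gφ (b (φP _)) = b₁ (gψ (φP _))
  rw [hb _ hR.1 hR.2, hgφ _ (GenPush.isFinLocFree_push hR), hgψ _ hR.1,
    hb₁ _ (KFlatLib.isFinLocFree_pullback _ hR.1) (isReg_pullback φ hR), cl_bc φ hR]

end Groth.Agent.H28.PnBC
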