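import Groth.Agent.H28.ExtFil
import Groth.Agent.KFlatLib.Scheme.QCohTensor
import Groth.Agent.KFlatLib.Scheme.Tensor
import Groth.Agent.KFlatLib.Scheme.TensorAssoc
import Groth.Agent.KFlatLib.Perfect.Tensor
import Groth.Agent.KZ.RankNilp
import Groth.Prelude.Def_SGA6
import Mathlib.RingTheory.PowerSeries.Inverse

/-!
# The pre-λ-ring of vector bundles
-/

set_option autoImplicit false
set_option linter.style.haveILetI false
set_option linter.unusedSectionVars false
set_option backward.isDefEq.respectTransparency false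
set_option backward.isDefEq.respectTransparency.types false

universe v w u

open CategoryTheory CategoryTheory.Limits AlgebraicGeometry TopologicalSpace Opposite MonoidalCategory
open Groth.Agent.AModX

noncomputable section

namespace Groth.Agent.H28.KvbLam

open Groth.Agent

variable {X : Scheme.{u}}

/-- The class of a module. -/
abbrev cl (E : X.Modules) : SGA6.Kvb X := KZero.clSub (fun M : X.Modules => FlatMod.IsFinLocFree M) E

theorem cl_iso {A B : X.Modules} (e : A ≅ B) (hA : FlatMod.IsFinLocFree A) : cl A = cl B :=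
  KZ.clSub_iso (P := fun M : X.Modules => FlatMod.IsFinLocFree M) e hA (H23.PullPush.isFinLocFree_of_iso e hA)
    (isZero_zero _) (KFlatLib.isFinLocFree_of_isZero (isZero_zero _))

/-- The tensor product of modules. -/
abbrev tens (E F : X.Modules) : X.Modules := ((DCoh.tensorBi (X := X)).obj E).obj F

/-- Commutativity. -/
def comm (E F : X.Modules) : tens E F ≅ tens F E :=
  DCoh.shP.mapIso (β_ (DCoh.toP.obj E) (DCoh.toP.obj F))

theorem lf_tens {E F : X.Modules} (hE : FlatMod.IsFinLocFree E) (hF : FlatMod.IsFinLocFree F) :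
    FlatMod.IsFinLocFree (tens E F) := KFlatLib.isFinLocFree_tensor hE hF

theorem cl_tens_ses {E : X.Modules} (hE : FlatMod.IsFinLocFree E) {S : ShortComplex X.Modules} (hS : S.ShortExact)
    (h₁ : FlatMod.IsFinLocFree S.X₁) (h₂ : FlatMod.IsFinLocFree S.X₂) (h₃ : FlatMod.IsFinLocFree S.X₃) :
    cl (tens E S.X₂) = cl (tens E S.X₁) + cl (tens E S.X₃) :=
  KZ.clSub_ses (P := fun M : X.Modules => FlatMod.IsFinLocFree M)
    (KFlatLib.shortExact_tensor_of_isFlat E hS (KFlatLib.isFlat_of_isFinLocFree h₃))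
    (lf_tens hE h₁) (lf_tens hE h₂) (lf_tens hE h₃)

theorem exists_mul : ∃ mul : SGA6.Kvb X →+ SGA6.Kvb X →+ SGA6.Kvb X,
    ∀ E F : X.Modules, FlatMod.IsFinLocFree E → FlatMod.IsFinLocFree F → mul (cl E) (cl F) = cl (tens E F) := by
  classical
  have h1 : ∀ E : X.Modules, ∃ f : SGA6.Kvb X →+ SGA6.Kvb X, FlatMod.IsFinLocFree E →
      ∀ F, FlatMod.IsFinLocFree F → f (cl F) = cl (tens E F) := fun E => by
    by_cases hE : FlatMod.IsFinLocFree E
    · obtain ⟨f, hf⟩ := KZ.exists_liftSub (P := fun M : X.Modules => FlatMod.IsFinLocFree M) (fun F => cl (tens E F))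
        fun S hS h₁ h₂ h₃ => cl_tens_ses hE hS h₁ h₂ h₃
      exact ⟨f, fun _ => hf⟩
    · exact ⟨0, fun h => absurd h hE⟩
  choose f hf using h1
  obtain ⟨mul, hmul⟩ := KZ.exists_liftSub (P := fun M : X.Modules => FlatMod.IsFinLocFree M) f
    fun S hS h₁ h₂ h₃ => KZ.K0sub_hom_ext _ fun F hF => by
      rw [AddMonoidHom.add_apply, hf _ h₁ _ hF, hf _ h₂ _ hF, hf _ h₃ _ hF, cl_iso (comm _ F) (lf_tens h₁ hF),
        cl_iso (comm _ F) (lf_tens h₂ hF), cl_iso (comm _ F) (lf_tens h₃ hF)]
      exact cl_tens_ses hF hS h₁ h₂ h₃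
  exact ⟨mul, fun E F hE hF => by rw [hmul E hE]; exact hf E hE F hF⟩

theorem lf_O : FlatMod.IsFinLocFree (Coh.structureModule X) := fun _ =>
  ⟨⊤, 1, trivial, ⟨Scheme.Modules.restrictUnitIso _ ≪≫
    (coproductUniqueIso fun _ : Fin 1 => Coh.structureModule ((⊤ : X.Opens) : Scheme.{u})).symm⟩⟩

theorem isExtPow_zero (E : X.Modules) : ExtPow.IsExtPow 0 E (Coh.structureModule X) := by
  refine ⟨fun U => (exteriorPower.zeroEquiv Γ(X, U.1) (E.val.obj (op U.1))).symm, fun U V h e => ?_⟩
  rw [LinearEquiv.symm_symm, LinearEquiv.symm_symm]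
  refine (congrArg _ (exteriorPower.zeroEquiv_ιMulti (R := Γ(X, U.1)) e)).trans
    (Eq.trans ?_ (exteriorPower.zeroEquiv_ιMulti (R := Γ(X, V.1)) _).symm)
  exact map_one (X.presheaf.map (homOfLE h).op).hom

theorem isExtPow_one (E : X.Modules) : ExtPow.IsExtPow 1 E E := by
  refine ⟨fun U => (exteriorPower.oneEquiv Γ(X, U.1) (E.val.obj (op U.1))).symm, fun U V h e => ?_⟩
  have h1 : ∀ (W : X.Opens) (g : Fin 1 → E.val.obj (op W)),
      (exteriorPower.oneEquiv Γ(X, W) (E.val.obj (op W))).symm.symm (exteriorPower.ιMulti Γ(X, W) 1 g) = g 0 :=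
    fun W g => exteriorPower.oneEquiv_ιMulti g
  rw [h1 U.1 e]
  show _ = (exteriorPower.oneEquiv Γ(X, V.1) (E.val.obj (op V.1))).symm.symm _
  exact (h1 V.1 (fun j => (ConcreteCategory.hom (E.val.map (homOfLE h).op)) (e j))).symm

theorem cl_extPow {E W : X.Modules} {m : ℕ} (hE : FlatMod.IsFinLocFree E) (hW : ExtPow.IsExtPow m E W) :
    cl W = cl (ExtBase.L E m) := by
  obtain ⟨e⟩ := ExtSh.nonempty_iso_L hE hW
  exact (cl_iso e (ExtSh.isFinLocFree_L m hE)).symm

variable (X) in
theorem exists_lambdaStructure :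
    ∃ (mul : SGA6.Kvb X →+ SGA6.Kvb X →+ SGA6.Kvb X) (lam : ℕ → SGA6.Kvb X → SGA6.Kvb X),
      SGA6.IsLambdaStructureVb X mul lam := by
  obtain ⟨mul, hmul⟩ := exists_mul (X := X)
  have ext1 : ∀ {f g : SGA6.Kvb X →+ SGA6.Kvb X}, (∀ E, FlatMod.IsFinLocFree E → f (cl E) = g (cl E)) → f = g :=
    fun h => KZ.K0sub_hom_ext _ h
  have hcomm : ∀ x y, mul x y = mul y x := fun x y => by
    suffices e : mul = mul.flip from DFunLike.congr_fun (DFunLike.congr_fun e x) y
    refine KZ.K0sub_hom_ext _ fun E hE => ext1 fun F hF => ?_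
    rw [AddMonoidHom.flip_apply, hmul _ _ hE hF, hmul _ _ hF hE]
    exact cl_iso (comm E F) (lf_tens hE hF)
  have hassoc : ∀ x y z, mul (mul x y) z = mul x (mul y z) := by
    have a1 : ∀ E F, FlatMod.IsFinLocFree E → FlatMod.IsFinLocFree F → ∀ z,
        mul (mul (cl E) (cl F)) z = mul (cl E) (mul (cl F) z) := fun E F hE hF z => by
      suffices e : mul (mul (cl E) (cl F)) = (mul (cl E)).comp (mul (cl F)) from DFunLike.congr_fun e z
      refine ext1 fun G hG => ?_
      rw [AddMonoidHom.comp_apply, hmul _ _ hE hF, hmul _ _ hF hG, hmul _ _ (lf_tens hE hF) hG,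
        hmul _ _ hE (lf_tens hF hG)]
      exact cl_iso ((((KFlatLib.tensorAssocSch X).app E).app F).app G) (lf_tens (lf_tens hE hF) hG)
    have a2 : ∀ E, FlatMod.IsFinLocFree E → ∀ y z, mul (mul (cl E) y) z = mul (cl E) (mul y z) := fun E hE y z => by
      suffices e : (mul.flip z).comp (mul (cl E)) = (mul (cl E)).comp (mul.flip z) from DFunLike.congr_fun e y
      exact ext1 fun F hF => a1 E F hE hF z
    intro x y z
    suffices e : (mul.flip z).comp (mul.flip y) = mul.flip (mul y z) from DFunLike.congr_fun e x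
    exact ext1 fun E hE => a2 E hE y z
  have hone : ∀ x, mul (cl (Coh.structureModule X)) x = x := fun x => by
    suffices e : mul (cl (Coh.structureModule X)) = AddMonoidHom.id _ from DFunLike.congr_fun e x
    refine ext1 fun E hE => ?_
    rw [hmul _ _ lf_O hE]
    exact cl_iso (comm _ _ ≪≫ KFlatLib.tensorUnitIso E) (lf_tens lf_O hE)
  letI : CommRing (SGA6.Kvb X) :=
    { (inferInstance : AddCommGroup (SGA6.Kvb X)) with
      mul := fun x y => mul x y
      one := cl (Coh.structureModule X)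
      left_distrib := fun x y z => (mul x).map_add y z
      right_distrib := fun x y z => DFunLike.congr_fun (mul.map_add x y) z
      zero_mul := fun x => DFunLike.congr_fun mul.map_zero x
      mul_zero := fun x => (mul x).map_zero
      mul_assoc := hassoc
      one_mul := hone
      mul_one := fun x => (hcomm x _).trans (hone x)
      mul_comm := hcomm }
  have hmul' : ∀ E F, FlatMod.IsFinLocFree E → FlatMod.IsFinLocFree F → cl E * cl F = cl (tens E F) := hmul
  let s : X.Modules → PowerSeries (SGA6.Kvb X) := fun E => PowerSeries.mk fun k => cl (ExtBase.L E k)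
  have h0 : ∀ E, FlatMod.IsFinLocFree E → cl (ExtBase.L E 0) = 1 := fun E hE =>
    (cl_extPow hE (isExtPow_zero (X := X) E)).symm
  have hs0 : ∀ E, FlatMod.IsFinLocFree E → IsUnit (s E) := fun E hE => by
    rw [PowerSeries.isUnit_iff_constantCoeff, ← PowerSeries.coeff_zero_eq_constantCoeff_apply, PowerSeries.coeff_mk,
      h0 E hE]
    exact isUnit_one
  classical
  obtain ⟨ψ, hψ⟩ := KZ.exists_liftSub (P := fun M : X.Modules => FlatMod.IsFinLocFree M)
    (fun E => if h : FlatMod.IsFinLocFree E then Additive.ofMul (hs0 E h).unit else 0) fun S hS h₁ h₂ h₃ => by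
      rw [dif_pos h₁, dif_pos h₂, dif_pos h₃, ← ofMul_mul]
      refine congrArg Additive.ofMul (Units.ext (PowerSeries.ext fun n => ?_))
      rw [Units.val_mul, IsUnit.unit_spec, IsUnit.unit_spec, IsUnit.unit_spec, PowerSeries.coeff_mul,
        Finset.Nat.sum_antidiagonal_eq_sum_range_succ_mk]
      simp only [s, PowerSeries.coeff_mk]
      refine (ExtFil.cl_extension hS h₁ h₃ n).trans (Finset.sum_congr rfl fun k _ => ?_)
      exact (hmul' _ _ (ExtSh.isFinLocFree_L k h₁) (ExtSh.isFinLocFree_L (n - k) h₃)).symm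
  let lam : ℕ → SGA6.Kvb X → SGA6.Kvb X := fun k x =>
    PowerSeries.coeff k ((Additive.toMul (ψ x) : (PowerSeries (SGA6.Kvb X))ˣ) : PowerSeries (SGA6.Kvb X))
  have hgen : ∀ k E, FlatMod.IsFinLocFree E → lam k (cl E) = cl (ExtBase.L E k) := fun k E hE => by
    simp only [lam, hψ E hE, dif_pos hE, toMul_ofMul, IsUnit.unit_spec, s, PowerSeries.coeff_mk]
  have hadd : ∀ k x y, lam k (x + y) = ∑ i ∈ Finset.range (k + 1), lam i x * lam (k - i) y := fun k x y => by
    simp only [lam, map_add, toMul_add, Units.val_mul, PowerSeries.coeff_mul]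
    exact Finset.Nat.sum_antidiagonal_eq_sum_range_succ_mk _ _
  have hl0 : ∀ x, lam 0 x = 1 := fun x => by
    suffices e : (Units.map (PowerSeries.constantCoeff (R := SGA6.Kvb X)).toMonoidHom).toAdditive.comp ψ = 0 by
      have := congrArg (fun u : Additive (SGA6.Kvb X)ˣ => ((Additive.toMul u : (SGA6.Kvb X)ˣ) : SGA6.Kvb X))
        (DFunLike.congr_fun e x)
      simp only [lam, PowerSeries.coeff_zero_eq_constantCoeff_apply]
      exact this
    refine KZ.K0sub_hom_ext _ fun E hE => ?_
    refine Additive.toMul.injective ?_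
    refine Units.ext ?_
    have h := hgen 0 E hE
    simp only [lam, PowerSeries.coeff_zero_eq_constantCoeff_apply] at h
    exact h.trans (h0 E hE)
  have hl1 : ∀ x, lam 1 x = x := fun x => by
    let φ : SGA6.Kvb X →+ SGA6.Kvb X := AddMonoidHom.mk' (lam 1) fun x y => by
      rw [hadd, Finset.sum_range_succ, Finset.sum_range_succ, Finset.sum_range_zero, zero_add, Nat.sub_zero,
        Nat.sub_self, hl0, hl0, one_mul, mul_one, add_comm]
    suffices e : φ = AddMonoidHom.id _ from DFunLike.congr_fun e x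
    refine ext1 fun E hE => ?_
    exact (hgen 1 E hE).trans (cl_extPow hE (isExtPow_one (X := X) E)).symm
  refine ⟨mul, lam, hcomm, hassoc, hone, hmul, fun i E W hE hW => ?_, hl0, hl1, hadd⟩
  exact (hgen i E hE).trans (cl_extPow hE hW).symm

end Groth.Agent.H28.KvbLam
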