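import Groth.Agent.QCoh.PullbackBC
import Groth.Agent.InvX.Tensor
import Groth.Agent.InvX.Pullback
import Mathlib.RingTheory.IsTensorProduct
import Mathlib.AlgebraicGeometry.Morphisms.Affine

/-!
# Sections of `g^* L ⊗ q^* G` over the inverse image of an affine open
-/

set_option linter.style.haveILetI false
set_option linter.unusedSectionVars false
set_option backward.isDefEq.respectTransparency false
set_option backward.isDefEq.respectTransparency.types false

universe u

open CategoryTheory CategoryTheory.Limits AlgebraicGeometry TopologicalSpace Opposite MonoidalCategory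
open scoped TensorProduct

namespace Groth.Agent.H28.Box

open Groth.Agent

section Ring

variable {A R B : Type u} [CommRing A] [CommRing R] [CommRing B]

/-- The ring map from the tensor product over the integers. -/
noncomputable def pairHom (α : A →+* B) (β : R →+* B) : A ⊗[ℤ] R →ₐ[ℤ] B :=
  Algebra.TensorProduct.lift α.toIntAlgHom β.toIntAlgHom fun _ _ => Commute.all _ _

theorem pairHom_tmul (α : A →+* B) (β : R →+* B) (a : A) (r : R) : pairHom α β (a ⊗ₜ r) = α a * β r :=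
  Algebra.TensorProduct.lift_tmul _ _ _ _ _

end Ring

section Geometry

variable {V P T : Scheme.{u}} (g : V ⟶ P) (q : V ⟶ T)

/-- The open `g⁻¹ D` has as ring of functions the tensor product of those of `D` and `U`. -/
def IsBox (D : P.Opens) (U : T.Opens) (hle : g ⁻¹ᵁ D ≤ q ⁻¹ᵁ U) : Prop :=
  Function.Bijective (pairHom (g.app D).hom (q.appLE U (g ⁻¹ᵁ D) hle).hom)

variable {L : P.Modules} {G : T.Modules}

theorem pullSec_res' {X Y : Scheme.{u}} (φ : X ⟶ Y) (M : Y.Modules) {W W' : X.Opens} {V V' : Y.Opens}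
    (hV : V' ≤ V) (hW : W' ≤ W) (hle : W ≤ φ ⁻¹ᵁ V) (hle' : W' ≤ φ ⁻¹ᵁ V') (x : Γ(M, V)) :
    AModX.res ((Scheme.Modules.pullback φ).obj M) hW (QCoh.pullSec φ M hle x) =
      QCoh.pullSec φ M hle' (AModX.res M hV x) := by
  unfold QCoh.pullSec
  refine (QCoh.map_map _ _ _).trans ?_
  refine Eq.trans ?_ (congrArg (((Scheme.Modules.pullback φ).obj M).presheaf.map (homOfLE hle').op)
    (QCoh.map_app_comm ((Scheme.Modules.pullbackPushforwardAdjunction φ).unit.app M) (homOfLE hV) x)).symm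
  exact (QCoh.map_map (M := (Scheme.Modules.pullback φ).obj M) (homOfLE hle')
    ((Opens.map φ.base).map (homOfLE hV)) _).symm

section Tmul

variable {X : Scheme.{u}} {M N : X.Modules} {W : X.Opens}

theorem tmul_add_l (a a' : Γ(M, W)) (b : Γ(N, W)) :
    InvX.tmul (a + a') b = InvX.tmul a b + InvX.tmul a' b :=
  (congrArg _ (KFlatLib.tm_add_left a a' b)).trans (map_add _ _ _)

theorem tmul_add_r (a : Γ(M, W)) (b b' : Γ(N, W)) :
    InvX.tmul a (b + b') = InvX.tmul a b + InvX.tmul a b' :=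
  (congrArg _ (KFlatLib.tm_add_right a b b')).trans (map_add _ _ _)

/-- The stalk map `y ↦ e ⊗ y` is bijective at every point of a frame. -/
theorem frame_germ_tmul {a : Γ(M, W)} (ha : InvX.IsFrame a) {x : X} (hx : x ∈ W) :
    ∃ T : KFlatLib.stalkMod x (CohB1.toPMod N) ≃+
        KFlatLib.stalkMod x (DCoh.toP.obj (CohB1.tensorMod M N)),
      ∀ (W' : X.Opens) (hW : W' ≤ W) (hx' : x ∈ W') (b : Γ(N, W')),
        T (KFlatLib.germP (CohB1.toPMod N) W' hx' b) =
          KFlatLib.germP (DCoh.toP.obj (CohB1.tensorMod M N)) W' hx' (InvX.tmul (AModX.res M hW a) b) := by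
  let P := CohB1.toPMod M
  let Q := CohB1.toPMod N
  let ga : KFlatLib.stalkMod x P := KFlatLib.germP P W hx a
  let ea := LinearEquiv.ofBijective (LinearMap.toSpanSingleton (X.presheaf.stalk x) (KFlatLib.stalkMod x P) ga)
    (ha.germ_bijective hx)
  let T := ((TensorProduct.lid (X.presheaf.stalk x) (KFlatLib.stalkMod x Q)).symm.trans
    (TensorProduct.congr ea (LinearEquiv.refl _ _))).trans (KFlatLib.tensorStalkEquiv P Q)
  haveI hi := KFlatLib.isIso_stalk_unitShP (x := x) (P ⊗ Q)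
  let u := ((KFlatLib.stalkP x).map (KFlatLib.unitShP (P ⊗ Q)))
  have hu : Function.Bijective u.hom := ConcreteCategory.bijective_of_isIso u
  refine ⟨T.toAddEquiv.trans (AddEquiv.ofBijective u.hom.toAddMonoidHom hu), fun W' hW hx' b => ?_⟩
  have hT : T (KFlatLib.germP Q W' hx' b) =
      KFlatLib.germP (P ⊗ Q) W' hx' (KFlatLib.tm (AModX.res M hW a) b) := by
    show KFlatLib.tensorStalkEquiv P Q (TensorProduct.congr ea (LinearEquiv.refl _ _)
      ((TensorProduct.lid (X.presheaf.stalk x) (KFlatLib.stalkMod x Q)).symm _)) = _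
    rw [TensorProduct.lid_symm_apply, TensorProduct.congr_tmul]
    show KFlatLib.tensorStalkEquiv P Q (((1 : X.presheaf.stalk x) • ga) ⊗ₜ _) = _
    rw [one_smul, show ga = KFlatLib.germP P W' hx' (AModX.res M hW a) from (InvX.germ_res' hW hx' a).symm]
    exact KFlatLib.ofTensor_germ W' hx' _ b
  exact (congrArg u.hom hT).trans (KFlatLib.stalkModMap_germ _ W' hx' _)

/-- Tensoring with a frame is bijective on sections. -/
theorem bijective_tmul_frame {a : Γ(M, W)} (ha : InvX.IsFrame a) :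
    Function.Bijective fun b : Γ(N, W) => InvX.tmul a b := by
  have hinj : ∀ (W' : X.Opens) (hW : W' ≤ W) (b b' : Γ(N, W')),
      InvX.tmul (AModX.res M hW a) b = InvX.tmul (AModX.res M hW a) b' → b = b' := by
    intro W' hW b b' h
    refine TopCat.Presheaf.section_ext (X := X.toPresheafedSpace.carrier)
      ((KFlatLib.toAb X).obj N) _ _ _ fun x hx => ?_
    obtain ⟨T, hT⟩ := frame_germ_tmul (N := N) ha (hW hx)
    exact T.injective ((hT W' hW hx b).trans ((congrArg _ h).trans (hT W' hW hx b').symm))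
  refine ⟨fun b b' h => hinj W le_rfl b b' (by simpa only [AModX.res_self] using h), fun z => ?_⟩
  have hloc : ∀ p : W, ∃ (W' : X.Opens) (hW : W' ≤ W) (_ : p.1 ∈ W') (b : Γ(N, W')),
      InvX.tmul (AModX.res M hW a) b = AModX.res (CohB1.tensorMod M N) hW z := fun p => by
    obtain ⟨T, hT⟩ := frame_germ_tmul (N := N) ha p.2
    obtain ⟨y, hy⟩ := T.surjective
      (KFlatLib.germP (DCoh.toP.obj (CohB1.tensorMod M N)) W p.2 z)
    obtain ⟨W₁, h₁, b, rfl⟩ := KFlatLib.exists_germP (P := CohB1.toPMod N) y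
    let W₂ := W₁ ⊓ W
    have hx₂ : p.1 ∈ W₂ := ⟨h₁, p.2⟩
    rw [← KFlatLib.germP_res (homOfLE (inf_le_left : W₂ ≤ W₁)) hx₂, hT W₂ inf_le_right hx₂] at hy
    obtain ⟨W', hW', i, j, hij⟩ := TopCat.Presheaf.germ_eq (C := AddCommGrpCat.{u})
      (CohB1.tensorMod M N).presheaf p.1 hx₂ p.2 _ z hy
    refine ⟨W', i.le.trans inf_le_right, hW', AModX.res N i.le (AModX.res N (inf_le_left : W₂ ≤ W₁) b), ?_⟩
    change AModX.res _ i.le _ = AModX.res _ j.le _ at hij
    rw [← AModX.res_res (inf_le_right : W₂ ≤ W) i.le a, ← InvX.res_tmul]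
    exact hij
  choose W' hW hp b hb using hloc
  obtain ⟨c, hc, -⟩ := TopCat.Sheaf.existsUnique_gluing' ((KFlatLib.toAb X).obj N) W' W
    (fun p => homOfLE (hW p)) (fun p hp' => Opens.mem_iSup.2 ⟨⟨p, hp'⟩, hp ⟨p, hp'⟩⟩) b fun p p' => by
      refine hinj _ (inf_le_left.trans (hW p)) _ _ ?_
      have h1 := congrArg (AModX.res _ (inf_le_left : W' p ⊓ W' p' ≤ W' p)) (hb p)
      have h2 := congrArg (AModX.res _ (inf_le_right : W' p ⊓ W' p' ≤ W' p')) (hb p')
      rw [InvX.res_tmul, AModX.res_res, AModX.res_res] at h1 h2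
      exact h1.trans h2.symm
  refine ⟨c, AModX.eq_of_locally _ _ fun p hp' => ⟨W' ⟨p, hp'⟩, hW _, hp _, ?_⟩⟩
  show AModX.res _ _ (InvX.tmul a c) = _
  rw [InvX.res_tmul, ← hb]
  exact congrArg (InvX.tmul _) (hc ⟨p, hp'⟩)

end Tmul

section Map

variable (L G) {D : P.Opens} {U : T.Opens} (hle : g ⁻¹ᵁ D ≤ q ⁻¹ᵁ U)

/-- `a ↦ t ↦ g^* a ⊗ q^* t`. -/
noncomputable def boxBil : Γ(L, D) →+ Γ(G, U) →+
    Γ(CohB1.tensorMod ((Scheme.Modules.pullback g).obj L) ((Scheme.Modules.pullback q).obj G), g ⁻¹ᵁ D) :=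
  AddMonoidHom.mk' (fun a => AddMonoidHom.mk'
      (fun t => InvX.tmul (QCoh.pullSec g L le_rfl a) (QCoh.pullSec q G hle t))
      fun t t' => by rw [QCoh.pullSec_add, tmul_add_r])
    fun a a' => AddMonoidHom.ext fun t => by
      show InvX.tmul (QCoh.pullSec g L le_rfl (a + a')) _ = _
      rw [QCoh.pullSec_add, tmul_add_l]
      rfl

/-- `a ⊗ t ↦ g^* a ⊗ q^* t`. -/
noncomputable def boxHom : Γ(L, D) ⊗[ℤ] Γ(G, U) →+
    Γ(CohB1.tensorMod ((Scheme.Modules.pullback g).obj L) ((Scheme.Modules.pullback q).obj G), g ⁻¹ᵁ D) :=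
  TensorProduct.liftAddHom (boxBil g q L G hle) fun r a t => by
    show boxBil g q L G hle (r • a) t = boxBil g q L G hle a (r • t)
    rw [map_zsmul, AddMonoidHom.coe_smul, Pi.smul_apply, map_zsmul]

theorem boxHom_tmul (a : Γ(L, D)) (t : Γ(G, U)) :
    boxHom g q L G hle (a ⊗ₜ t) = InvX.tmul (QCoh.pullSec g L le_rfl a) (QCoh.pullSec q G hle t) := rfl

/-- The box map commutes with restriction. -/
theorem res_boxHom {D' : P.Opens} (hD : D' ≤ D) (hle' : g ⁻¹ᵁ D' ≤ q ⁻¹ᵁ U)
    (z : Γ(L, D) ⊗[ℤ] Γ(G, U)) :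
    AModX.res _ (g.preimage_mono hD) (boxHom g q L G hle z) =
      boxHom g q L G hle' ((AModX.res L hD).toIntLinearMap.rTensor _ z) := by
  induction z using TensorProduct.induction_on with
  | zero => simp only [map_zero]
  | tmul a t =>
    rw [boxHom_tmul, LinearMap.rTensor_tmul, boxHom_tmul, InvX.res_tmul,
      pullSec_res' g L hD (g.preimage_mono hD) le_rfl le_rfl a,
      pullSec_res' q G (le_refl U) (g.preimage_mono hD) hle hle' t, AModX.res_self]
    rfl
  | add x y hx hy => simp only [map_add, hx, hy]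

/-- Over a box, the sections of the inverse image of `G` are `Γ(P, D) ⊗ Γ(G, U)`. -/
theorem exists_bijective_sec (hbox : IsBox g q D U hle) (hW : IsAffineOpen (g ⁻¹ᵁ D)) (hU : IsAffineOpen U)
    (hG : Coh.IsQCoh G) :
    ∃ ψ : Γ(P, D) ⊗[ℤ] Γ(G, U) → Γ((Scheme.Modules.pullback q).obj G, g ⁻¹ᵁ D),
      Function.Bijective ψ ∧ (∀ x y, ψ (x + y) = ψ x + ψ y) ∧
        ∀ c t, ψ (c ⊗ₜ t) = (g.app D).hom c • QCoh.pullSec q G hle t := by
  let f := q.appLE U (g ⁻¹ᵁ D) hle
  letI : Algebra Γ(T, U) Γ(V, g ⁻¹ᵁ D) := f.hom.toAlgebra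
  letI : Module Γ(T, U) Γ((Scheme.Modules.pullback q).obj G, g ⁻¹ᵁ D) := Module.compHom _ f.hom
  haveI : IsScalarTower Γ(T, U) Γ(V, g ⁻¹ᵁ D) Γ((Scheme.Modules.pullback q).obj G, g ⁻¹ᵁ D) :=
    ⟨fun a b c => mul_smul (f.hom a) b c⟩
  let l : Γ(G, U) →ₗ[Γ(T, U)] Γ((Scheme.Modules.pullback q).obj G, g ⁻¹ᵁ D) :=
    { toFun := QCoh.pullSec q G hle
      map_add' := QCoh.pullSec_add q G hle
      map_smul' := fun r x => QCoh.pullSec_smul q G hle r x }
  have hl : IsBaseChange Γ(V, g ⁻¹ᵁ D) l :=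
    QCoh.isBaseChange_pullback hU q hW hG hle (fun r => rfl) l fun x => rfl
  let θ := RingEquiv.ofBijective (pairHom (g.app D).hom f.hom).toRingHom hbox
  -- `R ⊗ A ≅ B` as `R`-modules
  let e₁ : Γ(T, U) ⊗[ℤ] Γ(P, D) ≃ₗ[Γ(T, U)] Γ(V, g ⁻¹ᵁ D) :=
    { ((TensorProduct.comm ℤ Γ(T, U) Γ(P, D)).toAddEquiv.trans θ.toAddEquiv) with
      map_smul' := fun r x => by
        induction x using TensorProduct.induction_on with
        | zero => simp
        | tmul s a =>
          show θ ((a ⊗ₜ[ℤ] (r * s) : Γ(P, D) ⊗[ℤ] Γ(T, U))) = f.hom r * θ (a ⊗ₜ s)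
          simp only [θ, RingEquiv.ofBijective_apply, AlgHom.toRingHom_eq_coe, RingHom.coe_coe,
            pairHom_tmul, map_mul]
          ring
        | add x y hx hy =>
          simp only [RingHom.id_apply] at hx hy ⊢
          show ((TensorProduct.comm ℤ Γ(T, U) Γ(P, D)).toAddEquiv.trans θ.toAddEquiv) _ =
            r • ((TensorProduct.comm ℤ Γ(T, U) Γ(P, D)).toAddEquiv.trans θ.toAddEquiv) _
          rw [smul_add, map_add, map_add, smul_add]
          exact congrArg₂ (· + ·) hx hy }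
  let E : Γ(P, D) ⊗[ℤ] Γ(G, U) ≃+ Γ((Scheme.Modules.pullback q).obj G, g ⁻¹ᵁ D) :=
    (TensorProduct.comm ℤ Γ(P, D) Γ(G, U)).toAddEquiv.trans <|
      (TensorProduct.AlgebraTensorModule.cancelBaseChange ℤ Γ(T, U) Γ(T, U) Γ(G, U) Γ(P, D)).symm.toAddEquiv.trans <|
        (TensorProduct.congr (LinearEquiv.refl Γ(T, U) Γ(G, U)) e₁).toAddEquiv.trans <|
          (TensorProduct.comm Γ(T, U) Γ(G, U) Γ(V, g ⁻¹ᵁ D)).toAddEquiv.trans hl.equiv.toAddEquiv
  refine ⟨E, E.bijective, map_add E, fun c t => ?_⟩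
  show hl.equiv ((pairHom (g.app D).hom f.hom (c ⊗ₜ[ℤ] (1 : Γ(T, U)))) ⊗ₜ[Γ(T, U)] t) = _
  rw [IsBaseChange.equiv_tmul, pairHom_tmul, map_one, mul_one]
  rfl

/-- Over a box on which `L` has a frame the box map is bijective. -/
theorem bijective_boxHom (hbox : IsBox g q D U hle) (hW : IsAffineOpen (g ⁻¹ᵁ D)) (hU : IsAffineOpen U)
    (hG : Coh.IsQCoh G) {e : Γ(L, D)} (he : InvX.IsFrame e) :
    Function.Bijective (boxHom g q L G hle) := by
  obtain ⟨ψ, hψ, hadd, hψt⟩ := exists_bijective_sec g q (G := G) hle hbox hW hU hG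
  let e' := QCoh.pullSec g L (le_refl (g ⁻¹ᵁ D)) e
  have he' : InvX.IsFrame e' := by
    have h := InvX.isFrame_pullElt g he
    have he'' : e' = InvX.pullElt g e := AModX.res_self _
    rwa [← he''] at h
  let γ : Γ(L, D) ≃ₗ[ℤ] Γ(P, D) := (LinearEquiv.ofBijective
    ((LinearMap.toSpanSingleton Γ(P, D) Γ(L, D) e).restrictScalars ℤ)
    (by have := he D le_rfl; simp only [AModX.res_self] at this; exact this)).symm
  have key : ∀ z, boxHom g q L G hle z =
      InvX.tmul e' (ψ (TensorProduct.congr γ (LinearEquiv.refl ℤ Γ(G, U)) z)) := by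
    intro z
    induction z using TensorProduct.induction_on with
    | zero =>
      have h0 : ψ 0 = 0 := by simpa using hadd 0 0
      rw [map_zero, map_zero, h0, ← zero_smul Γ(V, g ⁻¹ᵁ D) (0 : Γ((Scheme.Modules.pullback q).obj G, g ⁻¹ᵁ D)),
        InvX.tmul_smul_right, zero_smul]
    | tmul a t =>
      rw [boxHom_tmul, TensorProduct.congr_tmul, hψt, InvX.tmul_smul_right, ← InvX.tmul_smul_left]
      refine congrArg (fun b => InvX.tmul b _) ?_
      have ha : γ a • e = a := γ.symm_apply_apply a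
      conv_lhs => rw [← ha]
      rw [QCoh.pullSec_smul, Scheme.Hom.app_eq_appLE]
    | add x y hx hy => rw [map_add, map_add, hadd, tmul_add_r, hx, hy]
  rw [show ⇑(boxHom g q L G hle) = (fun b => InvX.tmul e' b) ∘ ψ ∘
    (TensorProduct.congr γ (LinearEquiv.refl ℤ Γ(G, U))) from funext key]
  exact (bijective_tmul_frame he').comp (hψ.comp (TensorProduct.congr γ _).bijective)

end Map

section Pullback

/-- Ring maps out of the functions on `Spec ℤ` agree. -/
theorem ringHom_ext_specULiftInt {C : Type u} [CommRing C]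
    (f f' : Γ(Spec (CommRingCat.of (ULift.{u} ℤ)), ⊤) →+* C) : f = f' := by
  have h : (f.comp (Scheme.ΓSpecIso (CommRingCat.of (ULift.{u} ℤ))).inv.hom).comp
      (ULift.ringEquiv.{0, u} (R := ℤ)).symm.toRingHom =
      (f'.comp (Scheme.ΓSpecIso (CommRingCat.of (ULift.{u} ℤ))).inv.hom).comp
      (ULift.ringEquiv.{0, u} (R := ℤ)).symm.toRingHom := RingHom.ext_int _ _
  ext x
  have := congrArg (fun k : ℤ →+* C => k ((Scheme.ΓSpecIso (CommRingCat.of (ULift.{u} ℤ))).hom x).down) h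
  simp only [RingHom.comp_apply] at this
  change f ((Scheme.ΓSpecIso _).inv ((Scheme.ΓSpecIso _).hom x)) =
    f' ((Scheme.ΓSpecIso _).inv ((Scheme.ΓSpecIso _).hom x)) at this
  rwa [Iso.hom_inv_id_apply] at this

theorem bijective_pairHom_of_isPushout {O A R B : CommRingCat.{u}} {a : O ⟶ A} {r : O ⟶ R}
    {α : A ⟶ B} {β : R ⟶ B} (h : IsPushout a r α β)
    (huniq : ∀ (C : Type u) [CommRing C] (f f' : O →+* C), f = f') :
    Function.Bijective (pairHom α.hom β.hom) := by
  let K := CommRingCat.of (A ⊗[ℤ] R)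
  let iA : A ⟶ K := CommRingCat.ofHom (Algebra.TensorProduct.includeLeftRingHom)
  let iR : R ⟶ K := CommRingCat.ofHom (Algebra.TensorProduct.includeRight (R := ℤ) (A := A) (B := R)).toRingHom
  let ν : B ⟶ K := h.desc iA iR (CommRingCat.hom_ext (huniq _ _ _))
  have h1 : ∀ z, ν.hom (pairHom α.hom β.hom z) = z := fun z => by
    induction z using TensorProduct.induction_on with
    | zero => simp
    | tmul x y =>
      rw [pairHom_tmul, map_mul]
      have e1 : ν.hom (α.hom x) = iA.hom x := ConcreteCategory.congr_hom (h.inl_desc iA iR _) x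
      have e2 : ν.hom (β.hom y) = iR.hom y := ConcreteCategory.congr_hom (h.inr_desc iA iR _) y
      rw [e1, e2]
      show (x ⊗ₜ[ℤ] (1 : R)) * ((1 : A) ⊗ₜ[ℤ] y) = _
      rw [Algebra.TensorProduct.tmul_mul_tmul, mul_one, one_mul]
    | add x y hx hy => rw [map_add, map_add, hx, hy]
  have h2 : ν ≫ CommRingCat.ofHom (pairHom α.hom β.hom).toRingHom = 𝟙 B := by
    apply h.hom_ext
    · rw [IsPushout.inl_desc_assoc, Category.comp_id]
      ext x
      show pairHom α.hom β.hom (x ⊗ₜ (1 : R)) = _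
      rw [pairHom_tmul, map_one, mul_one]
    · rw [IsPushout.inr_desc_assoc, Category.comp_id]
      ext y
      show pairHom α.hom β.hom ((1 : A) ⊗ₜ y) = _
      rw [pairHom_tmul, map_one, one_mul]
  exact ⟨Function.LeftInverse.injective h1, fun y => ⟨ν.hom y, ConcreteCategory.congr_hom h2 y⟩⟩

end Pullback

end Geometry

end Groth.Agent.H28.Box
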