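import Groth.Agent.H28.ExtSh
import Groth.Agent.H28.BoxSections
import Groth.Agent.KFlatLib.Scheme.QCohTensor
import Groth.Agent.Lib.InvEnd

/-!
# Exterior powers of a module twisted by an invertible module
-/

set_option autoImplicit false
set_option linter.style.haveILetI false
set_option linter.unusedSectionVars false
set_option backward.isDefEq.respectTransparency false
set_option backward.isDefEq.respectTransparency.types false
set_option maxHeartbeats 1000000

universe u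

open CategoryTheory CategoryTheory.Limits AlgebraicGeometry TopologicalSpace Opposite
open Groth.Agent.AModX Groth.Agent.H28.ExtBase

noncomputable section

namespace Groth.Agent.H28.LamTwist

open Groth.Agent

variable {X : Scheme.{u}} {L E : X.Modules} {m : ℕ}

/-- Powers of a section. -/
def pw {U : X.Opens} (t : Γ(L, U)) : ∀ m : ℕ, Γ(CohB1.tensorPow L m, U)
  | 0 => (1 : Γ(X, U))
  | m + 1 => InvX.tmul (pw t m) t

theorem isFrame_pw {U : X.Opens} {t : Γ(L, U)} (ht : InvX.IsFrame t) :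
    ∀ m : ℕ, InvX.IsFrame (pw t m)
  | 0 => InvX.isFrame_one U
  | m + 1 => InvX.isFrame_tmul (isFrame_pw ht m) ht

theorem res_pw {U V : X.Opens} (h : V ≤ U) (t : Γ(L, U)) :
    ∀ m : ℕ, res (CohB1.tensorPow L m) h (pw t m) = pw (res L h t) m
  | 0 => map_one (X.presheaf.map (homOfLE h).op).hom
  | m + 1 => (InvX.res_tmul h _ _).trans (congrArg (InvX.tmul · _) (res_pw h t m))

theorem pw_smul {U : X.Opens} (c : Γ(X, U)) (t : Γ(L, U)) :
    ∀ m : ℕ, pw (c • t) m = c ^ m • pw t m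
  | 0 => by rw [pow_zero, one_smul]; rfl
  | m + 1 => by
    show InvX.tmul (pw (c • t) m) (c • t) = c ^ (m + 1) • InvX.tmul (pw t m) t
    rw [pw_smul c t m, InvX.tmul_smul_right, InvX.tmul_smul_left, smul_smul, ← pow_succ']

/-- Tensoring with a frame. -/
def tmEquiv {W : X.Opens} {t : Γ(L, W)} (ht : InvX.IsFrame t) (E : X.Modules) :
    Γ(E, W) ≃ₗ[Γ(X, W)] Γ(CohB1.tensorMod L E, W) :=
  LinearEquiv.ofBijective
    { toFun := fun b => InvX.tmul t b
      map_add' := fun b b' => Box.tmul_add_r t b b'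
      map_smul' := fun r b => InvX.tmul_smul_right r t b } (Box.bijective_tmul_frame ht)

theorem tmEquiv_apply {W : X.Opens} {t : Γ(L, W)} (ht : InvX.IsFrame t) (b : Γ(E, W)) :
    tmEquiv ht E b = InvX.tmul t b := rfl

/-- The value of the twisted wedge in a frame. -/
def loc {W : X.Opens} {t : Γ(L, W)} (ht : InvX.IsFrame t) (E : X.Modules) (m : ℕ) :
    Γ(CohB1.tensorMod L E, W) [⋀^Fin m]→ₗ[Γ(X, W)]
      Γ(CohB1.tensorMod (CohB1.tensorPow L m) (ExtBase.L E m), W) :=
  ((tmEquiv (isFrame_pw ht m) (ExtBase.L E m)).toLinearMap.compAlternatingMap (mu E m W)).compLinearMap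
    (tmEquiv ht E).symm.toLinearMap

theorem loc_tmul {W : X.Opens} {t : Γ(L, W)} (ht : InvX.IsFrame t) (e : Fin m → Γ(E, W)) :
    loc ht E m (fun k => InvX.tmul t (e k)) = InvX.tmul (pw t m) (mu E m W e) := by
  show InvX.tmul (pw t m) (mu E m W fun k => (tmEquiv ht E).symm (tmEquiv ht E (e k))) = _
  simp only [LinearEquiv.symm_apply_apply]

theorem exists_rep {W : X.Opens} {t : Γ(L, W)} (ht : InvX.IsFrame t)
    (z : Fin m → Γ(CohB1.tensorMod L E, W)) : ∃ e : Fin m → Γ(E, W), z = fun k => InvX.tmul t (e k) :=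
  ⟨fun k => (tmEquiv ht E).symm (z k), funext fun k => ((tmEquiv ht E).apply_symm_apply (z k)).symm⟩

/-- The twisted wedges. -/
theorem exists_mu (hL : PicF.IsInvertible L) (E : X.Modules) (m : ℕ) :
    ∃ μ : ∀ V : X.Opens, Γ(CohB1.tensorMod L E, V) [⋀^Fin m]→ₗ[Γ(X, V)]
        Γ(CohB1.tensorMod (CohB1.tensorPow L m) (ExtBase.L E m), V),
      (∀ V V' (i : V' ≤ V) (e : Fin m → Γ(CohB1.tensorMod L E, V)),
        res _ i (μ V e) = μ V' (fun k => res _ i (e k))) ∧
      ∀ (V : X.Opens) (t : Γ(L, V)) (ht : InvX.IsFrame t), μ V = loc ht E m := by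
  classical
  let σ := (U : X.Opens) × {t : Γ(L, U) // InvX.IsFrame t}
  obtain ⟨μ, hμ, hμ'⟩ := AltGlue.exists_glue (M := CohB1.tensorMod L E)
    (L := CohB1.tensorMod (CohB1.tensorPow L m) (ExtBase.L E m)) (U := fun a : σ => a.1)
    (fun x => by
      obtain ⟨U, hx, t, ht⟩ := InvX.exists_frame hL x
      exact ⟨⟨U, t, ht⟩, hx⟩)
    (fun a V h => loc (a.2.2.res h) E m)
    (fun a V V' h i z => by
      obtain ⟨e, rfl⟩ := exists_rep (a.2.2.res h) z
      rw [loc_tmul, InvX.res_tmul, res_pw, mu_res]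
      have h' : (fun k => res (CohB1.tensorMod L E) i (InvX.tmul (res L h a.2.1) (e k))) =
          fun k => InvX.tmul (res L (i.trans h) a.2.1) (res E i (e k)) := funext fun k => by
        rw [InvX.res_tmul, res_res]
      rw [h', loc_tmul, res_res])
    (fun a b V ha hb z => by
      obtain ⟨e, rfl⟩ := exists_rep (a.2.2.res ha) z
      obtain ⟨c, hc⟩ := (b.2.2.res hb).exists_coord le_rfl (res L ha a.2.1)
      rw [res_self] at hc
      have h' : (fun k => InvX.tmul (res L ha a.2.1) (e k)) =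
          fun k => InvX.tmul (res L hb b.2.1) (c • e k) := funext fun k => by
        rw [hc, InvX.tmul_smul_left, InvX.tmul_smul_right]
      rw [loc_tmul, h', loc_tmul, hc, pw_smul, InvX.tmul_smul_left, ← InvX.tmul_smul_right]
      refine congrArg _ ?_
      rw [AlternatingMap.map_smul_univ, Finset.prod_const, Finset.card_univ, Fintype.card_fin])
  refine ⟨μ, hμ, fun V t ht => AlternatingMap.ext fun z => ?_⟩
  refine (hμ' ⟨V, t, ht⟩ V le_rfl z).trans ?_
  obtain ⟨e, rfl⟩ := exists_rep ht z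
  have h' : (fun k => InvX.tmul t (e k)) = fun k => InvX.tmul (res L (le_refl V) t) (e k) := by
    rw [res_self]
  rw [loc_tmul]
  refine (congrArg _ h').trans ((loc_tmul _ e).trans ?_)
  rw [res_self]

theorem isQCoh_tm {A B : X.Modules} (hA : Coh.IsQCoh A) (hB : Coh.IsQCoh B) :
    Coh.IsQCoh (CohB1.tensorMod A B) := by
  rw [show CohB1.tensorMod A B = ((DCoh.tensorBi (X := X)).obj A).obj B from rfl]
  exact KFlatLib.isQCoh_tensor hA hB

/-- `Λ^m (L ⊗ E) = L^{⊗ m} ⊗ Λ^m E`. -/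
theorem isExtPow_twist (hL : PicF.IsInvertible L) (hE : FlatMod.IsFinLocFree E) (m : ℕ) :
    ExtPow.IsExtPow m (CohB1.tensorMod L E) (CohB1.tensorMod (CohB1.tensorPow L m) (ExtBase.L E m)) := by
  obtain ⟨μ, hμ, hloc⟩ := exists_mu hL E m
  have hLf : FlatMod.IsFinLocFree L := fun x => by
    obtain ⟨U, hx, e⟩ := InvEnd.isFinLocFreeOfRank_one hL x
    exact ⟨U, 1, hx, e⟩
  have hPf : FlatMod.IsFinLocFree (CohB1.tensorPow L m) := fun x => by
    obtain ⟨U, hx, e⟩ := InvEnd.isFinLocFreeOfRank_one (InvX.isInvertible_tensorPow hL m) x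
    exact ⟨U, 1, hx, e⟩
  have hq : Coh.IsQCoh (CohB1.tensorMod L E) :=
    isQCoh_tm (QCoh.isQCoh_of_isFinLocFree hLf) (QCoh.isQCoh_of_isFinLocFree hE)
  have hq' : Coh.IsQCoh (CohB1.tensorMod (CohB1.tensorPow L m) (ExtBase.L E m)) :=
    isQCoh_tm (QCoh.isQCoh_of_isFinLocFree hPf)
      (QCoh.isQCoh_of_isFinLocFree (ExtSh.isFinLocFree_L m hE))
  refine AltGlue.isExtPow_of μ hμ fun V hV => ?_
  refine AltGlue.lift_bijective μ hμ hq hq' hV {g : Γ(X, V) | ∃ (U : X.Opens) (r : ℕ) (s : Fin r → Γ(E, U))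
    (t : Γ(L, U)), H23.Frame.IsFrame E s ∧ InvX.IsFrame t ∧ X.basicOpen g ≤ U} ?_ ?_
  · refine hV.self_le_iSup_basicOpen_iff.1 fun y hy => ?_
    obtain ⟨U, r, hyU, ⟨e⟩⟩ := hE y
    obtain ⟨s, hs⟩ := H23.Frame.exists_frame e
    obtain ⟨U', hyU', t, ht⟩ := InvX.exists_frame hL y
    obtain ⟨g, hgU, hyg⟩ := hV.exists_basicOpen_le ⟨y, (show y ∈ U ⊓ U' from ⟨hyU, hyU'⟩)⟩ hy
    exact Opens.mem_iSup.2 ⟨⟨g, U ⊓ U', r, _, _, hs.res inf_le_left, ht.res inf_le_right, hgU⟩, hyg⟩
  · rintro ⟨g, U, r, s, t, hs, ht, hgU⟩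
    have ht' := ht.res hgU
    let T := tmEquiv ht' E
    have hfac : AltGlue.lift μ (X.basicOpen g) =
        ((tmEquiv (isFrame_pw ht' m) (ExtBase.L E m)).toLinearMap ∘ₗ eta E m (X.basicOpen g)) ∘ₗ
          exteriorPower.map m T.symm.toLinearMap :=
      exteriorPower.linearMap_ext (AlternatingMap.ext fun z => by
        refine (AltGlue.lift_ιMulti μ _ z).trans ?_
        rw [hloc _ _ ht']
        show _ = tmEquiv (isFrame_pw ht' m) _ (eta E m _ (exteriorPower.map m T.symm.toLinearMap (exteriorPower.ιMulti _ m z)))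
        rw [exteriorPower.map_apply_ιMulti]
        rfl)
    rw [hfac]
    refine ((tmEquiv (isFrame_pw ht' m) (ExtBase.L E m)).bijective.comp (ExtSh.bijective_eta hs hgU)).comp ?_
    refine Function.bijective_iff_has_inverse.2 ⟨exteriorPower.map m T.toLinearMap, fun z => ?_, fun z => ?_⟩
    · rw [← LinearMap.comp_apply, ← exteriorPower.map_comp, LinearEquiv.comp_symm, exteriorPower.map_id]
      rfl
    · rw [← LinearMap.comp_apply, ← exteriorPower.map_comp, LinearEquiv.symm_comp, exteriorPower.map_id]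
      rfl

end Groth.Agent.H28.LamTwist
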