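import Groth.Agent.H28.PBFree

/-!
# `P^n_R` over an affine base as a projective bundle
-/

set_option autoImplicit false
set_option linter.style.haveILetI false
set_option linter.unusedSectionVars false
set_option backward.isDefEq.respectTransparency false
set_option backward.isDefEq.respectTransparency.types false

universe u

open CategoryTheory CategoryTheory.Limits AlgebraicGeometry TopologicalSpace Opposite

noncomputable section

namespace Groth.Agent.H28.PBField

open Groth.Agent Groth.Agent.AModX Groth.Agent.PBlow Groth.Agent.H28.PBFree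

attribute [local instance] MvPolynomial.gradedAlgebra

variable (n : ℕ) (R : Type u) [CommRing R]

/-- The coordinates. -/
abbrev co (i : Fin (n + 1)) : Γ(Twist.twistProjSpace n R 1, ⊤) :=
  ProjUPX.sec (CohB1.polyGrading n R) (ProjPt.X_mem (R := R) i)

theorem generated_co : ProjUP.GeneratedBy (Twist.twistProjSpace n R 1) (co n R) :=
  ProjUPX.generatedBy_of_frames _ fun x => by
    obtain ⟨i, hi⟩ := ProjUPX.cov_X x
    exact ⟨i, Proj.basicOpen (CohB1.polyGrading n R) (MvPolynomial.X i), hi, ProjUPX.isFrame_sec (CohB1.polyGrading n R) (ProjPt.X_mem i)⟩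

theorem exists_taut :
    ∃ q : (Scheme.Modules.pullback (CohB1.ProjSpace.toSpec n R)).obj (FlatMod.freeMod (Spec (CommRingCat.of R)) (n + 1)) ⟶
        Twist.twistProjSpace n R 1,
      Epi q ∧ ∀ i, sig q (bas (Spec (CommRingCat.of R)) (n + 1)) i = co n R i := by
  obtain ⟨q, hq⟩ := exists_hom (CohB1.ProjSpace.toSpec n R) (co n R)
  have hsig : ∀ i, sig q (bas (Spec (CommRingCat.of R)) (n + 1)) i = co n R i := fun i => by
    refine Eq.trans ?_ (hq i)
    exact congrArg (q.app ⊤) (res_self (M := (Scheme.Modules.pullback (CohB1.ProjSpace.toSpec n R)).obj (FlatMod.freeMod (Spec (CommRingCat.of R)) (n + 1))) _).symm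
  refine ⟨q, ?_, hsig⟩
  refine InvX.epi_of_generated (generated_co n R) q
    (fun i => InvX.ofSect (pS (CohB1.ProjSpace.toSpec n R) _ (bas (Spec (CommRingCat.of R)) (n + 1) i))) fun i => ?_
  show q.app ⊤ (InvX.one (InvX.ofSect _)) = _
  rw [InvX.one_ofSect]
  exact hq i

set_option maxHeartbeats 1600000 in
theorem exists_isProjBundle' :
    ∃ q : (Scheme.Modules.pullback (CohB1.ProjSpace.toSpec n R)).obj (FlatMod.freeMod (Spec (CommRingCat.of R)) (n + 1)) ⟶
        Twist.twistProjSpace n R 1,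
      KRR.IsProjBundle (CohB1.ProjSpace.toSpec n R) (FlatMod.freeMod (Spec (CommRingCat.of R)) (n + 1))
        (Twist.twistProjSpace n R 1) q ∧ ∀ i, sig q (bas (Spec (CommRingCat.of R)) (n + 1)) i = co n R i := by
  obtain ⟨q, hqe, hq⟩ := exists_taut n R
  refine ⟨q, ⟨?_, hqe, ?_⟩, hq⟩
  · exact fun x => InvEnd.isFinLocFreeOfRank_one (PnCoh.Finite.isInvertible_twist (𝒜 := CohB1.polyGrading n R)
      (fun i : Fin (n + 1) => (MvPolynomial.X i : MvPolynomial (Fin (n + 1)) R)) (fun i => ProjPt.X_mem i)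
      (top_le_iff.1 fun y _ => TopologicalSpace.Opens.mem_iSup.2 (ProjUPX.cov_X y)) 1) x
  intro T g L hL s hs
  let 𝒜 := CohB1.polyGrading n R
  have hfr := H23.Frame.incl_isFrame (X := Spec (CommRingCat.of R)) (n := n + 1)
  have hinvL : PicF.IsInvertible L := fun x =>
    let ⟨U, hx, ⟨i⟩⟩ := hL x
    ⟨U, hx, ⟨i ≪≫ coproductUniqueIso fun _ : Fin 1 => Coh.structureModule (U : Scheme.{u})⟩⟩
  let c : Fin (n + 1) → Γ(L, ⊤) := fun i => sig s (bas (Spec (CommRingCat.of R)) (n + 1)) i
  have hc : ProjUP.GeneratedBy L c := generatedBy_sig s hfr hL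
  have hc' : ProjUP.GeneratedBy L (fun i : ULift.{u} (Fin (n + 1)) => c i.down) := fun x => by
    rw [show Set.range (fun i : ULift.{u} (Fin (n + 1)) => (L.presheaf.germ ⊤ x trivial).hom (c i.down)) =
      Set.range (fun i : Fin (n + 1) => (L.presheaf.germ ⊤ x trivial).hom (c i)) from
        ULift.down_surjective.range_comp (fun i => (L.presheaf.germ ⊤ x trivial).hom (c i))]
    exact hc x
  have hTgen : Algebra.adjoin R (Set.range fun i : ULift.{u} (Fin (n + 1)) =>
      (MvPolynomial.X i.down : MvPolynomial (Fin (n + 1)) R)) = ⊤ := by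
    rw [show Set.range (fun i : ULift.{u} (Fin (n + 1)) => (MvPolynomial.X i.down : MvPolynomial (Fin (n + 1)) R)) =
          Set.range (fun i : Fin (n + 1) => (MvPolynomial.X i : MvPolynomial (Fin (n + 1)) R)) from
            ULift.down_surjective.range_comp (fun i : Fin (n + 1) => (MvPolynomial.X i : MvPolynomial (Fin (n + 1)) R))]
    exact ProjUPX.adjoin_X
  have hcov : ∀ y : Proj 𝒜, ∃ i : ULift.{u} (Fin (n + 1)), y ∈ Proj.basicOpen 𝒜 (MvPolynomial.X i.down) :=
    fun y => let ⟨i, hi⟩ := ProjUPX.cov_X y; ⟨⟨i⟩, hi⟩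
  obtain ⟨(r : T ⟶ CohB1.ProjSpace n R), hr, τ, hτ⟩ := ProjUPX.exists_map 𝒜 g hinvL (ULift.{u} (Fin (n + 1)))
    (fun i => (MvPolynomial.X i.down : MvPolynomial (Fin (n + 1)) R)) (fun i => ProjPt.X_mem i.down)
    hTgen hcov (fun i => c i.down) hc'
    (fun V v k _ _ => ⟨MvPolynomial.eval₂Hom ((resR (le_top : V ≤ ⊤)).comp (ProjUP.toGlobal g)) (fun i => v ⟨i⟩),
      fun l => MvPolynomial.eval₂Hom_X' _ _ _, fun x => MvPolynomial.eval₂Hom_C _ _ _⟩)
  let O := Twist.twistProjSpace n R 1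
  have h1 : ∀ i, τ.hom.app ⊤ (pS r O (co n R i)) = c i := fun i =>
    (congrArg (τ.hom.app ⊤) (res_self (M := (Scheme.Modules.pullback r).obj O) _)).trans (hτ ⟨i⟩)
  refine ⟨r, ⟨hr, τ, ?_⟩, ?_⟩
  · refine hom_ext_frame g hfr le_top fun i => ?_
    refine (comp_app q (bas (Spec (CommRingCat.of R)) (n + 1)) r g hr τ le_top le_top i).trans ?_
    rw [hq i]
    refine Eq.trans (h1 i) ?_
    exact congrArg (s.app ⊤) (res_self (M := (Scheme.Modules.pullback g).obj (FlatMod.freeMod (Spec (CommRingCat.of R)) (n + 1))) _).symm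
  · rintro h' ⟨hg', e', he'⟩
    have hv' : ∀ i, e'.hom.app ⊤ (pS h' O (co n R i)) = c i := fun i => by
      rw [← hq i, ← comp_app q (bas (Spec (CommRingCat.of R)) (n + 1)) h' g hg' e' le_top le_top i, he']
      exact congrArg (s.app ⊤) (res_self (M := (Scheme.Modules.pullback g).obj (FlatMod.freeMod (Spec (CommRingCat.of R)) (n + 1))) _)
    have h3 : ∀ i, τ.inv.app ⊤ (c i) = pS r O (co n R i) := fun i => by
      rw [← hτ ⟨i⟩]
      refine (congrArg (fun φ => Scheme.Modules.Hom.app φ ⊤ (ProjUP.pullSec r O (co n R i))) τ.hom_inv_id).trans ?_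
      exact (res_self (M := (Scheme.Modules.pullback r).obj O) _).symm
    have hG : ∀ (r' : T ⟶ CohB1.ProjSpace n R) (i : Fin (n + 1)),
        ProjUPX.pullG r' (ProjPt.X_mem (R := R) i) = pS r' O (co n R i) :=
      fun r' i => (res_self (M := (Scheme.Modules.pullback r').obj O) _).symm
    refine ProjUPX.eq_of_iso_pullback (𝒜 := 𝒜) (T := fun i : ULift.{u} (Fin (n + 1)) => MvPolynomial.X i.down)
      (fun i => ProjPt.X_mem i.down) hTgen hcov h' r (hg'.trans hr.symm) (e' ≪≫ τ.symm) fun i => ?_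
    rw [hG, hG, ← h3, ← hv']
    rfl

theorem exists_isProjBundle :
    ∃ q : (Scheme.Modules.pullback (CohB1.ProjSpace.toSpec n R)).obj (FlatMod.freeMod (Spec (CommRingCat.of R)) (n + 1)) ⟶
        Twist.twistProjSpace n R 1,
      KRR.IsProjBundle (CohB1.ProjSpace.toSpec n R) (FlatMod.freeMod (Spec (CommRingCat.of R)) (n + 1))
        (Twist.twistProjSpace n R 1) q :=
  let ⟨q, hq, _⟩ := exists_isProjBundle' n R
  ⟨q, hq⟩

end Groth.Agent.H28.PBField

end
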