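import Groth.Agent.PnCoh.Global
import Groth.Agent.QCoh.LocFree
import Groth.Prelude.Def_KRR
import Mathlib.AlgebraicGeometry.Morphisms.Flat
import Mathlib.RingTheory.Flat.TorsionFree
import Mathlib.RingTheory.PrincipalIdealDomain

/-!
# Projective space is flat over the base; locally free modules on it are flat over the base
-/

set_option linter.style.haveILetI false
set_option backward.isDefEq.respectTransparency false
set_option backward.isDefEq.respectTransparency.types false

universe u

open CategoryTheory CategoryTheory.Limits AlgebraicGeometry TopologicalSpace MvPolynomial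

namespace Groth.Agent.H28.FlatPr

open Groth.Agent Groth.Agent.PnCoh

attribute [local instance] MvPolynomial.gradedAlgebra

variable {ι : Type}

theorem flat_constSec {g : ι →₀ ℕ} (hg : g ≠ 0) :
    (constSec (R := ULift.{u} ℤ) g).hom.Flat := by
  let A : Type u := Γ(Proj (homogeneousSubmodule ι (ULift.{u} ℤ)), mOpen (ULift.{u} ℤ) g)
  haveI : Module.IsTorsionFree ℤ A :=
    Function.Injective.moduleIsTorsionFree (secL g hg) (secL_injective g hg) fun r x => map_zsmul _ r x
  have h1 : (algebraMap ℤ A).Flat := RingHom.flat_algebraMap_iff.2 inferInstance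
  let e : ULift.{u} ℤ ≃+* ℤ := ULift.ringEquiv
  have h2 : (constSec (R := ULift.{u} ℤ) g).hom = (algebraMap ℤ A).comp e.toRingHom := by
    refine RingHom.ext fun r => ?_
    obtain ⟨k, rfl⟩ := e.symm.surjective r
    rw [RingHom.comp_apply, RingEquiv.toRingHom_eq_coe, RingEquiv.coe_toRingHom, RingEquiv.apply_symm_apply]
    exact RingHom.congr_fun (RingHom.ext_int ((constSec (R := ULift.{u} ℤ) g).hom.comp e.symm.toRingHom)
      (algebraMap ℤ A)) k
  rw [h2]
  exact RingHom.Flat.comp (RingHom.Flat.of_bijective e.bijective) h1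

/-- Projective space over the integers is flat. -/
theorem flat_toSpec (n : ℕ) : Flat (CohB1.ProjSpace.toSpec n (ULift.{u} ℤ)) := by
  let U : Fin (n + 1) → (Proj (homogeneousSubmodule (Fin (n + 1)) (ULift.{u} ℤ))).Opens :=
    fun i => mOpen (ULift.{u} ℤ) (Finsupp.single i 1)
  refine (IsZariskiLocalAtSource.iff_of_openCover
    ((Proj (homogeneousSubmodule (Fin (n + 1)) (ULift.{u} ℤ))).openCoverOfIsOpenCover U (iSup_mOpen_single (ι := Fin (n + 1)) (R := ULift.{u} ℤ)))
    (f := toSpecR (Fin (n + 1)) (ULift.{u} ℤ))).2 fun i => ?_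
  have hg : (Finsupp.single i 1 : Fin (n + 1) →₀ ℕ) ≠ 0 := Finsupp.single_ne_zero.2 one_ne_zero
  show Flat ((U i).ι ≫ _)
  rw [ι_toSpecR hg]
  haveI : Flat (Spec.map (constSec (R := ULift.{u} ℤ) (Finsupp.single i 1))) :=
    Flat.SpecMap_iff.2 (flat_constSec hg)
  have hA : IsAffineOpen (U i) := isAffineOpen_mOpen (R := ULift.{u} ℤ) hg
  haveI : IsIso (U i).toSpecΓ := hA.isoSpec_hom ▸ inferInstance
  infer_instance

instance flat_pr (n : ℕ) (T : Scheme.{u}) : Flat (KRR.pr n T) :=
  MorphismProperty.pullback_snd _ _ (flat_toSpec n)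

/-- Locally free modules on a flat scheme are flat over the base. -/
theorem isFlatOver_of_isFinLocFree {X S : Scheme.{u}} (f : X ⟶ S) [Flat f] {H : X.Modules}
    (hH : FlatMod.IsFinLocFree H) : FlatMod.IsFlatOver f H := fun x => by
  show FlatMod.IsFlatOverAt f H x
  unfold FlatMod.IsFlatOverAt
  letI := FlatMod.moduleStalkOver f H x
  letI : Algebra (S.presheaf.stalk (f.base x)) (X.presheaf.stalk x) := (f.stalkMap x).hom.toAlgebra
  haveI : IsScalarTower (S.presheaf.stalk (f.base x)) (X.presheaf.stalk x) (H.presheaf.stalk x) :=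
    IsScalarTower.of_algebraMap_smul fun _ _ => rfl
  haveI : Module.Flat (S.presheaf.stalk (f.base x)) (X.presheaf.stalk x) := Flat.stalkMap f x
  haveI := QCoh.free_stalk_of_isFinLocFree hH x
  exact Module.Flat.trans _ (X.presheaf.stalk x) _

end Groth.Agent.H28.FlatPr
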