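import Groth.Agent.H28.KRRTw
import Groth.Agent.H28.FlatPr
import Groth.Agent.QCoh.RpushExchange2
import Groth.Agent.QCoh.RpushAbGod
import Groth.Agent.PnCoh.Chow.Proper
import Groth.Agent.KFlatLib.Scheme.Grothendieck
import Mathlib.CategoryTheory.Abelian.GrothendieckCategory.EnoughInjectives
import Mathlib.CategoryTheory.Abelian.Injective.Resolution

/-!
# Direct images of regular locally free modules are locally free
-/

set_option linter.style.haveILetI false
set_option linter.unusedSectionVars false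
set_option backward.isDefEq.respectTransparency false
set_option backward.isDefEq.respectTransparency.types false

universe u

open CategoryTheory CategoryTheory.Limits AlgebraicGeometry TopologicalSpace

namespace Groth.Agent.H28.PushLocFree

open Groth.Agent

theorem isZero_Rpush_of_rz {X Y : Scheme.{u}} (f : X ⟶ Y) [HasInjectiveResolutions X.Modules]
    (M : X.Modules) (q : ℕ) (h : RKoszul.RZ f M (q + 1)) : IsZero ((Coh.Rpush f (q + 1)).obj M) := by
  obtain ⟨e⟩ := QCoh.nonempty_RpushAb_iso f M q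
  obtain ⟨e'⟩ := QCoh.nonempty_Rpush_iso f M q
  have hz : IsZero ((QCoh.toAbFunctor Y).obj (QCoh.rpushModel f M q)) := h.of_iso e.symm
  haveI : (QCoh.toAbFunctor Y).Faithful :=
    inferInstanceAs (SheafOfModules.toSheaf Y.ringCatSheaf).Faithful
  refine IsZero.of_iso ?_ e'
  rw [IsZero.iff_id_eq_zero]
  exact (QCoh.toAbFunctor Y).map_injective (hz.eq_of_src _ _)

/-- A flat coherent module without higher direct images has a locally free direct image. -/
theorem isFinLocFree_push {X Y : Scheme.{u}} (f : X ⟶ Y) [IsProper f] [IsLocallyNoetherian Y]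
    {M : X.Modules} (hM : Coh.IsCoh M) (hfl : FlatMod.IsFlatOver f M)
    (hR : ∀ i : ℕ, 1 ≤ i → RKoszul.RZ f M i) :
    FlatMod.IsFinLocFree ((Scheme.Modules.pushforward f).obj M) := by
  haveI : HasInjectiveResolutions X.Modules := inferInstance
  haveI := SpObjSS.enoughInjectives_of_hasInjectiveResolutions (C := X.Modules)
  haveI := QCoh.preservesFiniteLimits_push f
  intro y
  obtain ⟨U, hy, ⟨e⟩⟩ := QCoh.exists_free_of_concentrated hM hfl 0 y
    (QCoh.concentrated_of_isZero_Rpush hM hfl (fun i hi => by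
      obtain ⟨q, rfl⟩ : ∃ q, i = q + 1 := ⟨i - 1, by omega⟩
      exact isZero_Rpush_of_rz f M q (hR (q + 1) (by omega))) y)
  exact ⟨U, _, hy, ⟨(Scheme.Modules.restrictFunctor U.ι).mapIso
    ((Scheme.Modules.pushforward f).rightDerivedZeroIsoSelf.app M).symm ≪≫ e⟩⟩

theorem isCoh_of_isFinLocFree {X : Scheme.{u}} {M : X.Modules} (h : FlatMod.IsFinLocFree M) : Coh.IsCoh M :=
  ⟨QCoh.isQCoh_of_isFinLocFree h, QCoh.isFT_of_isFP (QCoh.isFP_of_isFinLocFree h)⟩

/-- The same for a regular module. -/
theorem isFinLocFree_push_of_isReg (n : ℕ) (Y : Scheme.{u}) [IsLocallyNoetherian Y]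
    (F : (KRR.PY n Y).Modules) (hF : FlatMod.IsFinLocFree F) (hreg : KRR.IsRegSheaf n Y F) :
    FlatMod.IsFinLocFree ((Scheme.Modules.pushforward (KRR.pr n Y)).obj F) := by
  haveI : IsProper (KRR.pr n Y) :=
    MorphismProperty.pullback_snd _ _ (PnCoh.Chow.isProper_toSpec n (ULift.{u} ℤ))
  exact isFinLocFree_push _ (isCoh_of_isFinLocFree hF)
    (FlatPr.isFlatOver_of_isFinLocFree _ hF) (fun i hi => KRRTw.rz_self F hreg i hi)

end Groth.Agent.H28.PushLocFree
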