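import Groth.Agent.H28.KoszulCone
import Groth.Agent.QCoh.HHExact
import Groth.Agent.QCoh.Ab.Rpush
import Groth.Agent.TriCat.AcyclicObj
import Groth.Agent.QCoh.ToSheaf

/-!
# Koszul complexes and higher direct images
-/

set_option linter.style.haveILetI false
set_option linter.unusedSectionVars false
set_option backward.isDefEq.respectTransparency false
set_option backward.isDefEq.respectTransparency.types false

universe w u

open CategoryTheory CategoryTheory.Limits AlgebraicGeometry TopologicalSpace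

namespace Groth.Agent.H28.RKoszul

open Groth.Agent.H28.KoszulCone

variable {X Y : Scheme.{u}} (f : X ⟶ Y)

/-- `R^i f_*` of the underlying abelian sheaf vanishes. -/
abbrev RZ (A : X.Modules) (i : ℕ) : Prop := IsZero ((Coh.RpushAb f i).obj (Coh.toAb A))

/-- The composite functor. -/
noncomputable abbrev RF (i : ℕ) : X.Modules ⥤ Sheaf (Opens.grothendieckTopology Y) AddCommGrpCat.{u} :=
  QCoh.toAbFunctor X ⋙ Coh.RpushAb f i

theorem rz_of_isZero {A : X.Modules} (h : IsZero A) (i : ℕ) : RZ f A i := by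
  haveI : (RF f i).Additive := inferInstance
  exact (RF f i).map_isZero h

theorem rz_of_iso {A B : X.Modules} (e : A ≅ B) (i : ℕ) (h : RZ f A i) : RZ f B i :=
  h.of_iso ((RF f i).mapIso e).symm

theorem rz_mid {S : ShortComplex X.Modules} (hS : S.ShortExact) (i : ℕ)
    (h₁ : RZ f S.X₁ i) (h₃ : RZ f S.X₃ i) : RZ f S.X₂ i := by
  let := HasDerivedCategory.standard (Sheaf (Opens.grothendieckTopology X) AddCommGrpCat.{u})
  let := HasDerivedCategory.standard (Sheaf (Opens.grothendieckTopology Y) AddCommGrpCat.{u})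
  obtain ⟨δ, w₁, w₂, w₃, e₁, -, -⟩ :=
    TriCat.exists_rightDerived_ses (Coh.pushAb f) (QCoh.toAb_shortExact hS) i
  exact e₁.isZero_X₂ (h₁.eq_of_src _ _) (h₃.eq_of_tgt _ _)

theorem rz_quot {S : ShortComplex X.Modules} (hS : S.ShortExact) (i : ℕ)
    (h₂ : RZ f S.X₂ i) (h₁ : RZ f S.X₁ (i + 1)) : RZ f S.X₃ i := by
  let := HasDerivedCategory.standard (Sheaf (Opens.grothendieckTopology X) AddCommGrpCat.{u})
  let := HasDerivedCategory.standard (Sheaf (Opens.grothendieckTopology Y) AddCommGrpCat.{u})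
  obtain ⟨δ, w₁, w₂, w₃, -, e₂, -⟩ :=
    TriCat.exists_rightDerived_ses (Coh.pushAb f) (QCoh.toAb_shortExact hS) i
  exact e₂.isZero_X₂ (h₂.eq_of_src _ _) (h₁.eq_of_tgt _ _)

theorem epi_push_map {S : ShortComplex X.Modules} (hS : S.ShortExact) (h₁ : RZ f S.X₁ 1) :
    Epi ((Scheme.Modules.pushforward f).map S.g) := by
  let := HasDerivedCategory.standard (Sheaf (Opens.grothendieckTopology X) AddCommGrpCat.{u})
  let := HasDerivedCategory.standard (Sheaf (Opens.grothendieckTopology Y) AddCommGrpCat.{u})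
  have := QCoh.Ab.push_preservesFiniteLimits (X := X.toPresheafedSpace.carrier)
    (Y := Y.toPresheafedSpace.carrier) f.base
  obtain ⟨δ, w₁, w₂, w₃, -, e₂, -⟩ :=
    TriCat.exists_rightDerived_ses (Coh.pushAb f) (QCoh.toAb_shortExact hS) 0
  have h0 : Epi (((Coh.pushAb f).rightDerived 0).map ((QCoh.toAbFunctor X).map S.g)) :=
    e₂.epi_f (h₁.eq_of_tgt _ _)
  have e := (Coh.pushAb f).rightDerivedZeroIsoSelf.hom.naturality ((QCoh.toAbFunctor X).map S.g)
  have h1 : Epi ((Coh.pushAb f).map ((QCoh.toAbFunctor X).map S.g)) :=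
    haveI := h0
    haveI : Epi ((Coh.pushAb f).rightDerivedZeroIsoSelf.hom.app ((QCoh.toAbFunctor X).obj S.X₂) ≫
        (Coh.pushAb f).map ((QCoh.toAbFunctor X).map S.g)) := by
      rw [← e]; infer_instance
    epi_of_epi ((Coh.pushAb f).rightDerivedZeroIsoSelf.hom.app _) _
  haveI : (QCoh.toAbFunctor Y).Faithful :=
    inferInstanceAs (SheafOfModules.toSheaf Y.ringCatSheaf).Faithful
  haveI : Epi ((QCoh.toAbFunctor Y).map ((Scheme.Modules.pushforward f).map S.g)) := h1
  exact (QCoh.toAbFunctor Y).epi_of_epi_map inferInstance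

variable {J : Type w} (M : ℤ → X.Modules) (x : J → ∀ d : ℤ, M (d - 1) ⟶ M d)
  (hx : ∀ (i j : J) (d : ℤ), x i (d - 1) ≫ x j d = x j (d - 1) ≫ x i d)

theorem rz_biprod {A B : X.Modules} (n : ℕ) (hA : RZ f A n) (hB : RZ f B n) : RZ f (A ⊞ B) n :=
  rz_mid f (S := ShortComplex.mk (biprod.inl : A ⟶ A ⊞ B) biprod.snd biprod.inl_snd)
    (ShortComplex.Splitting.ofHasBinaryBiproduct A B).shortExact n hA hB

theorem rz_obj (n : ℕ) : ∀ (l : List J) (d : ℤ) (p : ℕ),
    RZ f (M (d - p)) n → RZ f (obj M l d p) n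
  | [], d, 0, h => by simpa [obj] using h
  | _ :: l, d, 0, h => rz_obj n l d 0 h
  | [], d, _ + 1, _ => rz_of_isZero f (isZero_obj M [] d _ (by simp)) n
  | _ :: l, d, p + 1, h => rz_biprod f n (rz_obj n l d (p + 1) h)
      (rz_obj n l (d - 1) p (by
        rwa [show d - 1 - (p : ℤ) = d - ((p + 1 : ℕ) : ℤ) by omega]))

variable (l : List J) (hcov : ∀ y : X, ∃ j ∈ l, ∀ d, Function.Bijective ((KFlatLib.stalkAb y).map (x j d)))

include hx hcov in
theorem rz_kernel (d : ℤ) (i : ℕ) (h : ∀ p : ℕ, RZ f (obj M l d (p + 1)) (i + p)) :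
    ∀ p : ℕ, RZ f (kernel (dd M x l d p)) (i + p + 1) := by
  suffices ∀ m p : ℕ, l.length ≤ p + m → RZ f (kernel (dd M x l d p)) (i + p + 1) from
    fun p => this l.length p (Nat.le_add_left _ _)
  intro m
  induction m with
  | zero =>
    intro p hp
    refine rz_of_isZero f (IsZero.of_mono (kernel.ι _) (isZero_obj M l d (p + 1) ?_)) _
    omega
  | succ m ih =>
    intro p hp
    exact rz_quot f (shortExact_piece M x hx l d p (exact_dd M x hx l hcov d p)) _
      (h (p + 1)) (ih (p + 1) (by omega))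

include hx hcov in
/-- Vanishing for the last term. -/
theorem rz_zero (d : ℤ) (i : ℕ) (h : ∀ p : ℕ, RZ f (obj M l d (p + 1)) (i + p)) : RZ f (M d) i := by
  have hk := rz_kernel f M x hx l hcov d i h 0
  haveI := epi_dd M x hx l hcov d
  have hS : (ShortComplex.mk (kernel.ι (dd M x l d 0)) (dd M x l d 0) (kernel.condition _)).ShortExact :=
    ShortComplex.ShortExact.mk' (ShortComplex.exact_of_f_is_kernel _ (kernelIsKernel _)) inferInstance inferInstance
  haveI := isIso_e0 M l d
  exact rz_of_iso f (asIso (e0 M l d)) i (rz_quot f hS i (h 0) hk)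

include hx hcov in
/-- The last differential stays epi after direct image. -/
theorem epi_push_dd (d : ℤ) (h : ∀ p : ℕ, RZ f (obj M l d (p + 2)) (p + 1)) :
    Epi ((Scheme.Modules.pushforward f).map (dd M x l d 0)) := by
  haveI := epi_dd M x hx l hcov d
  have hS : (ShortComplex.mk (kernel.ι (dd M x l d 0)) (dd M x l d 0) (kernel.condition _)).ShortExact :=
    ShortComplex.ShortExact.mk' (ShortComplex.exact_of_f_is_kernel _ (kernelIsKernel _)) inferInstance inferInstance
  refine epi_push_map f hS ?_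
  suffices ∀ m p : ℕ, l.length ≤ p + m → RZ f (kernel (dd M x l d p)) (p + 1) from
    this l.length 0 (Nat.le_add_left _ _)
  intro m
  induction m with
  | zero =>
    intro p hp
    exact rz_of_isZero f (IsZero.of_mono (kernel.ι _) (isZero_obj M l d (p + 1) (by omega))) _
  | succ m ih =>
    intro p hp
    exact rz_quot f (shortExact_piece M x hx l d p (exact_dd M x hx l hcov d p)) _
      (h p) (ih (p + 1) (by omega))

section Gen

variable {C D : Type*} [Category C] [Preadditive C] [HasBinaryBiproducts C] [HasZeroObject C]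
  [Category D] [Preadditive D] (F : C ⥤ D) [F.Additive] {K : Type*} (M' : ℤ → C)
  (x' : K → ∀ d : ℤ, M' (d - 1) ⟶ M' d)

/-- A map killing the images of all the `x` kills the image of the last differential. -/
theorem dd_comp_eq_zero : ∀ (l : List K) (d : ℤ) {Z : D} (g : F.obj (M' d) ⟶ Z),
    (∀ j ∈ l, F.map (x' j d) ≫ g = 0) → F.map (dd M' x' l d 0 ≫ e0 M' l d) ≫ g = 0
  | [], d, _, g, _ => by
    show F.map ((0 : obj M' [] d 1 ⟶ M' d) ≫ 𝟙 (M' d)) ≫ g = 0
    rw [zero_comp, F.map_zero, zero_comp]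
  | i :: l, d, _, g, hg => by
    show F.map (biprod.desc (dd M' x' l d 0) (xm M' x' i l d 0) ≫ e0 M' l d) ≫ g = 0
    rw [biprod.desc_eq, Preadditive.add_comp, Category.assoc, Category.assoc, F.map_add,
      Preadditive.add_comp, F.map_comp, Category.assoc,
      dd_comp_eq_zero l d g (fun j hj => hg j (List.mem_cons_of_mem _ hj)), comp_zero, zero_add,
      xm_e0, F.map_comp, F.map_comp, Category.assoc, Category.assoc, hg i (List.mem_cons_self ..),
      comp_zero]
    simp

end Gen

include hx hcov in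
/-- Maps out of `f_* M(d)` are detected on the images of the `x`. -/
theorem push_hom_ext (d : ℤ) (h : ∀ p : ℕ, RZ f (obj M l d (p + 2)) (p + 1)) {Z : Y.Modules}
    (g : (Scheme.Modules.pushforward f).obj (M d) ⟶ Z)
    (hg : ∀ j ∈ l, (Scheme.Modules.pushforward f).map (x j d) ≫ g = 0) : g = 0 := by
  haveI := epi_push_dd f M x hx l hcov d h
  haveI := isIso_e0 M l d
  haveI : Epi ((Scheme.Modules.pushforward f).map (dd M x l d 0 ≫ e0 M l d)) := by
    rw [Functor.map_comp]; infer_instance
  rw [← cancel_epi ((Scheme.Modules.pushforward f).map (dd M x l d 0 ≫ e0 M l d)), comp_zero]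
  exact dd_comp_eq_zero (Scheme.Modules.pushforward f) M x l d g hg

end Groth.Agent.H28.RKoszul
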