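import Groth.Agent.H28.KRRReg
import Groth.Agent.H28.RKoszul
import Groth.Agent.Lib.ProjShift
import Groth.Agent.KFlatLib.Scheme.Pullback

/-!
# The coordinates as maps between twists on `P^n_T`; regularity propagates
-/

set_option linter.style.haveILetI false
set_option linter.unusedSectionVars false
set_option backward.isDefEq.respectTransparency false
set_option backward.isDefEq.respectTransparency.types false

universe u

open CategoryTheory CategoryTheory.Limits AlgebraicGeometry TopologicalSpace MonoidalCategory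
open Groth.Agent.KFlatLib

namespace Groth.Agent.H28.KRRTw

open Groth.Agent.H28.KRRReg

variable {n : ℕ} {T : Scheme.{u}}

/-- The projection to `P^n_ℤ`. -/
noncomputable abbrev toPn (n : ℕ) (T : Scheme.{u}) : KRR.PY n T ⟶ CohB1.ProjSpace n (ULift.{u} ℤ) :=
  pullback.fst (CohB1.ProjSpace.toSpec n (ULift.{u} ℤ)) (specULiftZIsTerminal.from T)

/-- Tensoring with `O(d)`. -/
noncomputable abbrev Tw (n : ℕ) (T : Scheme.{u}) (d : ℤ) : (KRR.PY n T).Modules ⥤ (KRR.PY n T).Modules :=
  DCoh.tensorBi.obj (Twist.twistOver n T d)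

/-- Multiplication by a coordinate between the twists of the structure sheaf. -/
noncomputable def xO (j : ULift.{u} (Fin (n + 1))) (d : ℤ) :
    Twist.twistOver n T (d - 1) ⟶ Twist.twistOver n T d :=
  (Scheme.Modules.pullback (toPn n T)).map (ProjShift.xHom (crd_mem j) d)

/-- Multiplication by a coordinate between the twists. -/
noncomputable def mul (j : ULift.{u} (Fin (n + 1))) (d : ℤ) : Tw n T (d - 1) ⟶ Tw n T d :=
  DCoh.tensorBi.map (xO j d)

theorem mul_comm' (F : (KRR.PY n T).Modules) (i j : ULift.{u} (Fin (n + 1))) (d : ℤ) :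
    (mul i (d - 1)).app F ≫ (mul j d).app F = (mul j (d - 1)).app F ≫ (mul i d).app F := by
  simp only [mul, xO, ← NatTrans.comp_app, ← Functor.map_comp,
    ProjShift.xHom_comm (crd_mem i) (crd_mem j) d]

theorem bijective_mul (F : (KRR.PY n T).Modules) {y : KRR.PY n T} {j : ULift.{u} (Fin (n + 1))}
    (hy : toPn n T y ∈ PnCoh.Finite.D (CohB1.polyGrading n (ULift.{u} ℤ)) (crd n j)) (d : ℤ) :
    Function.Bijective ((stalkAb y).map ((mul j d).app F)) := by
  let P := CohB1.ProjSpace n (ULift.{u} ℤ)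
  haveI : IsIso ((stalkP (X := P) (toPn n T y)).map (DCoh.toP.map (ProjShift.xHom (crd_mem j) d))) :=
    (ConcreteCategory.isIso_iff_bijective _).2 (ProjShift.bijective_stalk (crd_mem j) hy d)
  haveI : IsIso ((DerSch.stalkFunctor P (toPn n T y)).map (ProjShift.xHom (crd_mem j) d)) :=
    (NatIso.isIso_map_iff (stalkToPIso (X := P) (toPn n T y)) (ProjShift.xHom (crd_mem j) d)).2 this
  haveI : IsIso ((DerSch.stalkFunctor (KRR.PY n T) y).map (xO j d)) :=
    (NatIso.isIso_map_iff (stalkPullbackIso (toPn n T) y) (ProjShift.xHom (crd_mem j) d)).2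
      (Functor.map_isIso (ModuleCat.extendScalars ((toPn n T).stalkMap y).hom)
        ((DerSch.stalkFunctor P (toPn n T y)).map (ProjShift.xHom (crd_mem j) d)))
  haveI : IsIso ((DCoh.tensorBi.flip.obj F ⋙ DerSch.stalkFunctor (KRR.PY n T) y).map (xO j d)) :=
    (NatIso.isIso_map_iff (stalkTensorRightIso F y) (xO j d)).2
      (Functor.map_isIso (tensorRight _) ((DerSch.stalkFunctor (KRR.PY n T) y).map (xO j d)))
  exact (ConcreteCategory.isIso_iff_bijective _).1
    (Functor.map_isIso (forget₂ (ModuleCat ((KRR.PY n T).presheaf.stalk y)) AddCommGrpCat)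
      ((DCoh.tensorBi.flip.obj F ⋙ DerSch.stalkFunctor (KRR.PY n T) y).map (xO j d)))

theorem covered (F : (KRR.PY n T).Modules) (y : KRR.PY n T) :
    ∃ j ∈ (Finset.univ : Finset (ULift.{u} (Fin (n + 1)))).toList,
      ∀ d, Function.Bijective ((stalkAb y).map ((mul j d).app F)) := by
  obtain ⟨j, hj⟩ := Opens.mem_iSup.1 (crd_cover.{u}.ge (trivial : toPn n T y ∈ (⊤ : Opens _)))
  exact ⟨j, Finset.mem_toList.2 (Finset.mem_univ j), fun d => bijective_mul F hj d⟩

open RKoszul in
/-- Regularity propagates. -/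
theorem rz_add (F : (KRR.PY n T).Modules) (hR : KRR.IsRegSheaf n T F) :
    ∀ (e : ℕ) (q : ℕ), 1 ≤ q → RZ (KRR.pr n T) ((Tw n T ((e : ℤ) - q)).obj F) q := by
  intro e
  induction e with
  | zero =>
    intro q hq
    have h : RZ (KRR.pr n T) ((Tw n T (-(q : ℤ))).obj F) q := hR q hq
    simpa using h
  | succ e ih =>
    intro i hi
    refine rz_zero (KRR.pr n T) (fun d => (Tw n T d).obj F) (fun j d => (mul j d).app F)
      (mul_comm' F) _ (covered F) _ i fun p => ?_
    refine rz_obj (KRR.pr n T) (fun d => (Tw n T d).obj F) _ _ _ _ ?_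
    have h := ih (i + p) (by omega)
    rwa [show ((e + 1 : ℕ) : ℤ) - (i : ℤ) - ((p + 1 : ℕ) : ℤ) = (e : ℤ) - ((i + p : ℕ) : ℤ) by omega]

/-- Twists of a regular module are regular. -/
theorem isReg_twF (F : (KRR.PY n T).Modules) (hR : KRR.IsRegSheaf n T F) (m : ℕ) :
    KRR.IsRegSheaf n T (KRR.twF n T (m : ℤ) F) := fun i hi =>
  isZero_R_of_iso ⟨(twF_twF (-(i : ℤ)) (m : ℤ) ((m : ℤ) - i) (by ring) F).some.symm⟩ i (rz_add F hR m i hi)

/-- Higher direct images of a regular module vanish. -/
theorem rz_self (F : (KRR.PY n T).Modules) (hR : KRR.IsRegSheaf n T F) (i : ℕ) (hi : 1 ≤ i) :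
    RKoszul.RZ (KRR.pr n T) F i := by
  have h := rz_add F hR i i hi
  rw [sub_self] at h
  exact isZero_R_of_iso (twF_zero F) i h

open RKoszul in
/-- If `p_* φ` is onto then so is `p_*` of every non-negative twist of `φ`. -/
theorem epi_push_tw {G F : (KRR.PY n T).Modules} (φ : G ⟶ F) (hR : KRR.IsRegSheaf n T F)
    (h0 : Epi ((Scheme.Modules.pushforward (KRR.pr n T)).map φ)) :
    ∀ (e : ℕ) (d : ℤ), d = e → Epi ((Scheme.Modules.pushforward (KRR.pr n T)).map ((Tw n T d).map φ)) := by
  intro e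
  induction e with
  | zero =>
    rintro d rfl
    let nat : Tw n T ((0 : ℕ) : ℤ) ≅ 𝟭 _ :=
      DCoh.tensorBi.mapIso (twistOver_zero (n := n) (T := T)).some ≪≫
        ((KFlatLib.tensorBiFlipIso (KRR.PY n T)).app
          (Coh.structureModule (KRR.PY n T))).symm ≪≫
        KFlatLib.tensorStructureIso (KRR.PY n T)
    haveI := h0
    have e1 : (Tw n T ((0 : ℕ) : ℤ)).map φ = nat.hom.app G ≫ φ ≫ nat.inv.app F := by
      have h := nat.hom.naturality φ
      simp only [Functor.id_map] at h
      rw [← Category.assoc, ← h, Category.assoc, Iso.hom_inv_id_app, Category.comp_id]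
    rw [e1, Functor.map_comp, Functor.map_comp]
    infer_instance
  | succ e ih =>
    intro d hd
    haveI := ih (d - 1) (by omega)
    refine ⟨fun {Z} a b hab => sub_eq_zero.1 ?_⟩
    refine push_hom_ext (KRR.pr n T) (fun d => (Tw n T d).obj F) (fun j d => (mul j d).app F)
      (mul_comm' F) _ (covered F) d (fun p => ?_) (a - b) fun j _ => ?_
    · refine rz_obj (KRR.pr n T) (fun d => (Tw n T d).obj F) _ _ _ _ ?_
      have h := rz_add F hR e (p + 1) (by omega)
      rwa [show d - ((p + 2 : ℕ) : ℤ) = (e : ℤ) - ((p + 1 : ℕ) : ℤ) by omega]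
    · rw [← cancel_epi ((Scheme.Modules.pushforward (KRR.pr n T)).map ((Tw n T (d - 1)).map φ)), comp_zero,
        ← Category.assoc, ← Functor.map_comp, (mul j d).naturality φ, Functor.map_comp, Category.assoc,
        Preadditive.comp_sub, hab, sub_self, comp_zero]

end Groth.Agent.H28.KRRTw
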