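import Groth.Agent.QCoh.Ab.Rpush
import Groth.Agent.QCoh.CechLoc
import Groth.Agent.QCoh.CechMod
import Groth.Agent.QCoh.Ab.Restrict
import Mathlib.AlgebraicGeometry.Morphisms.Separated

/-!
# Higher direct images vanish when cohomology over an affine cover does (adapted from `AmpleVan.RelVanish`)
-/

set_option linter.style.haveILetI false
set_option linter.unusedSectionVars false
set_option backward.isDefEq.respectTransparency false
set_option backward.isDefEq.respectTransparency.types false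

universe u

open CategoryTheory CategoryTheory.Limits AlgebraicGeometry TopologicalSpace Opposite

noncomputable section

namespace Groth.Agent.H28.RzCover

open Groth.Agent

theorem subsingleton_HU_top {T : TopCat.{u}} (F : CohTop.Ab T) (n : ℕ) (h : Subsingleton (CohTop.H F n)) :
    Subsingleton (CohTop.HU F n (⊤ : Opens T)) :=
  (SiteBase.huTerminalEquiv isTerminalTop F n).toEquiv.subsingleton

theorem subsingleton_HU_of_HHon {Y : Scheme.{u}} (M : Y.Modules) (U : Y.Opens) (q : ℕ)
    (h : Subsingleton (Coh.HHon Y M U (q + 1))) :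
    Subsingleton (CohTop.HU (X := Y.toPresheafedSpace.carrier) (QCoh.abSheaf M) (q + 1) U) := by
  have h1 := (QCoh.Ab.subsingleton_HU_restr_iff (U.ι.isOpenEmbedding) q
    (QCoh.abSheaf M) ⊤).1 (subsingleton_HU_top _ _ h)
  have e : (U.ι.isOpenEmbedding.isOpenMap.functor.obj ⊤ : Y.Opens) = U :=
    Opens.ext (Set.image_univ.trans U.range_ι)
  rw [← e]
  exact h1

variable {X S : Scheme.{u}} (f : X ⟶ S)

/-- Higher direct images vanish when the cohomology over an affine covering does. -/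
theorem isZero_RpushAb_of_cover [QuasiCompact f] [IsSeparated f] {M : X.Modules} (hM : Coh.IsQCoh M)
    (B : Set S.affineOpens) (hB : ∀ y : S, ∃ W ∈ B, y ∈ (W : S.affineOpens).1)
    (h : ∀ W ∈ B, ∀ q, Subsingleton (Coh.HH (f ⁻¹ᵁ (W : S.affineOpens).1).toScheme (M.restrict (f ⁻¹ᵁ (W : S.affineOpens).1).ι) (q + 1))) :
    ∀ p, 0 < p → IsZero ((Coh.RpushAb f p).obj (Coh.toAb M)) := by
  intro p hp
  refine QCoh.Ab.Rpush_isZero_of_bound f.base
    (fun V => ∃ W ∈ B, ∃ b : Γ(S, (W : S.affineOpens).1), V = S.basicOpen b) ?_ 0 (QCoh.abSheaf M) ?_ p hp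
  · intro U y hy
    obtain ⟨W, hW, hyW⟩ := hB y
    obtain ⟨b, hb, hyb⟩ := W.2.exists_basicOpen_le (V := U) ⟨y, hy⟩ hyW
    exact ⟨S.basicOpen b, hb, hyb, W, hW, b, rfl⟩
  rintro V ⟨W, hW, b, rfl⟩ q hq
  obtain ⟨q, rfl⟩ : ∃ r, q = r + 1 := ⟨q - 1, by omega⟩
  let U : X.Opens := f ⁻¹ᵁ W.1
  let s : Γ(U.toScheme, ⊤) := U.topIso.inv (f.app W.1 b)
  haveI : CompactSpace U.toScheme := isCompact_iff_compactSpace.1 (f.isCompact_preimage W.2.isCompact)
  haveI : U.toScheme.IsSeparated := ⟨by
    have e : terminal.from U.toScheme = (f ∣_ W.1) ≫ terminal.from W.1.toScheme := Subsingleton.elim _ _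
    rw [e]
    haveI : IsAffine W.1.toScheme := W.2
    exact MorphismProperty.comp_mem @IsSeparated _ _ (IsZariskiLocalAtTarget.restrict ‹IsSeparated f› W.1) inferInstance⟩
  have himage : U.ι ''ᵁ U.toScheme.basicOpen s = f ⁻¹ᵁ S.basicOpen b := by
    rw [Scheme.image_basicOpen, Scheme.preimage_basicOpen, Scheme.Opens.ι_appIso]
    show X.basicOpen (U.topIso.inv (f.app W.1 b)) = _
    rw [Scheme.Opens.topIso_inv]
    exact X.basicOpen_res_eq _ _
  letI := QCoh.modHH (QCoh.idTop U.toScheme) (M.restrict U.ι) (q + 1)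
  obtain ⟨e⟩ := QCoh.HH_localization s (QCoh.isQCoh_restrict U.ι hM) (q + 1)
  have h1 := subsingleton_HU_of_HHon (M.restrict U.ι) _ q (by
    haveI := h W hW q
    exact e.toEquiv.subsingleton)
  have h2 := (QCoh.Ab.subsingleton_HU_restr_iff U.ι.isOpenEmbedding q (QCoh.abSheaf M) _).1 h1
  rw [← himage]
  exact h2

end Groth.Agent.H28.RzCover
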