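import Groth.Agent.H28.BoxCech
import Groth.Agent.H28.KRRTw
import Groth.Agent.QCoh.Qcqs
import Groth.Agent.PnCoh.Chow.Proper
import Groth.Agent.H28.RzCover
import Groth.Agent.QCoh.Bound
import Groth.Agent.QCoh.OpenSub
import Groth.Agent.KFlatLib.Scheme.QCohTensor

/-!
# Projective space over an affine open of the base is a box
-/

set_option linter.style.haveILetI false
set_option linter.unusedSectionVars false
set_option backward.isDefEq.respectTransparency false
set_option backward.isDefEq.respectTransparency.types false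

universe u

open CategoryTheory CategoryTheory.Limits AlgebraicGeometry TopologicalSpace Opposite
open scoped TensorProduct

namespace Groth.Agent.H28.PnBox

open Groth.Agent Groth.Agent.H28.KRRTw

theorem isIso_ι_appLE {X : Scheme.{u}} (U : X.Opens) :
    IsIso (U.ι.appLE U ⊤ U.ι_preimage_self.ge) := by
  rw [Scheme.Opens.ι_appLE]
  rw [Subsingleton.elim (homOfLE _) (eqToHom U.ι_image_top)]
  infer_instance

/-- A fibre product of affines over `Spec ℤ` is a box. -/
theorem isBox_of_isPullback {V P T : Scheme.{u}} (g : V ⟶ P) (q : V ⟶ T) (D : P.Opens) (U : T.Opens)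
    (hD : IsAffineOpen D) (hU : IsAffineOpen U) (hle : g ⁻¹ᵁ D ≤ q ⁻¹ᵁ U) (r : (g ⁻¹ᵁ D).toScheme ⟶ U.toScheme)
    (hr : r ≫ U.ι = (g ⁻¹ᵁ D).ι ≫ q) (a : D.toScheme ⟶ Spec (CommRingCat.of (ULift.{u} ℤ)))
    (b : U.toScheme ⟶ Spec (CommRingCat.of (ULift.{u} ℤ))) (h : IsPullback (g ∣_ D) r a b) :
    Box.IsBox g q D U hle := by
  haveI : IsAffine D.toScheme := hD
  haveI : IsAffine U.toScheme := hU
  have hpo := isPushout_appTop_of_isPullback h
  have hb := Box.bijective_pairHom_of_isPushout hpo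
    fun C _ f f' => Box.ringHom_ext_specULiftInt f f'
  let W := g ⁻¹ᵁ D
  let iD := D.ι.appLE D ⊤ D.ι_preimage_self.ge
  let iU := U.ι.appLE U ⊤ U.ι_preimage_self.ge
  let iW := W.ι.appLE W ⊤ W.ι_preimage_self.ge
  haveI : IsIso iD := isIso_ι_appLE D
  haveI : IsIso iU := isIso_ι_appLE U
  haveI : IsIso iW := isIso_ι_appLE W
  have key1 : g.app D ≫ iW = iD ≫ (g ∣_ D).appTop := by
    rw [Scheme.Hom.app_eq_appLE, Scheme.Hom.appTop, Scheme.Hom.app_eq_appLE]
    simp only [iW, iD]
    rw [Scheme.Hom.appLE_comp_appLE, Scheme.Hom.appLE_comp_appLE]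
    congr 1
    exact (morphismRestrict_ι g D).symm
  have key2 : q.appLE U W hle ≫ iW = iU ≫ r.appTop := by
    rw [Scheme.Hom.appTop, Scheme.Hom.app_eq_appLE]
    simp only [iW, iU]
    rw [Scheme.Hom.appLE_comp_appLE, Scheme.Hom.appLE_comp_appLE]
    congr 1
    exact hr.symm
  let eD : Γ(P, D) ≃ₗ[ℤ] Γ(D.toScheme, ⊤) :=
    (AddEquiv.ofBijective iD.hom.toAddMonoidHom (ConcreteCategory.bijective_of_isIso iD)).toIntLinearEquiv
  let eU : Γ(T, U) ≃ₗ[ℤ] Γ(U.toScheme, ⊤) :=
    (AddEquiv.ofBijective iU.hom.toAddMonoidHom (ConcreteCategory.bijective_of_isIso iU)).toIntLinearEquiv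
  have hk : ∀ z, iW.hom (Box.pairHom (g.app D).hom (q.appLE U W hle).hom z) =
      Box.pairHom (g ∣_ D).appTop.hom r.appTop.hom (TensorProduct.congr eD eU z) := fun z => by
    induction z using TensorProduct.induction_on with
    | zero => simp only [map_zero]
    | tmul x y =>
      rw [TensorProduct.congr_tmul, Box.pairHom_tmul, Box.pairHom_tmul, map_mul]
      exact congrArg₂ (· * ·) (ConcreteCategory.congr_hom key1 x) (ConcreteCategory.congr_hom key2 y)
    | add x y hx hy => simp only [map_add, hx, hy]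
  refine (Function.Bijective.of_comp_iff' (ConcreteCategory.bijective_of_isIso iW) _).1 ?_
  rw [show ⇑(ConcreteCategory.hom iW) ∘ ⇑(Box.pairHom (g.app D).hom (q.appLE U W hle).hom) =
      ⇑(Box.pairHom (g ∣_ D).appTop.hom r.appTop.hom) ∘ (TensorProduct.congr eD eU) from funext hk]
  exact hb.comp (LinearEquiv.bijective _)

variable {n : ℕ} {T : Scheme.{u}} (U : T.Opens)

/-- The inverse image of an open of the base. -/
noncomputable abbrev PU : (KRR.PY n T).Opens := KRR.pr n T ⁻¹ᵁ U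

/-- Its map to projective space over the integers. -/
noncomputable abbrev gU : (PU (n := n) U).toScheme ⟶ CohB1.ProjSpace n (ULift.{u} ℤ) :=
  (PU (n := n) U).ι ≫ toPn n T

/-- Its map to the base. -/
noncomputable abbrev qU : (PU (n := n) U).toScheme ⟶ T := (PU (n := n) U).ι ≫ KRR.pr n T

theorem isPullback_gU : IsPullback (gU (n := n) U) (KRR.pr n T ∣_ U)
    (CohB1.ProjSpace.toSpec n (ULift.{u} ℤ)) (U.ι ≫ specULiftZIsTerminal.from T) :=
  ((isPullback_morphismRestrict (KRR.pr n T) U).flip.paste_horiz (IsPullback.of_hasPullback _ _))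

theorem qU_preimage : qU (n := n) U ⁻¹ᵁ U = ⊤ :=
  (PU (n := n) U).ι_preimage_self

theorem isAffineHom_gU (hU : IsAffineOpen U) : IsAffineHom (gU (n := n) U) :=
  haveI : IsAffine U.toScheme := hU
  MorphismProperty.of_isPullback (isPullback_gU U).flip (isAffineHom_of_isAffine _)

theorem isBox (hU : IsAffineOpen U) (D : (PnCoh.PS (Fin (n + 1)) Box.R0.{u}).Opens) (hD : IsAffineOpen D) :
    Box.IsBox (gU (n := n) U) (qU (n := n) U) D U
      (Box.hle (gU (n := n) U) (qU (n := n) U) U (qU_preimage U) D) := by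
  let W := gU (n := n) U ⁻¹ᵁ D
  refine isBox_of_isPullback _ _ D U hD hU _ (W.ι ≫ (KRR.pr n T ∣_ U))
    (by rw [Category.assoc, morphismRestrict_ι])
    (D.ι ≫ CohB1.ProjSpace.toSpec n (ULift.{u} ℤ)) (U.ι ≫ specULiftZIsTerminal.from T) ?_
  exact (isPullback_morphismRestrict (gU (n := n) U) D).paste_vert (isPullback_gU U)

/-- Twists of inverse images, restricted over an open of the base. -/
theorem nonempty_restrict_iso (d : ℤ) (G : T.Modules) :
    Nonempty (((Tw n T d).obj ((Scheme.Modules.pullback (KRR.pr n T)).obj G)).restrict (PU (n := n) U).ι ≅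
      Box.Mod (gU (n := n) U) (qU (n := n) U) d G) := by
  let V := PU (n := n) U
  exact ⟨(Scheme.Modules.restrictFunctorIsoPullback V.ι).app _ ≪≫
    ((KFlatLib.pullTensorBiIso V.ι).app (Twist.twistOver n T d)).app _ ≪≫
    (DCoh.tensorBi.mapIso ((Scheme.Modules.pullbackComp V.ι (toPn n T)).app _)).app _ ≪≫
    (DCoh.tensorBi.obj _).mapIso ((Scheme.Modules.pullbackComp V.ι (KRR.pr n T)).app G)⟩

/-- Cohomology of quasi-coherent modules over an affine open of the base vanishes above `n`. -/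
theorem subsingleton_HH_of_lt (hU : IsAffineOpen U) {M : (PU (n := n) U).toScheme.Modules}
    (hM : Coh.IsQCoh M) (i : ℕ) (hi : n < i) : Subsingleton (Coh.HH _ M i) := by
  let g := gU (n := n) U
  haveI : IsAffineHom g := isAffineHom_gU U hU
  haveI : IsAffine U.toScheme := hU
  haveI : IsProper (KRR.pr n T) :=
    MorphismProperty.pullback_snd _ _ (PnCoh.Chow.isProper_toSpec n (ULift.{u} ℤ))
  haveI : (PU (n := n) U).toScheme.IsSeparated := ⟨by
    have e : terminal.from (PU (n := n) U).toScheme = (KRR.pr n T ∣_ U) ≫ terminal.from U.toScheme :=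
      Subsingleton.elim _ _
    rw [e]
    exact MorphismProperty.comp_mem @IsSeparated _ _
      (IsZariskiLocalAtTarget.restrict (inferInstanceAs (IsSeparated (KRR.pr n T))) U) inferInstance⟩
  refine QCoh.HH_subsingleton_of_cover (n + 1) (fun k : Fin (n + 1) => Box.cov g ⟨k⟩)
    (fun k => (PnCoh.isAffineOpen_mOpen (Finsupp.single_ne_zero.2 one_ne_zero)).preimage g) ?_
    (fun V W hV hW => hV.inf hW) hM i hi
  rw [← Scheme.Hom.preimage_iSup, show ⨆ k : Fin (n + 1), PnCoh.stdU (Fin (n + 1)) Box.R0.{u} ⟨k⟩ = ⊤ from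
    PnCoh.iSup_mOpen_single, Scheme.Hom.preimage_top]

/-- Higher direct images of quasi-coherent modules vanish above `n`. -/
theorem rz_of_lt {M : (KRR.PY n T).Modules} (hM : Coh.IsQCoh M) (i : ℕ) (hi : n < i) :
    RKoszul.RZ (KRR.pr n T) M i := by
  haveI hp : IsProper (KRR.pr n T) :=
    MorphismProperty.pullback_snd _ _ (PnCoh.Chow.isProper_toSpec n (ULift.{u} ℤ))
  refine QCoh.Ab.Rpush_isZero_of_bound (KRR.pr n T).base (fun V => IsAffineOpen (X := T) V) ?_ n
    (QCoh.abSheaf M) ?_ i (by omega)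
  · intro V y hy
    obtain ⟨_, ⟨W, hW, rfl⟩, hy', hle⟩ := T.isBasis_affineOpens.exists_subset_of_mem_open
      (show y ∈ (V : T.Opens) from hy) (V : T.Opens).2
    exact ⟨W, hle, hy', hW⟩
  · intro V hV q hq
    obtain ⟨q, rfl⟩ : ∃ r, q = r + 1 := ⟨q - 1, by omega⟩
    have h := RzCover.subsingleton_HU_of_HHon M (KRR.pr n T ⁻¹ᵁ V) q
      (subsingleton_HH_of_lt V hV (QCoh.isQCoh_restrict _ hM) (q + 1) (by omega))
    exact h

/-- Twists of inverse images have no higher direct images in degree `i` if `d > -(n+1)` or `i > n`. -/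
theorem rz_tw_pullback (G : T.Modules) (hG : Coh.IsQCoh G) (d : ℤ) (i : ℕ) (hi : 1 ≤ i)
    (hd : -((n : ℤ) + 1) < d ∨ n < i) :
    RKoszul.RZ (KRR.pr n T) ((Tw n T d).obj ((Scheme.Modules.pullback (KRR.pr n T)).obj G)) i := by
  haveI hp : IsProper (KRR.pr n T) :=
    MorphismProperty.pullback_snd _ _ (PnCoh.Chow.isProper_toSpec n (ULift.{u} ℤ))
  have hq : Coh.IsQCoh ((Tw n T d).obj ((Scheme.Modules.pullback (KRR.pr n T)).obj G)) :=
    KFlatLib.isQCoh_tensor (QCoh.isQCoh_pullback _ (PnCoh.isQCoh_twist_mvPolynomial _ _ d))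
      (QCoh.isQCoh_pullback _ hG)
  rcases hd with hd | hd
  · refine RzCover.isZero_RpushAb_of_cover (f := KRR.pr n T) hq Set.univ
      (fun y => ?_) (fun W _ q => ?_) i (by omega)
    · obtain ⟨_, ⟨W, hW, rfl⟩, hy, -⟩ := T.isBasis_affineOpens.exists_subset_of_mem_open
        (show y ∈ (⊤ : T.Opens) from trivial) (⊤ : T.Opens).2
      exact ⟨⟨W, hW⟩, trivial, hy⟩
    · obtain ⟨e⟩ := nonempty_restrict_iso (n := n) W.1 d G
      haveI := isAffineHom_gU (n := n) W.1 W.2
      refine QCoh.subsingleton_HH_of_iso e.symm _ ?_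
      exact Box.subsingleton_HH _ _ d G W.1 (qU_preimage W.1) W.2 (fun D hD => isBox W.1 W.2 D hD) hG hd
        (KFlatLib.isQCoh_tensor (QCoh.isQCoh_pullback _ (PnCoh.isQCoh_twist_mvPolynomial _ _ d))
          (QCoh.isQCoh_pullback _ hG)) q
  · exact rz_of_lt hq i hd

/-- Inverse images of quasi-coherent modules are regular. -/
theorem isReg_pullback (G : T.Modules) (hG : Coh.IsQCoh G) :
    KRR.IsRegSheaf n T ((Scheme.Modules.pullback (KRR.pr n T)).obj G) := fun i hi =>
  rz_tw_pullback G hG _ i hi ((Nat.lt_or_ge n i).elim Or.inr fun h => Or.inl (by omega))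

end Groth.Agent.H28.PnBox
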