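import Groth.Agent.H28.KRRTw
import Groth.Agent.H28.PnBox
import Groth.Agent.AmpleVan.RelVanish
import Groth.Agent.AmpleX.Pow
import Groth.Agent.InvX.GenLocusPull
import Groth.Agent.AmpleX.Proj
import Groth.Agent.AmpleX.RelAffine
import Groth.Agent.PnCoh.Chow.Proper

/-!
# High twists of coherent modules on `P^n_Y` are regular
-/

set_option linter.style.haveILetI false
set_option linter.unusedSectionVars false
set_option backward.isDefEq.respectTransparency false
set_option backward.isDefEq.respectTransparency.types false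

universe u

open CategoryTheory CategoryTheory.Limits AlgebraicGeometry TopologicalSpace MonoidalCategory

namespace Groth.Agent.H28.RegTwist

open Groth.Agent Groth.Agent.H28.KRRTw Groth.Agent.H28.KRRReg

attribute [local instance] MvPolynomial.gradedAlgebra

/-- The pullback of an ample module along an affine morphism is ample. -/
theorem isAmple_pull {X Z : Scheme.{u}} (u : Z ⟶ X) [IsAffineHom u] [CompactSpace Z]
    {L : X.Modules} (h : CohB1.IsAmple L) : CohB1.IsAmple ((Scheme.Modules.pullback u).obj L) := by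
  refine AmpleX.isAmple_iff.2 ⟨PicClLib.isInvertible_pullback u h.1, inferInstance, fun z => ?_⟩
  obtain ⟨m, hm, s, hz, hs⟩ := (AmpleX.isAmple_iff.1 h).2.2 (u z)
  obtain ⟨e₀⟩ := PicClLib.nonempty_pullback_structureModule u
  obtain ⟨e⟩ := AmpleVan.RelVanish.pullback_tensorPow u L m
  refine ⟨m, hm, (e₀.symm.hom ≫ (Scheme.Modules.pullback u).map s) ≫ e.hom, ?_, ?_⟩
  · rw [InvX.genLocus_comp_iso, InvX.genLocus_pullback u (InvX.isInvertible_tensorPow h.1 m) s e₀.symm]
    exact hz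
  · rw [InvX.genLocus_comp_iso, InvX.genLocus_pullback u (InvX.isInvertible_tensorPow h.1 m) s e₀.symm]
    exact hs.preimage u

theorem isAmple_O1 (n : ℕ) :
    CohB1.IsAmple (Twist.twist (CohB1.polyGrading n (ULift.{u} ℤ)) 1) := by
  classical
  refine AmpleX.isAmple_twist_one _ (Finset.univ.image (crd n)) (fun f hf => ?_) ?_
  · obtain ⟨j, -, rfl⟩ := Finset.mem_image.1 hf
    exact crd_mem j
  · refine top_le_iff.1 (le_trans crd_cover.{u}.ge (iSup_le fun j => ?_))
    exact le_iSup_of_le (⟨crd n j, Finset.mem_image.2 ⟨j, Finset.mem_univ j, rfl⟩⟩ : {f // f ∈ Finset.univ.image (crd n)}) le_rfl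

variable {n : ℕ} {Y : Scheme.{u}}

theorem isAmple_restrict [IsProper (KRR.pr n Y)] (W : Y.Opens) (hW : IsAffineOpen W) :
    CohB1.IsAmple ((Twist.twistOver n Y 1).restrict (KRR.pr n Y ⁻¹ᵁ W).ι) := by
  let V := PnBox.PU (n := n) W
  haveI := PnBox.isAffineHom_gU (n := n) W hW
  haveI : CompactSpace V.toScheme := isCompact_iff_compactSpace.mp
    (QuasiCompact.isCompact_preimage (f := KRR.pr n Y) _ W.2 hW.isCompact)
  exact AmpleX.isAmple_of_iso ((Scheme.Modules.restrictFunctorIsoPullback V.ι).app (Twist.twistOver n Y 1) ≪≫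
      (Scheme.Modules.pullbackComp V.ι (toPn n Y)).app _).symm
    (isAmple_pull (PnBox.gU (n := n) W) (isAmple_O1 n))

theorem tensorPow_twistOver (k : ℕ) :
    Nonempty (CohB1.tensorPow (Twist.twistOver n Y 1) k ≅ Twist.twistOver n Y (k : ℤ)) := by
  obtain ⟨e⟩ := PnCoh.Finite.twist_tensorPow_iso (crd n) crd_mem crd_cover k
  obtain ⟨e'⟩ := AmpleVan.RelVanish.pullback_tensorPow (toPn n Y)
    (Twist.twistProjSpace n (ULift.{u} ℤ) 1) k
  exact ⟨e'.symm ≪≫ (Scheme.Modules.pullback (toPn n Y)).mapIso e.symm⟩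

/-- High twists are regular. -/
theorem exists_isReg [AlgebraicGeometry.IsNoetherian Y] {F : (KRR.PY n Y).Modules} (hF : Coh.IsCoh F) :
    ∃ m₀ : ℕ, ∀ m : ℕ, m₀ ≤ m → KRR.IsRegSheaf n Y (KRR.twF n Y (m : ℤ) F) := by
  haveI : IsProper (KRR.pr n Y) :=
    MorphismProperty.pullback_snd _ _ (PnCoh.Chow.isProper_toSpec n (ULift.{u} ℤ))
  obtain ⟨k₀, hk⟩ := AmpleVan.RelVanish.exists_vanishing (KRR.pr n Y) (L := Twist.twistOver n Y 1)
    (isInvertible_twistOver 1) (fun W hW => isAmple_restrict W hW) hF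
  refine ⟨k₀ + n, fun m hm i hi => ?_⟩
  refine isZero_R_of_iso ⟨(twF_twF (-(i : ℤ)) (m : ℤ) ((m : ℤ) - i) (by ring) F).some.symm⟩ i ?_
  obtain hin | hin := Nat.lt_or_ge n i
  · exact PnBox.rz_of_lt (KFlatLib.isQCoh_tensor
      (QCoh.isQCoh_pullback _ (PnCoh.isQCoh_twist_mvPolynomial _ _ _)) hF.1) i hin
  · obtain ⟨k, rfl⟩ : ∃ k, m = k + i := ⟨m - i, by omega⟩
    obtain ⟨e⟩ := tensorPow_twistOver (n := n) (Y := Y) k
    refine isZero_R_of_iso ⟨?_⟩ i (hk k (by omega) i (by omega))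
    rw [show ((k + i : ℕ) : ℤ) - (i : ℤ) = (k : ℤ) by omega]
    exact (DCoh.tensorBi.obj F).mapIso e ≪≫
      ((KFlatLib.tensorBiFlipIso (KRR.PY n Y)).app (Twist.twistOver n Y (k : ℤ))).app F

end Groth.Agent.H28.RegTwist
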