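import Groth.Agent.H28.PnBC
import Groth.Agent.H28.RegTwist
import Groth.Agent.H28.RzCover
import Groth.Agent.CohPullX.FpExchange
import Groth.Agent.CohPullX.Semicont
import Groth.Agent.QCoh.RpushModel
import Groth.Agent.LimModLib.FP
import Groth.Agent.QCoh.RpushAbGod
import Groth.Agent.QCoh.TensorSections
import Groth.Agent.KFlatLib.Scheme.TensorOver
import Groth.Agent.KFlatLib.Scheme.RpushQCoh
import Groth.Agent.AlgStLib.Noetherian
import Mathlib.AlgebraicGeometry.Fiber

/-!
# `P^n_S`: high twists of flat modules of finite presentation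
-/

set_option linter.style.haveILetI false
set_option linter.unusedSectionVars false
set_option backward.isDefEq.respectTransparency false
set_option backward.isDefEq.respectTransparency.types false

universe u

open CategoryTheory CategoryTheory.Limits AlgebraicGeometry TopologicalSpace Opposite
open scoped TensorProduct

namespace Groth.Agent.H28.PnFlat

open Groth.Agent Groth.Agent.H28.KRRTw Groth.Agent.H28.KRRReg

variable {n : ℕ} {S : Scheme.{u}}

theorem isProper_pr (n : ℕ) (S : Scheme.{u}) : IsProper (KRR.pr n S) :=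
  MorphismProperty.pullback_snd _ _ (PnCoh.Chow.isProper_toSpec n (ULift.{u} ℤ))

theorem lfp_pr (n : ℕ) (S : Scheme.{u}) : LocallyOfFinitePresentation (KRR.pr n S) := by
  haveI := PnCoh.Chow.isProper_toSpec.{u} n (ULift.{u} ℤ)
  haveI : IsNoetherianRing (ULift.{u} ℤ) := isNoetherianRing_of_ringEquiv ℤ ULift.ringEquiv.symm
  exact MorphismProperty.pullback_snd _ _
    (AlgStLib.locallyOfFinitePresentation_of_isLocallyNoetherian (CohB1.ProjSpace.toSpec n (ULift.{u} ℤ)) inferInstance)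

theorem finitePresentation_tensor {R P N : Type u} [CommRing R] [AddCommGroup P] [Module R P] [AddCommGroup N]
    [Module R N] [Module.FinitePresentation R P] [Module.FinitePresentation R N] :
    Module.FinitePresentation R (P ⊗[R] N) := by
  classical
  obtain ⟨k, f, hf⟩ := Module.Finite.exists_fin' R P
  haveI : Module.Finite R (LinearMap.ker f) := Module.Finite.iff_fg.2 (Module.FinitePresentation.fg_ker f hf)
  haveI : Module.FinitePresentation R ((Fin k → R) ⊗[R] N) :=
    Module.FinitePresentation.of_equiv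
      ((TensorProduct.piScalarRight R R N (Fin k)).symm.trans (TensorProduct.comm R N (Fin k → R)))
  refine Module.finitePresentation_of_surjective (f.rTensor N) (LinearMap.rTensor_surjective N hf) ?_
  rw [LinearMap.exact_iff.1 (rTensor_exact N (f.exact_subtype_ker_map) hf), LinearMap.range_eq_map]
  exact Module.Finite.fg_top.map _

theorem isFP_tensor {X : Scheme.{u}} {P G : X.Modules} (hP : Coh.IsQCoh P) (hPf : CohB1.IsFP P)
    (hG : Coh.IsQCoh G) (hGf : CohB1.IsFP G) : CohB1.IsFP ((DCoh.tensorBi.obj P).obj G) := by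
  refine (QCoh.isFP_iff (KFlatLib.isQCoh_tensor hP hG)).2 fun U => ?_
  haveI := (QCoh.isFP_iff hP).1 hPf U
  haveI := (QCoh.isFP_iff hG).1 hGf U
  haveI := finitePresentation_tensor (R := Γ(X, U.1)) (P := Γ(P, U.1)) (N := Γ(G, U.1))
  exact Module.FinitePresentation.of_equiv (LinearEquiv.ofBijective _ (QCoh.bijective_tmLin hP hG U.2))

variable {F : (KRR.PY n S).Modules} (hF : CohB1.IsFP F) (hfl : FlatMod.IsFlatOver (KRR.pr n S) F)

theorem lf_twistOver (d : ℤ) : FlatMod.IsFinLocFree (Twist.twistOver n S d) :=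
  H23.PullPush.isFinLocFree_of_isInvertible (isInvertible_twistOver d)

include hF in
theorem isFP_twF (d : ℤ) : CohB1.IsFP (KRR.twF n S d F) :=
  isFP_tensor (QCoh.isQCoh_of_isFinLocFree (lf_twistOver d)) (QCoh.isFP_of_isFinLocFree (lf_twistOver d))
    (QCoh.isQCoh_of_isFP hF) hF

include hfl in
theorem isFlatOver_twF (d : ℤ) : FlatMod.IsFlatOver (KRR.pr n S) (KRR.twF n S d F) :=
  KFlatLib.isFlatOver_tensor _ (KFlatLib.isFlat_of_isFinLocFree (lf_twistOver d)) hfl

section Fibre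

variable (n S) (y : S)

/-- Projective space over the residue field. -/
noncomputable abbrev K : Scheme.{u} := KRR.PY n (Spec (S.residueField y))

/-- Its map to `P^n_S`. -/
noncomputable abbrev jy : K n S y ⟶ KRR.PY n S := KRR.projSpaceMap n (S.fromSpecResidueField y)

theorem isPullback_jy : IsPullback (jy n S y) (KRR.pr n (Spec (S.residueField y))) (KRR.pr n S)
    (S.fromSpecResidueField y) := by
  refine IsPullback.of_right ?_ (PnBC.ψ_pr (n := n) (S.fromSpecResidueField y))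
    (IsPullback.of_hasPullback (CohB1.ProjSpace.toSpec n (ULift.{u} ℤ)) (specULiftZIsTerminal.from S))
  rw [specULiftZIsTerminal.hom_ext (S.fromSpecResidueField y ≫ specULiftZIsTerminal.from S)
    (specULiftZIsTerminal.from _),
    show jy n S y ≫ pullback.fst (CohB1.ProjSpace.toSpec n (ULift.{u} ℤ)) (specULiftZIsTerminal.from S) =
      toPn n (Spec (S.residueField y)) from PnBC.ψ_toPn _]
  exact IsPullback.of_hasPullback _ _

/-- It is the fibre. -/
noncomputable def ey : K n S y ≅ (KRR.pr n S).fiber y := (isPullback_jy n S y).isoPullback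

theorem ey_ι : (ey n S y).hom ≫ (KRR.pr n S).fiberι y = jy n S y := (isPullback_jy n S y).isoPullback_hom_fst

variable {n S} {y}

theorem subsingleton_HH_pullback_of_iso {A B : Scheme.{u}} (j : A ≅ B) (M : B.Modules) (q : ℕ)
    (h : Subsingleton (Coh.HH B M (q + 1))) :
    Subsingleton (Coh.HH A ((Scheme.Modules.pullback j.hom).obj M) (q + 1)) := by
  refine QCoh.subsingleton_HH_of_iso ((Scheme.Modules.restrictFunctorIsoPullback j.hom).app M) _
    (QCoh.subsingleton_HH_restrict j.hom M q ?_)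
  rw [Scheme.Hom.opensRange_of_isIso]
  exact RzCover.subsingleton_HU_top _ _ h

theorem fibre_iff (M : (KRR.PY n S).Modules) (q : ℕ) :
    Subsingleton (CohIII.fiberH (KRR.pr n S) M y (q + 1)) ↔
      Subsingleton (Coh.HH (K n S y) ((Scheme.Modules.pullback (jy n S y)).obj M) (q + 1)) := by
  let e := ey n S y
  let i := (KRR.pr n S).fiberι y
  refine ⟨fun h => ?_, fun h => ?_⟩
  · exact QCoh.subsingleton_HH_of_iso ((Scheme.Modules.pullbackComp e.hom i).app M ≪≫
      (Scheme.Modules.pullbackCongr (ey_ι n S y)).app M) _ (subsingleton_HH_pullback_of_iso e _ q h)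
  · exact QCoh.subsingleton_HH_of_iso ((Scheme.Modules.pullbackComp e.inv (jy n S y)).app M ≪≫
      (Scheme.Modules.pullbackCongr (show e.inv ≫ jy n S y = i by
        rw [← ey_ι n S y, Iso.inv_hom_id_assoc])).app M) _ (subsingleton_HH_pullback_of_iso e.symm _ q h)

/-- The restriction to the fibre. -/
noncomputable abbrev E (y : S) (F : (KRR.PY n S).Modules) : (K n S y).Modules :=
  (Scheme.Modules.pullback (jy n S y)).obj F

theorem fibre_twF_iff (d : ℤ) (F : (KRR.PY n S).Modules) (q : ℕ) :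
    Subsingleton (CohIII.fiberH (KRR.pr n S) (KRR.twF n S d F) y (q + 1)) ↔
      Subsingleton (Coh.HH (K n S y) (KRR.twF n (Spec (S.residueField y)) d (E y F)) (q + 1)) := by
  obtain ⟨e⟩ := PnBC.pullback_tw (n := n) (S.fromSpecResidueField y) d F
  exact (fibre_iff _ q).trans
    ⟨fun h => QCoh.subsingleton_HH_of_iso e _ h, fun h => QCoh.subsingleton_HH_of_iso e.symm _ h⟩

theorem isZero_of_top {T : Scheme.{u}} [Subsingleton T]
    (Φ : Sheaf (Opens.grothendieckTopology T) AddCommGrpCat.{u}) (h : Subsingleton (Φ.obj.obj (op ⊤))) :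
    IsZero Φ := by
  refine (IsZero.iff_id_eq_zero _).2 (Sheaf.hom_ext ?_)
  refine NatTrans.ext (funext fun U => ?_)
  haveI : Subsingleton (Φ.obj.obj U) := by
    by_cases hU : (U.unop : Set T).Nonempty
    · obtain ⟨x, hx⟩ := hU
      have e : U = op ⊤ := congrArg op (Opens.ext (Set.eq_univ_of_forall fun z => Subsingleton.elim x z ▸ hx))
      rw [e]
      exact h
    · have e : U = op ⊥ := congrArg op (Opens.ext (Set.not_nonempty_iff_eq_empty.1 hU))
      rw [e]
      exact AddCommGrpCat.subsingleton_of_isZero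
        ((TopCat.Sheaf.isTerminalOfEmpty (Φ : TopCat.Sheaf AddCommGrpCat.{u} T.toPresheafedSpace.carrier)).isZero)
  exact ConcreteCategory.hom_ext _ _ fun x => Subsingleton.elim _ _

theorem rz_iff {M : (K n S y).Modules} (hM : Coh.IsQCoh M) (i : ℕ) :
    RKoszul.RZ (KRR.pr n (Spec (S.residueField y))) M i ↔ Subsingleton (Coh.HH (K n S y) M i) := by
  haveI := isProper_pr n (Spec (S.residueField y))
  obtain ⟨e⟩ := QCoh.nonempty_HH_equiv_sections (KRR.pr n (Spec (S.residueField y))) hM i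
  refine ⟨fun h => ?_, fun h => isZero_of_top _ (e.symm.toEquiv.subsingleton)⟩
  exact @Equiv.subsingleton _ _ e.toEquiv (AddCommGrpCat.subsingleton_of_isZero
    (Functor.map_isZero (sheafToPresheaf _ _ ⋙ (evaluation _ _).obj (op ⊤)) h))

/-- The twist `m` makes the fibre regular. -/
def IsFReg (m : ℕ) (F : (KRR.PY n S).Modules) (y : S) : Prop :=
  ∀ i ∈ Finset.Icc 1 n, Subsingleton (CohIII.fiberH (KRR.pr n S) (KRR.twF n S ((m : ℤ) - (i : ℕ)) F) y i)

include hF in
theorem isQCoh_E (d : ℤ) : Coh.IsQCoh (KRR.twF n (Spec (S.residueField y)) d (E y F)) :=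
  RegRes.isQCoh_tw (QCoh.isQCoh_pullback _ (QCoh.isQCoh_of_isFP hF)) d

include hF in
theorem exists_isFReg (y : S) : ∃ m : ℕ, IsFReg m F y := by
  haveI : AlgebraicGeometry.IsNoetherian (Spec (S.residueField y)) := inferInstance
  have hc : Coh.IsCoh (E y F) :=
    ⟨QCoh.isQCoh_pullback _ (QCoh.isQCoh_of_isFP hF),
      QCoh.isFT_of_isFP (LimModLib.isFP_pullback _ (QCoh.isQCoh_of_isFP hF) hF)⟩
  obtain ⟨m, hm⟩ := RegTwist.exists_isReg hc
  refine ⟨m, fun i hi => ?_⟩
  obtain ⟨q, rfl⟩ : ∃ q, i = q + 1 := ⟨i - 1, by have := Finset.mem_Icc.1 hi; omega⟩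
  rw [fibre_twF_iff, ← rz_iff (isQCoh_E hF _)]
  exact RKoszul.rz_of_iso _
    (twF_twF (-((q + 1 : ℕ) : ℤ)) (m : ℤ) ((m : ℤ) - (q + 1 : ℕ)) (by push_cast; ring) (E y F)).some _
    (hm m le_rfl (q + 1) (by omega))

include hF in
theorem fibre_vanish {m : ℕ} (h : IsFReg m F y) (m' : ℕ) (hm' : m ≤ m') (q : ℕ) :
    Subsingleton (CohIII.fiberH (KRR.pr n S) (KRR.twF n S (m' : ℤ) F) y (q + 1)) := by
  let T := Spec (S.residueField y)
  have hr : KRR.IsRegSheaf n T (KRR.twF n T (m : ℤ) (E y F)) := fun i hi => by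
    refine RKoszul.rz_of_iso _ (twF_twF (-(i : ℤ)) (m : ℤ) ((m : ℤ) - i) (by ring) (E y F)).some.symm i ?_
    obtain hin | hin := Nat.lt_or_ge n i
    · exact PnBox.rz_of_lt (isQCoh_E hF _) i hin
    · obtain ⟨q, rfl⟩ : ∃ q, i = q + 1 := ⟨i - 1, by omega⟩
      exact (rz_iff (isQCoh_E hF _) _).2 ((fibre_twF_iff _ _ q).1 (h (q + 1) (Finset.mem_Icc.2 ⟨hi, hin⟩)))
  obtain ⟨a, rfl⟩ : ∃ a, m' = a + m := ⟨m' - m, by omega⟩
  rw [fibre_twF_iff, ← rz_iff (isQCoh_E hF _)]
  exact RKoszul.rz_of_iso _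
    (twF_twF (a : ℤ) (m : ℤ) ((a + m : ℕ) : ℤ) (by push_cast; ring) (E y F)).some _
    (rz_self _ (isReg_twF _ hr a) (q + 1) (by omega))

end Fibre

include hF hfl in
theorem exists_nhd (y : S) : ∃ m : ℕ, ∃ U : S.Opens, y ∈ U ∧ ∀ z ∈ U, IsFReg m F z := by
  haveI := isProper_pr n S
  haveI := lfp_pr n S
  haveI : HasInjectiveResolutions (KRR.PY n S).Modules := KFlatLib.hasInjectiveResolutions_modules
  obtain ⟨m, hm⟩ := exists_isFReg hF y
  have h : ∀ i : Finset.Icc 1 n, ∃ U : S.Opens, y ∈ U ∧ ∀ z ∈ U,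
      Subsingleton (CohIII.fiberH (KRR.pr n S) (KRR.twF n S ((m : ℤ) - (i : ℕ)) F) z i) := fun i =>
    CohPullX.exists_subsingleton_fiberH_nhd (isFP_twF hF _) (isFlatOver_twF hfl _) y i (hm i i.2)
  choose U hyU hU using h
  refine ⟨m, Finset.univ.inf U, ?_, fun z hz i hi => hU ⟨i, hi⟩ z ?_⟩
  · rw [← SetLike.mem_coe, Opens.coe_finset_inf]
    simpa using fun i hi => hyU ⟨i, hi⟩
  · exact (Finset.inf_le (Finset.mem_univ _) : Finset.univ.inf U ≤ U ⟨i, hi⟩) hz

include hF hfl in
theorem exists_uniform [CompactSpace S] : ∃ m₀ : ℕ, ∀ m : ℕ, m₀ ≤ m → ∀ (y : S) (q : ℕ),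
    Subsingleton (CohIII.fiberH (KRR.pr n S) (KRR.twF n S (m : ℤ) F) y (q + 1)) := by
  classical
  choose m U hyU hU using exists_nhd hF hfl
  obtain ⟨t, ht⟩ := (isCompact_univ (X := S)).elim_finite_subcover (fun y => ((U y : S.Opens) : Set S))
    (fun y => (U y).2) fun y _ => Set.mem_iUnion.2 ⟨y, hyU y⟩
  refine ⟨t.sup m, fun k hk y q => ?_⟩
  obtain ⟨z, hz, hyz⟩ := Set.mem_iUnion₂.1 (ht (Set.mem_univ y))
  exact fibre_vanish hF (hU z y hyz) k ((Finset.le_sup hz).trans hk) q

theorem subsingleton_of_isZero_restrict {N : S.Modules} {W : S.Opens} (h : IsZero (N.restrict W.ι)) :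
    Subsingleton Γ(N, W) := by
  have h1 : Subsingleton Γ(N.restrict W.ι, ⊤) := AddCommGrpCat.subsingleton_of_isZero
    (Functor.map_isZero (QCoh.toAbFunctor _ ⋙ sheafToPresheaf _ _ ⋙ (evaluation _ _).obj (op ⊤)) h)
  have h2 : Subsingleton Γ(N, W.ι ''ᵁ ⊤) := h1
  rwa [Scheme.Opens.ι_image_top] at h2

/-- High twists of a flat module of finite presentation are acyclic with locally free direct image. -/
theorem exists_twist [CompactSpace S] {F : (KRR.PY n S).Modules} (hF : CohB1.IsFP F)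
    (hfl : FlatMod.IsFlatOver (KRR.pr n S) F) :
    ∃ m₀ : ℕ, ∀ m : ℕ, m₀ ≤ m →
      (∀ q : ℕ, 1 ≤ q → RKoszul.RZ (KRR.pr n S) (KRR.twF n S (m : ℤ) F) q) ∧
      FlatMod.IsFinLocFree ((Scheme.Modules.pushforward (KRR.pr n S)).obj (KRR.twF n S (m : ℤ) F)) := by
  haveI := isProper_pr n S
  haveI := lfp_pr n S
  haveI : HasInjectiveResolutions (KRR.PY n S).Modules := KFlatLib.hasInjectiveResolutions_modules
  obtain ⟨m₀, hm₀⟩ := exists_uniform hF hfl
  refine ⟨m₀, fun m hm => ?_⟩
  let M := KRR.twF n S (m : ℤ) F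
  have hMf := isFP_twF hF (m : ℤ)
  have hMl := isFlatOver_twF hfl (m : ℤ)
  have hMq := QCoh.isQCoh_of_isFP hMf
  refine ⟨?_, fun y => ?_⟩
  · refine RzCover.isZero_RpushAb_of_cover (f := KRR.pr n S) hMq
      {W : S.affineOpens | ∀ q, Subsingleton (Coh.HH (PnBox.PU (n := n) W.1).toScheme
        (M.restrict (PnBox.PU (n := n) W.1).ι) (q + 1))} (fun y => ?_) fun W hW => hW
    choose U hyU _ _ hz using fun i : Fin n =>
      CohPullX.exists_vanish_nhd hMf hMl y (i + 1) (hm₀ m hm y i)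
    obtain ⟨_, ⟨W, hW, rfl⟩, hyW, hWU⟩ := S.isBasis_affineOpens.exists_subset_of_mem_open
      (show y ∈ (Finset.univ.inf U : S.Opens) by
        rw [← SetLike.mem_coe, Opens.coe_finset_inf]
        simpa using hyU) (Finset.univ.inf U : S.Opens).2
    refine ⟨⟨W, hW⟩, fun q => ?_, hyW⟩
    obtain hqn | hqn := Nat.lt_or_ge q n
    · haveI := subsingleton_of_isZero_restrict (CohPullX.isZero_restrict_of_le
        ((show W ≤ Finset.univ.inf U from hWU).trans (Finset.inf_le (Finset.mem_univ ⟨q, hqn⟩))) (hz ⟨q, hqn⟩))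
      obtain ⟨e⟩ := QCoh.nonempty_sections_HH (f := KRR.pr n S) hMq hW (q + 1)
      exact e.symm.toEquiv.subsingleton
    · exact PnBox.subsingleton_HH_of_lt W hW (QCoh.isQCoh_restrict _ hMq) (q + 1) (by omega)
  · obtain ⟨U, hyU, ⟨e⟩⟩ := CohPullX.exists_free_of_neighbours hMf hMl y 0 (hm₀ m hm y 0) fun j hj => by omega
    haveI := SpObjSS.enoughInjectives_of_hasInjectiveResolutions (C := (KRR.PY n S).Modules)
    haveI := QCoh.preservesFiniteLimits_push (KRR.pr n S)
    exact ⟨U, _, hyU, ⟨(Scheme.Modules.restrictFunctor U.ι).mapIso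
      ((Scheme.Modules.pushforward (KRR.pr n S)).rightDerivedZeroIsoSelf.app M).symm ≪≫ e⟩⟩

end Groth.Agent.H28.PnFlat
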