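import Groth.Agent.H28.PBAtlas
import Groth.Agent.H28.KvbPull
import Groth.Agent.H28.RegRes

/-!
# Direct image on the bundles over a projective bundle
-/

set_option autoImplicit false
set_option linter.style.haveILetI false
set_option linter.unusedSectionVars false
set_option backward.isDefEq.respectTransparency false
set_option backward.isDefEq.respectTransparency.types false

universe u

open CategoryTheory CategoryTheory.Limits AlgebraicGeometry TopologicalSpace Opposite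

noncomputable section

namespace Groth.Agent.H28.PBPush

open Groth.Agent Groth.Agent.H28.KRRTw Groth.Agent.H28.KRRReg Groth.Agent.H28.PBAtlas

/-- Tensoring with a bundle is exact. -/
theorem shortExact_tens {X : Scheme.{u}} {V : X.Modules} (hV : FlatMod.IsFinLocFree V) {S : ShortComplex X.Modules}
    (hS : S.ShortExact) : (S.map (DCoh.tensorBi.obj V)).ShortExact :=
  ShortComplex.shortExact_of_iso (S.mapNatIso ((KFlatLib.tensorBiFlipIso X).app V))
    (KFlatLib.flatObj_of_isFlat (KFlatLib.isFlat_of_isFinLocFree hV) S hS)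

/-- A bundle with its twisting line, coresolution and atlas. -/
structure Data {X P : Scheme.{u}} (π : P ⟶ X) (n : ℕ) where
  /-- the twisting line -/
  O1 : P.Modules
  /-- its inverse -/
  Oinv : P.Modules
  /-- the module of the middle term -/
  G : X.Modules
  /-- the quotient -/
  Q : P.Modules
  /-- the first map -/
  f : Coh.structureModule P ⟶ CohB1.tensorMod O1 ((Scheme.Modules.pullback π).obj G)
  /-- the second map -/
  g : CohB1.tensorMod O1 ((Scheme.Modules.pullback π).obj G) ⟶ Q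
  w : f ≫ g = 0
  ses : (ShortComplex.mk f g w).ShortExact
  lfG : FlatMod.IsFinLocFree G
  lfQ : FlatMod.IsFinLocFree Q
  lf1 : FlatMod.IsFinLocFree O1
  lfi : FlatMod.IsFinLocFree Oinv
  inv : CohB1.tensorMod O1 Oinv ≅ Coh.structureModule P
  /-- the indices of the atlas -/
  s : Finset X
  /-- the charts -/
  a : X → Chart π O1 G n
  cover : ∀ x : X, ∃ y ∈ s, x ∈ (a y).U.1

variable {X P : Scheme.{u}} {π : P ⟶ X} {n : ℕ} (D : Data π n)

namespace Data

/-- The middle of the coresolution. -/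
abbrev V : P.Modules := CohB1.tensorMod D.O1 ((Scheme.Modules.pullback π).obj D.G)

theorem lfV : FlatMod.IsFinLocFree D.V := KFlatLib.isFinLocFree_tensor D.lf1 (KvbPull.lf_pull π D.lfG)

/-- The middle of the coresolution of a module. -/
abbrev Mf : P.Modules ⥤ P.Modules := DCoh.tensorBi.obj D.V

/-- The quotient of the coresolution of a module. -/
abbrev Cf : P.Modules ⥤ P.Modules := DCoh.tensorBi.obj D.Q

/-- The coresolution of a bundle. -/
theorem exists_coresolution {F : P.Modules} (hF : FlatMod.IsFinLocFree F) :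
    ∃ (f : F ⟶ D.Mf.obj F) (g : D.Mf.obj F ⟶ D.Cf.obj F) (w : f ≫ g = 0), (ShortComplex.mk f g w).ShortExact := by
  obtain ⟨e₁⟩ := H23.PicMul.unit F
  obtain ⟨e₂⟩ := H23.PicMul.comm F D.V
  obtain ⟨e₃⟩ := H23.PicMul.comm F D.Q
  let S := (ShortComplex.mk D.f D.g D.w).map (DCoh.tensorBi.obj F)
  have hS : S.ShortExact := shortExact_tens hF D.ses
  let eA : S.X₁ ≅ F := e₁
  let eB : S.X₂ ≅ D.Mf.obj F := e₂
  let eC : S.X₃ ≅ D.Cf.obj F := e₃
  exact ⟨eA.inv ≫ S.f ≫ eB.hom, eB.inv ≫ S.g ≫ eC.hom, by simp,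
    ShortComplex.shortExact_of_iso (ShortComplex.isoMk eA eB eC (by simp) (by simp)) hS⟩

end Data

section Local

variable {G : X.Modules} {O1 : P.Modules} (c : Chart π O1 G n)

/-- Vanishing of a higher direct image of a twist on a chart. -/
abbrev Van (d : ℤ) (i : ℕ) (F : P.Modules) : Prop :=
  RKoszul.RZ (KRR.pr n c.B) ((Tw n c.B d).obj ((Scheme.Modules.pullback c.j).obj F)) i

theorem van_of_iso {A B : P.Modules} (e : A ≅ B) {d : ℤ} {i : ℕ} (h : Van c d i A) : Van c d i B :=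
  RKoszul.rz_of_iso _ ((Tw n c.B d).mapIso ((Scheme.Modules.pullback c.j).mapIso e)) i h

theorem van_quot {S : ShortComplex P.Modules} (hS : S.ShortExact) {d : ℤ} {i : ℕ}
    (h₂ : Van c d i S.X₂) (h₁ : Van c d (i + 1) S.X₁) : Van c d i S.X₃ :=
  RKoszul.rz_quot _ (RegRes.shortExact_tw (shortExact_pull c.j hS) d) i h₂ h₁

/-- A free twist does not spoil vanishing. -/
theorem rz_free {B : Scheme.{u}} (k : ℕ) (H : (KRR.PY n B).Modules) (d : ℤ) (i : ℕ)
    (h : RKoszul.RZ (KRR.pr n B) ((Tw n B d).obj H) i) :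
    RKoszul.RZ (KRR.pr n B) ((Tw n B d).obj
      (CohB1.tensorMod (FlatMod.freeMod (KRR.PY n B) k) H)) i := by
  let Φ := (DCoh.tensorBi.flip.obj H) ⋙ Tw n B d ⋙ RKoszul.RF (KRR.pr n B) i
  have h0 : IsZero (Φ.obj (Coh.structureModule (KRR.PY n B))) :=
    RKoszul.rz_of_iso _ ((Tw n B d).mapIso (KFlatLib.structureTensorIso H).symm) i h
  refine (IsZero.iff_id_eq_zero (Φ.obj (FlatMod.freeMod (KRR.PY n B) k))).2 ?_
  rw [← Φ.map_id, ← H23.Frame.total, Functor.map_sum, Finset.sum_eq_zero]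
  intro j _
  rw [Φ.map_comp, h0.eq_zero_of_tgt (Φ.map (H23.Frame.proj _ k j)), zero_comp]

theorem nonempty_twist (F : P.Modules) :
    Nonempty ((Scheme.Modules.pullback c.j).obj (CohB1.tensorMod O1 F) ≅
      (Tw n c.B 1).obj ((Scheme.Modules.pullback c.j).obj F)) := by
  obtain ⟨e⟩ := H23.PicMul.pull c.j O1 F
  obtain ⟨e'⟩ := c.nonempty_O1
  exact ⟨e ≪≫ (DCoh.tensorBi.mapIso e').app _⟩

end Local

namespace Data

theorem van_Mf (y : X) {d : ℤ} {i : ℕ} {F : P.Modules} (h : Van (D.a y) (d + 1) i F) :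
    Van (D.a y) d i (D.Mf.obj F) := by
  let c := D.a y
  let J := Scheme.Modules.pullback c.j
  obtain ⟨e₁⟩ : Nonempty (D.Mf.obj F ≅ CohB1.tensorMod D.O1 (CohB1.tensorMod ((Scheme.Modules.pullback π).obj D.G) F)) :=
    H23.PicMul.assoc _ _ _
  obtain ⟨k, ⟨ek⟩⟩ := c.free
  obtain ⟨e₂⟩ := nonempty_twist c (CohB1.tensorMod ((Scheme.Modules.pullback π).obj D.G) F)
  obtain ⟨e₃⟩ := H23.PicMul.pull c.j ((Scheme.Modules.pullback π).obj D.G) F
  obtain ⟨ef⟩ := (⟨KFlatLib.pullFreeIso (KRR.pr n c.B) k⟩ : Nonempty _)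
  let e₄ : J.obj ((Scheme.Modules.pullback π).obj D.G) ≅ FlatMod.freeMod (KRR.PY n c.B) k :=
    c.pull D.G ≪≫ (Scheme.Modules.pullback (KRR.pr n c.B)).mapIso ek ≪≫ ef
  refine RKoszul.rz_of_iso _ ?_ i (rz_free k (J.obj F) (d + 1) i h)
  exact ((Tw n c.B d).mapIso (J.mapIso e₁ ≪≫ e₂ ≪≫ (Tw n c.B 1).mapIso
    (e₃ ≪≫ (DCoh.tensorBi.mapIso e₄).app _)) ≪≫ (twF_twF d 1 (d + 1) rfl _).some).symm

theorem van_Cf (y : X) {d : ℤ} {i : ℕ} {F : P.Modules} (hF : FlatMod.IsFinLocFree F)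
    (h : Van (D.a y) (d + 1) i F) (h' : Van (D.a y) d (i + 1) F) : Van (D.a y) d i (D.Cf.obj F) := by
  obtain ⟨f, g, w, hS⟩ := D.exists_coresolution hF
  exact van_quot (D.a y) (S := ShortComplex.mk f g w) hS (D.van_Mf y h) h'

/-- Deficiency: the twists acyclic from degree `j` on. -/
def Def (j : ℕ) (F : P.Modules) : Prop :=
  FlatMod.IsFinLocFree F ∧ ∀ y ∈ D.s, ∀ b i : ℕ, 1 ≤ i → j + 1 ≤ i + b → Van (D.a y) (b : ℤ) i F

/-- Regularity after `j` twists. -/
def Reg (j : ℕ) (F : P.Modules) : Prop :=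
  FlatMod.IsFinLocFree F ∧ ∀ y ∈ D.s, ∀ i : ℕ, 1 ≤ i → Van (D.a y) ((j : ℤ) - i) i F

theorem def_iso {j : ℕ} {A B : P.Modules} (e : A ≅ B) (h : D.Def j A) : D.Def j B :=
  ⟨lf_of_iso e h.1, fun y hy b i hi hb => van_of_iso _ e (h.2 y hy b i hi hb)⟩

theorem def_of_le {j k : ℕ} (hjk : j ≤ k) {F : P.Modules} (h : D.Def j F) : D.Def k F :=
  ⟨h.1, fun y hy b i hi hb => h.2 y hy b i hi (by omega)⟩

theorem def_Mf {j : ℕ} {F : P.Modules} (h : D.Def (j + 1) F) : D.Def j (D.Mf.obj F) :=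
  ⟨KFlatLib.isFinLocFree_tensor D.lfV h.1, fun y hy b i hi hb => D.van_Mf y (by
    have := h.2 y hy (b + 1) i hi (by omega)
    rwa [Nat.cast_succ] at this)⟩

theorem def_Cf {j : ℕ} {F : P.Modules} (h : D.Def (j + 1) F) : D.Def j (D.Cf.obj F) :=
  ⟨KFlatLib.isFinLocFree_tensor D.lfQ h.1, fun y hy b i hi hb => D.van_Cf y h.1 (by
    have := h.2 y hy (b + 1) i hi (by omega)
    rwa [Nat.cast_succ] at this) (h.2 y hy b (i + 1) (by omega) (by omega))⟩

theorem reg_Mf {j : ℕ} {F : P.Modules} (h : D.Reg (j + 1) F) : D.Reg j (D.Mf.obj F) :=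
  ⟨KFlatLib.isFinLocFree_tensor D.lfV h.1, fun y hy i hi => D.van_Mf y (by
    have := h.2 y hy i hi
    rwa [show ((j + 1 : ℕ) : ℤ) - i = (j : ℤ) - i + 1 by omega] at this)⟩

theorem reg_Cf {j : ℕ} {F : P.Modules} (h : D.Reg (j + 1) F) : D.Reg j (D.Cf.obj F) :=
  ⟨KFlatLib.isFinLocFree_tensor D.lfQ h.1, fun y hy i hi => D.van_Cf y h.1 (by
    have := h.2 y hy i hi
    rwa [show ((j + 1 : ℕ) : ℤ) - i = (j : ℤ) - i + 1 by omega] at this) (by
    have := h.2 y hy (i + 1) (by omega)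
    rwa [show ((j + 1 : ℕ) : ℤ) - ((i + 1 : ℕ) : ℤ) = (j : ℤ) - i by omega] at this)⟩

theorem isReg_of_reg {j : ℕ} {F : P.Modules} (h : D.Reg j F) {y : X} (hy : y ∈ D.s) :
    KRR.IsRegSheaf n (D.a y).B (KRR.twF n (D.a y).B (j : ℤ) ((Scheme.Modules.pullback (D.a y).j).obj F)) :=
  fun i hi => isZero_R_of_iso ⟨(twF_twF (-(i : ℤ)) (j : ℤ) ((j : ℤ) - i) (by ring) _).some.symm⟩ i (h.2 y hy i hi)

theorem def_of_reg {j : ℕ} {F : P.Modules} (h : D.Reg j F) : D.Def j F :=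
  ⟨h.1, fun y hy b i hi hb => by
    obtain ⟨e, he⟩ := Nat.exists_eq_add_of_le (show j ≤ b + i by omega)
    exact RKoszul.rz_of_iso _ (twF_twF ((e : ℤ) - i) (j : ℤ) (b : ℤ) (by omega) _).some i
      (rz_add _ (D.isReg_of_reg h hy) e i hi)⟩

theorem exists_reg {F : P.Modules} (hF : FlatMod.IsFinLocFree F) : ∃ j, D.Reg j F := by
  classical
  choose m hm using fun y : X => GenReg.exists_twist (n := n) (T := (D.a y).B) (KvbPull.lf_pull (D.a y).j hF)
  refine ⟨D.s.sup m, hF, fun y hy i hi => ?_⟩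
  exact RKoszul.rz_of_iso _ (twF_twF (-(i : ℤ)) ((D.s.sup m : ℕ) : ℤ) (((D.s.sup m : ℕ) : ℤ) - i) (by ring) _).some i
    ((hm y _ (Finset.le_sup hy)).1 i hi)

theorem exists_def {F : P.Modules} (hF : FlatMod.IsFinLocFree F) : ∃ j, D.Def j F :=
  (D.exists_reg hF).imp fun _ h => D.def_of_reg h

theorem rp_of_reg {F : P.Modules} (h : D.Reg 0 F) {y : X} (hy : y ∈ D.s) :
    KRegK0.RP n (D.a y).B ((Scheme.Modules.pullback (D.a y).j).obj F) :=
  ⟨KvbPull.lf_pull _ h.1, KRegK0.isReg_of_iso (twF_zero _).some (D.isReg_of_reg h hy)⟩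

/-- Direct image is exact on sequences with acyclic kernel. -/
theorem shortExact_push {S : ShortComplex P.Modules} (hS : S.ShortExact) (h₁ : D.Def 0 S.X₁) :
    (S.map (Scheme.Modules.pushforward π)).ShortExact := by
  haveI := (Scheme.Modules.pullbackPushforwardAdjunction π).isRightAdjoint
  haveI : PreservesFiniteLimits (Scheme.Modules.pushforward π) := inferInstance
  haveI := hS.mono_f
  refine ShortComplex.ShortExact.mk'
    (ShortComplex.exact_of_f_is_kernel _ (KernelFork.mapIsLimit _ hS.fIsKernel (Scheme.Modules.pushforward π)))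
    (inferInstanceAs (Mono ((Scheme.Modules.pushforward π).map S.f))) (epi_of_restrict _ fun x => ?_)
  obtain ⟨y, hy, hx⟩ := D.cover x
  let c := D.a y
  refine ⟨c.U.1, hx, ?_⟩
  haveI : Epi ((Scheme.Modules.pushforward (KRR.pr n c.B)).map ((Scheme.Modules.pullback c.j).map S.g)) :=
    RKoszul.epi_push_map (S := S.map (Scheme.Modules.pullback c.j)) _ (shortExact_pull c.j hS)
      (RKoszul.rz_of_iso _ (twF_zero _).some 1 (h₁.2 y hy 0 1 le_rfl le_rfl))
  have hn := c.push.hom.naturality S.g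
  have h : (Scheme.Modules.pushforward π ⋙ Scheme.Modules.pullback c.U.1.ι).map S.g =
      c.push.hom.app S.X₂ ≫ (Scheme.Modules.pullback c.j ⋙ Scheme.Modules.pushforward (KRR.pr n c.B)).map S.g ≫
        c.push.inv.app S.X₃ := by
    rw [← Category.assoc, ← hn, Category.assoc, Iso.hom_inv_id_app, Category.comp_id]
  show Epi ((Scheme.Modules.pushforward π ⋙ Scheme.Modules.pullback c.U.1.ι).map S.g)
  rw [h, Functor.comp_map]
  infer_instance

/-- The direct image of a deficiency-zero bundle is a bundle. -/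
theorem lf_push : ∀ (j : ℕ) {F : P.Modules}, D.Reg j F → D.Def 0 F →
    FlatMod.IsFinLocFree ((Scheme.Modules.pushforward π).obj F)
  | 0, F, h, _ => by
    refine ConsPropLib.isFinLocFree_of_cover (fun y : D.s => (D.a y.1).U.1.ι) (fun x => ?_) fun y => ?_
    · obtain ⟨y, hy, hx⟩ := D.cover x
      exact ⟨⟨y, hy⟩, ⟨x, hx⟩, rfl⟩
    · haveI : CompactSpace (D.a y.1).B := isCompact_iff_compactSpace.1 (D.a y.1).U.2.isCompact
      exact lf_of_iso (((D.a y.1).push.app F).symm ≪≫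
          ((Scheme.Modules.restrictFunctorIsoPullback (D.a y.1).U.1.ι).app _).symm)
        (GenPush.isFinLocFree_push (D.rp_of_reg h y.2))
  | j + 1, F, h, h0 => by
    obtain ⟨f, g, w, hS⟩ := D.exists_coresolution h.1
    exact GenPush.lf_X₁ (D.shortExact_push (S := ShortComplex.mk f g w) hS h0)
      (lf_push j (D.reg_Mf h) (D.def_Mf (D.def_of_le (Nat.zero_le 1) h0)))
      (lf_push j (D.reg_Cf h) (D.def_Cf (D.def_of_le (Nat.zero_le 1) h0)))

theorem lf_push_def {F : P.Modules} (h : D.Def 0 F) : FlatMod.IsFinLocFree ((Scheme.Modules.pushforward π).obj F) :=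
  let ⟨j, hj⟩ := D.exists_reg h.1
  D.lf_push j hj h

/-- The class of the direct image, computed from the deficiency on. -/
def α : ℕ → P.Modules → SGA6.Kvb X
  | 0, F => KRR.cl X ((Scheme.Modules.pushforward π).obj F)
  | j + 1, F => α j (D.Mf.obj F) - α j (D.Cf.obj F)

theorem α_iso : ∀ (j : ℕ) {A B : P.Modules}, (A ≅ B) → D.Def j A → D.α j A = D.α j B
  | 0, A, B, e, h => GenPush.cl_iso ((Scheme.Modules.pushforward π).mapIso e) (D.lf_push_def h)
      (D.lf_push_def (D.def_iso e h))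
  | j + 1, A, B, e, h => by
    show _ - _ = _ - _
    rw [α_iso j (D.Mf.mapIso e) (D.def_Mf h), α_iso j (D.Cf.mapIso e) (D.def_Cf h)]

theorem α_ses : ∀ (j : ℕ) (S : ShortComplex P.Modules), S.ShortExact →
    D.Def j S.X₁ → D.Def j S.X₂ → D.Def j S.X₃ → D.α j S.X₂ = D.α j S.X₁ + D.α j S.X₃
  | 0, S, hS, h₁, h₂, h₃ => KZ.clSub_ses _ (D.shortExact_push hS h₁)
      (D.lf_push_def h₁) (D.lf_push_def h₂) (D.lf_push_def h₃)
  | j + 1, S, hS, h₁, h₂, h₃ => by
    have hM := α_ses j (S.map D.Mf) (shortExact_tens D.lfV hS) (D.def_Mf h₁) (D.def_Mf h₂) (D.def_Mf h₃)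
    have hC := α_ses j (S.map D.Cf) (shortExact_tens D.lfQ hS) (D.def_Cf h₁) (D.def_Cf h₂) (D.def_Cf h₃)
    show D.α j (S.map D.Mf).X₂ - D.α j (S.map D.Cf).X₂ = _
    rw [hM, hC]
    show _ = (D.α j (S.map D.Mf).X₁ - D.α j (S.map D.Cf).X₁) + (D.α j (S.map D.Mf).X₃ - D.α j (S.map D.Cf).X₃)
    abel

theorem α_succ : ∀ (j : ℕ) {F : P.Modules}, D.Def j F → D.α (j + 1) F = D.α j F
  | 0, F, h => by
    obtain ⟨f, g, w, hS⟩ := D.exists_coresolution h.1
    have h' := D.def_of_le (Nat.zero_le 1) h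
    refine (sub_eq_iff_eq_add'.2 ?_)
    exact (α_ses D 0 (ShortComplex.mk f g w) hS h (D.def_Mf h') (D.def_Cf h')).trans (add_comm _ _)
  | j + 1, F, h => by
    show _ - _ = _ - _
    rw [α_succ j (D.def_Mf h), α_succ j (D.def_Cf h)]

theorem α_of_le {j k : ℕ} (hjk : j ≤ k) {F : P.Modules} (h : D.Def j F) : D.α k F = D.α j F := by
  induction hjk with
  | refl => rfl
  | step hle ih => rw [D.α_succ _ (D.def_of_le hle h), ih]

/-- The push-forward on `K₀`. -/
theorem exists_pushHom : ∃ p : SGA6.Kvb P →+ SGA6.Kvb X,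
    ∀ F : P.Modules, D.Def 0 F → p (KRR.cl P F) = KRR.cl X ((Scheme.Modules.pushforward π).obj F) := by
  classical
  let val : P.Modules → SGA6.Kvb X := fun F =>
    if h : ∃ j, D.Def j F then D.α h.choose F else 0
  have hval : ∀ {F : P.Modules} {j : ℕ}, D.Def j F → val F = D.α j F := fun {F j} hj => by
    have h : ∃ j, D.Def j F := ⟨j, hj⟩
    show dite _ _ _ = _
    rw [dif_pos h]
    rcases le_total h.choose j with hle | hle
    · exact (D.α_of_le hle h.choose_spec).symm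
    · exact D.α_of_le hle hj
  obtain ⟨p, hp⟩ := KZ.exists_liftSub (KRR.vbP P) val fun S hS h₁ h₂ h₃ => by
    obtain ⟨j₁, k₁⟩ := D.exists_def h₁
    obtain ⟨j₂, k₂⟩ := D.exists_def h₂
    obtain ⟨j₃, k₃⟩ := D.exists_def h₃
    have q₁ := D.def_of_le (show j₁ ≤ j₁ + j₂ + j₃ by omega) k₁
    have q₂ := D.def_of_le (show j₂ ≤ j₁ + j₂ + j₃ by omega) k₂
    have q₃ := D.def_of_le (show j₃ ≤ j₁ + j₂ + j₃ by omega) k₃
    rw [hval q₁, hval q₂, hval q₃]
    exact D.α_ses _ S hS q₁ q₂ q₃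
  exact ⟨p, fun F hF => (hp F hF.1).trans (hval hF)⟩

end Data

end Groth.Agent.H28.PBPush
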