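import Groth.Agent.H28.ExtBase
import Groth.Agent.H23.Frame
import Groth.Agent.QCoh.ClosedPush
import Mathlib.LinearAlgebra.ExteriorPower.Basis

/-!
# Exterior powers of finite locally free modules: existence and uniqueness
-/

set_option autoImplicit false
set_option linter.style.haveILetI false
set_option linter.unusedSectionVars false
set_option backward.isDefEq.respectTransparency false
set_option backward.isDefEq.respectTransparency.types false
set_option maxHeartbeats 1000000

universe u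

open CategoryTheory CategoryTheory.Limits AlgebraicGeometry TopologicalSpace Opposite Set
open Groth.Agent.AModX Groth.Agent.H28.ExtBase

noncomputable section

namespace Groth.Agent.H28.ExtSh

open Groth.Agent

variable {X : Scheme.{u}} {M : X.Modules} {m r : ℕ}

/-- The increasing subsequence attached to a subset. -/
abbrev sub (S : powersetCard (Fin r) m) : Fin m → Fin r := fun k => powersetCard.ofFinEmbEquiv.symm S k

/-- The basis of exterior powers of sections given by a frame. -/
def wBasis {U : X.Opens} {s : Fin r → Γ(M, U)} (hs : H23.Frame.IsFrame M s) {V : X.Opens} (h : V ≤ U) :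
    Module.Basis (powersetCard (Fin r) m) Γ(X, V) (Ext' M m V) :=
  (frameBasis hs h).exteriorPower m

theorem wBasis_apply {U : X.Opens} {s : Fin r → Γ(M, U)} (hs : H23.Frame.IsFrame M s) {V : X.Opens} (h : V ≤ U)
    (S : powersetCard (Fin r) m) : wBasis hs h S = wedge M m fun k => res M h (s (sub S k)) := by
  rw [wBasis, exteriorPower.basis_apply, exteriorPower.ιMulti_family]
  exact congrArg _ (funext fun k => frameBasis_apply hs h _)

/-- Combinations of the wedges of a frame. -/
def wComb {U : X.Opens} (s : Fin r → Γ(M, U)) {V : X.Opens} (h : V ≤ U)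
    (c : powersetCard (Fin r) m → Γ(X, V)) : Ext' M m V :=
  ∑ S, c S • wedge M m fun k => res M h (s (sub S k))

theorem bijective_wComb {U : X.Opens} {s : Fin r → Γ(M, U)} (hs : H23.Frame.IsFrame M s) {V : X.Opens}
    (h : V ≤ U) : Function.Bijective (wComb (m := m) s h) := by
  have e : wComb (m := m) s h = ⇑(wBasis (m := m) hs h).equivFun.symm := funext fun c => by
    rw [Module.Basis.equivFun_symm_apply, wComb]
    exact Finset.sum_congr rfl fun S _ => congrArg (c S • ·) (wBasis_apply hs h S).symm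
  rw [e]
  exact LinearEquiv.bijective _

theorem resExt_wComb {U : X.Opens} (s : Fin r → Γ(M, U)) {V V' : X.Opens} (h : V ≤ U) (i : V' ≤ V)
    (c : powersetCard (Fin r) m → Γ(X, V)) :
    resExt M m i (wComb s h c) = wComb s (i.trans h) fun S => resR i (c S) := by
  rw [wComb, map_sum]
  refine Finset.sum_congr rfl fun S _ => ?_
  rw [resExt_smul, resExt_wedge]
  simp only [res_res]

theorem wComb_zero {U : X.Opens} (s : Fin r → Γ(M, U)) {V : X.Opens} (h : V ≤ U) :
    wComb (m := m) s h 0 = 0 := by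
  simp [wComb]

theorem eta_injective {U : X.Opens} {s : Fin r → Γ(M, U)} (hs : H23.Frame.IsFrame M s) {V : X.Opens}
    (h : V ≤ U) : Function.Injective (eta M m V) := by
  refine (injective_iff_map_eq_zero _).2 fun x hx => ?_
  obtain ⟨c, rfl⟩ := (bijective_wComb hs h).2 x
  suffices hc : c = 0 by rw [hc]; exact wComb_zero s h
  funext S
  refine TopCat.Sheaf.eq_of_locally_eq' X.sheaf (fun p : {W : X.Opens // ∃ hW : W ≤ V, resR hW (c S) = 0} => p.1) V
    (fun p => homOfLE p.2.choose) (fun y hy => ?_) _ _ fun p =>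
      p.2.choose_spec.trans (map_zero (resR p.2.choose)).symm
  haveI := KFlatLib.isIso_stalk_unitShP (x := y) (P M m)
  have hinj := (ConcreteCategory.bijective_of_isIso ((KFlatLib.stalkP y).map (KFlatLib.unitShP (P M m)))).1
  have h0 : KFlatLib.germP (P M m) V hy (wComb s h c : Ext' M m V) =
      KFlatLib.germP (P M m) V hy (0 : Ext' M m V) := by
    refine hinj ((KFlatLib.stalkModMap_germ (KFlatLib.unitShP (P M m)) V hy _).trans
      (Eq.trans ?_ (KFlatLib.stalkModMap_germ (KFlatLib.unitShP (P M m)) V hy _).symm))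
    exact congrArg _ (hx.trans (map_zero (eta M m V)).symm)
  obtain ⟨W, hyW, i, j, hij⟩ := TopCat.Presheaf.germ_eq (C := AddCommGrpCat.{u}) (Fab M m) y hy hy _ _ h0
  change resExt M m i.le _ = resExt M m j.le 0 at hij
  rw [map_zero, resExt_wComb, ← wComb_zero s (i.le.trans h)] at hij
  exact Opens.mem_iSup.2 ⟨⟨W, i.le, congrFun ((bijective_wComb hs (i.le.trans h)).1 hij) S⟩, hyW⟩

theorem eta_surjective {U : X.Opens} {s : Fin r → Γ(M, U)} (hs : H23.Frame.IsFrame M s) {V : X.Opens}
    (h : V ≤ U) : Function.Surjective (eta M m V) := by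
  intro t
  have hloc : ∀ y ∈ V, ∃ (W : X.Opens) (hW : W ≤ V) (c : powersetCard (Fin r) m → Γ(X, W)), y ∈ W ∧
      eta M m W (wComb s (hW.trans h) c) = res (L M m) hW t := by
    intro y hy
    haveI := KFlatLib.isIso_stalk_unitShP (x := y) (P M m)
    obtain ⟨a, ha⟩ := (ConcreteCategory.bijective_of_isIso ((KFlatLib.stalkP y).map (KFlatLib.unitShP (P M m)))).2
      (KFlatLib.germP (DCoh.toP.obj (L M m)) V hy t)
    obtain ⟨W', hyW', p, rfl⟩ := KFlatLib.exists_germP a
    have ha' := (KFlatLib.stalkModMap_germ (KFlatLib.unitShP (P M m)) W' hyW' p).symm.trans ha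
    obtain ⟨W, hyW, i, j, hij⟩ := TopCat.Presheaf.germ_eq (C := AddCommGrpCat.{u}) (L M m).presheaf y hyW' hy _ _ ha'
    change res (L M m) i.le (eta M m W' p) = res (L M m) j.le t at hij
    obtain ⟨c, hc⟩ := (bijective_wComb hs (j.le.trans h)).2 (resExt M m i.le p)
    refine ⟨W, j.le, c, hyW, ?_⟩
    rw [← hij, eta_res]
    exact congrArg (eta M m W) hc
  choose W hW c hyW hc using hloc
  have key : ∀ S, ∃ d : Γ(X, V), ∀ y : V, resR (hW y.1 y.2) d = c y.1 y.2 S := fun S => by
    obtain ⟨d, hd, -⟩ := TopCat.Sheaf.existsUnique_gluing' X.sheaf (fun y : V => W y.1 y.2) V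
      (fun y => homOfLE (hW y.1 y.2)) (fun y hy => Opens.mem_iSup.2 ⟨⟨y, hy⟩, hyW y hy⟩)
      (fun y => c y.1 y.2 S) fun a b => by
        show resR inf_le_left (c a.1 a.2 S) = resR inf_le_right (c b.1 b.2 S)
        refine congrFun ((bijective_wComb hs (inf_le_left.trans ((hW a.1 a.2).trans h))).1 (eta_injective hs
          (inf_le_left.trans ((hW a.1 a.2).trans h)) ?_)
          : (fun S => resR inf_le_left (c a.1 a.2 S)) = fun S => resR inf_le_right (c b.1 b.2 S)) S
        have h1 := congrArg (res (L M m) (inf_le_left : W a.1 a.2 ⊓ W b.1 b.2 ≤ W a.1 a.2)) (hc a.1 a.2)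
        have h2 := congrArg (res (L M m) (inf_le_right : W a.1 a.2 ⊓ W b.1 b.2 ≤ W b.1 b.2)) (hc b.1 b.2)
        simp only [eta_res, resExt_wComb, res_res] at h1 h2
        exact h1.trans h2.symm
    exact ⟨d, hd⟩
  choose d hd using key
  refine ⟨wComb s h d, eq_of_locally _ _ fun y hy => ⟨W y hy, hW y hy, hyW y hy, ?_⟩⟩
  refine (eta_res M m _ _).trans (Eq.trans ?_ (hc y hy))
  rw [resExt_wComb]
  exact congrArg (fun q => eta M m _ (wComb s _ q)) (funext fun S => hd S ⟨y, hy⟩)

theorem bijective_eta {U : X.Opens} {s : Fin r → Γ(M, U)} (hs : H23.Frame.IsFrame M s) {V : X.Opens}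
    (h : V ≤ U) : Function.Bijective (eta M m V) :=
  ⟨eta_injective hs h, eta_surjective hs h⟩

/-- The wedges of a frame. -/
def wFrame {U : X.Opens} (s : Fin r → Γ(M, U)) :
    Fin (Fintype.card (powersetCard (Fin r) m)) → Γ(L M m, U) :=
  fun i => mu M m U fun k => s (sub ((Fintype.equivFin (powersetCard (Fin r) m)).symm i) k)

theorem isFrame_wFrame {U : X.Opens} {s : Fin r → Γ(M, U)} (hs : H23.Frame.IsFrame M s) :
    H23.Frame.IsFrame (L M m) (wFrame (m := m) s) := by
  intro V h
  let e := Fintype.equivFin (powersetCard (Fin r) m)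
  have hb := ((bijective_eta hs h).comp (bijective_wComb (m := m) hs h)).comp (Equiv.arrowCongr e.symm (Equiv.refl Γ(X, V))).bijective
  refine (congrArg Function.Bijective (funext fun c => ?_)).mp hb
  show eta M m V (wComb s h fun S => c (e S)) = _
  rw [wComb, map_sum, H23.Frame.comb, ← e.symm.sum_comp]
  refine Finset.sum_congr rfl fun i _ => ?_
  rw [map_smul, Equiv.apply_symm_apply]
  refine congrArg (c i • ·) ?_
  exact (mu_res M m U V h fun k => s (sub (e.symm i) k)).symm

variable (m)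

theorem isFinLocFree_L (hM : FlatMod.IsFinLocFree M) : FlatMod.IsFinLocFree (L M m) := fun x => by
  obtain ⟨U, r, hx, ⟨e⟩⟩ := hM x
  obtain ⟨s, hs⟩ := H23.Frame.exists_frame e
  exact ⟨U, _, hx, H23.Frame.exists_iso_of_frame _ (isFrame_wFrame hs)⟩

theorem bijective_lift (hM : FlatMod.IsFinLocFree M) {V : X.Opens} (hV : IsAffineOpen V) :
    Function.Bijective (AltGlue.lift (mu M m) V) := by
  refine AltGlue.lift_bijective (mu M m) (mu_res M m) (QCoh.isQCoh_of_isFinLocFree hM)
    (QCoh.isQCoh_of_isFinLocFree (isFinLocFree_L m hM)) hV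
    {g : Γ(X, V) | ∃ (U : X.Opens) (r : ℕ) (s : Fin r → Γ(M, U)), H23.Frame.IsFrame M s ∧ X.basicOpen g ≤ U} ?_ ?_
  · refine hV.self_le_iSup_basicOpen_iff.1 fun y hy => ?_
    obtain ⟨U, r, hyU, ⟨e⟩⟩ := hM y
    obtain ⟨s, hs⟩ := H23.Frame.exists_frame e
    obtain ⟨g, hgU, hyg⟩ := hV.exists_basicOpen_le ⟨y, hyU⟩ hy
    exact Opens.mem_iSup.2 ⟨⟨g, U, r, s, hs, hgU⟩, hyg⟩
  · rintro ⟨g, U, r, s, hs, hgU⟩
    rw [lift_eq_eta]
    exact bijective_eta hs hgU

/-- The exterior power of a finite locally free module. -/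
theorem isExtPow_L (hM : FlatMod.IsFinLocFree M) : ExtPow.IsExtPow m M (L M m) :=
  AltGlue.isExtPow_of (mu M m) (mu_res M m) fun _ hV => bijective_lift m hM hV

theorem exists_extPow (hM : FlatMod.IsFinLocFree M) :
    ∃ W : X.Modules, FlatMod.IsFinLocFree W ∧ ExtPow.IsExtPow m M W :=
  ⟨L M m, isFinLocFree_L m hM, isExtPow_L m hM⟩

variable {m}

/-- Any exterior power receives compatible alternating maps. -/
theorem exists_mu {W : X.Modules} (hW : ExtPow.IsExtPow m M W) :
    ∃ μ : ∀ V : X.Opens, Γ(M, V) [⋀^Fin m]→ₗ[Γ(X, V)] Γ(W, V),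
      (∀ V V' (i : V' ≤ V) (e : Fin m → Γ(M, V)), res W i (μ V e) = μ V' (fun k => res M i (e k))) ∧
        ∀ V : X.Opens, IsAffineOpen V → Function.Bijective (AltGlue.lift μ V) := by
  obtain ⟨φ, hφ⟩ := hW
  let α : ∀ A : X.affineOpens, Γ(M, A.1) [⋀^Fin m]→ₗ[Γ(X, A.1)] Γ(W, A.1) := fun A =>
    (φ A).symm.toLinearMap.compAlternatingMap (exteriorPower.ιMulti Γ(X, A.1) m (M := M.val.obj (op A.1)))
  have hα : ∀ (A B : X.affineOpens) (h : B.1 ≤ A.1) (e : Fin m → Γ(M, A.1)),
      res W h (α A e) = α B fun k => res M h (e k) := fun A B h e => hφ A B h e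
  have hglue : ∀ (V : X.Opens) (e : Fin m → Γ(M, V)), ∃! t : Γ(W, V), ∀ A : {A : X.affineOpens // A.1 ≤ V},
      res W A.2 t = α A.1 fun k => res M A.2 (e k) := fun V e =>
    existsUnique_glue (M := W) (fun A : {A : X.affineOpens // A.1 ≤ V} => A.1.1) (fun A => A.2)
      (fun p hp => by
        obtain ⟨_, ⟨A, hA, rfl⟩, hpA, hAV⟩ := X.isBasis_affineOpens.exists_subset_of_mem_open hp V.2
        exact ⟨⟨⟨A, hA⟩, hAV⟩, hpA⟩) _ fun A B => eq_of_locally _ _ fun p hp => by
        obtain ⟨_, ⟨C, hC, rfl⟩, hpC, hCAB⟩ := X.isBasis_affineOpens.exists_subset_of_mem_open hp (A.1.1 ⊓ B.1.1).2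
        refine ⟨C, hCAB, hpC, ?_⟩
        rw [res_res, res_res, hα A.1 ⟨C, hC⟩, hα B.1 ⟨C, hC⟩]
        simp only [res_res]
  choose t ht _ using hglue
  have hloc : ∀ (V : X.Opens) (e : Fin m → Γ(M, V)) (A : X.affineOpens) (h : A.1 ≤ V),
      res W h (t V e) = α A fun k => res M h (e k) := fun V e A h => ht V e ⟨A, h⟩
  have hext : ∀ (V : X.Opens) (x y : Γ(W, V)), (∀ (A : X.affineOpens) (h : A.1 ≤ V), res W h x = res W h y) →
      x = y := fun V x y h => eq_of_locally x y fun p hp => by
    obtain ⟨_, ⟨A, hA, rfl⟩, hpA, hAV⟩ := X.isBasis_affineOpens.exists_subset_of_mem_open hp V.2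
    exact ⟨A, hAV, hpA, h ⟨A, hA⟩ hAV⟩
  let μ : ∀ V : X.Opens, Γ(M, V) [⋀^Fin m]→ₗ[Γ(X, V)] Γ(W, V) := fun V =>
    { toFun := t V
      map_update_add' := fun e k x y => hext V _ _ fun A h => by
        rw [map_add, hloc, hloc, hloc, AltGlue.res_update, AltGlue.res_update, AltGlue.res_update, map_add]
        exact (α A).map_update_add _ _ _ _
      map_update_smul' := fun e k c x => hext V _ _ fun A h => by
        rw [res_smul, hloc, hloc, AltGlue.res_update, AltGlue.res_update, res_smul]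
        exact (α A).map_update_smul _ _ _ _
      map_eq_zero_of_eq' := fun e j k he hjk => hext V _ _ fun A h => by
        rw [map_zero, hloc]
        exact (α A).map_eq_zero_of_eq _ (congrArg (res M h) he) hjk }
  refine ⟨μ, fun V V' i e => hext V' _ _ fun A h => ?_, fun V hV => ?_⟩
  · show res W h (res W i (t V e)) = res W h (t V' _)
    rw [res_res, hloc, hloc]
    simp only [res_res]
  · have hl : AltGlue.lift μ V = (φ ⟨V, hV⟩).symm.toLinearMap :=
      exteriorPower.linearMap_ext (AlternatingMap.ext fun e => (AltGlue.lift_ιMulti μ V e).trans (by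
        have h1 := hloc V e ⟨V, hV⟩ le_rfl
        simp only [res_self] at h1
        exact h1))
    rw [hl]
    exact (φ ⟨V, hV⟩).symm.bijective


/-- The map out of the presheaf of exterior powers. -/
def liftP {W : X.Modules} (μ : ∀ V : X.Opens, Γ(M, V) [⋀^Fin m]→ₗ[Γ(X, V)] Γ(W, V))
    (hμ : ∀ V V' (i : V' ≤ V) (e : Fin m → Γ(M, V)), res W i (μ V e) = μ V' (fun k => res M i (e k))) :
    P M m ⟶ DCoh.toP.obj W :=
  PresheafOfModules.homMk
    { app := fun V => AddCommGrpCat.ofHom (AltGlue.lift μ V.unop).toAddMonoidHom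
      naturality := fun V V' f => AddCommGrpCat.hom_ext (ext_of_wedge M m fun c e => by
        show AltGlue.lift μ V'.unop (resExt M m f.unop.le (c • wedge M m e)) =
          res W f.unop.le (AltGlue.lift μ V.unop (c • wedge M m e))
        rw [resExt_smul, resExt_wedge, map_smul, map_smul, res_smul]
        exact congrArg (resR f.unop.le c • ·) (((AltGlue.lift_ιMulti μ V'.unop _).trans (hμ _ _ f.unop.le e).symm).trans
          (congrArg (res W f.unop.le) (AltGlue.lift_ιMulti μ V.unop e).symm))) }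
    fun V c x => (AltGlue.lift μ V.unop).map_smul c x

/-- Exterior powers are unique. -/
theorem nonempty_iso_L (hM : FlatMod.IsFinLocFree M) {W : X.Modules} (hW : ExtPow.IsExtPow m M W) :
    Nonempty (L M m ≅ W) := by
  obtain ⟨μ, hμ, hb⟩ := exists_mu hW
  let adj := PresheafOfModules.sheafificationAdjunction (𝟙 X.ringCatSheaf.obj)
  let θ : L M m ⟶ W := (adj.homEquiv (P M m) W).symm (liftP μ hμ)
  have hθ : KFlatLib.unitShP (P M m) ≫ DCoh.toP.map θ = liftP μ hμ := by
    have h := (adj.homEquiv (P M m) W).apply_symm_apply (liftP μ hμ)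
    rw [Adjunction.homEquiv_unit] at h
    exact h
  haveI : IsIso θ := QCoh.isIso_of_isBasis θ X.isBasis_affineOpens fun V hV => by
    have hV' : IsAffineOpen V := hV
    have heq : ⇑(θ.app V) ∘ ⇑(eta M m V) = ⇑(AltGlue.lift μ V) := funext fun x =>
      congrArg (fun q : P M m ⟶ DCoh.toP.obj W => (q.app (op V)).hom x) hθ
    refine (Function.Bijective.of_comp_iff _ (lift_eq_eta M m V ▸ bijective_lift m hM hV')).1 ?_
    rw [heq]
    exact hb V hV'
  exact ⟨asIso θ⟩

theorem nonempty_iso (hM : FlatMod.IsFinLocFree M) {W W' : X.Modules} (hW : ExtPow.IsExtPow m M W)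
    (hW' : ExtPow.IsExtPow m M W') : Nonempty (W ≅ W') :=
  let ⟨e⟩ := nonempty_iso_L hM hW
  let ⟨e'⟩ := nonempty_iso_L hM hW'
  ⟨e.symm ≪≫ e'⟩

end Groth.Agent.H28.ExtSh
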