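import Groth.Agent.H28.PBCohPush
import Groth.Agent.H28.PnBox
import Groth.Agent.H28.RegTwist
import Groth.Agent.H9Misc.RpushZero
import Groth.Agent.KFlatLib.Scheme.RpushRestrict
import Groth.Agent.Lib.CurveTensor
import Groth.Agent.H28.PBCores
import Groth.Agent.QCoh.LocFree
import Groth.Agent.AmpleVan.RelVanish

/-!
# Cohomology over affine opens of the base
-/

set_option autoImplicit false
set_option linter.style.haveILetI false
set_option linter.unusedSectionVars false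
set_option backward.isDefEq.respectTransparency false
set_option backward.isDefEq.respectTransparency.types false
set_option maxHeartbeats 1000000

universe u

open CategoryTheory CategoryTheory.Limits AlgebraicGeometry TopologicalSpace Opposite

noncomputable section

namespace Groth.Agent.H28.BlowHH

open Groth.Agent

variable {X S : Scheme.{u}}

/-- Vanishing of a higher direct image gives vanishing over affine opens. -/
theorem hh_of_rz (f : X ⟶ S) [QuasiCompact f] [QuasiSeparated f] {M : X.Modules} (hM : Coh.IsQCoh M) (q : ℕ)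
    (h : RKoszul.RZ f M (q + 1)) {V : S.Opens} (hV : IsAffineOpen V) :
    Subsingleton (Coh.HH _ (M.restrict (f ⁻¹ᵁ V).ι) (q + 1)) := by
  haveI : HasInjectiveResolutions X.Modules := KFlatLib.hasInjectiveResolutions_modules
  letI := QCoh.modHH (QCoh.rhoV f V) (M.restrict (f ⁻¹ᵁ V).ι) (q + 1)
  obtain ⟨l⟩ := QCoh.nonempty_sections_HH (f := f) hM hV (q + 1)
  obtain ⟨e⟩ := QCoh.nonempty_RpushAb_iso f M q
  obtain ⟨e'⟩ := QCoh.nonempty_Rpush_iso f M q
  have h1 : IsZero ((QCoh.toAbFunctor S).obj ((Coh.Rpush f (q + 1)).obj M)) :=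
    (h.of_iso e.symm).of_iso ((QCoh.toAbFunctor S).mapIso e')
  haveI : (QCoh.toAbFunctor S).Faithful := inferInstanceAs (SheafOfModules.toSheaf S.ringCatSheaf).Faithful
  have h2 : IsZero ((Coh.Rpush f (q + 1)).obj M) :=
    (IsZero.iff_id_eq_zero _).2 ((QCoh.toAbFunctor S).map_injective (h1.eq_of_src _ _))
  haveI : Subsingleton Γ((Coh.Rpush f (q + 1)).obj M, V) := ⟨fun a b => by
    have h3 := congrArg (fun g : (Coh.Rpush f (q + 1)).obj M ⟶ _ => g.app V (a - b))
      ((IsZero.iff_id_eq_zero _).1 h2)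
    exact sub_eq_zero.1 h3⟩
  exact l.toEquiv.symm.subsingleton

/-- Cohomology over an open of a direct image along an affine morphism. -/
theorem hh_affine_push {Z : Scheme.{u}} (a : Z ⟶ X) [IsAffineHom a] {N : Z.Modules} (hN : Coh.IsQCoh N)
    (V : X.Opens) (i : ℕ) (h : Subsingleton (Coh.HH _ (N.restrict (a ⁻¹ᵁ V).ι) i)) :
    Subsingleton (Coh.HH _ (((Scheme.Modules.pushforward a).obj N).restrict V.ι) i) := by
  haveI : IsAffineHom (a ∣_ V) := IsZariskiLocalAtTarget.restrict ‹IsAffineHom a› V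
  obtain ⟨e⟩ := QCoh.HH_push_of_isAffineHom (a ∣_ V) (QCoh.isQCoh_restrict (a ⁻¹ᵁ V).ι hN) i
  exact QCoh.subsingleton_HH_of_iso ((KFlatLib.pushRestrictIso a V).app N).symm i e.symm.toEquiv.subsingleton

/-- Cohomology along an isomorphism. -/
theorem hh_iso {A B : Scheme.{u}} (h : A ⟶ B) [IsIso h] {M : B.Modules} (hM : Coh.IsQCoh M) (i : ℕ)
    (hh : Subsingleton (Coh.HH A ((Scheme.Modules.pullback h).obj M) i)) : Subsingleton (Coh.HH B M i) := by
  let u : (Scheme.Modules.pushforward h).obj ((Scheme.Modules.pullback h).obj M) ≅ M :=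
    (Scheme.Modules.pushforward h).mapIso ((PBAtlas.pullIsoPush h).app M) ≪≫
      (Scheme.Modules.pushforwardComp (inv h) h).app M ≪≫
      (Scheme.Modules.pushforwardCongr (IsIso.inv_hom_id h)).app M ≪≫ (Scheme.Modules.pushforwardId B).app M
  obtain ⟨e⟩ := QCoh.HH_push_of_isAffineHom h (QCoh.isQCoh_pullback h hM) i
  exact QCoh.subsingleton_HH_of_iso
    u i e.symm.toEquiv.subsingleton

theorem isIso_ι_top (Y : Scheme.{u}) : IsIso (⊤ : Y.Opens).ι := by
  rw [← Scheme.topIso_hom]; infer_instance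

/-- Twists on `P^n` over an affine base are acyclic. -/
theorem hh_twistOver {n : ℕ} (T : Scheme.{u}) [IsAffine T] (d : ℕ) (q : ℕ) :
    Subsingleton (Coh.HH (KRR.PY n T) (Twist.twistOver n T (d : ℤ)) (q + 1)) := by
  haveI : IsProper (KRR.pr n T) :=
    MorphismProperty.pullback_snd _ _ (PnCoh.Chow.isProper_toSpec n (ULift.{u} ℤ))
  obtain ⟨e₁⟩ := PicClLib.nonempty_pullback_structureModule (KRR.pr n T)
  obtain ⟨e₂⟩ := H23.PicMul.unit (Twist.twistOver n T (d : ℤ))
  have h := RKoszul.rz_of_iso (KRR.pr n T)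
    (((DCoh.tensorBi.obj (Twist.twistOver n T (d : ℤ))).mapIso e₁ ≪≫ e₂ :
      (KRRTw.Tw n T (d : ℤ)).obj ((Scheme.Modules.pullback (KRR.pr n T)).obj (Coh.structureModule T)) ≅
        Twist.twistOver n T (d : ℤ)))
    (q + 1) (PnBox.rz_tw_pullback (Coh.structureModule T) (PnCoh.isQCoh_structureModule T) (d : ℤ) (q + 1)
      (by omega) (Or.inl (by omega)))
  have hq : Coh.IsQCoh (Twist.twistOver n T (d : ℤ)) :=
    QCoh.isQCoh_pullback _ (PnCoh.isQCoh_twist_mvPolynomial _ _ (d : ℤ))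
  have h1 := hh_of_rz (KRR.pr n T) hq q h (isAffineOpen_top T)
  haveI : IsIso (KRR.pr n T ⁻¹ᵁ ⊤ : (KRR.PY n T).Opens).ι := isIso_ι_top _
  exact hh_iso (KRR.pr n T ⁻¹ᵁ ⊤ : (KRR.PY n T).Opens).ι hq (q + 1)
    (QCoh.subsingleton_HH_of_iso ((Scheme.Modules.restrictFunctorIsoPullback _).app _) _ h1)

variable {P : Scheme.{u}} {π : P ⟶ X} {E : X.Modules} {O1 : P.Modules}
  {q : (Scheme.Modules.pullback π).obj E ⟶ O1} {r : ℕ}

/-- Nonnegative twists on a projective bundle have no higher direct images. -/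
theorem rz_bundle [CompactSpace X] [IsProper π] (hP : KRR.IsProjBundle π E O1 q)
    (hE : FlatMod.IsFinLocFreeOfRank (r + 1) E) (d : ℕ) (i : ℕ) (hi : 1 ≤ i) :
    RKoszul.RZ π (CohB1.tensorPow O1 d) i := by
  obtain ⟨s, a, ha⟩ := PBAtlas.exists_atlas (G := E) hP hE (KvbModel.lf_of_rank hE)
  have hinv : PicF.IsInvertible (CohB1.tensorPow O1 d) :=
    InvX.isInvertible_tensorPow (PBCores.isInvertible_iff_rank.2 hP.invertible) d
  have hq : Coh.IsQCoh (CohB1.tensorPow O1 d) := QCoh.isQCoh_of_isFinLocFree (KvbModel.lf_of_rank (PBCores.isInvertible_iff_rank.1 hinv))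
  refine RzCover.isZero_RpushAb_of_cover (f := π) hq {W | ∃ y ∈ s, W = (a y).U} (fun x => ?_) ?_ i hi
  · obtain ⟨y, hy, hx⟩ := ha x
    exact ⟨(a y).U, ⟨y, hy, rfl⟩, hx⟩
  rintro W ⟨y, -, rfl⟩ k
  let c := a y
  let V : P.Opens := π ⁻¹ᵁ c.U.1
  obtain ⟨e₁⟩ := AmpleVan.RelVanish.pullback_tensorPow c.j O1 d
  obtain ⟨e₂⟩ := c.nonempty_O1
  obtain ⟨e₃⟩ := AmpleVan.RelVanish.tensorPow_congr e₂ d
  obtain ⟨e₄⟩ := RegTwist.tensorPow_twistOver (n := r) (Y := c.B) d
  refine QCoh.subsingleton_HH_of_iso ((Scheme.Modules.restrictFunctorIsoPullback V.ι).app _).symm _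
    (hh_iso c.θ (QCoh.isQCoh_pullback _ hq) _ ?_)
  exact QCoh.subsingleton_HH_of_iso
    (((Scheme.Modules.pullbackComp c.θ V.ι).app _) ≪≫ e₁ ≪≫ e₃ ≪≫ e₄).symm _ (hh_twistOver c.B d k)

end Groth.Agent.H28.BlowHH

end
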