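import Groth.Agent.H28.BlowVan
import Groth.Agent.Lib.NormalPush
import Groth.Agent.Lib.BlowUpInt
import Groth.Agent.RefX.NormalSheaf

/-!
# Functions on a regular blowing up of a regular scheme
-/

set_option autoImplicit false
set_option linter.style.haveILetI false
set_option linter.unusedSectionVars false
set_option backward.isDefEq.respectTransparency false
set_option backward.isDefEq.respectTransparency.types false
set_option maxHeartbeats 1000000

universe u

open CategoryTheory CategoryTheory.Limits AlgebraicGeometry TopologicalSpace Opposite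

noncomputable section

namespace Groth.Agent.H28.BlowPush

open Groth.Agent

/-- The unit is an isomorphism when the functions agree. -/
theorem isIso_unit_of_app {A B : Scheme.{u}} (g : A ⟶ B) (h : ∀ U : B.Opens, IsIso (g.app U)) :
    IsIso ((Scheme.Modules.pullbackPushforwardAdjunction g).unit.app (Coh.structureModule B)) := by
  let a : (Scheme.Modules.pullback g).obj (Coh.structureModule B) ⟶ Coh.structureModule A :=
    SheafOfModules.pullbackObjUnitToUnit g.toRingCatSheafHom
  haveI : IsIso a := inferInstanceAs (IsIso (SheafOfModules.pullbackObjUnitToUnit g.toRingCatSheafHom))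
  have h1 : (Scheme.Modules.pullbackPushforwardAdjunction g).unit.app (Coh.structureModule B) ≫
      (Scheme.Modules.pushforward g).map a = SheafOfModules.unitToPushforwardObjUnit g.toRingCatSheafHom := by
    exact ((Scheme.Modules.pullbackPushforwardAdjunction g).homEquiv_unit _ _ a).symm.trans
      (Equiv.apply_symm_apply _ _)
  haveI : IsIso (SheafOfModules.unitToPushforwardObjUnit g.toRingCatSheafHom :
      Coh.structureModule B ⟶ (Scheme.Modules.pushforward g).obj (Coh.structureModule A)) := by
    refine Scheme.Modules.Hom.isIso_iff_isIso_app.2 fun U => ?_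
    rw [ConcreteCategory.isIso_iff_bijective]
    haveI := h U
    exact ConcreteCategory.bijective_of_isIso (g.app U)
  rw [← h1] at this
  exact IsIso.of_isIso_comp_right _ ((Scheme.Modules.pushforward g).map a)

theorem isIso_app {X Y Y₁ : Scheme.{u}} [AlgebraicGeometry.IsNoetherian Y] [ConnectedSpace ↥Y]
    (hYe : KRR.HasEnoughLocFree Y) (hYreg : ∀ y : Y, IsRegularLocalRing (Y.presheaf.stalk y)) (f : X ⟶ Y)
    (hf : Mor2.IsRegularClosedImmersion f) [ConnectedSpace ↥X] {d : ℕ} (hd : 1 ≤ d)
    (hC : FlatMod.IsFinLocFreeOfRank d (Omega.conormal f)) (φ : Y₁ ⟶ Y) (hφ : BlowUp.IsBlowUp φ f.ker)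
    (U : Y.Opens) : IsIso (φ.app U) := by
  haveI := hf.1
  obtain ⟨hY₁, hprop, -⟩ := BlowReg.geom f φ hYe hφ
  haveI := hY₁; haveI := hprop
  haveI : IsIntegral Y := (S2280.result Y).2.2 ⟨inferInstance, fun y => by
    haveI := hYreg y
    exact RegLoc6.isDomain_of_isRegularLocalRing _⟩
  haveI : AlgebraicGeometry.IsNoetherian X := PushComp.isNoetherian_of_closed f
  have hsq : IsPullback (pullback.fst φ f) (pullback.snd φ f) φ f := IsPullback.of_hasPullback φ f
  haveI : IsClosedImmersion (pullback.fst φ f) := inferInstance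
  obtain ⟨q, -, hPB⟩ := ExcBundle.exists_isProjBundle hf hd hC hφ hsq
  obtain ⟨r, rfl⟩ : ∃ r, d = r + 1 := Nat.exists_eq_add_of_le' hd
  haveI : ConnectedSpace ↥(pullback φ f) := PBSplit.connectedSpace hPB hC
  haveI : Nonempty Y₁ := ⟨pullback.fst φ f (Classical.arbitrary _)⟩
  rcases Lib.BlowUpInt.isEmpty_or_birational hφ with hE | ⟨hint, hgen, hst⟩
  · exact isEmptyElim (Classical.arbitrary Y₁)
  haveI := hint; haveI := hst
  have hdom : φ.base (genericPoint Y₁) ⤳ genericPoint Y := specializes_of_eq hgen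
  haveI : IsIso (Y.presheaf.stalkSpecializes hdom) :=
    ⟨Y.presheaf.stalkSpecializes (specializes_of_eq hgen.symm), by simp, by simp⟩
  have hsurj : Function.Surjective (CohIII.stalkToFunctionField φ (genericPoint Y) hdom) := fun x =>
    (ConcreteCategory.bijective_of_isIso (Y.presheaf.stalkSpecializes hdom ≫ φ.stalkMap (genericPoint Y₁))).2 x
  exact Lib.NormalPush.isIso_app (RefX.normal_of_regular hYreg) φ hdom (fun x _ => hsurj x) U

theorem result {X Y Y₁ : Scheme.{u}} [AlgebraicGeometry.IsNoetherian Y] [ConnectedSpace ↥Y]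
    (hYe : KRR.HasEnoughLocFree Y) (hYreg : ∀ y : Y, IsRegularLocalRing (Y.presheaf.stalk y)) (f : X ⟶ Y)
    (hf : Mor2.IsRegularClosedImmersion f) [ConnectedSpace ↥X] {d : ℕ} (hd : 1 ≤ d)
    (hC : FlatMod.IsFinLocFreeOfRank d (Omega.conormal f)) (φ : Y₁ ⟶ Y) (hφ : BlowUp.IsBlowUp φ f.ker) :
    IsIso ((Scheme.Modules.pullbackPushforwardAdjunction φ).unit.app (Coh.structureModule Y)) ∧
    ∀ i : ℕ, 1 ≤ i → IsZero ((Coh.RpushAb φ i).obj (Coh.toAb (Coh.structureModule Y₁))) :=
  ⟨isIso_unit_of_app φ (isIso_app hYe hYreg f hf hd hC φ hφ),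
    fun i hi => BlowVan.van hYe f hf hd hC φ hφ 0 i hi⟩

end Groth.Agent.H28.BlowPush

end
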