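import Groth.Agent.H28.LineTwist
import Groth.Agent.H28.PullVB
import Groth.Agent.H28.GenPush
import Groth.Agent.Lambda.Pos

/-!
# Comparison of two models of the same scheme
-/

set_option autoImplicit false
set_option linter.style.haveILetI false
set_option linter.unusedSectionVars false
set_option backward.isDefEq.respectTransparency false
set_option backward.isDefEq.respectTransparency.types false

universe v w v₁ w₁ u

open CategoryTheory CategoryTheory.Limits AlgebraicGeometry TopologicalSpace Opposite
attribute [local instance] HasDerivedCategory.standard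

noncomputable section

namespace Groth.Agent.H28.ModelIso

open Groth.Agent PowerSeries

/-- Adams operations commute with homomorphisms of λ-rings in any universes. -/
theorem map_adams {K : Type v} [CommRing K] [LambdaRing.LambdaOps K] {P : LambdaRing.PosStructure K}
    {K' : Type w} [CommRing K'] [LambdaRing.LambdaOps K'] {P' : LambdaRing.PosStructure K'}
    {f : K →+* K'} (hf : ∀ n x, f (LambdaRing.LambdaOps.lam n x) = LambdaRing.LambdaOps.lam n (f x))
    (haug : ∀ x, P'.aug (f x) = P.aug x) (j : ℕ) (x : K) :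
    f (LambdaRing.adams P j x) = LambdaRing.adams P' j (f x) := by
  have hA : PowerSeries.map f (Lambda.negLamSeries x) = Lambda.negLamSeries (f x) := by
    ext n
    simp [Lambda.negLamSeries, coeff_rescale, Lambda.coeff_lamSeries, hf n x]
  have hder : ∀ φ : PowerSeries K, PowerSeries.map f (PowerSeries.derivative K φ) =
      PowerSeries.derivative K' (PowerSeries.map f φ) := fun φ => by
    ext n
    simp [PowerSeries.coeff_derivative]
  have hD : Lambda.dlogNeg (f x) = PowerSeries.map f (Lambda.dlogNeg x) := by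
    refine Lambda.dlogNeg_eq_of_mul_eq ?_
    rw [← hA, ← map_mul, Lambda.dlogNeg_mul_self, hder]
  rw [LambdaRing.adams, LambdaRing.adams, Lambda.adamsSeries_eq, Lambda.adamsSeries_eq, hD, haug,
    ← PowerSeries.coeff_map, map_sub, map_mul, PowerSeries.map_C, map_intCast, PowerSeries.map_X]

variable {X : Scheme.{u}} [ConnectedSpace ↥X] {K : Type v} [CommRing K] [LambdaRing.LambdaOps K]
  {P : LambdaRing.PosStructure K} {φ : SGA6.Kvb X →+ K} (h : KRR.IsModel X K P φ)
  {K' : Type w} [CommRing K'] [LambdaRing.LambdaOps K'] {P' : LambdaRing.PosStructure K'}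
  {φ' : SGA6.Kvb X →+ K'} (h' : KRR.IsModel X K' P' φ')

include h h' in
/-- Two models are isomorphic as augmented λ-rings. -/
theorem exists_iso : ∃ e : K ≃+* K', (∀ z, e (φ z) = φ' z) ∧
    (∀ n x, e (LambdaRing.LambdaOps.lam n x) = LambdaRing.LambdaOps.lam n (e x)) ∧
    ∀ x, P'.aug (e x) = P.aug x := by
  obtain ⟨g, hg, -⟩ := PullVB.existsUnique_isPull (𝟙 X) φ' φ h.bijective
  have hval : g.comp φ = φ' := KZ.K0sub_hom_ext _ fun F hF =>
    (hg F hF).trans (congrArg φ' (GenPush.cl_iso ((Scheme.Modules.pullbackId X).app F) (KvbPull.lf_pull _ hF) hF))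
  have hb : Function.Bijective (KvbPull.ringHom h' h hg) := by
    refine (Function.Bijective.of_comp_iff (f := g) h.bijective).1 ?_
    show Function.Bijective (g.comp φ)
    rw [hval]
    exact h'.bijective
  exact ⟨RingEquiv.ofBijective _ hb, fun z => DFunLike.congr_fun hval z, KvbPull.map_lam h' h hg,
    LineTwist.aug_pull h' h hg⟩

/-- Push-forwards transported along maps of models. -/
theorem isPushCl_conj {X Y : Scheme.{u}} {f : X ⟶ Y}
    {KX : Type v} [CommRing KX] {φX : SGA6.Kvb X →+ KX} {KX' : Type v₁} [CommRing KX'] {φX' : SGA6.Kvb X →+ KX'}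
    {KY : Type w} [CommRing KY] {φY : SGA6.Kvb Y →+ KY} {KY' : Type w₁} [CommRing KY'] {φY' : SGA6.Kvb Y →+ KY'}
    (eX : KX ≃+* KX') (heX : ∀ z, eX (φX z) = φX' z) (eY : KY ≃+* KY') (heY : ∀ z, eY (φY z) = φY' z)
    {g : KX →+ KY} (hg : KRR.IsPushCl f φX φY g) :
    KRR.IsPushCl f φX' φY' ((eY.toAddEquiv.toAddMonoidHom.comp g).comp eX.symm.toAddEquiv.toAddMonoidHom) := by
  intro F hF n L η hL
  show eY (g (eX.symm (φX' (KRR.cl X F)))) = _
  rw [← heX, RingEquiv.symm_apply_apply, hg F hF n L η hL, map_sum]
  exact Finset.sum_congr rfl fun k _ => by rw [map_zsmul, heY]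

end Groth.Agent.H28.ModelIso
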