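import Groth.Agent.H28.ExcessCl
import Groth.Agent.H28.ModelIso

/-!
# The excess intersection formula in any models
-/

set_option autoImplicit false
set_option linter.style.haveILetI false
set_option linter.unusedSectionVars false
set_option backward.isDefEq.respectTransparency false
set_option backward.isDefEq.respectTransparency.types false
set_option maxHeartbeats 1000000

universe v w v₁ w₁ u

open CategoryTheory CategoryTheory.Limits AlgebraicGeometry TopologicalSpace Opposite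
attribute [local instance] HasDerivedCategory.standard

noncomputable section

namespace Groth.Agent.H28.ExcessModel

open Groth.Agent

/-- Inverse images transported along maps of models. -/
theorem isPull_conj {X Y : Scheme.{u}} {f : X ⟶ Y}
    {KX : Type v} [CommRing KX] {φX : SGA6.Kvb X →+ KX} {KX' : Type v₁} [CommRing KX'] {φX' : SGA6.Kvb X →+ KX'}
    {KY : Type w} [CommRing KY] {φY : SGA6.Kvb Y →+ KY} {KY' : Type w₁} [CommRing KY'] {φY' : SGA6.Kvb Y →+ KY'}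
    (eX : KX ≃+* KX') (heX : ∀ z, eX (φX z) = φX' z) (eY : KY ≃+* KY') (heY : ∀ z, eY (φY z) = φY' z)
    {g : KY →+ KX} (hg : KRR.IsPull f φY φX g) :
    KRR.IsPull f φY' φX' ((eX.toAddEquiv.toAddMonoidHom.comp g).comp eY.symm.toAddEquiv.toAddMonoidHom) := by
  intro F hF
  show eX (g (eY.symm (φY' (KRR.cl Y F)))) = _
  rw [← heY, RingEquiv.symm_apply_apply, hg F hF, heX]

variable {X Y X₁ Y₁ : Scheme.{u}} [AlgebraicGeometry.IsNoetherian Y] [ConnectedSpace ↥Y]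
    (hYe : KRR.HasEnoughLocFree Y) [AlgebraicGeometry.IsNoetherian Y₁] [ConnectedSpace ↥Y₁]
    (hY₁e : KRR.HasEnoughLocFree Y₁) (f : X ⟶ Y) (hf : Mor2.IsRegularClosedImmersion f) [ConnectedSpace ↥X] {d : ℕ}
    (hC : FlatMod.IsFinLocFreeOfRank d (Omega.conormal f))
    (φ : Y₁ ⟶ Y) (f₁ : X₁ ⟶ Y₁) (g : X₁ ⟶ X) (hsq : IsPullback f₁ g φ f)
    (hf₁ : Mor2.IsRegularClosedImmersion f₁) [ConnectedSpace ↥X₁] {d₁ : ℕ}
    (hC₁ : FlatMod.IsFinLocFreeOfRank d₁ (Omega.conormal f₁))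
    {KX : Type v} [CommRing KX] [LambdaRing.LambdaOps KX] {PX : LambdaRing.PosStructure KX}
    {φX : SGA6.Kvb X →+ KX} (hX : KRR.IsModel X KX PX φX)
    {KY : Type v} [CommRing KY] [LambdaRing.LambdaOps KY] {PY : LambdaRing.PosStructure KY}
    {φY : SGA6.Kvb Y →+ KY} (hY : KRR.IsModel Y KY PY φY)
    {KX₁ : Type v} [CommRing KX₁] [LambdaRing.LambdaOps KX₁] {PX₁ : LambdaRing.PosStructure KX₁}
    {φX₁ : SGA6.Kvb X₁ →+ KX₁} (hX₁ : KRR.IsModel X₁ KX₁ PX₁ φX₁)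
    {KY₁ : Type v} [CommRing KY₁] [LambdaRing.LambdaOps KY₁] {PY₁ : LambdaRing.PosStructure KY₁}
    {φY₁ : SGA6.Kvb Y₁ →+ KY₁} (hY₁ : KRR.IsModel Y₁ KY₁ PY₁ φY₁)
    (gφ : KY →+ KY₁) (hgφ : KRR.IsPull φ φY φY₁ gφ) (gψ : KX →+ KX₁) (hgψ : KRR.IsPull g φX φX₁ gψ)
    (gf : KX →+ KY) (hgf : KRR.IsPushCl f φX φY gf) (gf₁ : KX₁ →+ KY₁) (hgf₁ : KRR.IsPushCl f₁ φX₁ φY₁ gf₁)

include hYe hY₁e hf hC hsq hf₁ hC₁ hX hY hX₁ hY₁ hgφ hgψ hgf hgf₁ in
/-- The excess intersection formula. -/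
theorem main (x : KX) :
    gφ (gf x) = gf₁ (KRR.lamAlt PX₁ (gψ (φX (KRR.cl X (Omega.conormal f))) - φX₁ (KRR.cl X₁ (Omega.conormal f₁))) * gψ x) := by
  obtain ⟨KX', _, _, PX', φX', hX'⟩ := KvbModel.exists_isModel (X := X)
  obtain ⟨KY', _, _, PY', φY', hY'⟩ := KvbModel.exists_isModel (X := Y)
  obtain ⟨KX₁', _, _, PX₁', φX₁', hX₁'⟩ := KvbModel.exists_isModel (X := X₁)
  obtain ⟨KY₁', _, _, PY₁', φY₁', hY₁'⟩ := KvbModel.exists_isModel (X := Y₁)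
  obtain ⟨eX, heX, hlX, haX⟩ := ModelIso.exists_iso hX hX'
  obtain ⟨eY, heY, hlY, haY⟩ := ModelIso.exists_iso hY hY'
  obtain ⟨eX₁, heX₁, hlX₁, haX₁⟩ := ModelIso.exists_iso hX₁ hX₁'
  obtain ⟨eY₁, heY₁, hlY₁, haY₁⟩ := ModelIso.exists_iso hY₁ hY₁'
  have key := ExcessCl.main hYe hY₁e f hf hC φ f₁ g hsq hf₁ hC₁ hX' hY' hX₁' hY₁' _
    (isPull_conj eY₁ heY₁ eY heY hgφ) _ (isPull_conj eX₁ heX₁ eX heX hgψ) _
    (ModelIso.isPushCl_conj eX heX eY heY hgf) _ (ModelIso.isPushCl_conj eX₁ heX₁ eY₁ heY₁ hgf₁) (eX x)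
  change eY₁ (gφ (eY.symm (eY (gf (eX.symm (eX x)))))) =
    eY₁ (gf₁ (eX₁.symm (KRR.lamAlt PX₁' (eX₁ (gψ (eX.symm (φX' _))) - φX₁' _) * eX₁ (gψ (eX.symm (eX x)))))) at key
  rw [eY.symm_apply_apply, eX.symm_apply_apply, ← heX, eX.symm_apply_apply, ← heX₁, ← map_sub eX₁] at key
  have hl := LamAlt2.map_lamAlt (P := PX₁) (P' := PX₁') (f := eX₁.toRingHom) hlX₁ haX₁
    (gψ (φX (KRR.cl X (Omega.conormal f))) - φX₁ (KRR.cl X₁ (Omega.conormal f₁)))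
  rw [show KRR.lamAlt PX₁' (eX₁ _) = eX₁ (KRR.lamAlt PX₁ _) from hl.symm, ← map_mul eX₁,
    eX₁.symm_apply_apply] at key
  exact eY₁.injective key

end Groth.Agent.H28.ExcessModel

end
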