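import Groth.Prelude.Def_KRR

/-!
# The alternating sum of exterior powers of a difference with a line
-/

set_option autoImplicit false

universe v

namespace Groth.Agent.H28.LamLine

open Finset LambdaRing

variable {K : Type v} [CommRing K] [LambdaOps K] {c ℓ : K}

theorem lam_succ_sub (hℓ : ∀ i, 2 ≤ i → LambdaOps.lam i ℓ = 0) (k : ℕ) :
    LambdaOps.lam (k + 1) c = LambdaOps.lam (k + 1) (c - ℓ) + LambdaOps.lam k (c - ℓ) * ℓ := by
  conv_lhs => rw [show c = (c - ℓ) + ℓ by ring]
  rw [LambdaOps.lam_add, Finset.sum_range_succ, Finset.sum_range_succ, Finset.sum_eq_zero, zero_add,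
    Nat.sub_self, LambdaOps.lam_zero, mul_one, show k + 1 - k = 1 by omega, LambdaOps.lam_one, add_comm]
  intro i hi
  rw [hℓ _ (by rw [Finset.mem_range] at hi; omega), mul_zero]

theorem lam_sub_line (hℓ : ∀ i, 2 ≤ i → LambdaOps.lam i ℓ = 0) :
    ∀ k : ℕ, LambdaOps.lam k (c - ℓ) = ∑ a ∈ range (k + 1), (-ℓ) ^ (k - a) * LambdaOps.lam a c
  | 0 => by simp [LambdaOps.lam_zero]
  | k + 1 => by
    have h := lam_succ_sub (c := c) hℓ k
    rw [lam_sub_line hℓ k] at h
    rw [Finset.sum_range_succ, Nat.sub_self, pow_zero, one_mul, h]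
    have e : ∑ a ∈ range (k + 1), (-ℓ) ^ (k + 1 - a) * LambdaOps.lam a c =
        -((∑ a ∈ range (k + 1), (-ℓ) ^ (k - a) * LambdaOps.lam a c) * ℓ) := by
      rw [Finset.sum_mul, ← Finset.sum_neg_distrib]
      refine Finset.sum_congr rfl fun a ha => ?_
      rw [show k + 1 - a = (k - a) + 1 by rw [Finset.mem_range] at ha; omega, pow_succ]
      ring
    rw [e]
    ring

/-- The alternating sum as a polynomial in the line with top coefficient one. -/
theorem alt_sum_sub_line (hℓ : ∀ i, 2 ≤ i → LambdaOps.lam i ℓ = 0) (r : ℕ) :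
    ∑ i ∈ range (r + 1), (-1 : K) ^ i * LambdaOps.lam i (c - ℓ) =
      ∑ k ∈ range (r + 1), (∑ a ∈ range (r + 1 - k), (-1 : K) ^ a * LambdaOps.lam a c) * ℓ ^ k := by
  have h1 : ∑ i ∈ range (r + 1), (-1 : K) ^ i * LambdaOps.lam i (c - ℓ) =
      ∑ i ∈ range (r + 1), ∑ a ∈ range (i + 1), (-1 : K) ^ a * LambdaOps.lam a c * ℓ ^ (i - a) := by
    refine Finset.sum_congr rfl fun i _ => ?_
    rw [lam_sub_line hℓ, Finset.mul_sum]
    refine Finset.sum_congr rfl fun a ha => ?_
    obtain ⟨b, rfl⟩ := Nat.exists_eq_add_of_le (Nat.le_of_lt_succ (Finset.mem_range.1 ha))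
    rw [Nat.add_sub_cancel_left, neg_pow, pow_add]
    have : ((-1 : K) ^ b) * (-1) ^ b = 1 := by rw [← pow_add, ← two_mul, pow_mul]; simp
    linear_combination ((-1 : K) ^ a * LambdaOps.lam a c * ℓ ^ b) * this
  rw [h1, Finset.sum_range_diag_flip (r + 1) (fun a b => (-1 : K) ^ a * LambdaOps.lam a c * ℓ ^ b)]
  rw [Finset.sum_comm' (t' := range (r + 1)) (s' := fun k => range (r + 1 - k))]
  · exact Finset.sum_congr rfl fun k _ => (Finset.sum_mul _ _ _).symm
  · intro a k
    simp only [Finset.mem_range]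
    omega

end Groth.Agent.H28.LamLine

namespace Groth.Agent.H28.LamLine

open Finset LambdaRing

variable {K : Type v} [CommRing K] [LambdaOps K]

/-- Alternating partial sums of a sum with a line. -/
theorem alt_add_line {v : K} (hv : ∀ i, 2 ≤ i → LambdaOps.lam i v = 0) (x : K) (r : ℕ) :
    ∑ i ∈ range (r + 2), (-1 : K) ^ i * LambdaOps.lam i (x + v) =
      (∑ i ∈ range (r + 2), (-1 : K) ^ i * LambdaOps.lam i x) -
        v * ∑ i ∈ range (r + 1), (-1 : K) ^ i * LambdaOps.lam i x := by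
  have h : ∀ k, LambdaOps.lam (k + 1) (x + v) = LambdaOps.lam (k + 1) x + LambdaOps.lam k x * v := fun k => by
    simpa using lam_succ_sub (c := x + v) hv k
  rw [Finset.sum_range_succ' _ (r + 1), Finset.sum_range_succ' (fun i => (-1 : K) ^ i * LambdaOps.lam i x) (r + 1),
    Finset.mul_sum]
  simp only [h, pow_zero, LambdaOps.lam_zero, mul_one]
  rw [add_sub_right_comm, ← Finset.sum_sub_distrib]
  congr 1
  refine Finset.sum_congr rfl fun i _ => ?_
  rw [pow_succ]
  ring

/-- An element killed by `λ^{r+1}` plus one has vanishing alternating sum. -/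
theorem alt_add_one_eq_zero (h1 : ∀ i, 2 ≤ i → LambdaOps.lam i (1 : K) = 0) (x : K) (r : ℕ)
    (hx : LambdaOps.lam (r + 1) x = 0) : ∑ i ∈ range (r + 2), (-1 : K) ^ i * LambdaOps.lam i (x + 1) = 0 := by
  rw [alt_add_line h1, Finset.sum_range_succ, hx, mul_zero, add_zero, one_mul, sub_self]

end Groth.Agent.H28.LamLine
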