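import Groth.Agent.H28.PBPush
import Groth.Agent.H28.RegTwist
import Groth.Agent.QCoh.RpushProper
import Groth.Agent.S0002
import Groth.Agent.SheafHomX.Coherent
import Groth.Agent.Lib.CurveTensor
import Groth.Agent.ZClosLib.CohDescent
import Groth.Agent.QCoh.DevissageP

/-!
# Direct image on the coherent modules over a projective bundle
-/

set_option autoImplicit false
set_option linter.style.haveILetI false
set_option linter.unusedSectionVars false
set_option backward.isDefEq.respectTransparency false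
set_option backward.isDefEq.respectTransparency.types false

universe u

open CategoryTheory CategoryTheory.Limits AlgebraicGeometry TopologicalSpace Opposite

noncomputable section

namespace Groth.Agent.H28.PBCohPush

open Groth.Agent Groth.Agent.H28.KRRTw Groth.Agent.H28.KRRReg Groth.Agent.H28.PBAtlas Groth.Agent.H28.PBPush

/-- The class of a coherent module. -/
abbrev clc (X : Scheme.{u}) (F : X.Modules) : SGA6.Kcoh X := KZero.clSub (fun M : X.Modules => Coh.IsCoh M) F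

theorem isCoh_zero {X : Scheme.{u}} [IsLocallyNoetherian X] {Z : X.Modules} (h : IsZero Z) : Coh.IsCoh Z :=
  SheafHomX.isCoh_of_iso (IsZero.iso ((isZero_kernel_of_mono (𝟙 (Coh.structureModule X)))) h)
    (QCoh.isCoh_kernel QCoh.isCoh_structureModule' QCoh.isCoh_structureModule' (𝟙 _))

theorem clc_iso {X : Scheme.{u}} [IsLocallyNoetherian X] {A B : X.Modules} (e : A ≅ B) (hA : Coh.IsCoh A)
    (hB : Coh.IsCoh B) : clc X A = clc X B :=
  KZ.clSub_iso _ e hA hB (isZero_zero _) (isCoh_zero (isZero_zero _))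

/-- Coherent and regular. -/
abbrev CR (n : ℕ) (T : Scheme.{u}) (M : (KRR.PY n T).Modules) : Prop := Coh.IsCoh M ∧ KRR.IsRegSheaf n T M


variable {X P : Scheme.{u}} {π : P ⟶ X} {n : ℕ} [AlgebraicGeometry.IsNoetherian X] [AlgebraicGeometry.IsNoetherian P]
  (D : Data π n)

instance noeth_B {G : X.Modules} {O1 : P.Modules} (c : Chart π O1 G n) : AlgebraicGeometry.IsNoetherian c.B := by
  haveI : CompactSpace c.B := isCompact_iff_compactSpace.1 c.U.2.isCompact
  exact { }

include D in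
theorem isProper : IsProper π := by
  refine IsZariskiLocalAtTarget.of_iSup_eq_top (P := @IsProper) (fun y : D.s => (D.a y.1).U.1) ?_ fun y => ?_
  · exact top_le_iff.1 fun x _ => Opens.mem_iSup.2 (let ⟨y, hy, hx⟩ := D.cover x; ⟨⟨y, hy⟩, hx⟩)
  · have h : (D.a y.1).θ ≫ (π ∣_ (D.a y.1).U.1) = KRR.pr n (D.a y.1).B := (D.a y.1).hθ
    haveI : IsProper (KRR.pr n (D.a y.1).B) :=
      MorphismProperty.pullback_snd _ _ (PnCoh.Chow.isProper_toSpec n (ULift.{u} ℤ))
    rw [show π ∣_ (D.a y.1).U.1 = inv (D.a y.1).θ ≫ KRR.pr n (D.a y.1).B by rw [← h, IsIso.inv_hom_id_assoc]]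
    infer_instance

/-- The coresolution of any module. -/
theorem exists_coresC (F : P.Modules) :
    ∃ (f : F ⟶ D.Mf.obj F) (g : D.Mf.obj F ⟶ D.Cf.obj F) (w : f ≫ g = 0), (ShortComplex.mk f g w).ShortExact := by
  obtain ⟨e₁⟩ := H23.PicMul.unit F
  obtain ⟨e₂⟩ := H23.PicMul.comm F D.V
  obtain ⟨e₃⟩ := H23.PicMul.comm F D.Q
  let S := (ShortComplex.mk D.f D.g D.w).map (DCoh.tensorBi.obj F)
  have hS : S.ShortExact :=
    KFlatLib.shortExact_tensor_of_isFlat F D.ses (KFlatLib.isFlat_of_isFinLocFree D.lfQ)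
  let eA : S.X₁ ≅ F := e₁
  let eB : S.X₂ ≅ D.Mf.obj F := e₂
  let eC : S.X₃ ≅ D.Cf.obj F := e₃
  exact ⟨eA.inv ≫ S.f ≫ eB.hom, eB.inv ≫ S.g ≫ eC.hom, by simp,
    ShortComplex.shortExact_of_iso (ShortComplex.isoMk eA eB eC (by simp) (by simp)) hS⟩

theorem vanC (y : X) {d : ℤ} {i : ℕ} {F : P.Modules} (h : Van (D.a y) (d + 1) i F)
    (h' : Van (D.a y) d (i + 1) F) : Van (D.a y) d i (D.Cf.obj F) := by
  obtain ⟨f, g, w, hS⟩ := exists_coresC D F
  exact van_quot (D.a y) (S := ShortComplex.mk f g w) hS (D.van_Mf y h) h'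

/-- Deficiency: the twists acyclic from degree `j` on. -/
def Def (j : ℕ) (F : P.Modules) : Prop :=
  Coh.IsCoh F ∧ ∀ y ∈ D.s, ∀ b i : ℕ, 1 ≤ i → j + 1 ≤ i + b → Van (D.a y) (b : ℤ) i F

/-- Regularity after `j` twists. -/
def Reg (j : ℕ) (F : P.Modules) : Prop :=
  Coh.IsCoh F ∧ ∀ y ∈ D.s, ∀ i : ℕ, 1 ≤ i → Van (D.a y) ((j : ℤ) - i) i F

theorem def_iso {j : ℕ} {A B : P.Modules} (e : A ≅ B) (h : Def D j A) : Def D j B :=
  ⟨SheafHomX.isCoh_of_iso e h.1, fun y hy b i hi hb => van_of_iso _ e (h.2 y hy b i hi hb)⟩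

theorem def_of_le {j k : ℕ} (hjk : j ≤ k) {F : P.Modules} (h : Def D j F) : Def D k F :=
  ⟨h.1, fun y hy b i hi hb => h.2 y hy b i hi (by omega)⟩

theorem def_Mf {j : ℕ} {F : P.Modules} (h : Def D (j + 1) F) : Def D j (D.Mf.obj F) :=
  ⟨CurveTensor.isCoh_tensor D.lfV h.1, fun y hy b i hi hb => D.van_Mf y (by
    have := h.2 y hy (b + 1) i hi (by omega)
    rwa [Nat.cast_succ] at this)⟩

theorem def_Cf {j : ℕ} {F : P.Modules} (h : Def D (j + 1) F) : Def D j (D.Cf.obj F) :=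
  ⟨CurveTensor.isCoh_tensor D.lfQ h.1, fun y hy b i hi hb => vanC D y (by
    have := h.2 y hy (b + 1) i hi (by omega)
    rwa [Nat.cast_succ] at this) (h.2 y hy b (i + 1) (by omega) (by omega))⟩

theorem reg_Mf {j : ℕ} {F : P.Modules} (h : Reg D (j + 1) F) : Reg D j (D.Mf.obj F) :=
  ⟨CurveTensor.isCoh_tensor D.lfV h.1, fun y hy i hi => D.van_Mf y (by
    have := h.2 y hy i hi
    rwa [show ((j + 1 : ℕ) : ℤ) - i = (j : ℤ) - i + 1 by omega] at this)⟩

theorem reg_Cf {j : ℕ} {F : P.Modules} (h : Reg D (j + 1) F) : Reg D j (D.Cf.obj F) :=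
  ⟨CurveTensor.isCoh_tensor D.lfQ h.1, fun y hy i hi => vanC D y (by
    have := h.2 y hy i hi
    rwa [show ((j + 1 : ℕ) : ℤ) - i = (j : ℤ) - i + 1 by omega] at this) (by
    have := h.2 y hy (i + 1) (by omega)
    rwa [show ((j + 1 : ℕ) : ℤ) - ((i + 1 : ℕ) : ℤ) = (j : ℤ) - i by omega] at this)⟩

theorem isReg_of_reg {j : ℕ} {F : P.Modules} (h : Reg D j F) {y : X} (hy : y ∈ D.s) :
    KRR.IsRegSheaf n (D.a y).B (KRR.twF n (D.a y).B (j : ℤ) ((Scheme.Modules.pullback (D.a y).j).obj F)) :=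
  fun i hi => isZero_R_of_iso ⟨(twF_twF (-(i : ℤ)) (j : ℤ) ((j : ℤ) - i) (by ring) _).some.symm⟩ i (h.2 y hy i hi)

theorem def_of_reg {j : ℕ} {F : P.Modules} (h : Reg D j F) : Def D j F :=
  ⟨h.1, fun y hy b i hi hb => by
    obtain ⟨e, he⟩ := Nat.exists_eq_add_of_le (show j ≤ b + i by omega)
    exact RKoszul.rz_of_iso _ (twF_twF ((e : ℤ) - i) (j : ℤ) (b : ℤ) (by omega) _).some i
      (rz_add _ (isReg_of_reg D h hy) e i hi)⟩

theorem exists_reg {F : P.Modules} (hF : Coh.IsCoh F) : ∃ j, Reg D j F := by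
  classical
  choose m hm using fun y : X => RegTwist.exists_isReg (n := n) (Y := (D.a y).B) (ZClosLib.isCoh_pullback (D.a y).j hF)
  refine ⟨D.s.sup m, hF, fun y hy i hi => ?_⟩
  exact RKoszul.rz_of_iso _ (twF_twF (-(i : ℤ)) ((D.s.sup m : ℕ) : ℤ) (((D.s.sup m : ℕ) : ℤ) - i) (by ring) _).some i
    ((hm y _ (Finset.le_sup hy)) i hi)

theorem exists_def {F : P.Modules} (hF : Coh.IsCoh F) : ∃ j, Def D j F :=
  (exists_reg D hF).imp fun _ h => def_of_reg D h

theorem rp_of_reg {F : P.Modules} (h : Reg D 0 F) {y : X} (hy : y ∈ D.s) :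
    CR n (D.a y).B ((Scheme.Modules.pullback (D.a y).j).obj F) :=
  ⟨ZClosLib.isCoh_pullback _ h.1, KRegK0.isReg_of_iso (twF_zero _).some (isReg_of_reg D h hy)⟩

/-- Direct image is exact on sequences with acyclic kernel. -/
theorem shortExact_push {S : ShortComplex P.Modules} (hS : S.ShortExact) (h₁ : Def D 0 S.X₁) :
    (S.map (Scheme.Modules.pushforward π)).ShortExact := by
  haveI := (Scheme.Modules.pullbackPushforwardAdjunction π).isRightAdjoint
  haveI : PreservesFiniteLimits (Scheme.Modules.pushforward π) := inferInstance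
  haveI := hS.mono_f
  refine ShortComplex.ShortExact.mk'
    (ShortComplex.exact_of_f_is_kernel _ (KernelFork.mapIsLimit _ hS.fIsKernel (Scheme.Modules.pushforward π)))
    (inferInstanceAs (Mono ((Scheme.Modules.pushforward π).map S.f))) (epi_of_restrict _ fun x => ?_)
  obtain ⟨y, hy, hx⟩ := D.cover x
  let c := D.a y
  refine ⟨c.U.1, hx, ?_⟩
  haveI : Epi ((Scheme.Modules.pushforward (KRR.pr n c.B)).map ((Scheme.Modules.pullback c.j).map S.g)) :=
    RKoszul.epi_push_map (S := S.map (Scheme.Modules.pullback c.j)) _ (shortExact_pull c.j hS)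
      (RKoszul.rz_of_iso _ (twF_zero _).some 1 (h₁.2 y hy 0 1 le_rfl le_rfl))
  have hn := c.push.hom.naturality S.g
  have h : (Scheme.Modules.pushforward π ⋙ Scheme.Modules.pullback c.U.1.ι).map S.g =
      c.push.hom.app S.X₂ ≫ (Scheme.Modules.pullback c.j ⋙ Scheme.Modules.pushforward (KRR.pr n c.B)).map S.g ≫
        c.push.inv.app S.X₃ := by
    rw [← Category.assoc, ← hn, Category.assoc, Iso.hom_inv_id_app, Category.comp_id]
  show Epi ((Scheme.Modules.pushforward π ⋙ Scheme.Modules.pullback c.U.1.ι).map S.g)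
  rw [h, Functor.comp_map]
  infer_instance

theorem lf_push_def {F : P.Modules} (h : Def D 0 F) : Coh.IsCoh ((Scheme.Modules.pushforward π).obj F) := by
  haveI := isProper D
  haveI := SpObjSS.enoughInjectives_of_hasInjectiveResolutions (C := P.Modules)
  haveI := QCoh.preservesFiniteLimits_push π
  exact SheafHomX.isCoh_of_iso ((Scheme.Modules.pushforward π).rightDerivedZeroIsoSelf.app F)
    (QCoh.isCoh_Rpush_of_finiteness π h.1 0 fun A _ _ Z _ _ N hN k => Groth.Agent.S0002.result A Z N hN k)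

/-- The class of the direct image, computed from the deficiency on. -/
def α : ℕ → P.Modules → SGA6.Kcoh X
  | 0, F => clc X ((Scheme.Modules.pushforward π).obj F)
  | j + 1, F => α j (D.Mf.obj F) - α j (D.Cf.obj F)

theorem α_iso : ∀ (j : ℕ) {A B : P.Modules}, (A ≅ B) → Def D j A → α D j A = α D j B
  | 0, A, B, e, h => clc_iso ((Scheme.Modules.pushforward π).mapIso e) (lf_push_def D h)
      (lf_push_def D (def_iso D e h))
  | j + 1, A, B, e, h => by
    show _ - _ = _ - _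
    rw [α_iso j (D.Mf.mapIso e) (def_Mf D h), α_iso j (D.Cf.mapIso e) (def_Cf D h)]

theorem α_ses : ∀ (j : ℕ) (S : ShortComplex P.Modules), S.ShortExact →
    Def D j S.X₁ → Def D j S.X₂ → Def D j S.X₃ → α D j S.X₂ = α D j S.X₁ + α D j S.X₃
  | 0, S, hS, h₁, h₂, h₃ => KZ.clSub_ses _ (shortExact_push D hS h₁)
      (lf_push_def D h₁) (lf_push_def D h₂) (lf_push_def D h₃)
  | j + 1, S, hS, h₁, h₂, h₃ => by
    have hM := α_ses j (S.map D.Mf) (shortExact_tens D.lfV hS) (def_Mf D h₁) (def_Mf D h₂) (def_Mf D h₃)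
    have hC := α_ses j (S.map D.Cf) (shortExact_tens D.lfQ hS) (def_Cf D h₁) (def_Cf D h₂) (def_Cf D h₃)
    show α D j (S.map D.Mf).X₂ - α D j (S.map D.Cf).X₂ = _
    rw [hM, hC]
    show _ = (α D j (S.map D.Mf).X₁ - α D j (S.map D.Cf).X₁) + (α D j (S.map D.Mf).X₃ - α D j (S.map D.Cf).X₃)
    abel

theorem α_succ : ∀ (j : ℕ) {F : P.Modules}, Def D j F → α D (j + 1) F = α D j F
  | 0, F, h => by
    obtain ⟨f, g, w, hS⟩ := exists_coresC D _
    have h' := def_of_le D (Nat.zero_le 1) h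
    refine (sub_eq_iff_eq_add'.2 ?_)
    exact (α_ses D 0 (ShortComplex.mk f g w) hS h (def_Mf D h') (def_Cf D h')).trans (add_comm _ _)
  | j + 1, F, h => by
    show _ - _ = _ - _
    rw [α_succ j (def_Mf D h), α_succ j (def_Cf D h)]

theorem α_of_le {j k : ℕ} (hjk : j ≤ k) {F : P.Modules} (h : Def D j F) : α D k F = α D j F := by
  induction hjk with
  | refl => rfl
  | step hle ih => rw [α_succ D _ (def_of_le D hle h), ih]

/-- The push-forward on `K₀`. -/
theorem exists_pushHom : ∃ p : SGA6.Kcoh P →+ SGA6.Kcoh X,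
    ∀ F : P.Modules, Def D 0 F → p (clc P F) = clc X ((Scheme.Modules.pushforward π).obj F) := by
  classical
  let val : P.Modules → SGA6.Kcoh X := fun F =>
    if h : ∃ j, Def D j F then α D h.choose F else 0
  have hval : ∀ {F : P.Modules} {j : ℕ}, Def D j F → val F = α D j F := fun {F j} hj => by
    have h : ∃ j, Def D j F := ⟨j, hj⟩
    show dite _ _ _ = _
    rw [dif_pos h]
    rcases le_total h.choose j with hle | hle
    · exact (α_of_le D hle h.choose_spec).symm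
    · exact α_of_le D hle hj
  obtain ⟨p, hp⟩ := KZ.exists_liftSub ((fun M : P.Modules => Coh.IsCoh M)) val fun S hS h₁ h₂ h₃ => by
    obtain ⟨j₁, k₁⟩ := exists_def D h₁
    obtain ⟨j₂, k₂⟩ := exists_def D h₂
    obtain ⟨j₃, k₃⟩ := exists_def D h₃
    have q₁ := def_of_le D (show j₁ ≤ j₁ + j₂ + j₃ by omega) k₁
    have q₂ := def_of_le D (show j₂ ≤ j₁ + j₂ + j₃ by omega) k₂
    have q₃ := def_of_le D (show j₃ ≤ j₁ + j₂ + j₃ by omega) k₃
    rw [hval q₁, hval q₂, hval q₃]
    exact α_ses D _ S hS q₁ q₂ q₃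
  exact ⟨p, fun F hF => (hp F hF.1).trans (hval hF)⟩

end Groth.Agent.H28.PBCohPush
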