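import Groth.Agent.H28.PBBasis
import Groth.Agent.QCoh.RpushExchange2

/-!
# Freeness of `K₀` of a projective bundle
-/

set_option autoImplicit false
set_option linter.style.haveILetI false
set_option linter.unusedSectionVars false
set_option backward.isDefEq.respectTransparency false
set_option backward.isDefEq.respectTransparency.types false

universe u

open CategoryTheory CategoryTheory.Limits AlgebraicGeometry TopologicalSpace Opposite

noncomputable section

namespace Groth.Agent.H28.PBFreeK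

open Groth.Agent Groth.Agent.H23.PicMul

variable {X P : Scheme.{u}} {π : P ⟶ X} {E : X.Modules} {O1 : P.Modules}
  {q : (Scheme.Modules.pullback π).obj E ⟶ O1}

theorem lf_inv (hP : KRR.IsProjBundle π E O1 q) {Oinv : P.Modules} (hinv : ClSub.IsInverseOf Oinv O1) :
    FlatMod.IsFinLocFree Oinv := by
  obtain ⟨D, hD, hD1⟩ := H23.PicInv.exists_inverse (PBCores.isInvertible_iff_rank.2 hP.invertible)
  have h1 : PicF.cl Oinv * PicF.cl O1 = 1 := cl_eq_iff.2 hinv
  have h2 : PicF.cl O1 * PicF.cl D = 1 := cl_eq_iff.2 hD1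
  obtain ⟨e⟩ := cl_eq_iff.1 (left_inv_eq_right_inv h1 h2)
  exact PBAtlas.lf_of_iso e.symm (KvbModel.lf_of_rank (PBCores.isInvertible_iff_rank.1 hD))

theorem isEmpty_of_rank_zero (hP : KRR.IsProjBundle π E O1 q) (hE : FlatMod.IsFinLocFreeOfRank 0 E) :
    IsEmpty P := by
  refine ⟨fun x => ?_⟩
  haveI := hP.epi
  have hz : IsZero O1 := IsZero.of_epi q (PBAtlas.isZero_of_frames fun y =>
    KvbModel.frameAt_of_rank (LineTwist.rank_pull π hE) y)
  have h0 : KvbModel.FrameAt O1 0 x := by
    refine ⟨⊤, Fin.elim0, trivial, fun W h => ⟨fun c c' _ => funext fun i => i.elim0, fun a => ⟨Fin.elim0, ?_⟩⟩⟩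
    exact @Subsingleton.elim _ (QCoh.subsingleton_Γ_of_isZero hz W) _ _
  exact absurd (KvbModel.frameAt_unique h0 (KvbModel.frameAt_of_rank hP.invertible x)) (by omega)

theorem subsingleton_Kvb [IsEmpty P] : Subsingleton (SGA6.Kvb P) := by
  refine ⟨fun a b => ?_⟩
  suffices h : ∀ x : SGA6.Kvb P, x = 0 by rw [h a, h b]
  intro x
  refine DFunLike.congr_fun (f := AddMonoidHom.id _) (g := 0) (KZ.K0sub_hom_ext _ fun N _ => ?_) x
  exact KZ.clSub_isZero _ (PBAtlas.isZero_of_frames fun y => isEmptyElim y)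

/-- `K₀` of a projective bundle is free on the negative twists. -/
theorem bijective [CompactSpace X] (r : ℕ) (hE : FlatMod.IsFinLocFreeOfRank r E) (hP : KRR.IsProjBundle π E O1 q)
    (Oinv : P.Modules) (hinv : ClSub.IsInverseOf Oinv O1) (G : Fin r → (SGA6.Kvb X →+ SGA6.Kvb P))
    (hG : ∀ (i : Fin r) (N : X.Modules), FlatMod.IsFinLocFree N →
      G i (KRR.cl X N) = KRR.cl P (CohB1.tensorMod (CohB1.tensorPow Oinv (i : ℕ)) ((Scheme.Modules.pullback π).obj N))) :
    Function.Bijective (fun a : Fin r → SGA6.Kvb X => ∑ i : Fin r, G i (a i)) := by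
  cases r with
  | zero =>
    haveI := isEmpty_of_rank_zero hP hE
    haveI := subsingleton_Kvb (P := P)
    exact ⟨fun a b _ => funext fun i => i.elim0, fun y => ⟨fun i => i.elim0, Subsingleton.elim _ _⟩⟩
  | succ n =>
    obtain ⟨D, h1, h2⟩ := PBBasis.exists_data hP hE Oinv hinv (lf_inv hP hinv)
    refine PBBasis.bijective_basis D G fun i N hN => ?_
    rw [hG i N hN, PBBasis.gN, h2]

end Groth.Agent.H28.PBFreeK
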