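import Groth.Agent.H28.PBFil
import Groth.Agent.H28.PnFlat
import Groth.Agent.H28.PBMake
import Groth.Agent.H28.PBCohPush
import Groth.Agent.H28.PullVB
import Groth.Agent.H23.GeomConnGamma
import Groth.Agent.S4495
import Groth.Agent.S3789

/-!
# The splitting principle
-/

set_option autoImplicit false
set_option linter.style.haveILetI false
set_option linter.unusedSectionVars false
set_option backward.isDefEq.respectTransparency false
set_option backward.isDefEq.respectTransparency.types false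

universe v u

open CategoryTheory CategoryTheory.Limits AlgebraicGeometry TopologicalSpace Opposite
attribute [local instance] HasDerivedCategory.standard

noncomputable section

namespace Groth.Agent.H28.PBSplit

open Groth.Agent Groth.Agent.H28.KvbLam

section Geometry

variable {X P : Scheme.{u}} {π : P ⟶ X} {E : X.Modules} {O1 : P.Modules}
  {q : (Scheme.Modules.pullback π).obj E ⟶ O1} (hP : KRR.IsProjBundle π E O1 q) {n : ℕ}
  (hE : FlatMod.IsFinLocFreeOfRank (n + 1) E)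

include hP hE in
theorem exists_data' [CompactSpace X] : Nonempty (PBPush.Data π n) := by
  obtain ⟨Oinv, hO, hOO⟩ := H23.PicInv.exists_inverse (PBCores.isInvertible_iff_rank.2 hP.invertible)
  obtain ⟨e⟩ := hOO
  obtain ⟨e'⟩ := H23.PicMul.comm Oinv O1
  obtain ⟨D, -, -⟩ := PBBasis.exists_data hP hE Oinv ⟨e' ≪≫ e⟩
    (KvbModel.lf_of_rank (PBCores.isInvertible_iff_rank.1 hO))
  exact ⟨D⟩

include hP hE in
theorem isNoetherian [IsNoetherian X] : IsNoetherian P := by
  obtain ⟨D⟩ := exists_data' hP hE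
  haveI : IsProper π := by
    refine IsZariskiLocalAtTarget.of_iSup_eq_top (P := @IsProper) (fun y : D.s => (D.a y.1).U.1) ?_ fun y => ?_
    · exact top_le_iff.1 fun x _ => Opens.mem_iSup.2 (let ⟨y, hy, hx⟩ := D.cover x; ⟨⟨y, hy⟩, hx⟩)
    · have h : (D.a y.1).θ ≫ (π ∣_ (D.a y.1).U.1) = KRR.pr n (D.a y.1).B := (D.a y.1).hθ
      haveI : IsProper (KRR.pr n (D.a y.1).B) := PnFlat.isProper_pr n (D.a y.1).B
      rw [show π ∣_ (D.a y.1).U.1 = inv (D.a y.1).θ ≫ KRR.pr n (D.a y.1).B by rw [← h, IsIso.inv_hom_id_assoc]]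
      infer_instance
  haveI : IsLocallyNoetherian P := LocallyOfFiniteType.isLocallyNoetherian π
  haveI : CompactSpace P := QuasiCompact.compactSpace_of_compactSpace π
  exact {}

include hP hE in
theorem bijective_appTop [CompactSpace X] : Function.Bijective π.appTop := by
  obtain ⟨D⟩ := exists_data' hP hE
  haveI := PBBasis.isIso_unit D (lf_O (X := X))
  let ψ : Coh.structureModule X ⟶ (Scheme.Modules.pushforward π).obj (Coh.structureModule P) :=
    (Scheme.Modules.pullbackPushforwardAdjunction π).unit.app _ ≫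
      (Scheme.Modules.pushforward π).map (KvbPull.unitIso π).hom
  haveI : IsIso ψ := IsIso.comp_isIso' (PBBasis.isIso_unit D (lf_O (X := X))) (Functor.map_isIso _ _)
  have hb : Function.Bijective (fun r : Γ(X, ⊤) => (show Γ(P, ⊤) from ψ.app ⊤ r)) := by
    have : IsIso (ψ.app ⊤) := inferInstance
    exact ConcreteCategory.bijective_of_isIso (ψ.app ⊤)
  let c : Γ(P, ⊤) := ψ.app ⊤ (show Γ(Coh.structureModule X, ⊤) from (1 : Γ(X, ⊤)))
  have hlin : (fun r : Γ(X, ⊤) => (show Γ(P, ⊤) from ψ.app ⊤ r)) = fun r => π.appTop r * c := by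
    funext r
    have h := Scheme.Modules.Hom.app_smul ψ r (show Γ(Coh.structureModule X, ⊤) from (1 : Γ(X, ⊤)))
    refine Eq.trans ?_ h
    exact congrArg (fun z => (show Γ(P, ⊤) from ψ.app ⊤ z)) (mul_one r).symm
  rw [hlin] at hb
  obtain ⟨r₀, hr₀⟩ := hb.2 1
  have hc : IsUnit c := IsUnit.of_mul_eq_one (π.appTop r₀) (by rw [mul_comm]; exact hr₀)
  refine ⟨fun a b hab => hb.1 (congrArg (· * c) hab), fun y => ?_⟩
  obtain ⟨r, hr⟩ := hb.2 (y * c)
  exact ⟨r, hc.mul_left_injective hr⟩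

include hP hE in
theorem connectedSpace [CompactSpace X] [ConnectedSpace X] : ConnectedSpace P := by
  have hb := bijective_appTop hP hE
  haveI : Nontrivial Γ(X, ⊤) := by
    obtain ⟨x⟩ := (inferInstance : Nonempty X)
    exact (X.presheaf.germ ⊤ x trivial).hom.domain_nontrivial
  haveI : Nontrivial Γ(P, ⊤) := hb.1.nontrivial
  refine H23.GeomConnGamma.connectedSpace_of_idem fun e he => ?_
  obtain ⟨r, rfl⟩ := hb.2 e
  have hr : IsIdempotentElem r := hb.1 (by rw [map_mul]; exact he.eq)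
  rcases (Groth.Agent.S4495.result X.toLocallyRingedSpace).1 (inferInstance : PreconnectedSpace X) r hr with rfl | rfl
  · exact Or.inl (map_zero _)
  · exact Or.inr (map_one _)

end Geometry

section Ext

variable {X P : Scheme.{u}} [IsNoetherian X] [ConnectedSpace ↥X] [IsNoetherian P] [ConnectedSpace ↥P]
  {KX : Type (u + 1)} [CommRing KX] [LambdaRing.LambdaOps KX] {PX : LambdaRing.PosStructure KX}
  {φX : SGA6.Kvb X →+ KX} (hKX : KRR.IsModel X KX PX φX)
  {KP : Type (u + 1)} [CommRing KP] [LambdaRing.LambdaOps KP] {PP : LambdaRing.PosStructure KP}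
  {φP : SGA6.Kvb P →+ KP} (hKP : KRR.IsModel P KP PP φP)
  {E : X.Modules} {r : ℕ} (hE : FlatMod.IsFinLocFreeOfRank (r + 1) E)
  {π : P ⟶ X} {O1 : P.Modules} {q : (Scheme.Modules.pullback π).obj E ⟶ O1} (hPB : KRR.IsProjBundle π E O1 q)
  {g : KX →+ KP} (hg : KRR.IsPull π φX φP g)

include hKX hKP hE hPB hg in
theorem exists_kernel : ∃ F : P.Modules, FlatMod.IsFinLocFreeOfRank r F ∧
    φP (cl F) + φP (cl O1) = g (φX (cl E)) := by
  haveI := hPB.epi
  have lE := KvbModel.lf_of_rank hE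
  have l1 := KvbModel.lf_of_rank hPB.invertible
  let S : ShortComplex P.Modules := ShortComplex.mk (kernel.ι q) q (kernel.condition q)
  have hS : S.ShortExact := KZ.kerSeq_shortExact q
  have lπ : FlatMod.IsFinLocFree S.X₂ := KvbPull.lf_pull π lE
  have lK : FlatMod.IsFinLocFree S.X₁ := KFlatLib.isFinLocFree_kernel q lπ l1
  refine ⟨S.X₁, KvbModel.rank_of_frameAt fun x => ?_, ?_⟩
  · obtain ⟨s, hs⟩ := KvbModel.exists_frameAt lK x
    have := KvbModel.frameAt_unique (KvbModel.frameAt_of_rank (LineTwist.rank_pull π hE) x)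
      (KvbModel.frameAt_ses hS hs (KvbModel.frameAt_of_rank hPB.invertible x))
    obtain rfl : s = r := by omega
    exact hs
  · rw [hg E lE, ← map_add]
    exact congrArg φP (KZ.clSub_ses (P := fun M : P.Modules => FlatMod.IsFinLocFree M) hS lK lπ l1).symm

include hKX hKP hE hPB hg in
theorem exists_ext : Nonempty (PBFil.Ext PX PP (KvbPull.ringHom hKP hKX hg) r) := by
  have l1 := PBCores.isInvertible_iff_rank.2 hPB.invertible
  obtain ⟨F, hF, hsum⟩ := exists_kernel hKX hKP hE hPB hg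
  refine ⟨⟨φP (cl O1), LineTwist.isLine_cl hKP l1, KvbPull.map_lam hKP hKX hg, LineTwist.aug_pull hKP hKX hg,
    fun m z i => ?_,
    Groth.Agent.S3789.result X P r E hE π O1 q hPB KX PX φX hKX KP PP φP hKP g hg,
    φX (cl E), by rw [hKX.aug_cl _ E hE]; push_cast; ring, fun n hn => ?_⟩⟩
  · rw [← LineTwist.cl_tensorPow hKP l1 m]
    exact LineTwist.lam_twist hKP (InvX.isInvertible_tensorPow l1 m) z i
  · rw [show (KvbPull.ringHom hKP hKX hg) (φX (cl E)) = φP (cl F) + φP (cl O1) from hsum.symm, add_sub_cancel_right]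
    refine PBFil.gamma_sub_eq_zero (P := PP) ?_ hn
    rcases Nat.eq_zero_or_pos r with rfl | hr
    · refine Or.inl ⟨?_, rfl⟩
      exact (congrArg φP (KZ.clSub_isZero _ (PBAtlas.isZero_of_frames fun x => KvbModel.frameAt_of_rank hF x))).trans (map_zero _)
    · exact Or.inr ⟨(hKP.mem_pos_iff _).2 ⟨r, F, hr, hF, rfl⟩, hKP.aug_cl r F hF⟩

end Ext

section Main

theorem isPull_id {X : Scheme.{u}} {K : Type v} [CommRing K] {K' : Type (u + 1)} [CommRing K']
    {φ : SGA6.Kvb X →+ K} {φ' : SGA6.Kvb X →+ K'} (h : Function.Bijective φ) :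
    ∃ g : K →+ K', KRR.IsPull (𝟙 X) φ φ' g ∧ Function.Surjective φ' → Function.Surjective g := by
  obtain ⟨g, hg, -⟩ := PullVB.existsUnique_isPull (𝟙 X) φ' φ h
  refine ⟨g, fun hs => ?_⟩
  have hgs : g.comp φ = φ' := KZ.K0sub_hom_ext _ fun E hE => by
    rw [AddMonoidHom.comp_apply, hg E hE]
    exact congrArg φ' (GenPush.cl_iso ((Scheme.Modules.pullbackId X).app E) (KvbPull.lf_pull _ hE) hE)
  intro y
  obtain ⟨x, rfl⟩ := hs.2 y
  exact ⟨φ x, DFunLike.congr_fun hgs x⟩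

theorem isPull_comp {X Y Z : Scheme.{u}} {KX : Type v} [CommRing KX] {KY : Type (u + 1)} [CommRing KY]
    {KZ : Type (u + 1)} [CommRing KZ] {f : Y ⟶ X} {f' : Z ⟶ Y} {φX : SGA6.Kvb X →+ KX} {φY : SGA6.Kvb Y →+ KY}
    {φZ : SGA6.Kvb Z →+ KZ} {g : KX →+ KY} {g' : KY →+ KZ} (hg : KRR.IsPull f φX φY g)
    (hg' : KRR.IsPull f' φY φZ g') : KRR.IsPull (f' ≫ f) φX φZ (g'.comp g) := fun E hE => by
  rw [AddMonoidHom.comp_apply, hg E hE, hg' _ (KvbPull.lf_pull f hE)]
  exact congrArg φZ (GenPush.cl_iso ((Scheme.Modules.pullbackComp f' f).app E)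
    (KvbPull.lf_pull f' (KvbPull.lf_pull f hE)) (KvbPull.lf_pull _ hE))

/-- Splitting for models in `Type (u+1)`. -/
theorem split : ∀ (m : ℕ) (X : Scheme.{u}) [IsNoetherian X] [ConnectedSpace ↥X] (K : Type (u + 1)) [CommRing K]
    [LambdaRing.LambdaOps K] (P : LambdaRing.PosStructure K) (φ : SGA6.Kvb X →+ K), KRR.IsModel X K P φ →
    ∀ E : X.Modules, FlatMod.IsFinLocFreeOfRank m E →
    ∃ (X' : Scheme.{u}) (_ : IsNoetherian X') (_ : ConnectedSpace ↥X') (f : X' ⟶ X)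
      (K' : Type (u + 1)) (_ : CommRing K') (_ : LambdaRing.LambdaOps K') (P' : LambdaRing.PosStructure K')
      (φ' : SGA6.Kvb X' →+ K') (_ : KRR.IsModel X' K' P' φ') (g : K →+ K') (_ : KRR.IsPull f φ φ' g),
      Function.Injective g ∧ (∀ (k : ℕ) (y : K), g y ∈ LambdaRing.gammaFiltration P' k → y ∈ LambdaRing.gammaFiltration P k) ∧
      ∃ L : Fin m → X'.Modules, (∀ j, FlatMod.IsFinLocFreeOfRank 1 (L j)) ∧ g (φ (KRR.cl X E)) = ∑ j, φ' (KRR.cl X' (L j)) := by
  intro m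
  induction m with
  | zero =>
    intro X _ _ K _ _ P φ hK E hE
    refine ⟨X, inferInstance, inferInstance, 𝟙 X, K, inferInstance, inferInstance, P, φ, hK, AddMonoidHom.id K,
      fun F hF => congrArg φ (GenPush.cl_iso ((Scheme.Modules.pullbackId X).app F) (KvbPull.lf_pull _ hF) hF).symm,
      fun a b h => h, fun k y h => h, fun j => j.elim0, fun j => j.elim0, ?_⟩
    rw [Fin.sum_univ_zero]
    exact (congrArg φ (KZ.clSub_isZero _ (PBAtlas.isZero_of_frames fun x => KvbModel.frameAt_of_rank hE x))).trans (map_zero _)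
  | succ m ih =>
    intro X _ _ K _ _ P φ hK E hE
    obtain ⟨B, π, O1, q, hPB⟩ := PBMake.exists_of_rank hE
    haveI := isNoetherian hPB hE
    haveI := connectedSpace hPB hE
    obtain ⟨K₁, _, _, P₁, φ₁, hK₁⟩ := KvbModel.exists_isModel (X := B)
    obtain ⟨g, hg, -⟩ := PullVB.existsUnique_isPull π φ₁ φ hK.bijective
    obtain ⟨D⟩ := exists_ext hK hK₁ hE hPB hg
    obtain ⟨F, hF, hsum⟩ := exists_kernel hK hK₁ hE hPB hg
    obtain ⟨X', hN, hC, f, K', _, _, P', φ', hK', g', hg', hinj, hfil, L, hL, hsplit⟩ := ih B K₁ P₁ φ₁ hK₁ F hF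
    refine ⟨X', hN, hC, f ≫ π, K', inferInstance, inferInstance, P', φ', hK', g'.comp g, isPull_comp hg hg',
      hinj.comp (PBFil.q_injective D), fun k y hy => PBFil.mem_of_map_mem D (hfil k _ hy),
      Fin.cons ((Scheme.Modules.pullback f).obj O1) L, ?_, ?_⟩
    · exact Fin.cases (LineTwist.rank_pull f hPB.invertible) hL
    · rw [AddMonoidHom.comp_apply, ← hsum, map_add, hsplit, hg' O1 (KvbModel.lf_of_rank hPB.invertible),
        Fin.sum_univ_succ]
      simp [add_comm]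

/-- Splitting for models in any universe. -/
theorem split' {X : Scheme.{u}} [IsNoetherian X] [ConnectedSpace ↥X] {K : Type v} [CommRing K]
    [LambdaRing.LambdaOps K] {P : LambdaRing.PosStructure K} {φ : SGA6.Kvb X →+ K} (hK : KRR.IsModel X K P φ)
    {m : ℕ} {E : X.Modules} (hE : FlatMod.IsFinLocFreeOfRank m E) :
    ∃ (X' : Scheme.{u}) (_ : IsNoetherian X') (_ : ConnectedSpace ↥X') (f : X' ⟶ X)
      (K' : Type (u + 1)) (_ : CommRing K') (_ : LambdaRing.LambdaOps K') (P' : LambdaRing.PosStructure K')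
      (φ' : SGA6.Kvb X' →+ K') (_ : KRR.IsModel X' K' P' φ') (g : K →+ K') (_ : KRR.IsPull f φ φ' g),
      Function.Injective g ∧ (∀ k : ℕ, (LambdaRing.gammaFiltration P' k).comap g = LambdaRing.gammaFiltration P k) ∧
      ∃ L : Fin m → X'.Modules, (∀ j, FlatMod.IsFinLocFreeOfRank 1 (L j)) ∧ g (φ (KRR.cl X E)) = ∑ j, φ' (KRR.cl X' (L j)) := by
  obtain ⟨K₀, _, _, P₀, φ₀, hK₀⟩ := KvbModel.exists_isModel (X := X)
  obtain ⟨g₀, hg₀, -⟩ := PullVB.existsUnique_isPull (𝟙 X) φ₀ φ hK.bijective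
  obtain ⟨g₁, hg₁, -⟩ := PullVB.existsUnique_isPull (𝟙 X) φ φ₀ hK₀.bijective
  have hid : ∀ {F : X.Modules}, FlatMod.IsFinLocFree F → g₀ (φ (cl F)) = φ₀ (cl F) ∧ g₁ (φ₀ (cl F)) = φ (cl F) :=
    fun {F} hF => by
      have h := GenPush.cl_iso ((Scheme.Modules.pullbackId X).app F) (KvbPull.lf_pull (𝟙 X) hF) hF
      exact ⟨(hg₀ F hF).trans (congrArg φ₀ h), (hg₁ F hF).trans (congrArg φ h)⟩
  have hinv : ∀ y, g₁ (g₀ y) = y := fun y => by
    obtain ⟨A, B, hA, hB, rfl⟩ := KvbPull.exists_cl hK y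
    rw [map_sub g₀, (hid hA).1, (hid hB).1, map_sub g₁, (hid hA).2, (hid hB).2]
  obtain ⟨X', hN, hC, f, K', _, _, P', φ', hK', g', hg', hinj, hfil, L, hL, hsplit⟩ := split m X K₀ P₀ φ₀ hK₀ E hE
  refine ⟨X', hN, hC, f, K', inferInstance, inferInstance, P', φ', hK', g'.comp g₀, fun F hF => ?_,
    hinj.comp (Function.LeftInverse.injective (g := g₁) hinv), fun k => ?_, L, hL, ?_⟩
  · rw [AddMonoidHom.comp_apply, (hid hF).1]
    exact hg' F hF
  · ext y
    refine ⟨fun hy => ?_, fun hy => ?_⟩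
    · have h := PBFil.map_mem_gammaFiltration (f := KvbPull.ringHom hK hK₀ hg₁) (KvbPull.map_lam hK hK₀ hg₁)
        (LineTwist.aug_pull hK hK₀ hg₁) (hfil k _ hy)
      rwa [show (KvbPull.ringHom hK hK₀ hg₁) (g₀ y) = y from hinv y] at h
    · have h := PBFil.map_mem_gammaFiltration (f := KvbPull.ringHom hK₀ hK hg₀) (KvbPull.map_lam hK₀ hK hg₀)
        (LineTwist.aug_pull hK₀ hK hg₀) hy
      exact PBFil.map_mem_gammaFiltration (f := KvbPull.ringHom hK' hK₀ hg') (KvbPull.map_lam hK' hK₀ hg')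
        (LineTwist.aug_pull hK' hK₀ hg') h
  · rw [AddMonoidHom.comp_apply, (hid (KvbModel.lf_of_rank hE)).1]
    exact hsplit

/-- The splitting property of `K(X)`. -/
theorem hasSplitting {X : Scheme.{u}} [IsNoetherian X] [ConnectedSpace ↥X] {K : Type (u + 1)} [CommRing K]
    [LambdaRing.LambdaOps K] {P : LambdaRing.PosStructure K} {φ : SGA6.Kvb X →+ K} (hK : KRR.IsModel X K P φ) :
    LambdaRing.HasSplitting K P := by
  refine ⟨{L | ∃ (Y : Scheme.{u}) (_ : IsNoetherian Y) (_ : ConnectedSpace ↥Y) (ψ : SGA6.Kvb Y →+ L.carrier),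
    KRR.IsModel Y L.carrier L.posStr ψ}, ⟨X, inferInstance, inferInstance, φ, hK⟩, ?_⟩
  rintro L ⟨Y, hNY, hCY, ψ, hL⟩ e he
  obtain ⟨n, E, hn, hE, rfl⟩ := (hL.mem_pos_iff e).1 he
  obtain ⟨X', hN, hC, f, K', _, _, P', φ', hK', g, hg, hinj, -, Ls, hLs, hsplit⟩ := split' hL hE
  refine ⟨⟨K', P'⟩, ⟨X', hN, hC, φ', hK'⟩, KvbPull.ringHom hK' hL hg, ⟨KvbPull.map_lam hK' hL hg, hinj,
    LineTwist.aug_pull hK' hL hg, fun x hx => ?_⟩,
    (Finset.univ : Finset (Fin n)).val.map (fun j => φ' (cl (Ls j))), fun w hw => ?_, hsplit.symm⟩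
  · obtain ⟨d, F, hd, hF, rfl⟩ := (hL.mem_pos_iff x).1 hx
    exact (hK'.mem_pos_iff _).2 ⟨d, _, hd, LineTwist.rank_pull f hF, (hg F (KvbModel.lf_of_rank hF)).symm⟩
  · obtain ⟨j, -, rfl⟩ := Multiset.mem_map.1 hw
    exact LineTwist.isLine_cl hK' (PBCores.isInvertible_iff_rank.2 (hLs j))

end Main

end Groth.Agent.H28.PBSplit

end
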