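import Groth.Agent.H28.KRRZero
import Groth.Agent.H28.Splice

/-!
# The direct image of a section on a projective bundle
-/

set_option autoImplicit false
set_option linter.style.haveILetI false
set_option linter.unusedSectionVars false
set_option backward.isDefEq.respectTransparency false
set_option backward.isDefEq.respectTransparency.types false
set_option maxHeartbeats 1000000

universe v u

open CategoryTheory CategoryTheory.Limits AlgebraicGeometry TopologicalSpace Opposite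
attribute [local instance] HasDerivedCategory.standard

noncomputable section

namespace Groth.Agent.H28.PushTwo

open Groth.Agent Groth.Agent.H28.KRRTw Groth.Agent.H28.KRRReg Groth.Agent.H28.PBAtlas Groth.Agent.H28.PBPush Groth.Agent.H23.PicMul Groth.Agent.H28.PBEnough

variable {X P : Scheme.{u}} {π : P ⟶ X} {n : ℕ} [AlgebraicGeometry.IsNoetherian X] [AlgebraicGeometry.IsNoetherian P]
  (D : Data π n)

/-- A resolution, twisted high, pushes forward to a resolution. -/
theorem exists_push_res {p : SGA6.Kvb P →+ SGA6.Kvb X}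
    (hp : ∀ F : P.Modules, D.Def 0 F → p (KRR.cl P F) = KRR.cl X ((Scheme.Modules.pushforward π).obj F))
    {A : P.Modules} (htw : Nonempty (CohB1.tensorMod D.O1 A ≅ A))
    {nn : ℕ} {L : ChainComplex P.Modules ℕ} {η : L ⟶ (ChainComplex.single₀ P.Modules).obj A}
    (h : KRR.IsLFRes A nn L η) :
    ∃ (m : ℕ) (L' : ChainComplex X.Modules ℕ)
      (η' : L' ⟶ (ChainComplex.single₀ X.Modules).obj ((Scheme.Modules.pushforward π).obj A)),
      KRR.IsLFRes ((Scheme.Modules.pushforward π).obj A) nn L' η' ∧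
      p (∑ k ∈ Finset.range (nn + 1), (-1 : ℤ) ^ k • KRR.cl P (CohB1.tensorMod (CohB1.tensorPow D.O1 m) (L.X k))) =
        ∑ k ∈ Finset.range (nn + 1), (-1 : ℤ) ^ k • KRR.cl X (L'.X k) := by
  classical
  haveI := h.quasiIso
  have hex : ∀ i, L.ExactAt (i + 1) := fun i => by
    rw [← quasiIsoAt_iff_exactAt' η (i + 1) (HomologicalComplex.exactAt_single_obj _ _ _ _ (by simp))]
    infer_instance
  let e : L.opcycles 0 ≅ A := (L.isoHomologyι₀).symm ≪≫ asIso (HomologicalComplex.homologyMap η 0) ≪≫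
    HomologicalComplex.singleObjHomologySelfIso (ComplexShape.down ℕ) 0 A
  have hses : ∀ i, ∃ (f : L.opcycles (i + 1) ⟶ L.X i) (g : L.X i ⟶ L.opcycles i) (w : f ≫ g = 0),
      (ShortComplex.mk f g w).ShortExact := by
    intro i
    haveI : Mono (L.fromOpcycles (i + 1) i) := by
      have h' := (L.exactAt_iff' (i + 2) (i + 1) i (by simp) (by simp)).1 (hex i)
      have := h'.mono_fromOpcycles
      have e : L.fromOpcycles (i + 1) i = (L.opcyclesIsoSc' (i + 2) (i + 1) i (by simp) (by simp)).hom ≫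
          (L.sc' (i + 2) (i + 1) i).fromOpcycles := by
        rw [← cancel_epi (L.pOpcycles (i + 1))]
        rw [L.p_fromOpcycles, HomologicalComplex.pOpcycles_opcyclesIsoSc'_hom_assoc, ShortComplex.p_fromOpcycles]
        rfl
      rw [e]
      infer_instance
    refine ⟨L.fromOpcycles (i + 1) i, L.pOpcycles i, by rw [← cancel_epi (L.pOpcycles (i + 1))]; simp,
      .mk' ?_ inferInstance inferInstance⟩
    refine ShortComplex.exact_of_g_is_cokernel _ (CokernelCofork.IsColimit.ofπ _ _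
      (fun g hg => L.descOpcycles g (i + 1) (by simp) (by
        rw [← L.p_fromOpcycles, Category.assoc]
        exact (congrArg _ hg).trans comp_zero))
      (fun g hg => L.p_descOpcycles _ _ _ _) (fun g hg b hb => ?_))
    rw [← cancel_epi (L.pOpcycles i), L.p_descOpcycles]
    exact hb
  choose f g w hS using hses
  have hLc : ∀ i, Coh.IsCoh (L.X i) := fun i => PushLocFree.isCoh_of_isFinLocFree (h.finLocFree i)
  have hcoh : ∀ j i, nn + 1 ≤ i + j → Coh.IsCoh (L.opcycles i) := by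
    intro j
    induction j with
    | zero => exact fun i hi => PBCohPush.isCoh_zero (IsZero.of_epi (L.pOpcycles i) (h.isZero i (by omega)))
    | succ j ih =>
      exact fun i hi => PushEngine.isCoh_X₃ (hS i) (ih (i + 1) (by omega)) (hLc i)
  have hcoh' : ∀ i, Coh.IsCoh (L.opcycles i) := fun i => hcoh (nn + 1) i (by omega)
  choose jz hjz using fun i => PBCohPush.exists_def D (hcoh' i)
  choose jl hjl using fun i => PBCohPush.exists_def D (hLc i)
  let m := (Finset.range (nn + 2)).sup fun i => max (jz i) (jl i)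
  let G := DCoh.tensorBi.obj (CohB1.tensorPow D.O1 m)
  have hV : FlatMod.IsFinLocFree (CohB1.tensorPow D.O1 m) := by
    clear_value m
    induction m with
    | zero => exact KvbLam.lf_O
    | succ m ih => exact KFlatLib.isFinLocFree_tensor ih D.lf1
  have hle : ∀ i, i ≤ nn + 1 → jz i ≤ m ∧ jl i ≤ m := fun i hi =>
    max_le_iff.1 (Finset.le_sup (f := fun i => max (jz i) (jl i)) (Finset.mem_range.2 (by omega)))
  have hDz : ∀ i, PBCohPush.Def D 0 (G.obj (L.opcycles i)) := fun i => by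
    by_cases hi : i ≤ nn + 1
    · exact def_tensorPow D m (PBCohPush.def_of_le D (hle i hi).1 (hjz i))
    · obtain ⟨j, hj⟩ := PBCohPush.exists_def D (hcoh' i)
      exact def_tensorPow D m ⟨hcoh' i, fun y hy b q hq _ =>
        RKoszul.rz_of_isZero _ ((Tw n (D.a y).B (b : ℤ)).map_isZero ((Scheme.Modules.pullback (D.a y).j).map_isZero
          (IsZero.of_epi (L.pOpcycles i) (h.isZero i (by omega))))) q⟩
  have hDl : ∀ i, i ≤ nn → D.Def 0 (G.obj (L.X i)) := fun i hi =>
    ⟨KFlatLib.isFinLocFree_tensor hV (h.finLocFree i),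
      (def_tensorPow D m (PBCohPush.def_of_le D (hle i (by omega)).2 (hjl i))).2⟩
  let F := Scheme.Modules.pushforward π
  have hSp : ∀ i, (((ShortComplex.mk (f i) (g i) (w i)).map G).map F).ShortExact := fun i =>
    PBCohPush.shortExact_push D (PBCores.shortExact_tens hV (hS i)) (hDz (i + 1))
  obtain ⟨eA⟩ : Nonempty (G.obj (L.opcycles 0) ≅ A) := by
    obtain ⟨e1⟩ : Nonempty (G.obj A ≅ A) := cl_eq_iff.1 (by
      show PicF.cl (CohB1.tensorPow D.O1 m) * PicF.cl A = _
      have hpow : ∀ k : ℕ, PicF.cl D.O1 ^ k * PicF.cl A = PicF.cl A := fun k => by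
        induction k with
        | zero => rw [pow_zero, one_mul]
        | succ k ih => rw [pow_succ, mul_assoc, show PicF.cl D.O1 * PicF.cl A = PicF.cl A from cl_eq_iff.2 htw, ih]
      rw [cl_tensorPow]
      exact hpow m)
    exact ⟨G.mapIso e ≪≫ e1⟩
  have hlfX : ∀ k, FlatMod.IsFinLocFree (F.obj (G.obj (L.X k))) := fun k => by
    by_cases hk : k ≤ nn
    · exact D.lf_push_def (hDl k hk)
    · exact KFlatLib.isFinLocFree_of_isZero (F.map_isZero (G.map_isZero (h.isZero k (by omega))))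
  let Z := fun k : ℕ => F.obj (G.obj (L.opcycles k))
  let Lk := fun k : ℕ => F.obj (G.obj (L.X k))
  let fk : ∀ k, Z (k + 1) ⟶ Lk k := fun k => F.map (G.map (f k))
  let gk : ∀ k, Lk k ⟶ Z k := fun k => F.map (G.map (g k))
  have wk : ∀ k, fk k ≫ gk k = 0 := fun k => (((ShortComplex.mk (f k) (g k) (w k)).map G).map F).zero
  haveI := Splice.quasiIso_aug Z Lk fk gk wk hSp
  refine ⟨m, Splice.cx Z Lk fk gk wk, Splice.aug Z Lk fk gk wk ≫ (ChainComplex.single₀ _).map (F.map eA.hom),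
    ⟨hlfX, fun k hk => F.map_isZero (G.map_isZero (h.isZero k hk)), inferInstance⟩, ?_⟩
  rw [map_sum]
  simp only [map_zsmul]
  exact Finset.sum_congr rfl fun k hk => congrArg _ (hp _ (hDl k (Nat.le_of_lt_succ (Finset.mem_range.1 hk))))

theorem isRegular_id (Y : Scheme.{u}) : Mor2.IsRegularClosedImmersion (𝟙 Y) := by
  refine ⟨inferInstance, fun z => ?_⟩
  obtain ⟨U, hU, hzU, -⟩ := exists_isAffineOpen_mem_and_subset (show z ∈ (⊤ : Y.Opens) from trivial)
  haveI : Nonempty U := ⟨⟨z, hzU⟩⟩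
  refine ⟨U, hU, hzU, [], ⟨.nil _ _, ?_⟩, ?_⟩
  · simp
  · rw [Scheme.Hom.ker_apply, Ideal.ofList_nil]
    exact (RingHom.injective_iff_ker_eq_bot _).1 (ConcreteCategory.bijective_of_isIso ((𝟙 Y : Y ⟶ Y).app U)).1

theorem isPushCl_id {Y : Scheme.{u}} [AlgebraicGeometry.IsNoetherian Y] (hY : KRR.HasEnoughLocFree Y)
    {K : Type v} [CommRing K] (φ : SGA6.Kvb Y →+ K) : KRR.IsPushCl (𝟙 Y) φ φ (AddMonoidHom.id K) := by
  intro F hF nn L η hL
  obtain ⟨ι, hιb, hι⟩ := KRRPushK.exists_inclusion hY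
  have h0 := KRRPushK.resolution_eq hY hι hL
  have hp := KRRPushK.p₁_push (𝟙 Y) hY (isRegular_id Y) hF
  have hlf := (KZ.LFRes.resSetup hY).le _ hF
  have e := KZ.clSub_iso (KZ.LFRes.P₁ Y) ((Scheme.Modules.pushforwardId Y).app F) hp hlf (isZero_zero _)
    (KRRPushK.p₁_of_pdlt hY ((KZ.LFRes.pdlt_of_isZero (isZero_zero _)).mono (Nat.zero_le 1)))
  show φ (KRR.cl Y F) = _
  rw [← hιb.1 (h0.trans (e.trans (hι F hF).symm)), map_sum]
  simp only [map_zsmul]

set_option maxHeartbeats 4000000 in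
include D in
/-- The direct image of a push-forward to a projective bundle, along a lift with trivial `O(1)`. -/
theorem exists_rho (hX : KRR.HasEnoughLocFree X) (hi1 : PicF.IsInvertible D.O1)
    {KP : Type (u + 1)} [CommRing KP] [LambdaRing.LambdaOps KP] {PP : LambdaRing.PosStructure KP}
    {φP : SGA6.Kvb P →+ KP} (hKP : KRR.IsModel P KP PP φP)
    {KX : Type (u + 1)} [CommRing KX] [LambdaRing.LambdaOps KX] {PX : LambdaRing.PosStructure KX}
    {φX : SGA6.Kvb X →+ KX} (hKX : KRR.IsModel X KX PX φX) :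
    ∃ ρ : KP →+ KX, (∀ F : P.Modules, D.Def 0 F → ρ (φP (KRR.cl P F)) = φX (KRR.cl X ((Scheme.Modules.pushforward π).obj F))) ∧
      ∀ {Z : Scheme.{u}} [AlgebraicGeometry.IsNoetherian Z] (σ : Z ⟶ P),
      Mor2.IsRegularClosedImmersion σ → ∀ (s : Z ⟶ X), σ ≫ π = s →
      Nonempty ((Scheme.Modules.pullback σ).obj D.O1 ≅ Coh.structureModule Z) →
      ∀ {KW : Type (u + 1)} [CommRing KW] (φZ : SGA6.Kvb Z →+ KW), Function.Bijective φZ →
      ∀ (gσ : KW →+ KP), KRR.IsPushCl σ φZ φP gσ → ∀ (gs : KW →+ KX), KRR.IsPushCl s φZ φX gs →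
      ρ.comp gσ = gs := by
  classical
  have hPe := PBEnough.enough D hX
  haveI := PBCohPush.isProper D
  obtain ⟨p, hp⟩ := D.exists_pushHom
  let eP : SGA6.Kvb P ≃+ KP := AddEquiv.ofBijective φP hKP.bijective
  refine ⟨φX.comp (p.comp eP.symm.toAddMonoidHom), fun F hF => ?_, fun {Z} _ σ hσ s hσs hes {KW} _ φZ hφZ gσ hgσ gs hgs => ?_⟩
  · show φX (p (eP.symm (eP (KRR.cl P F)))) = _
    rw [AddEquiv.symm_apply_apply, hp F hF]
  haveI := hσ.1
  obtain ⟨es⟩ := hes
  refine AddMonoidHom.ext fun x => ?_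
  obtain ⟨x, rfl⟩ := hφZ.2 x
  refine DFunLike.congr_fun (f := ((φX.comp (p.comp eP.symm.toAddMonoidHom)).comp gσ).comp φZ)
    (g := gs.comp φZ) (KZ.K0sub_hom_ext _ fun F hF => ?_) x
  obtain ⟨nn, L, η, hL⟩ := (KRRPushK.p₁_push σ hPe hσ hF).2
  haveI := KFlatLib.isIso_projMod_of_isClosedImmersion σ F D.O1
  obtain ⟨c⟩ := H23.PicMul.comm D.O1 ((Scheme.Modules.pushforward σ).obj F)
  let eA : (DCoh.tensorBi.obj ((Scheme.Modules.pushforward σ).obj F)).obj D.O1 ≅ (Scheme.Modules.pushforward σ).obj F :=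
    asIso (KFlatLib.projMod σ F D.O1) ≪≫ (Scheme.Modules.pushforward σ).mapIso
      ((DCoh.tensorBi.obj F).mapIso es ≪≫ KFlatLib.tensorUnitIso _)
  obtain ⟨L₁, η₁, hL₁, hX₁⟩ := KRRPushProp.exists_isLFRes_tensor D.lf1 eA hL
  let vL := fun k => φP (KRR.cl P (L.X k))
  set ℓ := φP (KRR.cl P D.O1) with hℓ
  have hv : gσ (φZ (KRR.cl Z F)) * ℓ = gσ (φZ (KRR.cl Z F)) := by
    conv_rhs => rw [hgσ F hF nn L₁ η₁ hL₁]
    rw [hgσ F hF nn L η hL, Finset.sum_mul]
    refine Finset.sum_congr rfl fun k _ => ?_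
    rw [smul_mul_assoc, hℓ, hKP.map_mul _ _ (hL.finLocFree k) D.lf1, hX₁ k]
  obtain ⟨m, L', η', hL', hm⟩ := exists_push_res D hp ⟨c ≪≫ eA⟩ hL
  let e' : (Scheme.Modules.pushforward π).obj ((Scheme.Modules.pushforward σ).obj F) ≅
      (Scheme.Modules.pushforward s).obj F :=
    (Scheme.Modules.pushforwardComp σ π).app _ ≪≫ (Scheme.Modules.pushforwardCongr hσs).app _
  haveI := hL'.quasiIso
  have h2 := hgs F hF nn L' (η' ≫ (ChainComplex.single₀ X.Modules).map e'.hom)
    ⟨hL'.finLocFree, hL'.isZero, inferInstance⟩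
  have hz1 : gσ (φZ (KRR.cl Z F)) = φP (∑ k ∈ Finset.range (nn + 1),
      (-1 : ℤ) ^ k • KRR.cl P (CohB1.tensorMod (CohB1.tensorPow D.O1 m) (L.X k))) := by
    have hzm : gσ (φZ (KRR.cl Z F)) * ℓ ^ m = gσ (φZ (KRR.cl Z F)) := by
      clear hm
      induction m with
      | zero => rw [pow_zero, mul_one]
      | succ m ih => rw [pow_succ, ← mul_assoc, ih, hv]
    have hl := hgσ F hF nn L η hL
    rw [← hzm, hl, Finset.sum_mul, map_sum]
    refine Finset.sum_congr rfl fun k _ => ?_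
    rw [map_zsmul, smul_mul_assoc, hℓ, ← LineTwist.cl_tensorPow hKP hi1 m,
      mul_comm, hKP.map_mul _ _ (LineTwist.lf_invertible (InvX.isInvertible_tensorPow hi1 m)) (hL.finLocFree k)]
    rfl
  show φX (p (eP.symm (gσ (φZ (KRR.cl Z F))))) = gs (φZ (KRR.cl Z F))
  rw [hz1]
  refine Eq.trans (congrArg (fun z => φX (p z)) (eP.symm_apply_apply _)) ?_
  rw [hm, h2, map_sum]
  simp only [map_zsmul]

end Groth.Agent.H28.PushTwo

end
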