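import Groth.Agent.H28.BlowVan
import Groth.Agent.H28.BlowPush
import Groth.Agent.H28.ExcessModel
import Groth.Agent.H28.PushTwo
import Groth.Agent.H28.LamLine
import Groth.Agent.H28.PBSplit
import Groth.Agent.QCoh.RpushExchange
import Groth.Agent.S9750
import Groth.Agent.S3789

/-!
# Exactness in the middle of the K-theory sequence of a regular blowing up
-/

set_option autoImplicit false
set_option linter.style.haveILetI false
set_option linter.unusedSectionVars false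
set_option backward.isDefEq.respectTransparency false
set_option backward.isDefEq.respectTransparency.types false
set_option maxHeartbeats 1000000

universe v u

open CategoryTheory CategoryTheory.Limits AlgebraicGeometry TopologicalSpace Opposite
attribute [local instance] HasDerivedCategory.standard

noncomputable section

namespace Groth.Agent.H28.BlowExact

open Groth.Agent Groth.Agent.H28.PBCohPush

/-- Vanishing as modules. -/
theorem isZero_Rpush_of_rz {A B : Scheme.{u}} (g : A ⟶ B) [HasInjectiveResolutions A.Modules] {M : A.Modules}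
    (q : ℕ) (h : RKoszul.RZ g M (q + 1)) : IsZero ((Coh.Rpush g (q + 1)).obj M) := by
  obtain ⟨e⟩ := QCoh.nonempty_RpushAb_iso g M q
  obtain ⟨e'⟩ := QCoh.nonempty_Rpush_iso g M q
  have h1 : IsZero ((QCoh.toAbFunctor B).obj ((Coh.Rpush g (q + 1)).obj M)) :=
    (h.of_iso e.symm).of_iso ((QCoh.toAbFunctor B).mapIso e')
  haveI : (QCoh.toAbFunctor B).Faithful := inferInstanceAs (SheafOfModules.toSheaf B.ringCatSheaf).Faithful
  exact (IsZero.iff_id_eq_zero _).2 ((QCoh.toAbFunctor B).map_injective (h1.eq_of_src _ _))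

theorem rz_of_isZero_Rpush {A B : Scheme.{u}} (g : A ⟶ B) [HasInjectiveResolutions A.Modules] {M : A.Modules}
    (q : ℕ) (h : IsZero ((Coh.Rpush g (q + 1)).obj M)) : RKoszul.RZ g M (q + 1) := by
  obtain ⟨e⟩ := QCoh.nonempty_RpushAb_iso g M q
  obtain ⟨e'⟩ := QCoh.nonempty_Rpush_iso g M q
  exact ((QCoh.toAbFunctor B).map_isZero (h.of_iso e'.symm)).of_iso e

section Chart

variable {Y₁ P X : Scheme.{u}} {π : P ⟶ X} {O1 : P.Modules} {G : X.Modules} {n : ℕ}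
  (c : PBAtlas.Chart π O1 G n) (g : Y₁ ⟶ P)

/-- The preimage of a chart. -/
abbrev Zc : Y₁.Opens := g ⁻¹ᵁ (π ⁻¹ᵁ c.U.1)

/-- The map to the chart. -/
def hc : (Zc c g).toScheme ⟶ KRR.PY n c.B := (g ∣_ (π ⁻¹ᵁ c.U.1)) ≫ inv c.θ

theorem hc_j : hc c g ≫ c.j = (Zc c g).ι ≫ g := by
  show ((g ∣_ _) ≫ inv c.θ) ≫ c.θ ≫ _ = _
  rw [Category.assoc, IsIso.inv_hom_id_assoc, morphismRestrict_ι]

/-- Direct images restricted to a chart. -/
theorem chart_bc (N : Y₁.Modules) :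
    Nonempty ((Scheme.Modules.pullback c.j).obj ((Scheme.Modules.pushforward g).obj N) ≅
      (Scheme.Modules.pushforward (hc c g)).obj ((Scheme.Modules.pullback (Zc c g).ι).obj N)) := by
  let V : P.Opens := π ⁻¹ᵁ c.U.1
  let a : (Scheme.Modules.pullback V.ι).obj ((Scheme.Modules.pushforward g).obj N) ≅
      (Scheme.Modules.pushforward (g ∣_ V)).obj ((Scheme.Modules.pullback (Zc c g).ι).obj N) :=
    ((Scheme.Modules.restrictFunctorIsoPullback V.ι).app ((Scheme.Modules.pushforward g).obj N)).symm ≪≫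
      (KFlatLib.pushRestrictIso g V).app N ≪≫
      (Scheme.Modules.pushforward (g ∣_ V)).mapIso ((Scheme.Modules.restrictFunctorIsoPullback (Zc c g).ι).app N)
  exact ⟨((Scheme.Modules.pullbackComp c.θ V.ι).app _).symm ≪≫ (Scheme.Modules.pullback c.θ).mapIso a ≪≫
    (PBAtlas.pullIsoPush c.θ).app _ ≪≫ (Scheme.Modules.pushforwardComp (g ∣_ V) (inv c.θ)).app _⟩

set_option maxHeartbeats 2000000 in
/-- Twisted direct images on a chart. -/
theorem chart_twist [IsClosedImmersion g] {L : Y₁.Modules} (e : (Scheme.Modules.pullback g).obj O1 ≅ L)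
    (N : Y₁.Modules) (hN : Coh.IsQCoh N) (b : ℕ) :
    Nonempty ((KRRTw.Tw n c.B (b : ℤ)).obj ((Scheme.Modules.pullback c.j).obj ((Scheme.Modules.pushforward g).obj N)) ≅
      (Scheme.Modules.pushforward (hc c g)).obj ((CohB1.tensorMod N (CohB1.tensorPow L b)).restrict (Zc c g).ι)) := by
  haveI : IsAffineHom (g ∣_ (π ⁻¹ᵁ c.U.1)) := IsZariskiLocalAtTarget.restrict (P := @IsAffineHom) inferInstance _
  obtain ⟨ebc⟩ := chart_bc c g N
  let MZ := (Scheme.Modules.pullback (Zc c g).ι).obj N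
  let O := Twist.twistOver n c.B (b : ℤ)
  have htw : FlatMod.IsFinLocFree O :=
    KvbModel.lf_of_rank (PBCores.isInvertible_iff_rank.1 (KRRReg.isInvertible_twistOver (b : ℤ)))
  haveI : HasInjectiveResolutions (Zc c g).toScheme.Modules := KFlatLib.hasInjectiveResolutions_modules
  haveI := SpObjSS.enoughInjectives_of_hasInjectiveResolutions (C := (Zc c g).toScheme.Modules)
  haveI := QCoh.preservesFiniteLimits_push (hc c g)
  obtain ⟨e₀⟩ := S0927.result (hc c g) MZ O htw 0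
  let z := (Scheme.Modules.pushforward (hc c g)).rightDerivedZeroIsoSelf
  obtain ⟨e₄⟩ := RegTwist.tensorPow_twistOver (n := n) (Y := c.B) b
  obtain ⟨e₁⟩ := c.nonempty_O1
  obtain ⟨ep⟩ := AmpleVan.RelVanish.pullback_tensorPow (hc c g) (Twist.twistOver n c.B 1) b
  let eL : (Scheme.Modules.pullback (hc c g)).obj (Twist.twistOver n c.B 1) ≅
      (Scheme.Modules.pullback (Zc c g).ι).obj L :=
    (Scheme.Modules.pullback (hc c g)).mapIso e₁.symm ≪≫
      (Scheme.Modules.pullbackComp (hc c g) c.j).app O1 ≪≫ (Scheme.Modules.pullbackCongr (hc_j c g)).app O1 ≪≫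
      ((Scheme.Modules.pullbackComp (Zc c g).ι g).app O1).symm ≪≫ (Scheme.Modules.pullback (Zc c g).ι).mapIso e
  obtain ⟨ec⟩ := AmpleVan.RelVanish.tensorPow_congr eL b
  obtain ⟨epZ⟩ := AmpleVan.RelVanish.pullback_twist_iso (Zc c g).ι L N b
  obtain ⟨ecm⟩ := H23.PicMul.comm ((Scheme.Modules.pullback (hc c g)).obj O) MZ
  obtain ⟨ecm'⟩ := AmpleVan.RelVanish.tensor_congr (Iso.refl MZ)
    ((Scheme.Modules.pullback (hc c g)).mapIso e₄.symm ≪≫ ep ≪≫ ec)
  exact ⟨(DCoh.tensorBi.obj O).mapIso (ebc ≪≫ (z.app MZ).symm) ≪≫ e₀ ≪≫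
    z.app (CohB1.tensorMod ((Scheme.Modules.pullback (hc c g)).obj O) MZ) ≪≫
    (Scheme.Modules.pushforward (hc c g)).mapIso (ecm ≪≫ ecm' ≪≫ epZ.symm ≪≫
      ((Scheme.Modules.restrictFunctorIsoPullback (Zc c g).ι).app (CohB1.tensorMod N (CohB1.tensorPow L b))).symm)⟩

end Chart

/-- `φ_*φ^*F ≅ F`. -/
theorem push_pull {A B : Scheme.{u}} (φ : A ⟶ B) (h : ∀ U : B.Opens, IsIso (φ.app U)) {F : B.Modules}
    (hF : FlatMod.IsFinLocFree F) :
    Nonempty ((Scheme.Modules.pushforward φ).obj ((Scheme.Modules.pullback φ).obj F) ≅ F) := by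
  haveI : HasInjectiveResolutions A.Modules := KFlatLib.hasInjectiveResolutions_modules
  haveI := SpObjSS.enoughInjectives_of_hasInjectiveResolutions (C := A.Modules)
  haveI := QCoh.preservesFiniteLimits_push φ
  obtain ⟨e₀⟩ := S0927.result φ (Coh.structureModule A) F hF 0
  haveI := BlowPush.isIso_unit_of_app φ h
  let z := (Scheme.Modules.pushforward φ).rightDerivedZeroIsoSelf
  obtain ⟨eu⟩ := H23.PicMul.unit ((Scheme.Modules.pullback φ).obj F)
  obtain ⟨eu'⟩ := H23.PicMul.unit F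
  obtain ⟨eφ⟩ := PicClLib.nonempty_pullback_structureModule φ
  exact ⟨(Scheme.Modules.pushforward φ).mapIso eu.symm ≪≫
    (z.app (CohB1.tensorMod ((Scheme.Modules.pullback φ).obj F) (Coh.structureModule A))).symm ≪≫ e₀.symm ≪≫
    (DCoh.tensorBi.obj F).mapIso (z.app (Coh.structureModule A) ≪≫ ((Scheme.Modules.pushforward φ).mapIso eφ).symm ≪≫
      (asIso ((Scheme.Modules.pullbackPushforwardAdjunction φ).unit.app (Coh.structureModule B))).symm) ≪≫ eu'⟩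

section Inj

variable {X Y Y₁ : Scheme.{u}} [AlgebraicGeometry.IsNoetherian Y] [ConnectedSpace ↥Y] [ConnectedSpace ↥X]
  [ConnectedSpace ↥Y₁]
  (hYe : KRR.HasEnoughLocFree Y) (f : X ⟶ Y) (hf : Mor2.IsRegularClosedImmersion f) {d : ℕ} (hd : 1 ≤ d)
  (hC : FlatMod.IsFinLocFreeOfRank d (Omega.conormal f))
  (hYreg : ∀ y : Y, IsRegularLocalRing (Y.presheaf.stalk y)) (φ : Y₁ ⟶ Y) (hφ : BlowUp.IsBlowUp φ f.ker)
  {KY : Type v} [AddCommGroup KY] (φY : SGA6.Kvb Y →+ KY) (hbY : Function.Bijective φY)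
  {KY₁ : Type v} [AddCommGroup KY₁] (φY₁ : SGA6.Kvb Y₁ →+ KY₁) (hbY₁ : Function.Bijective φY₁)
  (gφ : KY →+ KY₁) (hgφ : ∀ F : Y.Modules, FlatMod.IsFinLocFree F →
      gφ (φY (KRR.cl Y F)) = φY₁ (KRR.cl Y₁ ((Scheme.Modules.pullback φ).obj F)))

set_option maxHeartbeats 3000000 in
include hYe hf hd hC hYreg hφ hbY hbY₁ hgφ in
/-- Inverse images along a regular blowing up of a regular scheme are injective on classes. -/
theorem pull_injective : Function.Injective gφ := by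
  classical
  haveI := hf.1
  obtain ⟨hY₁, hprop, -⟩ := BlowReg.geom f φ hYe hφ
  haveI := hY₁; haveI := hprop
  obtain ⟨r, G, u, hG, hJ⟩ := DefSpace.exists_gens hYe f.ker
  obtain ⟨PG, πG, O1G, qG, hPG⟩ := PBMake.exists_of_rank hG
  haveI : AlgebraicGeometry.IsNoetherian PG := PBSplit.isNoetherian hPG hG
  obtain ⟨Oinv, hOi, hOO⟩ := H23.PicInv.exists_inverse (PBCores.isInvertible_iff_rank.2 hPG.invertible)
  obtain ⟨eOO⟩ := hOO
  obtain ⟨ecomm⟩ := H23.PicMul.comm Oinv O1G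
  obtain ⟨D, hDO, -⟩ := PBBasis.exists_data hPG hG Oinv ⟨ecomm ≪≫ eOO⟩
    (KvbModel.lf_of_rank (PBCores.isInvertible_iff_rank.1 hOi))
  subst hDO
  obtain ⟨g, hg, e, hcomp⟩ := BlowEmb.exists_emb hG u f.ker hJ hφ hPG
  haveI : IsClosedImmersion g := BlowEmb.isClosedImmersion_emb hg e hcomp hG hJ hPG hφ
  let L := ClSub.idealMod (BlowUp.exceptional φ f.ker)
  have hL : PicF.IsInvertible L := H26.IdealCl.isInvertible_idealMod hφ.1
  haveI : HasInjectiveResolutions Y₁.Modules := KFlatLib.hasInjectiveResolutions_modules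
  obtain ⟨p, hp⟩ := exists_pushHom D
  haveI : PreservesFiniteColimits (Scheme.Modules.pushforward g) :=
    ⟨fun J _ _ => KFlatLib.preservesColimitsOfShape_push g J⟩
  haveI : PreservesFiniteLimits (Scheme.Modules.pushforward g) := QCoh.preservesFiniteLimits_push g
  have hgc : ∀ N : Y₁.Modules, Coh.IsCoh N → Coh.IsCoh ((Scheme.Modules.pushforward g).obj N) :=
    fun N hN => QCoh.isCoh_push g hN
  let q := p.comp (SGA6.mapSub (Scheme.Modules.pushforward g) (fun N : Y₁.Modules => Coh.IsCoh N)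
    (fun N : PG.Modules => Coh.IsCoh N) hgc)
  have hδ := S3746.result Y hYreg hYe fun _ h => PushLocFree.isCoh_of_isFinLocFree h
  let e₁ := AddEquiv.ofBijective φY₁ hbY₁
  have key : ∀ w, q (KFilt.δ Y₁ (e₁.symm (gφ (φY w)))) = KFilt.δ Y w := by
    refine fun w => DFunLike.congr_fun
      (f := (q.comp (KFilt.δ Y₁)).comp (e₁.symm.toAddMonoidHom.comp (gφ.comp φY))) (g := KFilt.δ Y)
      (KZ.K0sub_hom_ext _ fun F hF => ?_) w
    show q (KFilt.δ Y₁ (e₁.symm (gφ (φY (KRR.cl Y F))))) = KFilt.δ Y (KRR.cl Y F)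
    let N := (Scheme.Modules.pullback φ).obj F
    have hN : FlatMod.IsFinLocFree N := KvbPull.lf_pull φ hF
    have hNc := PushLocFree.isCoh_of_isFinLocFree hN
    rw [hgφ F hF, show e₁.symm (φY₁ (KRR.cl Y₁ N)) = _ from e₁.symm_apply_apply _, KFilt.δ_cl hN, KFilt.δ_cl hF]
    show p (SGA6.mapSub _ _ _ hgc (clc Y₁ N)) = _
    rw [GenBasis.mapSub_clSub _ _ _ hgc hNc]
    -- vanishing of the twists
    have hrz : ∀ b i : ℕ, 1 ≤ i → RKoszul.RZ φ (CohB1.tensorMod N (CohB1.tensorPow L b)) i := fun b i hi => by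
      obtain ⟨i', rfl⟩ : ∃ i', i = i' + 1 := Nat.exists_eq_add_of_le' hi
      obtain ⟨e₀⟩ := S0927.result φ (CohB1.tensorPow L b) F hF (i' + 1)
      refine rz_of_isZero_Rpush φ i' (IsZero.of_iso ?_ e₀.symm)
      exact (DCoh.tensorBi.obj F).map_isZero
        (isZero_Rpush_of_rz φ i' (BlowVan.van hYe f hf hd hC φ hφ b (i' + 1) hi))
    have hdef : PBCohPush.Def D 0 ((Scheme.Modules.pushforward g).obj N) := by
      refine ⟨hgc N hNc, fun y hy b i hi _ => ?_⟩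
      let c := D.a y
      haveI : IsAffineHom (g ∣_ (πG ⁻¹ᵁ c.U.1)) := IsZariskiLocalAtTarget.restrict (P := @IsAffineHom) inferInstance _
      haveI : IsAffineHom (hc c g) := inferInstanceAs (IsAffineHom ((g ∣_ (πG ⁻¹ᵁ c.U.1)) ≫ inv c.θ))
      haveI : IsProper (KRR.pr r c.B) :=
        MorphismProperty.pullback_snd _ _ (PnCoh.Chow.isProper_toSpec r (ULift.{u} ℤ))
      let M := CohB1.tensorMod N (CohB1.tensorPow L b)
      have hMq : Coh.IsQCoh M := KFlatLib.isQCoh_tensor hNc.1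
        (QCoh.isQCoh_of_isFinLocFree (KvbModel.lf_of_rank (PBCores.isInvertible_iff_rank.1
          (InvX.isInvertible_tensorPow hL b))))
      have hM : Coh.IsQCoh (M.restrict (Zc c g).ι) := QCoh.isQCoh_restrict _ hMq
      obtain ⟨eall⟩ := chart_twist c g e N hNc.1 b
      refine RKoszul.rz_of_iso _ eall.symm i ?_
      refine RzCover.isZero_RpushAb_of_cover (f := KRR.pr r c.B) (QCoh.isQCoh_pushforward (hc c g) hM)
        {W | W = ⟨⊤, isAffineOpen_top c.B⟩} (fun x => ⟨_, rfl, trivial⟩) ?_ i hi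
      rintro W rfl k
      refine BlowHH.hh_affine_push (hc c g) hM _ _ ?_
      let O : (Zc c g).toScheme.Opens := hc c g ⁻¹ᵁ (KRR.pr r c.B ⁻¹ᵁ ⊤)
      haveI : IsIso O.ι := BlowHH.isIso_ι_top _
      have h1 : Subsingleton (Coh.HH _ (M.restrict (Zc c g).ι) (k + 1)) := by
        have h2 := BlowHH.hh_of_rz φ hMq k (hrz b (k + 1) (by omega)) c.U.2
        have key : ∀ V : Y₁.Opens, V = Zc c g → Subsingleton (Coh.HH _ (M.restrict V.ι) (k + 1)) →
            Subsingleton (Coh.HH _ (M.restrict (Zc c g).ι) (k + 1)) := by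
          rintro _ rfl hs; exact hs
        exact key _ (by subst hg; rfl) h2
      refine BlowHH.hh_iso (inv O.ι) (QCoh.isQCoh_restrict O.ι hM) _ ?_
      exact QCoh.subsingleton_HH_of_iso (((Scheme.Modules.pullback (inv O.ι)).mapIso
        ((Scheme.Modules.restrictFunctorIsoPullback O.ι).app _)) ≪≫ (Scheme.Modules.pullbackComp _ _).app _ ≪≫
        (Scheme.Modules.pullbackCongr (IsIso.inv_hom_id O.ι)).app _ ≪≫
        (Scheme.Modules.pullbackId _).app _).symm _ h1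
    rw [hp _ hdef]
    obtain ⟨epp⟩ := push_pull φ (BlowPush.isIso_app hYe hYreg f hf hd hC φ hφ) hF
    exact clc_iso ((Scheme.Modules.pushforwardComp g πG).app N ≪≫ (Scheme.Modules.pushforwardCongr hg).app N ≪≫ epp)
      (PBCohPush.lf_push_def D hdef) (PushLocFree.isCoh_of_isFinLocFree hF)
  refine (injective_iff_map_eq_zero gφ).2 fun y hy => ?_
  obtain ⟨w, rfl⟩ := hbY.2 y
  have h1 := key w
  rw [hy, map_zero e₁.symm, map_zero (KFilt.δ Y₁), map_zero q] at h1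
  rw [show w = 0 from hδ.1 (h1.symm.trans (map_zero _).symm), map_zero]

end Inj

section Exact

open LambdaRing

/-- Self-intersection of an effective divisor. -/
theorem self_int {X₁ Y₁ : Scheme.{u}} [AlgebraicGeometry.IsNoetherian X₁] [ConnectedSpace ↥X₁]
    [AlgebraicGeometry.IsNoetherian Y₁] [ConnectedSpace ↥Y₁]
    (hX₁e : KRR.HasEnoughLocFree X₁) (hY₁e : KRR.HasEnoughLocFree Y₁) (f₁ : X₁ ⟶ Y₁)
    (hf₁ : Mor2.IsRegularClosedImmersion f₁) (hC₁ : FlatMod.IsFinLocFreeOfRank 1 (Omega.conormal f₁))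
    {KX₁ : Type v} [CommRing KX₁] [LambdaOps KX₁] {PX₁ : PosStructure KX₁} {φX₁ : SGA6.Kvb X₁ →+ KX₁}
    (hX₁ : KRR.IsModel X₁ KX₁ PX₁ φX₁)
    {KY₁ : Type v} [CommRing KY₁] [LambdaOps KY₁] {PY₁ : PosStructure KY₁} {φY₁ : SGA6.Kvb Y₁ →+ KY₁}
    (hY₁ : KRR.IsModel Y₁ KY₁ PY₁ φY₁)
    (gi : KY₁ →+ KX₁) (hgi : KRR.IsPull f₁ φY₁ φX₁ gi) (gf₁ : KX₁ →+ KY₁) (hgf₁ : KRR.IsPushCl f₁ φX₁ φY₁ gf₁)
    (z : KX₁) : gi (gf₁ z) = (1 - φX₁ (KRR.cl X₁ (Omega.conormal f₁))) * z := by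
  haveI := hf₁.1
  have hsq : IsPullback (𝟙 X₁) (𝟙 X₁) f₁ f₁ := ⟨⟨rfl⟩, ⟨PullbackCone.isLimitMkIdId f₁⟩⟩
  have hz : IsZero (Omega.conormal (𝟙 X₁)) := S9750.isZero_conormal_of_isIso (𝟙 X₁)
  have h0 : FlatMod.IsFinLocFreeOfRank 0 (Omega.conormal (𝟙 X₁)) := fun _ =>
    ⟨⊤, trivial, ⟨((Scheme.Modules.restrictFunctor (⊤ : X₁.Opens).ι).map_isZero hz).iso
      (QCoh.isZero_freeMod_zero' _)⟩⟩
  have hid : KRR.IsPull (𝟙 X₁) φX₁ φX₁ (AddMonoidHom.id KX₁) := fun F hF =>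
    congrArg φX₁ (GenPush.cl_iso ((Scheme.Modules.pullbackId X₁).app F).symm hF (KvbPull.lf_pull _ hF))
  have h := ExcessModel.main hY₁e hX₁e f₁ hf₁ hC₁ f₁ (𝟙 X₁) (𝟙 X₁) hsq (PushTwo.isRegular_id X₁) h0 hX₁ hY₁ hX₁
    hX₁ gi hgi (AddMonoidHom.id KX₁) hid gf₁ hgf₁ (AddMonoidHom.id KX₁) (PushTwo.isPushCl_id hX₁e φX₁) z
  simp only [AddMonoidHom.id_apply] at h
  rw [h, show KRR.cl X₁ (Omega.conormal (𝟙 X₁)) = 0 from KZ.clSub_isZero _ hz, map_zero, sub_zero, KRR.lamAlt,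
    hX₁.aug_cl 1 _ hC₁]
  congr 1
  rw [show ((1 : ℕ) : ℤ).toNat = 1 from rfl, Finset.sum_range_succ, Finset.sum_range_one, LambdaOps.lam_zero,
    LambdaOps.lam_one]
  ring

/-- The algebra of the decomposition: `(1 - ℓ) z + w = 0` with `z` without top term forces `z = 0`. -/
theorem coeff_zero {A : Type v} [CommRing A] {B : Type v} [CommRing B] (R : A →+* B) (ℓ : B) (r : ℕ)
    (hinj : Function.Injective fun a : Fin (r + 1) → A => ∑ i : Fin (r + 1), R (a i) * ℓ ^ (i : ℕ))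
    (b : ℕ → A) (hb : b r = 0) (w : A)
    (h : (1 - ℓ) * ∑ i ∈ Finset.range (r + 1), R (b i) * ℓ ^ i + R w = 0) :
    ∑ i ∈ Finset.range (r + 1), R (b i) * ℓ ^ i = 0 := by
  let c : ℕ → A := fun i => if i = 0 then b 0 + w else b i - b (i - 1)
  have hc : ∑ i ∈ Finset.range (r + 1), R (c i) * ℓ ^ i = 0 := by
    refine Eq.trans ?_ h
    have hs : ℓ * ∑ i ∈ Finset.range (r + 1), R (b i) * ℓ ^ i =
        ∑ i ∈ Finset.range r, R (b i) * ℓ ^ (i + 1) := by
      rw [Finset.sum_range_succ, hb, map_zero, zero_mul, add_zero, Finset.mul_sum]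
      exact Finset.sum_congr rfl fun i _ => by rw [pow_succ]; ring
    rw [sub_mul, one_mul, hs, Finset.sum_range_succ' _ r, Finset.sum_range_succ' _ r]
    simp only [c, Nat.add_one_sub_one, Nat.succ_ne_zero, if_false, if_true, map_sub, map_add, pow_zero, mul_one,
      sub_mul, Finset.sum_sub_distrib]
    ring
  have hz : (fun i : Fin (r + 1) => c i) = fun _ => 0 := by
    refine hinj ?_
    show ∑ i : Fin (r + 1), R (c i) * ℓ ^ (i : ℕ) = ∑ i : Fin (r + 1), R 0 * ℓ ^ (i : ℕ)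
    rw [Fin.sum_univ_eq_sum_range (fun i => R (c i) * ℓ ^ i), hc]
    simp
  have hdown : ∀ k ≤ r, b (r - k) = 0 := by
    intro k
    induction k with
    | zero => intro _; simpa using hb
    | succ k ih =>
      intro hk
      have h1 := congrFun hz ⟨r - k, by omega⟩
      simp only [c] at h1
      rw [if_neg (by omega), ih (by omega), zero_sub, neg_eq_zero] at h1
      rwa [show r - (k + 1) = r - k - 1 by omega]
  refine Finset.sum_eq_zero fun i hi => ?_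
  have := hdown (r - i) (by omega)
  rw [show r - (r - i) = i by rw [Finset.mem_range] at hi; omega] at this
  rw [this, map_zero, zero_mul]

variable {X Y X₁ Y₁ : Scheme.{u}} [AlgebraicGeometry.IsNoetherian Y] [ConnectedSpace ↥Y] [ConnectedSpace ↥X]
  [ConnectedSpace ↥X₁] [ConnectedSpace ↥Y₁]

set_option maxHeartbeats 3000000 in
/-- The middle exactness. -/
theorem exact (hYe : KRR.HasEnoughLocFree Y) (hYreg : ∀ y : Y, IsRegularLocalRing (Y.presheaf.stalk y))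
    (f : X ⟶ Y) (hf : Mor2.IsRegularClosedImmersion f) (d : ℕ) (hd : 1 ≤ d)
    (hC : FlatMod.IsFinLocFreeOfRank d (Omega.conormal f))
    (φ : Y₁ ⟶ Y) (hφ : BlowUp.IsBlowUp φ f.ker) (f₁ : X₁ ⟶ Y₁) (ψ : X₁ ⟶ X) (hsq : IsPullback f₁ ψ φ f)
    [IsClosedImmersion f₁] (hC₁ : FlatMod.IsFinLocFreeOfRank 1 (Omega.conormal f₁))
    {KX : Type v} [CommRing KX] [LambdaOps KX] {PX : PosStructure KX} {φX : SGA6.Kvb X →+ KX} (hKX : KRR.IsModel X KX PX φX)
    {KY : Type v} [CommRing KY] [LambdaOps KY] {PY : PosStructure KY} {φY : SGA6.Kvb Y →+ KY} (hKY : KRR.IsModel Y KY PY φY)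
    {KX₁ : Type v} [CommRing KX₁] [LambdaOps KX₁] {PX₁ : PosStructure KX₁} {φX₁ : SGA6.Kvb X₁ →+ KX₁}
    (hKX₁ : KRR.IsModel X₁ KX₁ PX₁ φX₁)
    {KY₁ : Type v} [CommRing KY₁] [LambdaOps KY₁] {PY₁ : PosStructure KY₁} {φY₁ : SGA6.Kvb Y₁ →+ KY₁}
    (hKY₁ : KRR.IsModel Y₁ KY₁ PY₁ φY₁)
    (gφ : KY →+ KY₁) (hgφ : KRR.IsPull φ φY φY₁ gφ) (gψ : KX →+ KX₁) (hgψ : KRR.IsPull ψ φX φX₁ gψ)
    (gf : KX →+ KY) (hgf : KRR.IsPushCl f φX φY gf) (gf₁ : KX₁ →+ KY₁) (hgf₁ : KRR.IsPushCl f₁ φX₁ φY₁ gf₁) :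
    (∀ x : KX, gf₁ (-(KRR.lamAlt PX₁ (gψ (φX (KRR.cl X (Omega.conormal f))) - φX₁ (KRR.cl X₁ (Omega.conormal f₁))) * gψ x)) + gφ (gf x) = 0) ∧
    ∀ (x₁ : KX₁) (y : KY), gf₁ x₁ + gφ y = 0 → ∃ x : KX, -(KRR.lamAlt PX₁ (gψ (φX (KRR.cl X (Omega.conormal f))) - φX₁ (KRR.cl X₁ (Omega.conormal f₁))) * gψ x) = x₁ ∧ gf x = y := by
  haveI := hf.1
  obtain ⟨hY₁, hprop, hY₁e⟩ := BlowReg.geom f φ hYe hφ
  haveI := hY₁; haveI := hprop
  haveI : AlgebraicGeometry.IsNoetherian X := PushComp.isNoetherian_of_closed f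
  haveI : AlgebraicGeometry.IsNoetherian X₁ := PushComp.isNoetherian_of_closed f₁
  have hker : f₁.ker = f.ker.comap φ := TorPull.ker_eq hsq
  have hf₁ : Mor2.IsRegularClosedImmersion f₁ := (CartierPush.regular f₁ (hker ▸ hφ.1)).1
  have hX₁e : KRR.HasEnoughLocFree X₁ := KZ.QuasiProj.enough_closed hY₁e f₁
  have hvu : ∀ x : KX, gf₁ (-(KRR.lamAlt PX₁ (gψ (φX (KRR.cl X (Omega.conormal f))) -
      φX₁ (KRR.cl X₁ (Omega.conormal f₁))) * gψ x)) + gφ (gf x) = 0 := fun x => by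
    rw [ExcessModel.main hYe hY₁e f hf hC φ f₁ ψ hsq hf₁ hC₁ hKX hKY hKX₁ hKY₁ gφ hgφ gψ hgψ gf hgf gf₁ hgf₁ x,
      map_neg, neg_add_cancel]
  refine ⟨hvu, fun x₁ y hxy => ?_⟩
  obtain ⟨q, -, hPB⟩ := ExcBundle.exists_isProjBundle hf hd hC hφ hsq
  obtain ⟨r, rfl⟩ : ∃ r, d = r + 1 := Nat.exists_eq_add_of_le' hd
  haveI := PBSplit.isNoetherian hPB hC
  have hbasis := S3789.result X X₁ r (Omega.conormal f) hC ψ (Omega.conormal f₁) q hPB KX PX φX hKX KX₁ PX₁ φX₁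
    hKX₁ gψ hgψ
  set c := φX (KRR.cl X (Omega.conormal f)) with hc
  set ℓ := φX₁ (KRR.cl X₁ (Omega.conormal f₁)) with hℓ
  have hl1 : ∀ i, 2 ≤ i → LambdaOps.lam i ℓ = 0 := fun i hi =>
    PX₁.lam_eq_zero ℓ ((hKX₁.mem_pos_iff ℓ).2 ⟨1, _, le_rfl, hC₁, rfl⟩) i (by
      rw [hℓ, hKX₁.aug_cl 1 _ hC₁]; omega)
  have haug : (PX₁.aug (gψ c - ℓ)).toNat = r := by
    rw [map_sub, LineTwist.aug_pull hKX₁ hKX hgψ, hc, hℓ, hKX.aug_cl _ _ hC, hKX₁.aug_cl 1 _ hC₁]
    simp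
  let R := KvbPull.ringHom hKX₁ hKX hgψ
  let A : ℕ → KX := fun k => ∑ a ∈ Finset.range (r + 1 - k), (-1 : KX) ^ a * LambdaOps.lam a c
  have hpoly : KRR.lamAlt PX₁ (gψ c - ℓ) = ∑ i ∈ Finset.range (r + 1), R (A i) * ℓ ^ i := by
    rw [KRR.lamAlt, haug, LamLine.alt_sum_sub_line hl1]
    refine Finset.sum_congr rfl fun k _ => ?_
    rw [map_sum]
    refine congrArg (· * _) (Finset.sum_congr rfl fun a _ => ?_)
    rw [map_mul, map_pow, map_neg, map_one]
    exact congrArg _ (KvbPull.map_lam hKX₁ hKX hgψ a c).symm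
  have hA : A r = 1 := by
    show ∑ a ∈ Finset.range (r + 1 - r), (-1 : KX) ^ a * LambdaOps.lam a c = 1
    rw [Nat.add_sub_cancel_left]
    simp [LambdaOps.lam_zero]
  obtain ⟨a, ha⟩ := hbasis.2 x₁
  let b : ℕ → KX := fun i => if h : i < r + 1 then a ⟨i, h⟩ else 0
  have hx₁ : x₁ = ∑ i ∈ Finset.range (r + 1), R (b i) * ℓ ^ i := by
    rw [← ha, ← Fin.sum_univ_eq_sum_range (fun i => R (b i) * ℓ ^ i)]
    refine Finset.sum_congr rfl fun i _ => ?_
    show gψ (a i) * _ = gψ (b i) * _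
    rw [show b i = a i from dif_pos i.2]
  let x := -b r
  let b' : ℕ → KX := fun i => b i - A i * b r
  have hz : x₁ + KRR.lamAlt PX₁ (gψ c - ℓ) * gψ x = ∑ i ∈ Finset.range (r + 1), R (b' i) * ℓ ^ i := by
    rw [hpoly, hx₁, Finset.sum_mul, ← Finset.sum_add_distrib]
    refine Finset.sum_congr rfl fun i _ => ?_
    show _ + _ * R (-b r) = _
    simp only [b', map_sub, map_mul, map_neg]
    ring
  obtain ⟨gi, hgi, -⟩ := PullVB.existsUnique_isPull f₁ φX₁ φY₁ hKY₁.bijective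
  obtain ⟨g0, hg0, -⟩ := PullVB.existsUnique_isPull f φX φY hKY.bijective
  have hcomm : ∀ y, gi (gφ y) = R (g0 y) := fun y =>
    ExcessCl.pull_eq hsq.w hKY.bijective.2 (ExcessCl.pull_comp f₁ φ hgi hgφ) (ExcessCl.pull_comp ψ f hgψ hg0) y
  have hv : gf₁ (x₁ + KRR.lamAlt PX₁ (gψ c - ℓ) * gψ x) + gφ (y - gf x) = 0 := by
    have h1 := hvu x
    rw [map_neg, neg_add_eq_sub, sub_eq_zero] at h1
    rw [map_add, map_sub, ← h1]
    linear_combination (exp := 1) hxy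
  have h2 := congrArg gi hv
  rw [map_add gi, map_zero, self_int hX₁e hY₁e f₁ hf₁ hC₁ hKX₁ hKY₁ gi hgi gf₁ hgf₁, hcomm, hz] at h2
  have hb' : b' r = 0 := by simp only [b', hA, one_mul, sub_self]
  have h3 := coeff_zero R ℓ r hbasis.1 b' hb' (g0 (y - gf x)) h2
  rw [hz, h3, map_zero, zero_add] at hv
  have hy := pull_injective hYe f hf hd hC hYreg φ hφ φY hKY.bijective φY₁ hKY₁.bijective gφ hgφ
    (hv.trans (map_zero gφ).symm)
  refine ⟨x, ?_, (sub_eq_zero.1 hy).symm⟩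
  rw [neg_eq_iff_add_eq_zero, add_comm]
  exact hz.trans h3

end Exact

end Groth.Agent.H28.BlowExact

end
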