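import Groth.Agent.H28.PBBasis
import Groth.Agent.H28.PBCohPush
import Groth.Agent.QCoh.Support

/-!
# `K_•` of a projective bundle is free on the twists
-/

set_option autoImplicit false
set_option linter.style.haveILetI false
set_option linter.unusedSectionVars false
set_option backward.isDefEq.respectTransparency false
set_option backward.isDefEq.respectTransparency.types false

universe u

open CategoryTheory CategoryTheory.Limits AlgebraicGeometry TopologicalSpace Opposite

noncomputable section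

namespace Groth.Agent.H28.PBCohBasis

open Groth.Agent Groth.Agent.H23.PicMul Groth.Agent.H28.KRRTw Groth.Agent.H28.KRRReg Groth.Agent.H28.PBAtlas
  Groth.Agent.H28.PBPush Groth.Agent.H28.PBCohPush
open Groth.Agent.H28.PBBasis (isIso_of_restrict backIso pullNat factor_counit nonempty_j_tw cl_inv lf_pow gN eG PW gN_zero twist_gN)

/-- A surjection between isomorphic coherent modules is an isomorphism. -/
theorem isIso_of_epi_coh {Y : Scheme.{u}} {A B : Y.Modules} (f : A ⟶ B) [Epi f] (hA : Coh.IsCoh A)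
    (hB : Coh.IsCoh B) (e : Nonempty (A ≅ B)) : IsIso f := by
  obtain ⟨e⟩ := e
  let h := e.inv ≫ f
  haveI : IsIso h := QCoh.isIso_of_isBasis h Y.isBasis_affineOpens fun U hU => by
    haveI := QCoh.finite_of_isFT hB.1 hB.2 (show IsAffineOpen U from hU)
    exact OrzechProperty.bijective_of_surjective_endomorphism
      ({ toFun := h.app U, map_add' := map_add (h.app U).hom, map_smul' := fun r x => h.app_smul r x } :
        Γ(B, U) →ₗ[Γ(Y, U)] Γ(B, U))
      (QCoh.app_surjective_of_epi hB.1 hB.1 h hU)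
  rw [show f = e.hom ≫ h by simp [h]]
  infer_instance

variable {X P : Scheme.{u}} {π : P ⟶ X} {n : ℕ} [AlgebraicGeometry.IsNoetherian X] [AlgebraicGeometry.IsNoetherian P]

section Chart

variable {G : X.Modules} {O1 : P.Modules} (c : Chart π O1 G n)

/-- The restriction of the counit to a chart, with its kernel. -/
theorem counit_chart (W : P.Modules) (hlf : Coh.IsCoh ((Scheme.Modules.pushforward π).obj W))
    (hreg : KRR.IsRegSheaf n c.B ((Scheme.Modules.pullback c.j).obj W))
    (hW : Coh.IsCoh ((Scheme.Modules.pullback c.j).obj W)) :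
    let ε := (Scheme.Modules.pullbackPushforwardAdjunction π).counit.app W
    Epi ((Scheme.Modules.pullback c.j).map ε) ∧
      Nonempty ((Scheme.Modules.pullback c.j).obj (kernel ε) ≅ kernel (RegRes.eps ((Scheme.Modules.pullback c.j).obj W))) := by
  intro ε
  let J := Scheme.Modules.pullback c.j
  let I := Scheme.Modules.pullback c.U.1.ι
  let p := KRR.pr n c.B
  haveI : CompactSpace c.B := isCompact_iff_compactSpace.1 c.U.2.isCompact
  have hq : Coh.IsQCoh (J.obj W) := hW.1
  have hA : Coh.IsCoh (I.obj ((Scheme.Modules.pushforward π).obj W)) := ZClosLib.isCoh_pullback _ hlf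
  have hB : Coh.IsCoh ((Scheme.Modules.pushforward p).obj (J.obj W)) := SheafHomX.isCoh_of_iso (c.push.app W) hA
  let e := (pullNat c).app ((Scheme.Modules.pushforward π).obj W)
  let φ : (Scheme.Modules.pullback p).obj (I.obj ((Scheme.Modules.pushforward π).obj W)) ⟶ J.obj W := e.inv ≫ J.map ε
  haveI : Epi ((Scheme.Modules.pushforward p).map φ) := by
    haveI : IsSplitEpi ((Scheme.Modules.pushforward π).map ε) :=
      ⟨⟨⟨(Scheme.Modules.pullbackPushforwardAdjunction π).unit.app _,
        (Scheme.Modules.pullbackPushforwardAdjunction π).right_triangle_components W⟩⟩⟩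
    haveI : IsSplitEpi ((Scheme.Modules.pushforward π ⋙ I).map ε) :=
      inferInstanceAs (IsSplitEpi (I.map ((Scheme.Modules.pushforward π).map ε)))
    have h : (J ⋙ Scheme.Modules.pushforward p).map ε = c.push.inv.app _ ≫
        (Scheme.Modules.pushforward π ⋙ I).map ε ≫ c.push.hom.app _ := by
      rw [c.push.hom.naturality ε, Iso.inv_hom_id_app_assoc]
    haveI : Epi ((Scheme.Modules.pushforward p).map (J.map ε)) := by
      rw [← Functor.comp_map, h]; infer_instance
    rw [Functor.map_comp]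
    infer_instance
  haveI := PnH0.isIso_unit (n := n) (I.obj ((Scheme.Modules.pushforward π).obj W)) (hA.1)
  let a := (Scheme.Modules.pullbackPushforwardAdjunction p).unit.app _ ≫ (Scheme.Modules.pushforward p).map φ
  haveI : Epi a := inferInstance
  haveI : IsIso a := isIso_of_epi_coh a hA hB ⟨c.push.app W⟩
  haveI := KRREpi.epi_counit _ hq hreg
  have hJ : J.map ε = (e.hom ≫ (Scheme.Modules.pullback p).map a) ≫ RegRes.eps (J.obj W) := by
    rw [Category.assoc, factor_counit φ]
    exact (e.hom_inv_id_assoc _).symm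
  refine ⟨by rw [hJ]; infer_instance, ?_⟩
  haveI := isLeftAdjoint_pullback c.j
  haveI : PreservesFiniteLimits J := preservesFiniteLimits_of_natIso (Scheme.Modules.restrictFunctorIsoPullback c.j)
  exact ⟨PreservesKernel.iso J ε ≪≫ kernelIsoOfEq hJ ≪≫ kernelIsIsoComp _ _⟩

/-- The unit at a bundle, restricted to a chart. -/
theorem isIso_unit_chart (N : X.Modules) (hN : Coh.IsCoh N) :
    IsIso ((Scheme.Modules.pullback c.U.1.ι).map
      ((Scheme.Modules.pullbackPushforwardAdjunction π).unit.app N)) := by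
  let J := Scheme.Modules.pullback c.j
  let I := Scheme.Modules.pullback c.U.1.ι
  let p := KRR.pr n c.B
  let Pl := Scheme.Modules.pullback p
  let adj := Scheme.Modules.pullbackPushforwardAdjunction π
  let η := adj.unit.app N
  have hIN : Coh.IsCoh (I.obj N) := ZClosLib.isCoh_pullback _ hN
  haveI := PnH0.isIso_unit (n := n) (I.obj N) (hIN.1)
  let e₀ : J.obj ((Scheme.Modules.pullback π).obj N) ≅ Pl.obj (I.obj N) := (pullNat c).app N
  let e₁ : I.obj ((Scheme.Modules.pushforward π).obj ((Scheme.Modules.pullback π).obj N)) ≅ I.obj N :=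
    c.push.app _ ≪≫ (Scheme.Modules.pushforward p).mapIso e₀ ≪≫
      (asIso ((Scheme.Modules.pullbackPushforwardAdjunction p).unit.app (I.obj N))).symm
  have hA : Coh.IsCoh (I.obj ((Scheme.Modules.pushforward π).obj ((Scheme.Modules.pullback π).obj N))) :=
    SheafHomX.isCoh_of_iso e₁.symm hIN
  let ε := adj.counit.app ((Scheme.Modules.pullback π).obj N)
  have htri : J.map ((Scheme.Modules.pullback π).map η) ≫ J.map ε = 𝟙 _ :=
    (J.map_comp _ _).symm.trans ((congrArg (fun v => J.map v) (adj.left_triangle_components N)).trans (J.map_id _))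
  haveI : Epi (J.map ε) := by
    haveI : IsSplitEpi (J.map ε) := ⟨⟨⟨_, htri⟩⟩⟩
    infer_instance
  let e₂ := (pullNat c).app ((Scheme.Modules.pushforward π).obj ((Scheme.Modules.pullback π).obj N))
  haveI : IsIso (J.map ε) := isIso_of_epi_coh _ (SheafHomX.isCoh_of_iso e₂.symm (ZClosLib.isCoh_pullback p hA))
    (SheafHomX.isCoh_of_iso e₀.symm (ZClosLib.isCoh_pullback p hIN)) ⟨e₂ ≪≫ Pl.mapIso e₁ ≪≫ e₀.symm⟩
  haveI : IsIso (J.map ((Scheme.Modules.pullback π).map η)) :=
    IsIso.of_isIso_fac_right htri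
  haveI : IsIso (Pl.map (I.map η)) := by
    have h : Pl.map (I.map η) = (pullNat c).inv.app _ ≫ J.map ((Scheme.Modules.pullback π).map η) ≫
        (pullNat c).hom.app _ := by
      rw [← Functor.comp_map (Scheme.Modules.pullback π) J, (pullNat c).hom.naturality η, Iso.inv_hom_id_app_assoc]
      rfl
    rw [h]; infer_instance
  have hnat := (Scheme.Modules.pullbackPushforwardAdjunction p).unit.naturality (I.map η)
  simp only [Functor.id_map, Functor.comp_map] at hnat
  have hu := PnH0.isIso_unit (n := n) (I.obj N) (hIN.1)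
  have hmap : IsIso ((Scheme.Modules.pushforward p).map (Pl.map (I.map η))) := Functor.map_isIso _ _
  have hu' := PnH0.isIso_unit (n := n) _ (hA.1)
  have hc := IsIso.comp_isIso' hu hmap
  exact @IsIso.of_isIso_fac_right _ _ _ _ _ _ _ _ hu' hc hnat

theorem isZero_push_chart {Oinv : P.Modules} (hinv : PicF.cl O1 * PicF.cl Oinv = 1) {a : ℕ} (h1 : 1 ≤ a)
    (ha : a ≤ n) {N : X.Modules} (hN : Coh.IsCoh N) :
    IsZero ((Scheme.Modules.pullback c.U.1.ι).obj ((Scheme.Modules.pushforward π).obj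
      (CohB1.tensorMod (CohB1.tensorPow Oinv a) ((Scheme.Modules.pullback π).obj N)))) := by
  let F := CohB1.tensorMod (CohB1.tensorPow Oinv a) ((Scheme.Modules.pullback π).obj N)
  let M := (Tw n c.B (-(a : ℤ))).obj
    ((Scheme.Modules.pullback (KRR.pr n c.B)).obj ((Scheme.Modules.pullback c.U.1.ι).obj N))
  obtain ⟨e⟩ := nonempty_j_tw c hinv a N
  have hq : Coh.IsQCoh ((Scheme.Modules.pullback c.U.1.ι).obj N) :=
    (ZClosLib.isCoh_pullback _ hN).1
  have hz : IsZero ((Scheme.Modules.pushforward (KRR.pr n c.B)).obj M) :=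
    (RegRes.isZero_push_iff (A := M) (KRR.pr n c.B)).1 (RegRes.rz_zero_tw_pullback _ hq a h1 ha)
  exact IsZero.of_iso hz (Iso.trans (c.push.app F) ((Scheme.Modules.pushforward (KRR.pr n c.B)).mapIso e))

end Chart

variable (D : Data π n)

theorem lf_tp (a : ℕ) {F : P.Modules} (hF : Coh.IsCoh F) :
    Coh.IsCoh (CohB1.tensorMod (CohB1.tensorPow D.Oinv a) F) :=
  CurveTensor.isCoh_tensor (lf_pow D a) hF

section Syz

theorem reg_zero_iff {W : P.Modules} : Reg D 0 W ↔ Coh.IsCoh W ∧
    ∀ y ∈ D.s, KRR.IsRegSheaf n (D.a y).B ((Scheme.Modules.pullback (D.a y).j).obj W) := by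
  refine and_congr_right fun _ => forall₂_congr fun y _ => forall₂_congr fun i _ => ?_
  rw [Nat.cast_zero, zero_sub]
  rfl

theorem epi_eG {W : P.Modules} (hW : Reg D 0 W) : Epi (eG (π := π) W) := by
  refine PBAtlas.epi_of_restrict _ fun p => ?_
  obtain ⟨y, hy, hx⟩ := D.cover (π p)
  let c := D.a y
  refine ⟨π ⁻¹ᵁ c.U.1, hx, ?_⟩
  haveI := (counit_chart c W (PBCohPush.lf_push_def D (PBCohPush.def_of_reg D hW)) ((reg_zero_iff D).1 hW |>.2 y hy)
    (ZClosLib.isCoh_pullback c.j hW.1)).1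
  have h : Epi ((Scheme.Modules.pullback (inv c.θ)).map ((Scheme.Modules.pullback c.θ).map
      ((Scheme.Modules.pullback (π ⁻¹ᵁ c.U.1).ι).map (eG (π := π) W)))) := by
    haveI := isLeftAdjoint_pullback (inv c.θ)
    haveI : Epi ((Scheme.Modules.pullback c.θ).map ((Scheme.Modules.pullback (π ⁻¹ᵁ c.U.1).ι).map (eG (π := π) W))) :=
      ((MorphismProperty.epimorphisms _).arrow_mk_iso_iff
        (((Functor.mapArrowFunctor _ _).mapIso (Scheme.Modules.pullbackComp c.θ (π ⁻¹ᵁ c.U.1).ι)).app (Arrow.mk (eG (π := π) W)))).2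
        (inferInstanceAs (Epi ((Scheme.Modules.pullback c.j).map (eG (π := π) W))))
    infer_instance
  exact ((MorphismProperty.epimorphisms _).arrow_mk_iso_iff
    (((Functor.mapArrowFunctor _ _).mapIso (backIso c.θ)).app
      (Arrow.mk ((Scheme.Modules.pullback (π ⁻¹ᵁ c.U.1).ι).map (eG (π := π) W))))).1 h

theorem PW_spec {F : P.Modules} (hF : Reg D 0 F) : ∀ k, Reg D 0 (PW D F k) ∧
    ∀ y ∈ D.s, Nonempty ((Scheme.Modules.pullback (D.a y).j).obj (PW D F k) ≅
      RegRes.W ((Scheme.Modules.pullback (D.a y).j).obj F) k)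
  | 0 => ⟨hF, fun y _ => ⟨Iso.refl _⟩⟩
  | k + 1 => by
    obtain ⟨hk, hek⟩ := PW_spec hF k
    have hp := PBCohPush.lf_push_def D (PBCohPush.def_of_reg D hk)
    haveI := epi_eG D hk
    have hK : Coh.IsCoh (kernel (eG (π := π) (PW D F k))) :=
      QCoh.isCoh_kernel (ZClosLib.isCoh_pullback π hp) hk.1 _
    have hiso : ∀ y ∈ D.s, Nonempty ((Scheme.Modules.pullback (D.a y).j).obj (PW D F (k + 1)) ≅
        RegRes.W ((Scheme.Modules.pullback (D.a y).j).obj F) (k + 1)) := fun y hy => by
      let c := D.a y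
      obtain ⟨e₁⟩ := nonempty_twist c (kernel (eG (π := π) (PW D F k)))
      obtain ⟨e₂⟩ := (counit_chart c _ hp ((reg_zero_iff D).1 hk |>.2 y hy) (ZClosLib.isCoh_pullback c.j hk.1)).2
      obtain ⟨e⟩ := hek y hy
      let adj := Scheme.Modules.pullbackPushforwardAdjunction (KRR.pr n c.B)
      exact ⟨e₁ ≪≫ (Tw n c.B 1).mapIso (e₂ ≪≫ kernel.mapIso _ _
        ((Scheme.Modules.pullback _).mapIso ((Scheme.Modules.pushforward _).mapIso e)) e (adj.counit.naturality e.hom).symm)⟩
    refine ⟨(reg_zero_iff D).2 ⟨CurveTensor.isCoh_tensor D.lf1 hK, fun y hy => ?_⟩, hiso⟩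
    obtain ⟨e⟩ := hiso y hy
    exact KRegK0.isReg_of_iso e.symm (RegRes.W_spec (ZClosLib.isCoh_pullback _ hF.1).1
      ((reg_zero_iff D).1 hF |>.2 y hy) (k + 1)).2

theorem isZero_PW {F : P.Modules} (hF : Reg D 0 F) (m : ℕ) : IsZero (PW D F (n + 1 + m)) := by
  refine PBAtlas.isZero_of_restrict _ fun p => ?_
  obtain ⟨y, hy, hx⟩ := D.cover (π p)
  let c := D.a y
  obtain ⟨e⟩ := (PW_spec D hF (n + 1 + m)).2 y hy
  refine ⟨π ⁻¹ᵁ c.U.1, hx, ?_⟩
  have hz : IsZero ((Scheme.Modules.pullback c.θ).obj ((Scheme.Modules.pullback (π ⁻¹ᵁ c.U.1).ι).obj (PW D F (n + 1 + m)))) :=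
    (RegRes.isZero_W (ZClosLib.isCoh_pullback _ hF.1).1
      ((reg_zero_iff D).1 hF |>.2 y hy) m).of_iso
      ((Scheme.Modules.pullbackComp c.θ (π ⁻¹ᵁ c.U.1).ι).app _ ≪≫ e)
  exact ((Scheme.Modules.pullback (inv c.θ)).map_isZero hz).of_iso
    ((Scheme.Modules.pullbackComp (inv c.θ) c.θ).app _ ≪≫
      (Scheme.Modules.pullbackCongr (IsIso.inv_hom_id c.θ)).app _ ≪≫ (Scheme.Modules.pullbackId _).app _).symm

theorem cl_tp_iso (a : ℕ) {A B : P.Modules} (e : PicF.cl (CohB1.tensorMod (CohB1.tensorPow D.Oinv a) A) = PicF.cl B)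
    (hA : Coh.IsCoh A) (hB : Coh.IsCoh B) :
    clc P (CohB1.tensorMod (CohB1.tensorPow D.Oinv a) A) = clc P B :=
  clc_iso (cl_eq_iff.1 e).some (lf_tp D a hA) hB

variable {S : AddSubgroup (SGA6.Kcoh P)}
  (hS : ∀ (a : ℕ) (N : X.Modules), a ≤ n → Coh.IsCoh N → clc P (gN D a N) ∈ S)

include hS in
theorem cl_PW_mem {F : P.Modules} (hF : Reg D 0 F) :
    ∀ j k : ℕ, n + 1 ≤ k + j → clc P (CohB1.tensorMod (CohB1.tensorPow D.Oinv k) (PW D F k)) ∈ S := by
  intro j
  induction j with
  | zero =>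
    intro k hk
    obtain ⟨m, rfl⟩ := Nat.exists_eq_add_of_le (show n + 1 ≤ k by omega)
    rw [show clc P (CohB1.tensorMod (CohB1.tensorPow D.Oinv (n + 1 + m)) (PW D F (n + 1 + m))) = 0 from
      KZ.clSub_isZero _ ((DCoh.tensorBi.obj _).map_isZero (isZero_PW D hF m))]
    exact S.zero_mem
  | succ j ih =>
    intro k hk
    by_cases hkn : n + 1 ≤ k + j
    · exact ih k hkn
    obtain ⟨hW, -⟩ := PW_spec D hF k
    have hp := PBCohPush.lf_push_def D (PBCohPush.def_of_reg D hW)
    haveI := epi_eG D hW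
    have hK : Coh.IsCoh (kernel (eG (π := π) (PW D F k))) :=
      QCoh.isCoh_kernel (ZClosLib.isCoh_pullback π hp) hW.1 _
    have hpow := lf_pow D k
    have h1 := KZ.clSub_ses ((fun M : P.Modules => Coh.IsCoh M)) (PBPush.shortExact_tens hpow (KZ.kerSeq_shortExact (eG (π := π) (PW D F k))))
      (lf_tp D k hK) (lf_tp D k (ZClosLib.isCoh_pullback π hp)) (lf_tp D k hW.1)
    have h2 : clc P (CohB1.tensorMod (CohB1.tensorPow D.Oinv (k + 1)) (PW D F (k + 1))) =
        clc P (CohB1.tensorMod (CohB1.tensorPow D.Oinv k) (kernel (eG (π := π) (PW D F k)))) := by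
      refine cl_tp_iso D (k + 1) ?_ (CurveTensor.isCoh_tensor D.lf1 hK) (lf_tp D k hK)
      show PicF.cl (CohB1.tensorPow D.Oinv (k + 1)) * (PicF.cl D.O1 * PicF.cl (kernel (eG (π := π) (PW D F k)))) =
        PicF.cl (CohB1.tensorPow D.Oinv k) * PicF.cl (kernel (eG (π := π) (PW D F k)))
      rw [cl_tensorPow, cl_tensorPow, pow_succ, ← mul_assoc, mul_assoc (PicF.cl D.Oinv ^ k) (PicF.cl D.Oinv),
        mul_comm (PicF.cl D.Oinv) (PicF.cl D.O1), cl_inv, mul_one]
    have h3 : clc P (CohB1.tensorMod (CohB1.tensorPow D.Oinv k) (PW D F k)) =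
        clc P (gN D k ((Scheme.Modules.pushforward π).obj (PW D F k))) -
          clc P (CohB1.tensorMod (CohB1.tensorPow D.Oinv (k + 1)) (PW D F (k + 1))) := by
      rw [h2, eq_sub_iff_add_eq, add_comm]
      exact h1.symm
    rw [h3]
    exact S.sub_mem (hS k _ (by omega) hp) (ih (k + 1) (by omega))

include hS in
theorem cl_mem : ∀ (j : ℕ) (F : P.Modules), Reg D j F → clc P F ∈ S
  | 0, F, hF => by
    have h := cl_PW_mem D hS hF (n + 1) 0 (by omega)
    rw [show PW D F 0 = F from rfl] at h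
    rwa [cl_tp_iso D 0 (B := F) (by rw [cl_tensor, cl_tensorPow, pow_zero, one_mul]) hF.1 hF.1] at h
  | j + 1, F, hF => by
    obtain ⟨f, g, w, hs⟩ := exists_coresC D F
    have h1 := KZ.clSub_ses ((fun M : P.Modules => Coh.IsCoh M)) hs hF.1 (PBCohPush.reg_Mf D hF).1 (PBCohPush.reg_Cf D hF).1
    have h2 : clc P F = clc P (D.Mf.obj F) - clc P (D.Cf.obj F) := eq_sub_iff_add_eq.2 h1.symm
    rw [h2]
    exact S.sub_mem (cl_mem j _ (PBCohPush.reg_Mf D hF)) (cl_mem j _ (PBCohPush.reg_Cf D hF))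

include hS in
theorem eq_top : S = ⊤ := by
  refine eq_top_iff.2 fun x _ => ?_
  refine QuotientAddGroup.induction_on x fun z => ?_
  induction z using FreeAbelianGroup.induction_on with
  | zero => exact S.zero_mem
  | of E =>
    rw [show (QuotientAddGroup.mk (FreeAbelianGroup.of E) : SGA6.Kcoh P) = clc P E.1
      from (KZ.clSub_of_prop ((fun M : P.Modules => Coh.IsCoh M)) E.2).symm]
    obtain ⟨j, hj⟩ := PBCohPush.exists_reg D E.2
    exact cl_mem D hS j _ hj
  | neg E h => rw [QuotientAddGroup.mk_neg]; exact S.neg_mem h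
  | add a b ha hb => rw [QuotientAddGroup.mk_add]; exact S.add_mem ha hb

end Syz

theorem def_gN {a : ℕ} (ha : a ≤ n) {N : X.Modules} (hN : Coh.IsCoh N) : Def D 0 (gN D a N) :=
  ⟨lf_tp D a (ZClosLib.isCoh_pullback π hN), fun y _ b i hi _ => by
    obtain ⟨e⟩ := nonempty_j_tw (D.a y) (cl_inv D) a N
    exact RKoszul.rz_of_iso _ ((Tw n (D.a y).B (b : ℤ)).mapIso e.symm) i (RKoszul.rz_of_iso _
      (twF_twF (b : ℤ) (-(a : ℤ)) ((b : ℤ) - a) (by ring) _).some.symm i
      (PnBox.rz_tw_pullback _ (ZClosLib.isCoh_pullback _ hN).1 _ i hi (Or.inl (by omega))))⟩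

set_option maxHeartbeats 1000000 in
theorem isZero_push_gN {a : ℕ} (h1 : 1 ≤ a) (ha : a ≤ n) {N : X.Modules} (hN : Coh.IsCoh N) :
    IsZero ((Scheme.Modules.pushforward π).obj (gN D a N)) :=
  PBAtlas.isZero_of_restrict _ fun x => by
    obtain ⟨y, -, hx⟩ := D.cover x
    exact ⟨(D.a y).U.1, hx, isZero_push_chart (D.a y) (cl_inv D) h1 ha hN⟩

include D in
theorem isIso_unit {N : X.Modules} (hN : Coh.IsCoh N) :
    IsIso ((Scheme.Modules.pullbackPushforwardAdjunction π).unit.app N) :=
  isIso_of_restrict _ fun x => by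
    obtain ⟨y, -, hx⟩ := D.cover x
    exact ⟨(D.a y).U.1, hx, isIso_unit_chart (D.a y) N hN⟩

theorem cl_twist_gN (a : ℕ) {N : X.Modules} (hN : Coh.IsCoh N) :
    clc P ((DCoh.tensorBi.obj D.O1).obj (gN D (a + 1) N)) = clc P (gN D a N) :=
  clc_iso (A := (DCoh.tensorBi.obj D.O1).obj (gN D (a + 1) N)) (B := gN D a N) (twist_gN D a N).some
    (CurveTensor.isCoh_tensor (E := D.O1) (F := gN D (a + 1) N) D.lf1 (lf_tp D _ (ZClosLib.isCoh_pullback π hN)))
    (lf_tp D _ (ZClosLib.isCoh_pullback π hN))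

set_option maxHeartbeats 1000000 in
/-- `K₀` of the bundle is free on the negative twists. -/
theorem bijective_basis (G : Fin (n + 1) → (SGA6.Kcoh X →+ SGA6.Kcoh P))
    (hG : ∀ (i : Fin (n + 1)) (N : X.Modules), Coh.IsCoh N →
      G i (clc X N) = clc P (gN D (i : ℕ) N)) :
    Function.Bijective fun x : Fin (n + 1) → SGA6.Kcoh X => ∑ i, G i (x i) := by
  let Φ : (Fin (n + 1) → SGA6.Kcoh X) →+ SGA6.Kcoh P :=
    ∑ i, (G i).comp (Pi.evalAddMonoidHom (fun _ : Fin (n + 1) => SGA6.Kcoh X) i)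
  have hΦ : ∀ x, Φ x = ∑ i, G i (x i) := fun x => by
    simp only [Φ, AddMonoidHom.finsetSum_apply, AddMonoidHom.comp_apply, Pi.evalAddMonoidHom_apply]
  rw [show (fun x : Fin (n + 1) → SGA6.Kcoh X => ∑ i, G i (x i)) = Φ from funext fun x => (hΦ x).symm]
  refine ⟨(injective_iff_map_eq_zero Φ).2 fun x hx => ?_, fun y => ?_⟩
  · obtain ⟨p, hp⟩ := PBCohPush.exists_pushHom D
    obtain ⟨t, ht⟩ := KZ.exists_liftSub ((fun M : P.Modules => Coh.IsCoh M)) (fun F => clc P ((DCoh.tensorBi.obj D.O1).obj F))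
      fun _ hS h₁ h₂ h₃ => KZ.clSub_ses ((fun M : P.Modules => Coh.IsCoh M)) (PBPush.shortExact_tens D.lf1 hS)
        (CurveTensor.isCoh_tensor D.lf1 h₁) (CurveTensor.isCoh_tensor D.lf1 h₂)
        (CurveTensor.isCoh_tensor D.lf1 h₃)
    have hiter : ∀ (j a : ℕ) (N : X.Modules), Coh.IsCoh N →
        (⇑t)^[j] (clc P (gN D (a + j) N)) = clc P (gN D a N) := by
      intro j
      induction j with
      | zero => intro a N _; rfl
      | succ j ih =>
        intro a N hN
        rw [Function.iterate_succ_apply, show a + (j + 1) = a + j + 1 by omega,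
          ht _ (lf_tp D _ (ZClosLib.isCoh_pullback π hN)), cl_twist_gN D (a + j) hN]
        exact ih a N hN
    let T : ℕ → SGA6.Kcoh P →+ SGA6.Kcoh P := fun j => Nat.rec (AddMonoidHom.id _) (fun _ f => f.comp t) j
    have hT : ∀ j z, T j z = (⇑t)^[j] z := by
      intro j
      induction j with
      | zero => intro z; rfl
      | succ j ih => intro z; rw [Function.iterate_succ_apply]; exact ih (t z)
    have hval : ∀ (j : ℕ) (i : Fin (n + 1)), j ≤ (i : ℕ) → ∀ y,
        p (T j (G i y)) = if (i : ℕ) = j then y else 0 := by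
      intro j i hji
      obtain ⟨a, ha⟩ := Nat.exists_eq_add_of_le hji
      have hz : ∀ N, Coh.IsCoh N → p (T j (G i (clc X N))) = if (i : ℕ) = j then clc X N else 0 :=
        fun N hN => by
        have hin := i.isLt
        rw [hG i N hN, hT, show (i : ℕ) = a + j by omega, hiter j a N hN, hp _ (def_gN D (by omega) hN)]
        rcases Nat.eq_zero_or_pos a with rfl | h
        · rw [if_pos (by omega)]
          haveI := isIso_unit D hN
          exact clc_iso ((Scheme.Modules.pushforward π).mapIso (gN_zero D N).some ≪≫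
            (asIso ((Scheme.Modules.pullbackPushforwardAdjunction π).unit.app N)).symm)
            (PBCohPush.lf_push_def D (def_gN D (by omega) hN)) hN
        · rw [if_neg (by omega)]
          exact KZ.clSub_isZero _ (isZero_push_gN D h (by omega) hN)
      intro y
      by_cases hij : (i : ℕ) = j
      · rw [if_pos hij]
        exact DFunLike.congr_fun (f := (p.comp (T j)).comp (G i)) (g := AddMonoidHom.id _)
          (KZ.K0sub_hom_ext _ fun N hN => by simpa [hij] using hz N hN) y
      · rw [if_neg hij]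
        exact DFunLike.congr_fun (f := (p.comp (T j)).comp (G i)) (g := 0)
          (KZ.K0sub_hom_ext _ fun N hN => by simpa [hij] using hz N hN) y
    suffices H : ∀ j : ℕ, ∀ i : Fin (n + 1), (i : ℕ) = j → x i = 0 from funext fun i => H _ i rfl
    intro j
    induction j using Nat.strong_induction_on with
    | _ j ih =>
      intro i hij
      have h := congrArg (fun z => p (T j z)) ((hΦ x).symm.trans hx)
      simp only [map_sum, map_zero] at h
      rw [Finset.sum_eq_single i] at h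
      · rwa [hval j i hij.ge, if_pos hij] at h
      · intro k _ hk
        rcases Nat.lt_or_ge (k : ℕ) j with h' | h'
        · rw [ih _ h' k rfl, map_zero, map_zero, map_zero]
        · rw [hval j k h', if_neg fun e => hk (Fin.ext (e.trans hij.symm))]
      · simp
  · have htop := eq_top D (S := Φ.range) fun a N ha hN => by
      refine ⟨Pi.single ⟨a, by omega⟩ (clc X N), ?_⟩
      rw [hΦ, Finset.sum_eq_single ⟨a, by omega⟩]
      · rw [Pi.single_eq_same]; exact hG ⟨a, by omega⟩ N hN
      · intro i _ hi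
        rw [Pi.single_eq_of_ne hi, map_zero]
      · simp
    exact (htop ▸ AddSubgroup.mem_top y : y ∈ Φ.range)

end Groth.Agent.H28.PBCohBasis
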