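import Groth.Agent.H28.FlatPr
import Groth.Agent.H28.PnBC
import Groth.Agent.ModPairLib.Basic
import Groth.Prelude.Def_Mor2
import Mathlib.RingTheory.Regular.Flat

/-!
# Regular closed immersions and flat base change
-/

set_option autoImplicit false
set_option linter.style.haveILetI false
set_option backward.isDefEq.respectTransparency false
set_option backward.isDefEq.respectTransparency.types false

universe u

open CategoryTheory CategoryTheory.Limits AlgebraicGeometry TopologicalSpace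

namespace Groth.Agent.H28.RegBC

theorem regular_baseChange {X Y X' Y' : Scheme.{u}} {i : Y ⟶ X} {g : X' ⟶ X} {i' : Y' ⟶ X'} {g' : Y' ⟶ Y}
    [Flat g] (hsq : IsPullback g' i' i g) (hi : Mor2.IsRegularClosedImmersion i) :
    Mor2.IsRegularClosedImmersion i' := by
  haveI := hi.1
  haveI : IsClosedImmersion i' := MorphismProperty.of_isPullback (P := @IsClosedImmersion) hsq hi.1
  refine ⟨inferInstance, fun z => ?_⟩
  obtain ⟨U, hU, hzU, rs, hrs, hker⟩ := hi.2 (g' z)
  have hz : i' z ∈ g ⁻¹ᵁ U := by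
    show g (i' z) ∈ U
    rw [← Scheme.Hom.comp_apply, ← hsq.w, Scheme.Hom.comp_apply]
    exact hzU
  obtain ⟨_, ⟨V, hV, rfl⟩, hzV, hVU⟩ := X'.isBasis_affineOpens.exists_subset_of_mem_open hz (g ⁻¹ᵁ U).2
  let φ := (g.appLE U V hVU).hom
  refine ⟨V, hV, hzV, rs.map φ, ?_⟩
  have hI : i'.ker.ideal ⟨V, hV⟩ = Ideal.ofList (rs.map φ) := by
    have h1 : i'.ker = i.ker.comap g := by
      rw [← Scheme.IdealSheafData.ker_fst_of_isClosedImmersion i g,
        ← Scheme.Hom.ker_comp_of_isIso hsq.flip.isoPullback.hom, hsq.flip.isoPullback_hom_fst]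
    rw [h1, ModPairLib.ideal_comap _ g ⟨U, hU⟩ ⟨V, hV⟩ hVU, hker]
    exact Ideal.map_ofList _ _
  refine ⟨⟨?_, ?_⟩, hI⟩
  · letI : Algebra Γ(X, U) Γ(X', V) := φ.toAlgebra
    haveI : Module.Flat Γ(X, U) Γ(X', V) := g.flat_appLE hU hV hVU
    exact hrs.toIsWeaklyRegular.of_flat (S := Γ(X', V))
  · intro h
    have h' : i'.ker.ideal ⟨V, hV⟩ = ⊤ := by
      rw [hI]
      simpa [smul_eq_mul, Ideal.mul_top] using h.symm
    have hs : i' z ∈ (i'.ker.support : Set X') := by
      rw [Scheme.Hom.support_ker]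
      exact subset_closure ⟨z, rfl⟩
    have := (Scheme.IdealSheafData.coe_support_inter i'.ker ⟨V, hV⟩).le ⟨hs, hzV⟩
    rw [h'] at this
    simp [Scheme.zeroLocus_def] at this
    exact this.1 1 (by rw [X'.basicOpen_of_isUnit isUnit_one]; exact this.2)

theorem isPullback_projSpaceMap (n : ℕ) {X Y : Scheme.{u}} (i : X ⟶ Y) :
    IsPullback (KRR.projSpaceMap n i) (KRR.pr n X) (KRR.pr n Y) i := by
  refine IsPullback.of_right ?_ (PnBC.ψ_pr (n := n) i)
    (IsPullback.of_hasPullback (CohB1.ProjSpace.toSpec n (ULift.{u} ℤ)) (specULiftZIsTerminal.from Y))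
  have h1 : KRR.projSpaceMap n i ≫ pullback.fst (CohB1.ProjSpace.toSpec n (ULift.{u} ℤ)) (specULiftZIsTerminal.from Y) =
      pullback.fst _ _ := (pullback.lift_fst _ _ _).trans (Category.comp_id _)
  rw [h1, show i ≫ specULiftZIsTerminal.from Y = specULiftZIsTerminal.from X from specULiftZIsTerminal.hom_ext _ _]
  exact IsPullback.of_hasPullback _ _

theorem regular_projSpaceMap (n : ℕ) {X Y : Scheme.{u}} {i : X ⟶ Y} (hi : Mor2.IsRegularClosedImmersion i) :
    Mor2.IsRegularClosedImmersion (KRR.projSpaceMap n i) := by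
  haveI := FlatPr.flat_pr n Y
  exact regular_baseChange (isPullback_projSpaceMap n i).flip hi

end Groth.Agent.H28.RegBC
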