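import Groth.Agent.KZ.LFRes
import Groth.Agent.H23.SpClosed
import Groth.Agent.RegLoc6.Pd
import Groth.Agent.QCoh.Support
import Groth.Agent.KFlatLib.Scheme.ClosedPush
import Mathlib.RingTheory.Regular.Flat
import Mathlib.RingTheory.Regular.ProjectiveDimension
import Groth.Prelude.Def_KRR

/-!
# The push-forward `f_K` along a regular closed immersion
-/

set_option linter.style.haveILetI false
set_option linter.unusedSectionVars false
set_option backward.isDefEq.respectTransparency false
set_option backward.isDefEq.respectTransparency.types false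

universe v w u

open CategoryTheory CategoryTheory.Limits AlgebraicGeometry TopologicalSpace
open RingTheory.Sequence IsLocalRing

namespace Groth.Agent.H28.KRRPush

open Groth.Agent Groth.Agent.KZ.LFRes

section Alg

variable {R : Type u} [CommRing R]

theorem pdLE_prod {M N : Type u} [AddCommGroup M] [Module R M] [AddCommGroup N] [Module R N] {c : ℕ}
    (hM : RegLoc6.PdLE R c M) (hN : RegLoc6.PdLE R c N) : RegLoc6.PdLE R c (M × N) := by
  have hK : RegLoc6.PdLE R c (LinearMap.ker (LinearMap.snd R M N)) := by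
    refine RegLoc6.pdLE_of_equiv ?_ hM
    exact (LinearEquiv.ofInjective (LinearMap.inl R M N) LinearMap.inl_injective).trans
      (LinearEquiv.ofEq _ _ (LinearMap.range_inl R M N))
  exact (LinearMap.shortExact_shortComplexKer (LinearMap.snd_surjective (R := R) (M := M) (M₂ := N))
    ).hasProjectiveDimensionLT_X₂ (c + 1) hK hN

theorem pdLE_pi {N : Type u} [AddCommGroup N] [Module R N] {c : ℕ} (hN : RegLoc6.PdLE R c N) :
    ∀ r : ℕ, RegLoc6.PdLE R c (Fin r → N)
  | 0 => haveI : Module.Projective R (Fin 0 → N) := inferInstance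
         RegLoc6.pdLE_of_projective c
  | r + 1 => RegLoc6.pdLE_of_equiv (Fin.consLinearEquiv R (fun _ : Fin (r + 1) => N)) (pdLE_prod hN (pdLE_pi hN r))

/-- A finite free module over a quotient by a regular sequence. -/
theorem pdLE_free_quot [IsLocalRing R] [IsNoetherianRing R] {S N : Type u} [CommRing S] (φ : R →+* S)
    (hφ : Function.Surjective φ) (rs : List R) (hker : RingHom.ker φ = Ideal.ofList rs)
    (hreg : IsRegular R rs) [AddCommGroup N] [Module S N] [Module.Free S N] [Module.Finite S N] :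
    letI := Module.compHom N φ
    RegLoc6.PdLE R rs.length N := by
  letI : Module R N := Module.compHom N φ
  letI : Algebra R S := φ.toAlgebra
  haveI : IsScalarTower R S N := IsScalarTower.of_algebraMap_smul fun _ _ => rfl
  have hq : RegLoc6.PdLE R rs.length (R ⧸ Ideal.ofList rs) := by
    have h := ModuleCat.projectiveDimension_quotient_eq_length (R := R) rs hreg
    have h' : RegLoc6.PdLE R rs.length (Shrink.{u} (R ⧸ Ideal.ofList rs)) :=
      (projectiveDimension_le_iff _ _).1 h.le
    exact RegLoc6.pdLE_of_equiv (Shrink.linearEquiv R _) h'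
  have eS : (R ⧸ Ideal.ofList rs) ≃ₗ[R] S :=
    ((Submodule.quotEquivOfEq _ _ (show Ideal.ofList rs = LinearMap.ker (Algebra.linearMap R S) from
      hker.symm.trans (Submodule.ext fun r => Iff.rfl))).trans
      (LinearMap.quotKerEquivOfSurjective (Algebra.linearMap R S) hφ))
  let ι := Module.Free.ChooseBasisIndex S N
  let b := ((Module.Free.chooseBasis S N).reindex (Fintype.equivFin ι)).equivFun
  exact RegLoc6.pdLE_of_equiv (b.restrictScalars R).symm (pdLE_pi (RegLoc6.pdLE_of_equiv eS hq) _)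

end Alg

variable {X Y : Scheme.{u}} (f : X ⟶ Y) [IsClosedImmersion f]

/-- The kernel of a closed immersion on stalks. -/
theorem ker_stalkMap (x : X) {U : Y.Opens} (hU : IsAffineOpen U) (hx : f x ∈ U) :
    RingHom.ker (f.stalkMap x).hom = (f.ker.ideal ⟨U, hU⟩).map (Y.presheaf.germ U (f x) hx).hom := by
  have hV : IsAffineOpen (f ⁻¹ᵁ U) := hU.preimage f
  letI := QCoh.stalkAlg (X := Y) hx
  haveI := QCoh.isLocalization_stalk' hU hx
  letI := QCoh.stalkAlg (X := X) (show x ∈ f ⁻¹ᵁ U from hx)
  haveI := QCoh.isLocalization_stalk' hV (show x ∈ f ⁻¹ᵁ U from hx)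
  have happ : Function.Surjective (f.app U).hom := f.app_surjective U hU
  rw [Scheme.Hom.ker_apply]
  refine le_antisymm (fun a ha => ?_) (Ideal.map_le_iff_le_comap.2 fun b hb => ?_)
  · obtain ⟨⟨b, s⟩, rfl⟩ := IsLocalization.mk'_surjective (hU.primeIdealOf ⟨f x, hx⟩).asIdeal.primeCompl a
    have h0 : algebraMap Γ(X, f ⁻¹ᵁ U) (X.presheaf.stalk x) ((f.app U).hom b) = 0 := by
      show X.presheaf.germ (f ⁻¹ᵁ U) x hx ((f.app U).hom b) = 0
      rw [← Scheme.Hom.germ_stalkMap_apply f U x hx b]
      show (f.stalkMap x).hom (algebraMap Γ(Y, U) (Y.presheaf.stalk (f x)) b) = 0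
      rw [← IsLocalization.mk'_spec (Y.presheaf.stalk (f x)) b s, map_mul,
        show (f.stalkMap x).hom (IsLocalization.mk' _ b s) = 0 from ha, zero_mul]
    obtain ⟨t, ht⟩ := (IsLocalization.map_eq_zero_iff (hV.primeIdealOf ⟨x, hx⟩).asIdeal.primeCompl _ _).1 h0
    obtain ⟨t', ht'⟩ := happ t.1
    have ht'u : IsUnit (algebraMap Γ(Y, U) (Y.presheaf.stalk (f x)) t') := by
      refine (isUnit_map_iff (f.stalkMap x).hom _).1 ?_
      show IsUnit ((f.stalkMap x).hom (Y.presheaf.germ U (f x) hx t'))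
      rw [show (f.stalkMap x).hom (Y.presheaf.germ U (f x) hx t') = X.presheaf.germ (f ⁻¹ᵁ U) x hx ((f.app U).hom t')
        from Scheme.Hom.germ_stalkMap_apply f U x hx t', ht']
      exact IsLocalization.map_units (X.presheaf.stalk x) t
    have hmem : t' * b ∈ RingHom.ker (f.app U).hom := by rw [RingHom.mem_ker, map_mul, ht', ht]
    have := Ideal.mem_map_of_mem (algebraMap Γ(Y, U) (Y.presheaf.stalk (f x))) hmem
    rw [map_mul, Ideal.unit_mul_mem_iff_mem _ ht'u] at this
    exact (IsLocalization.mk'_mem_iff).2 this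
  · rw [Ideal.mem_comap, RingHom.mem_ker]
    rw [show (f.stalkMap x).hom (Y.presheaf.germ U (f x) hx b) = X.presheaf.germ (f ⁻¹ᵁ U) x hx ((f.app U).hom b)
        from Scheme.Hom.germ_stalkMap_apply f U x hx b, show (f.app U).hom b = 0 from hb, map_zero]

theorem exists_pdlt_push [IsLocallyNoetherian Y] [CompactSpace X] (hf : Mor2.IsRegularClosedImmersion f)
    {F : X.Modules} (hF : FlatMod.IsFinLocFree F) : ∃ c : ℕ, PDLT (c + 1) ((Scheme.Modules.pushforward f).obj F) := by
  classical
  haveI : IsLocallyNoetherian X := LocallyOfFiniteType.isLocallyNoetherian f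
  choose U hU hxU rs hreg hrs using hf.2
  obtain ⟨t, ht⟩ := (isCompact_univ (X := X)).elim_finite_subcover (fun z => ((f ⁻¹ᵁ U z : X.Opens) : Set X))
    (fun z => (f ⁻¹ᵁ U z).2) fun z _ => Set.mem_iUnion.2 ⟨z, hxU z⟩
  refine ⟨t.sup fun z => (rs z).length, QCoh.isCoh_pushforward_finite f (flf_isCoh hF), fun y => ?_⟩
  by_cases hy : y ∈ Set.range f
  swap
  · haveI : Subsingleton ↑(stk ((Scheme.Modules.pushforward f).obj F) y) := H23.ClosedPushLen.subsingleton_stalk f F hy
    haveI := (ModuleCat.isZero_of_subsingleton (stk ((Scheme.Modules.pushforward f).obj F) y)).hasProjectiveDimensionLT_zero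
    exact hasProjectiveDimensionLT_of_ge _ 0 _ (Nat.zero_le _)
  obtain ⟨x, rfl⟩ := hy
  obtain ⟨z, hz, hxz⟩ := Set.mem_iUnion₂.1 (ht (Set.mem_univ x))
  let R := Y.presheaf.stalk (f x)
  let g : Γ(Y, U z) →+* R := (Y.presheaf.germ (U z) (f x) hxz).hom
  letI := QCoh.stalkAlg (X := Y) (show f x ∈ U z from hxz)
  haveI := QCoh.isLocalization_stalk' (hU z) (show f x ∈ U z from hxz)
  haveI : Module.Flat Γ(Y, U z) R :=
    IsLocalization.flat R ((hU z).primeIdealOf ⟨f x, hxz⟩).asIdeal.primeCompl
  have hk : RingHom.ker (f.stalkMap x).hom = Ideal.ofList ((rs z).map g) := by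
    rw [ker_stalkMap f x (hU z) hxz, hrs z, Ideal.map_ofList]
  have hR : IsRegular R ((rs z).map g) := by
    refine ⟨(hreg z).toIsWeaklyRegular.of_flat, ?_⟩
    rw [smul_eq_mul, Ideal.mul_top, ← hk]
    exact fun h => RingHom.ker_ne_top (f.stalkMap x).hom h.symm
  haveI : Module.Free (X.presheaf.stalk x) (F.presheaf.stalk x) := QCoh.free_stalk_of_isFinLocFree hF x
  haveI : Module.Finite (X.presheaf.stalk x) (F.presheaf.stalk x) :=
    QCoh.finite_stalk_of_isFT (QCoh.isQCoh_of_isFinLocFree hF) (flf_isCoh hF).2 x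
  letI : Module R (F.presheaf.stalk x) := Module.compHom _ (f.stalkMap x).hom
  obtain ⟨e⟩ := H23.SpClosed.nonempty_stalkEquiv f F x
  have hpd : RegLoc6.PdLE R ((rs z).map g).length (F.presheaf.stalk x) :=
    pdLE_free_quot (S := X.presheaf.stalk x) (N := F.presheaf.stalk x) (f.stalkMap x).hom
      (f.stalkMap_surjective x) _ hk hR
  rw [List.length_map] at hpd
  exact RegLoc6.pdLE_mono (Finset.le_sup (f := fun z => (rs z).length) hz) (RegLoc6.pdLE_of_equiv e.symm hpd)

end Groth.Agent.H28.KRRPush
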