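import Groth.Agent.H28.TorIndep
import Groth.Agent.H28.KRRPush
import Groth.Agent.RegConormal.Free
import Groth.Agent.KRegLib.Kinds
import Groth.Agent.ConsPropLib.FibreLocFreeRank
import Groth.Agent.ModPairLib.Basic
import Groth.Agent.QCoh.ClosedPush
import Groth.Agent.KZ.ClosedDev
import Groth.Agent.KFlatLib.Scheme.Pullback
import Groth.Agent.H28.PullVB
import Groth.Agent.H28.PushLocFree
import Groth.Agent.S0611

/-!
# Tor-independent squares of regular immersions of the same codimension
-/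

set_option autoImplicit false
set_option linter.style.haveILetI false
set_option linter.unusedSectionVars false
set_option backward.isDefEq.respectTransparency false
set_option backward.isDefEq.respectTransparency.types false
set_option maxHeartbeats 1000000

universe u

open CategoryTheory CategoryTheory.Limits AlgebraicGeometry TopologicalSpace MonoidalCategory
open RingTheory.Sequence IsLocalRing
open scoped TensorProduct

noncomputable section

namespace Groth.Agent.H28.TorPull

open Groth.Agent Groth.Agent.KZ.LFRes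

section RegStalk

variable {Z W : Scheme.{u}} (i : Z ⟶ W) [IsLocallyNoetherian W] (hi : Mor2.IsRegularClosedImmersion i) (d : ℕ)
  (hC : FlatMod.IsFinLocFreeOfRank d (Omega.conormal i))

include hi hC in
/-- A regular sequence of the length of the rank of the conormal module generates the ideal at every point. -/
theorem exists_regular_stalk (z : Z) : ∃ g : List (W.presheaf.stalk (i z)), g.length = d ∧
    IsRegular (W.presheaf.stalk (i z)) g ∧ Ideal.ofList g = RingHom.ker (i.stalkMap z).hom := by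
  haveI := hi.1
  obtain ⟨U, hU, hzU, rs, hrs, hideal⟩ := hi.2 z
  rw [Scheme.Hom.ker_apply] at hideal
  have h1 := KRegLib.seq_of_isRegular RegImm.Kind.h1 rs hrs
  obtain ⟨g, hg⟩ := RegConormal.exists_freeIso_conormal i ⟨U, hU⟩ inferInstance rs hideal fun y hy a ha l => by
    letI : Algebra Γ(W, U) (W.presheaf.stalk (i y)) := (W.presheaf.germ U (i y) hy).hom.toAlgebra
    haveI : IsLocalization.AtPrime (W.presheaf.stalk (i y)) (hU.primeIdealOf ⟨i y, hy⟩).asIdeal :=
      hU.isLocalization_stalk ⟨i y, hy⟩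
    have hf := RegConormal.isH1Regular_localization (B := W.presheaf.stalk (i y))
      (hU.primeIdealOf ⟨i y, hy⟩).asIdeal.primeCompl rs.get h1
    have hK : RingHom.ker (i.stalkMap y).hom =
        Ideal.span (Set.range fun l => algebraMap Γ(W, U) (W.presheaf.stalk (i y)) (rs.get l)) := by
      rw [KRRPush.ker_stalkMap i y hU hy, Scheme.Hom.ker_apply, hideal,
        show Ideal.ofList rs = Ideal.span (Set.range rs.get) from congrArg Ideal.span (Set.range_list_get rs).symm,
        Ideal.map_span, ← Set.range_comp]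
      rfl
    rw [hK] at ha ⊢
    exact RegConormal.coeff_mem_of_h1 _ hf a ha l
  have hlen : rs.length = d := by
    have hfree : FlatMod.IsFinLocFreeOfRank rs.length (FlatMod.freeMod Z rs.length) := fun z' =>
      ⟨⊤, trivial, ⟨QCoh.freeModRestrict _ _⟩⟩
    have ha := (ConsPropLib.isFinLocFreeOfRank_iso (asIso g)).1
      (ConsPropLib.isFinLocFreeOfRank_restrict (i ⁻¹ᵁ U).ι hfree)
    have hb := ConsPropLib.isFinLocFreeOfRank_restrict (i ⁻¹ᵁ U).ι hC
    exact ((ConsPropLib.isFinLocFreeOfRank_iff.1 ha).2 ⟨z, hzU⟩).symm.trans ((ConsPropLib.isFinLocFreeOfRank_iff.1 hb).2 ⟨z, hzU⟩)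
  letI := QCoh.stalkAlg (X := W) (show i z ∈ U from hzU)
  haveI := QCoh.isLocalization_stalk' hU (show i z ∈ U from hzU)
  haveI : Module.Flat Γ(W, U) (W.presheaf.stalk (i z)) :=
    IsLocalization.flat _ (hU.primeIdealOf ⟨i z, hzU⟩).asIdeal.primeCompl
  have hk : RingHom.ker (i.stalkMap z).hom = Ideal.ofList (rs.map (W.presheaf.germ U (i z) hzU).hom) := by
    rw [KRRPush.ker_stalkMap i z hU hzU, Scheme.Hom.ker_apply, hideal, Ideal.map_ofList]
  refine ⟨_, (List.length_map _).trans hlen, ⟨hrs.toIsWeaklyRegular.of_flat, ?_⟩, hk.symm⟩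
  rw [smul_eq_mul, Ideal.mul_top]
  exact fun h => RingHom.ker_ne_top (i.stalkMap z).hom (hk.trans h.symm)

end RegStalk

theorem appLE_germ {Y M : Scheme.{u}} (φ : Y ⟶ M) {U : M.Opens} {W : Y.Opens} (e : W ≤ φ ⁻¹ᵁ U) (y : Y) (hy : y ∈ W)
    (a : Γ(M, U)) : (φ.stalkMap y).hom ((M.presheaf.germ U (φ y) (e hy)).hom a) =
      (Y.presheaf.germ W y hy).hom ((φ.appLE U W e).hom a) := by
  refine (Scheme.Hom.germ_stalkMap_apply φ U y (e hy) a).trans ?_
  exact (Y.presheaf.germ_res_apply (homOfLE e) y hy _).symm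

variable {X Y P M : Scheme.{u}}

/-- The stalk of the source as a module over the stalk of the target. -/
abbrev NN (φ : Y ⟶ M) (y : Y) : ModuleCat.{u} (M.presheaf.stalk (φ y)) :=
  letI := (φ.stalkMap y).hom.toAlgebra
  ModuleCat.of (M.presheaf.stalk (φ y)) (Y.presheaf.stalk y)

/-- Tor-independence of a module with the morphism. -/
def PT (φ : Y ⟶ M) (Z : M.Modules) : Prop := ∀ y : Y, TorIndep.TI (NN φ y) (stk Z (φ y))

theorem pt_ker (φ : Y ⟶ M) {S : ShortComplex M.Modules} (hS : S.ShortExact) (h₂ : FlatMod.IsFlat S.X₂)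
    (h₃ : PT φ S.X₃) : PT φ S.X₁ := fun y => by
  haveI : Module.Flat (M.presheaf.stalk (φ y)) (stk S.X₂ (φ y)) := h₂ (φ y)
  exact TorIndep.ti_first (NN φ y) (stk_shortExact hS (φ y)) (TorIndep.ti_flat (NN φ y) (stk S.X₂ (φ y))) (h₃ y)

theorem shortExact_pullback (φ : Y ⟶ M) {S : ShortComplex M.Modules} (hS : S.ShortExact) (h₂ : FlatMod.IsFlat S.X₂)
    (h₃ : PT φ S.X₃) : (S.map (Scheme.Modules.pullback φ)).ShortExact := by
  rw [KFlatLib.shortExact_iff_stalk]
  intro y
  let T := S.map (DerSch.stalkFunctor M (φ.base y))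
  have hT : T.ShortExact := (KFlatLib.shortExact_iff_stalk S).1 hS (φ.base y)
  have h : (T.map (ModuleCat.extendScalars.{u, u, u} (φ.stalkMap y).hom)).ShortExact := by
    letI := (φ.stalkMap y).hom.toAlgebra
    haveI : Module.Flat (M.presheaf.stalk (φ.base y)) T.X₂ := h₂ (φ y)
    have hsurj := (ModuleCat.epi_iff_surjective _).1 hT.epi_g
    have hex := (ShortComplex.ShortExact.moduleCat_exact_iff_function_exact _).1 hT.exact
    have hinj : Function.Injective (T.f.hom.rTensor (Y.presheaf.stalk y)) :=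
      TorIndep.injective_rTensor (NN φ y) hT (h₃ y)
    refine ShortComplex.ShortExact.mk' ?_ ?_ ?_
    · rw [ShortComplex.ShortExact.moduleCat_exact_iff_function_exact]
      exact lTensor_exact (Y.presheaf.stalk y) hex hsurj
    · rw [ModuleCat.mono_iff_injective]
      exact (LinearMap.lTensor_inj_iff_rTensor_inj (Y.presheaf.stalk y) T.f.hom).2 hinj
    · rw [ModuleCat.epi_iff_surjective]
      exact LinearMap.lTensor_surjective (Y.presheaf.stalk y) hsurj
  exact ShortComplex.shortExact_of_iso (S.mapNatIso (KFlatLib.stalkPullbackIso φ y)).symm h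

section Square

variable {F : P ⟶ M} {φ : Y ⟶ M} {f : X ⟶ Y} {ψ : X ⟶ P} (hsq : IsPullback f ψ φ F)

include hsq in
theorem ker_eq [IsClosedImmersion F] : f.ker = F.ker.comap φ := by
  rw [← Scheme.IdealSheafData.ker_fst_of_isClosedImmersion F φ,
    ← Scheme.Hom.ker_comp_of_isIso hsq.isoPullback.hom, hsq.isoPullback_hom_fst]

include hsq in
theorem mem_range (y : Y) (h : φ y ∈ Set.range F) : y ∈ Set.range f := by
  obtain ⟨p, hp⟩ := h
  obtain ⟨x, hx, -⟩ := Scheme.exists_preimage_of_isPullback hsq y p hp.symm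
  exact ⟨x, hx⟩

theorem stalk_data [IsLocallyNoetherian M] (hF : Mor2.IsRegularClosedImmersion F) (d : ℕ)
    (hcF : FlatMod.IsFinLocFreeOfRank d (Omega.conormal F)) {E : P.Modules} (hE : FlatMod.IsFinLocFree E)
    (m : M) (hm : m ∈ Set.range F) :
    ∃ (g : List (M.presheaf.stalk m)) (r : ℕ), g.length = d ∧ IsRegular (M.presheaf.stalk m) g ∧
      (∀ (U : M.Opens) (hU : IsAffineOpen U) (hmU : m ∈ U),
        Ideal.ofList g = (F.ker.ideal ⟨U, hU⟩).map (M.presheaf.germ U m hmU).hom) ∧
      Nonempty (stk ((Scheme.Modules.pushforward F).obj E) m ≅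
        ModuleCat.of (M.presheaf.stalk m) (Fin r → KFlatLib.qList g)) := by
  obtain ⟨p, rfl⟩ := hm
  haveI := hF.1
  obtain ⟨g, hgl, hg, hgk⟩ := exists_regular_stalk F hF d hcF p
  haveI : IsLocallyNoetherian P := LocallyOfFiniteType.isLocallyNoetherian F
  haveI : Module.Free (P.presheaf.stalk p) (E.presheaf.stalk p) := QCoh.free_stalk_of_isFinLocFree hE p
  haveI : Module.Finite (P.presheaf.stalk p) (E.presheaf.stalk p) :=
    QCoh.finite_stalk_of_isFT (QCoh.isQCoh_of_isFinLocFree hE) (PushLocFree.isCoh_of_isFinLocFree hE).2 p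
  letI : Module (M.presheaf.stalk (F p)) (E.presheaf.stalk p) := Module.compHom _ (F.stalkMap p).hom
  obtain ⟨e⟩ := H23.SpClosed.nonempty_stalkEquiv F E p
  let b := Module.finBasis (P.presheaf.stalk p) (E.presheaf.stalk p)
  letI : Algebra (M.presheaf.stalk (F p)) (P.presheaf.stalk p) := (F.stalkMap p).hom.toAlgebra
  haveI : IsScalarTower (M.presheaf.stalk (F p)) (P.presheaf.stalk p) (E.presheaf.stalk p) :=
    IsScalarTower.of_algebraMap_smul fun _ _ => rfl
  let q : (M.presheaf.stalk (F p) ⧸ Ideal.ofList g) ≃ₗ[M.presheaf.stalk (F p)] P.presheaf.stalk p :=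
    (Submodule.quotEquivOfEq _ _ hgk).trans
      (Ideal.quotientKerAlgEquivOfSurjective (f := Algebra.ofId (M.presheaf.stalk (F p)) (P.presheaf.stalk p))
        (F.stalkMap_surjective p)).toLinearEquiv
  refine ⟨g, Module.finrank (P.presheaf.stalk p) (E.presheaf.stalk p), hgl, hg, fun U hU hmU => hgk.trans (KRRPush.ker_stalkMap F p hU hmU), ⟨LinearEquiv.toModuleIso ?_⟩⟩
  exact (e.trans (b.equivFun.restrictScalars (M.presheaf.stalk (F p)))).trans (LinearEquiv.piCongrRight fun _ => q.symm)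

variable [IsLocallyNoetherian Y] [IsLocallyNoetherian M] (hF : Mor2.IsRegularClosedImmersion F)
  (hf : Mor2.IsRegularClosedImmersion f) (d : ℕ) (hcF : FlatMod.IsFinLocFreeOfRank d (Omega.conormal F))
  (hcf : FlatMod.IsFinLocFreeOfRank d (Omega.conormal f))

include hsq hF hf hcf in
/-- The image of a regular sequence of the target is regular. -/
theorem weaklyRegular_map (x : X) (g : List (M.presheaf.stalk (φ (f x)))) (hgl : g.length = d)
    (hgk : ∀ (U : M.Opens) (hU : IsAffineOpen U) (hmU : φ (f x) ∈ U),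
        Ideal.ofList g = (F.ker.ideal ⟨U, hU⟩).map (M.presheaf.germ U (φ (f x)) hmU).hom) :
    IsWeaklyRegular (Y.presheaf.stalk (f x)) (g.map (φ.stalkMap (f x)).hom) := by
  haveI := hF.1
  haveI := hf.1
  obtain ⟨g', hgl', hg', hgk'⟩ := exists_regular_stalk f hf d hcf x
  obtain ⟨_, ⟨U, hU, rfl⟩, hmU, -⟩ := M.isBasis_affineOpens.exists_subset_of_mem_open
    (Set.mem_univ (φ (f x))) isOpen_univ
  obtain ⟨_, ⟨W, hW, rfl⟩, hyW, hWU⟩ := Y.isBasis_affineOpens.exists_subset_of_mem_open
    (show f x ∈ φ ⁻¹ᵁ U from hmU) (φ ⁻¹ᵁ U).2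
  have hid : Ideal.ofList g' = Ideal.ofList (g.map (φ.stalkMap (f x)).hom) := by
    rw [hgk', KRRPush.ker_stalkMap f x hW hyW, ker_eq hsq, ModPairLib.ideal_comap _ φ ⟨U, hU⟩ ⟨W, hW⟩ hWU,
      ← Ideal.map_ofList, hgk U hU hmU, Ideal.map_map, Ideal.map_map]
    exact congrArg (fun ρ => Ideal.map ρ _) (RingHom.ext fun a => (appLE_germ φ hWU (f x) hyW a).symm)
  let S := Y.presheaf.stalk (f x)
  have hlen : (g.map (φ.stalkMap (f x)).hom).length = d := (List.length_map _).trans hgl
  let a : Fin d → S := fun k => g'.get (k.cast hgl'.symm)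
  let b : Fin d → S := fun k => (g.map (φ.stalkMap (f x)).hom).get (k.cast hlen.symm)
  have ha : List.ofFn a = g' := by
    subst hgl'
    exact List.ofFn_getElem
  have hb : List.ofFn b = g.map (φ.stalkMap (f x)).hom :=
    (List.ofFn_congr hlen.symm b).trans List.ofFn_getElem
  have hspan : ∀ c : Fin d → S, Ideal.span (Set.range c) = Ideal.ofList (List.ofFn c) := fun c =>
    congrArg Ideal.span (Set.ext fun z => (List.mem_ofFn).symm)
  have := S0611.result a b (ha.symm ▸ hg') (by rw [hspan, hspan, ha, hb, hid])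
  rw [hb] at this
  exact this.toIsWeaklyRegular

include hsq hF hf hcF hcf in
/-- Tor-independence of direct images of bundles. -/
theorem pt_push {E : P.Modules} (hE : FlatMod.IsFinLocFree E) : PT φ ((Scheme.Modules.pushforward F).obj E) := by
  haveI := hF.1
  intro y
  by_cases hy : φ y ∈ Set.range F
  swap
  · haveI : Subsingleton ↑(stk ((Scheme.Modules.pushforward F).obj E) (φ y)) := H23.ClosedPushLen.subsingleton_stalk F E hy
    exact TorIndep.ti_flat (NN φ y) _
  obtain ⟨x, rfl⟩ := mem_range hsq y hy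
  obtain ⟨g, r, hgl, hg, hgk, ⟨e⟩⟩ := stalk_data hF d hcF hE (φ (f x)) hy
  refine TorIndep.ti_iso _ e.symm (TorIndep.ti_pi _ (TorIndep.ti_qList _ g hg.toIsWeaklyRegular ?_).2 r)
  letI := (φ.stalkMap (f x)).hom.toAlgebra
  exact (isWeaklyRegular_map_algebraMap_iff (Y.presheaf.stalk (f x)) (Y.presheaf.stalk (f x)) g).1
    (weaklyRegular_map hsq hF hf d hcf x g hgl hgk)

include hsq hF hcF in
/-- The ideal of the pulled back subscheme kills the inverse image of a direct image. -/
theorem isIso_unit {E : P.Modules} (hE : FlatMod.IsFinLocFree E) [IsClosedImmersion f] :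
    IsIso ((Scheme.Modules.pullbackPushforwardAdjunction f).unit.app
      ((Scheme.Modules.pullback φ).obj ((Scheme.Modules.pushforward F).obj E))) := by
  haveI := hF.1
  let N := (Scheme.Modules.pullback φ).obj ((Scheme.Modules.pushforward F).obj E)
  refine (QCoh.isIso_unit_closed_iff f (QCoh.isQCoh_pullback φ
    (QCoh.isQCoh_pushforward F (QCoh.isQCoh_of_isFinLocFree hE)))).2 fun W a ha s => ?_
  refine TopCat.Presheaf.section_ext (⟨N.presheaf, N.isSheaf⟩ : TopCat.Sheaf AddCommGrpCat.{u} Y.toPresheafedSpace.carrier)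
    _ _ _ fun y hy => ?_
  show N.presheaf.germ W.1 y hy (a • s) = N.presheaf.germ W.1 y hy 0
  rw [QCoh.germ_smul' N hy a s, map_zero]
  let θ := (KFlatLib.stalkPullbackIso φ y).app ((Scheme.Modules.pushforward F).obj E)
  refine (θ.toLinearEquiv.map_eq_zero_iff).1 ?_
  rw [show θ.toLinearEquiv ((Y.presheaf.germ W.1 y hy).hom a • N.presheaf.germ W.1 y hy s) = _ from
    θ.toLinearEquiv.map_smul _ _]
  by_cases hm : φ y ∈ Set.range F
  swap
  · haveI : Subsingleton ↑(stk ((Scheme.Modules.pushforward F).obj E) (φ y)) := H23.ClosedPushLen.subsingleton_stalk F E hm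
    haveI : Subsingleton ↑((DerSch.stalkFunctor M (φ.base y) ⋙ ModuleCat.extendScalars.{u, u, u} (φ.stalkMap y).hom).obj
        ((Scheme.Modules.pushforward F).obj E)) :=
      ModuleCat.subsingleton_of_isZero ((ModuleCat.extendScalars.{u, u, u} (φ.stalkMap y).hom).map_isZero
        (ModuleCat.isZero_of_subsingleton (stk ((Scheme.Modules.pushforward F).obj E) (φ y))))
    exact Subsingleton.elim _ _
  obtain ⟨g, r, -, -, hgk, ⟨e⟩⟩ := stalk_data hF d hcF hE (φ y) hm
  letI := (φ.stalkMap y).hom.toAlgebra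
  obtain ⟨_, ⟨U, hU, rfl⟩, hmU, -⟩ := M.isBasis_affineOpens.exists_subset_of_mem_open (Set.mem_univ (φ y)) isOpen_univ
  obtain ⟨W', hW', hyW', hW'U, hW'W⟩ : ∃ W' : Y.Opens, IsAffineOpen W' ∧ y ∈ W' ∧ W' ≤ φ ⁻¹ᵁ U ∧ W' ≤ W.1 := by
    obtain ⟨_, ⟨W', hW', rfl⟩, h1, h2⟩ := Y.isBasis_affineOpens.exists_subset_of_mem_open
      (show y ∈ φ ⁻¹ᵁ U ⊓ W.1 from ⟨hmU, hy⟩) (φ ⁻¹ᵁ U ⊓ W.1).2
    exact ⟨W', hW', h1, le_trans h2 inf_le_left, le_trans h2 inf_le_right⟩
  have hay : (Y.presheaf.germ W.1 y hy).hom a ∈ (Ideal.ofList g).map (φ.stalkMap y).hom := by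
    have h1 : (Y.presheaf.map (homOfLE hW'W).op).hom a ∈ f.ker.ideal ⟨W', hW'⟩ :=
      f.ker.map_ideal (U := ⟨W', hW'⟩) (V := W) hW'W ▸ Ideal.mem_map_of_mem _ ha
    rw [ker_eq hsq, ModPairLib.ideal_comap _ φ ⟨U, hU⟩ ⟨W', hW'⟩ hW'U] at h1
    have h2 := Ideal.mem_map_of_mem (Y.presheaf.germ W' y hyW').hom h1
    rw [Ideal.map_map, show (Y.presheaf.germ W' y hyW').hom.comp (φ.appLE U W' hW'U).hom =
      (φ.stalkMap y).hom.comp (M.presheaf.germ U (φ y) hmU).hom from
        RingHom.ext fun c => (appLE_germ φ hW'U y hyW' c).symm, ← Ideal.map_map, ← hgk U hU hmU] at h2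
    exact (Y.presheaf.germ_res_apply (homOfLE hW'W) y hyW' a) ▸ h2
  have hkill : ∀ c ∈ Ideal.ofList g, ∀ v : stk ((Scheme.Modules.pushforward F).obj E) (φ y), c • v = 0 := by
    intro c hc v
    refine e.toLinearEquiv.map_eq_zero_iff.1 ?_
    rw [map_smul]
    funext k
    obtain ⟨w, hw⟩ := Submodule.Quotient.mk_surjective _ (e.toLinearEquiv v k)
    show c • e.toLinearEquiv v k = 0
    rw [← hw, ← Submodule.Quotient.mk_smul, Submodule.Quotient.mk_eq_zero]
    exact Ideal.mul_mem_right _ _ hc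
  generalize θ.toLinearEquiv (N.presheaf.germ W.1 y hy s) = t
  change (Y.presheaf.stalk y) ⊗[M.presheaf.stalk (φ y)] (stk ((Scheme.Modules.pushforward F).obj E) (φ y)) at t
  have key : ∀ c ∈ (Ideal.ofList g).map (φ.stalkMap y).hom,
      ∀ t : (Y.presheaf.stalk y) ⊗[M.presheaf.stalk (φ y)] (stk ((Scheme.Modules.pushforward F).obj E) (φ y)),
        c • t = 0 := by
    intro c hc
    refine Submodule.span_induction (p := fun c _ => ∀ t, c • t = 0) ?_ ?_ ?_ ?_ hc
    · rintro _ ⟨c, hc, rfl⟩ t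
      show algebraMap (M.presheaf.stalk (φ y)) (Y.presheaf.stalk y) c • t = 0
      rw [algebraMap_smul]
      induction t with
      | zero => exact smul_zero _
      | tmul w v => rw [← TensorProduct.tmul_smul, hkill c hc v, TensorProduct.tmul_zero]
      | add t t' ht ht' => rw [smul_add, ht, ht', add_zero]
    · exact fun t => zero_smul _ t
    · exact fun c c' _ _ h h' t => by rw [add_smul, h, h', add_zero]
    · exact fun c c' _ h t => by rw [smul_eq_mul, mul_smul, h, smul_zero]
  exact key _ hay t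

include hsq hF hcF in
/-- Base change along the square. -/
theorem nonempty_baseChange {E : P.Modules} (hE : FlatMod.IsFinLocFree E) [IsClosedImmersion f] :
    Nonempty ((Scheme.Modules.pullback φ).obj ((Scheme.Modules.pushforward F).obj E) ≅
      (Scheme.Modules.pushforward f).obj ((Scheme.Modules.pullback ψ).obj E)) := by
  haveI := hF.1
  haveI := isIso_unit hsq hF d hcF hE
  haveI := KZ.ClosedDev.isIso_counit F (M := E) (QCoh.isQCoh_pushforward F (QCoh.isQCoh_of_isFinLocFree hE))
  exact ⟨asIso ((Scheme.Modules.pullbackPushforwardAdjunction f).unit.app _) ≪≫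
    (Scheme.Modules.pushforward f).mapIso
      ((Scheme.Modules.pullbackComp f φ).app _ ≪≫ (Scheme.Modules.pullbackCongr hsq.w).app _ ≪≫
        ((Scheme.Modules.pullbackComp ψ F).app _).symm ≪≫
        (Scheme.Modules.pullback ψ).mapIso (asIso ((Scheme.Modules.pullbackPushforwardAdjunction F).counit.app E)))⟩

end Square

end Groth.Agent.H28.TorPull
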