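import Groth.Agent.H28.PBExist
import Groth.Agent.PBlow.Main
import Groth.Agent.H28.RegBC
import Groth.Agent.H28.TorPull
import Groth.Agent.KRegLib.Elem
import Groth.Agent.PPSheaf.OmegaComp

/-!
# Sections of `P(E ⊕ O)` given by functionals
-/

set_option autoImplicit false
set_option linter.style.haveILetI false
set_option linter.unusedSectionVars false
set_option backward.isDefEq.respectTransparency false
set_option backward.isDefEq.respectTransparency.types false
set_option maxHeartbeats 1000000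

universe u

open CategoryTheory CategoryTheory.Limits AlgebraicGeometry TopologicalSpace Opposite MvPolynomial

noncomputable section

namespace Groth.Agent.H28.PBSect

open Groth.Agent Groth.Agent.AModX Groth.Agent.PBlow

section Frame

variable {Y : Scheme.{u}} {A : Y.Modules} {U : Y.Opens} {d : ℕ} (bA : Fin d → Γ(A, U))

/-- A frame of `A ⊕ O` from a frame of `A`. -/
def bF : Fin (d + 1) → Γ(A ⊞ Coh.structureModule Y, U) :=
  Fin.cons ((biprod.inr : Coh.structureModule Y ⟶ A ⊞ Coh.structureModule Y).app U (H23.Frame.one U))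
    fun l => (biprod.inl : A ⟶ A ⊞ Coh.structureModule Y).app U (bA l)

theorem bF_zero : bF bA 0 = (biprod.inr : Coh.structureModule Y ⟶ A ⊞ Coh.structureModule Y).app U (H23.Frame.one U) :=
  Fin.cons_zero _ _

theorem bF_succ (l : Fin d) : bF bA l.succ = (biprod.inl : A ⟶ A ⊞ Coh.structureModule Y).app U (bA l) :=
  Fin.cons_succ _ _ _

theorem comb_bF (W : Y.Opens) (h : W ≤ U) (c : Fin (d + 1) → Γ(Y, W)) :
    H23.Frame.comb _ (bF bA) W h c =
      (biprod.inr : Coh.structureModule Y ⟶ A ⊞ Coh.structureModule Y).app W (show Γ(Coh.structureModule Y, W) from c 0) +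
      (biprod.inl : A ⟶ A ⊞ Coh.structureModule Y).app W (H23.Frame.comb A bA W h fun l => c l.succ) := by
  rw [H23.Frame.comb, Fin.sum_univ_succ]
  congr 1
  · rw [bF_zero]
    refine Eq.trans ?_ (H23.Frame.app_eq_smul _ W (c 0)).symm
    exact congrArg (c 0 • ·) (H23.Frame.app_one_res _ h)
  · rw [H23.Frame.comb, map_sum]
    refine Finset.sum_congr rfl fun l _ => ?_
    rw [Scheme.Modules.Hom.app_smul, bF_succ]
    exact congrArg (c l.succ • ·) (app_res (biprod.inl : A ⟶ A ⊞ Coh.structureModule Y) h (bA l)).symm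

theorem isFrame_bF (hA : H23.Frame.IsFrame A bA) : H23.Frame.IsFrame (A ⊞ Coh.structureModule Y) (bF bA) := by
  intro W hW
  have hf : ∀ {B : Y.Modules} (φ : A ⊞ Coh.structureModule Y ⟶ B) (x : Γ(A, W)) (r : Γ(Coh.structureModule Y, W)),
      φ.app W ((biprod.inr : Coh.structureModule Y ⟶ _).app W r + (biprod.inl : A ⟶ _).app W x) =
        (biprod.inr ≫ φ).app W r + (biprod.inl ≫ φ).app W x := fun φ x r => map_add _ _ _
  refine ⟨fun c c' hcc => ?_, fun z => ?_⟩
  · rw [comb_bF, comb_bF] at hcc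
    have h1 := congrArg ((biprod.fst : A ⊞ Coh.structureModule Y ⟶ A).app W) hcc
    rw [hf, hf, biprod.inr_fst, biprod.inl_fst] at h1
    have h1' : H23.Frame.comb A bA W hW (fun l => c l.succ) = H23.Frame.comb A bA W hW fun l => c' l.succ := by
      refine Eq.trans ?_ (h1.trans ?_)
      · exact (zero_add _).symm
      · exact zero_add _
    have h2 := congrArg ((biprod.snd : A ⊞ Coh.structureModule Y ⟶ Coh.structureModule Y).app W) hcc
    rw [hf, hf, biprod.inr_snd, biprod.inl_snd] at h2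
    have h2' : c 0 = c' 0 := by
      refine Eq.trans ?_ (h2.trans ?_)
      · exact (add_zero _).symm
      · exact add_zero _
    have h3 := (hA W hW).1 h1'
    funext i
    induction i using Fin.cases with
    | zero => exact h2'
    | succ l => exact congrFun h3 l
  · obtain ⟨c, hc⟩ := (hA W hW).2 ((biprod.fst : A ⊞ Coh.structureModule Y ⟶ A).app W z)
    refine ⟨Fin.cons (show Γ(Y, W) from (biprod.snd : A ⊞ Coh.structureModule Y ⟶ Coh.structureModule Y).app W z) c, ?_⟩
    rw [comb_bF]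
    simp only [Fin.cons_zero, Fin.cons_succ]
    rw [hc, add_comm]
    exact congrArg (fun f : A ⊞ Coh.structureModule Y ⟶ A ⊞ Coh.structureModule Y => f.app W z)
      (biprod.total (X := A) (Y := Coh.structureModule Y))

variable (t : A ⟶ Coh.structureModule Y)

/-- The values of `(t, 1)` on the frame. -/
def tv : Fin (d + 1) → Γ(Y, U) := Fin.cons 1 fun l => t.app U (bA l)

theorem desc_bF (i : Fin (d + 1)) :
    (show Γ(Y, U) from (biprod.desc t (𝟙 (Coh.structureModule Y))).app U (bF bA i)) = tv bA t i := by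
  induction i using Fin.cases with
  | zero =>
    rw [bF_zero, tv, Fin.cons_zero]
    exact congrArg (fun f : Coh.structureModule Y ⟶ Coh.structureModule Y => (show Γ(Y, U) from f.app U (H23.Frame.one U)))
      (biprod.inr_desc t (𝟙 (Coh.structureModule Y)))
  | succ l =>
    rw [bF_succ, tv, Fin.cons_succ]
    exact congrArg (fun f : A ⟶ Coh.structureModule Y => (show Γ(Y, U) from f.app U (bA l)))
      (biprod.inl_desc t (𝟙 (Coh.structureModule Y)))

end Frame

section Exists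

variable {Y P : Scheme.{u}} {π : P ⟶ Y} {F : Y.Modules} {O1 : P.Modules}
  {q : (Scheme.Modules.pullback π).obj F ⟶ O1} (hP : KRR.IsProjBundle π F O1 q)

include hP in
/-- The section of a functional. -/
theorem exists_section (θ : F ⟶ Coh.structureModule Y) [Epi θ] :
    ∃ (s : Y ⟶ P) (_ : s ≫ π = 𝟙 Y) (e : (Scheme.Modules.pullback s).obj O1 ≅ Coh.structureModule Y),
      ∀ (U : Y.Opens) (x : Γ(F, U)) (hle : U ≤ s ⁻¹ᵁ (π ⁻¹ᵁ U)),
        e.hom.app U (QCoh.pullSec s O1 hle (q.app (π ⁻¹ᵁ U) (InvX.pullElt π x))) = θ.app U x := by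
  let s0 := (Scheme.Modules.pullbackId Y).hom.app F ≫ θ
  haveI : Epi s0 := epi_comp _ _
  obtain ⟨s, ⟨hs, e, he⟩, -⟩ := hP.univ Y (𝟙 Y) (Coh.structureModule Y) (PBlow.rank_one_unit Y) s0 inferInstance
  refine ⟨s, hs, e, fun U x hle => ?_⟩
  have h := comp_app q (fun _ : Fin 1 => x) s (𝟙 Y) hs e (le_rfl : U ≤ (𝟙 Y : Y ⟶ Y) ⁻¹ᵁ U) hle 0
  refine h.symm.trans ((congrArg (fun f => Scheme.Modules.Hom.app f U
    (QCoh.pullSec (𝟙 Y) F (le_rfl : U ≤ (𝟙 Y : Y ⟶ Y) ⁻¹ᵁ U) x)) he).trans ?_)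
  show θ.app U (((Scheme.Modules.pullbackId Y).hom.app F).app U
    (QCoh.pullSec (𝟙 Y) F (le_rfl : U ≤ (𝟙 Y : Y ⟶ Y) ⁻¹ᵁ U) x)) = _
  refine congrArg (θ.app U) (Eq.trans ?_ (PPSheaf.pullbackId_hom_pullSect F U x))
  exact congrArg _ (res_self (M := (Scheme.Modules.pullback (𝟙 Y)).obj F) _)

end Exists

section Chart

variable {Y P : Scheme.{u}} {π : P ⟶ Y} {F : Y.Modules} {O1 : P.Modules}
  (q : (Scheme.Modules.pullback π).obj F ⟶ O1) (hinv : FlatMod.IsFinLocFreeOfRank 1 O1)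
  {s : Y ⟶ P} (hs : s ≫ π = 𝟙 Y) (e : (Scheme.Modules.pullback s).obj O1 ≅ Coh.structureModule Y)
  {U : Y.Opens} {d : ℕ} (b : Fin (d + 1) → Γ(F, U)) (tt : Fin (d + 1) → Γ(Y, U)) (h0 : tt 0 = 1)
  (hle : U ≤ s ⁻¹ᵁ (π ⁻¹ᵁ U)) (hval : ∀ i, (show Γ(Y, U) from e.hom.app U (QCoh.pullSec s O1 hle (sig q b i))) = tt i)

include hinv h0 hval in
theorem le_preimage : U ≤ s ⁻¹ᵁ locus q b 0 := by
  intro y hy
  obtain ⟨W₀, hyW, ε₀, hε₀⟩ := exists_frame_rank_one hinv (s y)
  let W := W₀ ⊓ π ⁻¹ᵁ U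
  let ε := res O1 (inf_le_left : W ≤ W₀) ε₀
  obtain ⟨g, hg⟩ := (hε₀.res (inf_le_left : W ≤ W₀)).exists_coord le_rfl
    (res O1 (inf_le_right : W ≤ π ⁻¹ᵁ U) (sig q b 0))
  rw [res_self] at hg
  let W' := U ⊓ s ⁻¹ᵁ W
  have hy' : y ∈ W' := ⟨hy, hyW, hle hy⟩
  have h1 := congrArg (resR (inf_le_left : W' ≤ U)) (hval 0)
  rw [h0, map_one] at h1
  have h2 : (show Γ(Y, W') from e.hom.app W' (QCoh.pullSec s O1 (inf_le_left.trans hle : W' ≤ s ⁻¹ᵁ (π ⁻¹ᵁ U)) (sig q b 0))) = 1 := by
    refine Eq.trans ?_ h1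
    rw [← res_pullSec s (inf_le_left : W' ≤ U) hle]
    exact (app_res e.hom (inf_le_left : W' ≤ U) _)
  rw [← pullSec_restr s (inf_le_right : W ≤ π ⁻¹ᵁ U) (inf_le_right : W' ≤ s ⁻¹ᵁ W) (sig q b 0), hg,
    QCoh.pullSec_smul, Scheme.Modules.Hom.app_smul] at h2
  have hu : IsUnit (s.appLE W W' inf_le_right g) := IsUnit.of_mul_eq_one _ h2
  have h3 := Y.basicOpen_of_isUnit hu
  rw [Scheme.basicOpen_appLE] at h3
  exact basicOpen_le_locus q b (inf_le_right : W ≤ π ⁻¹ᵁ U) (hε₀.res _) hg (h3.ge hy').2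

include hs in
theorem preimage_le : s ⁻¹ᵁ locus q b 0 ≤ U := fun y hy => by
  have h : π (s y) ∈ U := locus_le q b 0 hy
  rwa [← Scheme.Hom.comp_apply, hs] at h

include hinv hs h0 hval in
theorem preimage_eq : s ⁻¹ᵁ locus q b 0 = U :=
  le_antisymm (preimage_le q hs b) (le_preimage q hinv e b tt h0 hle hval)

include hinv h0 hval in
theorem app_ratio (i : Fin (d + 1)) :
    s.appLE (locus q b 0) U (le_preimage q hinv e b tt h0 hle hval) (ratio q b 0 i) = tt i := by
  have hV := le_preimage q hinv e b tt h0 hle hval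
  have h1 : QCoh.pullSec s O1 hle (sig q b i) =
      s.appLE (locus q b 0) U hV (ratio q b 0 i) • QCoh.pullSec s O1 hle (sig q b 0) := by
    rw [← pullSec_restr s (locus_le q b 0) hV (sig q b i), ← ratio_smul q b 0 i, QCoh.pullSec_smul, pullSec_restr]
  have h2 := hval i
  rw [h1, Scheme.Modules.Hom.app_smul] at h2
  rw [← h2]
  refine Eq.trans (mul_one (s.appLE (locus q b 0) U hV (ratio q b 0 i))).symm ?_
  rw [← h0, ← hval 0]
  rfl

include hinv hs h0 hval in
theorem comp_coordHom :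
    (s.appLE (locus q b 0) U (le_preimage q hinv e b tt h0 hle hval)).hom.comp (coordHom q b 0) =
      eval₂Hom (RingHom.id Γ(Y, U)) fun l => tt l.succ := by
  refine MvPolynomial.ringHom_ext (fun a => ?_) fun l => ?_
  · rw [RingHom.comp_apply, coordHom_C, eval₂Hom_C]
    refine (PBlow.comp_appLE_apply s π U (locus q b 0) U (locus_le q b 0) _ hs
      (le_rfl : U ≤ (𝟙 Y : Y ⟶ Y) ⁻¹ᵁ U) a).trans ?_
    simp [Scheme.Hom.appLE]
    exact ConcreteCategory.congr_hom (Y.presheaf.map_id _) a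
  · rw [RingHom.comp_apply, coordHom_X, eval₂Hom_X', Fin.succAbove_zero]
    exact app_ratio q hinv e b tt h0 hle hval _

end Chart

/-- The variables form a weakly regular sequence. -/
theorem isWeaklyRegular_X (k : Type u) [CommRing k] (n : ℕ) :
    RingTheory.Sequence.IsWeaklyRegular (MvPolynomial (Fin n) k)
      (List.ofFn (MvPolynomial.X : Fin n → MvPolynomial (Fin n) k)) := by
  classical
  refine ⟨fun i hi => IsSMulRegular.of_right_eq_zero_of_smul fun f hf => ?_⟩
  obtain ⟨f, rfl⟩ := Submodule.Quotient.mk_surjective _ f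
  rw [← Submodule.Quotient.mk_smul, Submodule.Quotient.mk_eq_zero] at hf
  rw [Submodule.Quotient.mk_eq_zero]
  have hin : i < n := by simpa using hi
  have hJ : (Ideal.ofList ((List.ofFn (MvPolynomial.X : Fin n → MvPolynomial (Fin n) k)).take i) •
      (⊤ : Submodule (MvPolynomial (Fin n) k) (MvPolynomial (Fin n) k))) =
      Ideal.span (MvPolynomial.X '' {j : Fin n | (j : ℕ) < i}) := by
    rw [smul_eq_mul, Ideal.mul_top]
    refine congrArg Ideal.span (Set.ext fun p => ?_)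
    simp only [Set.mem_setOf_eq, Set.mem_image, List.mem_take_iff_getElem, List.getElem_ofFn]
    constructor
    · rintro ⟨j, hj, rfl⟩; exact ⟨⟨j, by simp at hj; omega⟩, by simp at hj ⊢; omega, rfl⟩
    · rintro ⟨j, hj, rfl⟩; exact ⟨j, by simp; omega, rfl⟩
  rw [hJ, MvPolynomial.mem_ideal_span_X_image] at hf ⊢
  intro d hd
  have hd' : Finsupp.single (⟨i, hin⟩ : Fin n) 1 + d ∈
      ((List.ofFn (MvPolynomial.X : Fin n → MvPolynomial (Fin n) k))[i] • f).support := by
    rw [MvPolynomial.mem_support_iff, smul_eq_mul, List.getElem_ofFn, MvPolynomial.coeff_X_mul]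
    exact MvPolynomial.mem_support_iff.1 hd
  obtain ⟨j, hj, hne⟩ := hf _ hd'
  refine ⟨j, hj, ?_⟩
  have hji : (⟨i, hin⟩ : Fin n) ≠ j := fun h => by rw [← h] at hj; exact lt_irrefl i hj
  rwa [Finsupp.add_apply, Finsupp.single_eq_of_ne' hji, zero_add] at hne

/-- Regular systems of the same length give the rank of the conormal module. -/
theorem rank_conormal_of_local {Z W : Scheme.{u}} [IsLocallyNoetherian W] (i : Z ⟶ W) [IsClosedImmersion i] {d : ℕ}
    (h : ∀ z : Z, ∃ (U : W.Opens) (hU : IsAffineOpen U) (_ : i z ∈ U) (rs : List Γ(W, U)), rs.length = d ∧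
      RingTheory.Sequence.IsRegular Γ(W, U) rs ∧ i.ker.ideal ⟨U, hU⟩ = Ideal.ofList rs) :
    FlatMod.IsFinLocFreeOfRank d (Omega.conormal i) := fun z => by
  obtain ⟨U, hU, hzU, rs, rfl, hrs, hideal⟩ := h z
  rw [Scheme.Hom.ker_apply] at hideal
  have h1 := KRegLib.seq_of_isRegular RegImm.Kind.h1 rs hrs
  obtain ⟨g, hg⟩ := RegConormal.exists_freeIso_conormal i ⟨U, hU⟩ inferInstance rs hideal fun y hy a ha l => by
    letI : Algebra Γ(W, U) (W.presheaf.stalk (i y)) := (W.presheaf.germ U (i y) hy).hom.toAlgebra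
    haveI : IsLocalization.AtPrime (W.presheaf.stalk (i y)) (hU.primeIdealOf ⟨i y, hy⟩).asIdeal :=
      hU.isLocalization_stalk ⟨i y, hy⟩
    have hf := RegConormal.isH1Regular_localization (B := W.presheaf.stalk (i y))
      (hU.primeIdealOf ⟨i y, hy⟩).asIdeal.primeCompl rs.get h1
    have hK : RingHom.ker (i.stalkMap y).hom =
        Ideal.span (Set.range fun l => algebraMap Γ(W, U) (W.presheaf.stalk (i y)) (rs.get l)) := by
      rw [KRRPush.ker_stalkMap i y hU hy, Scheme.Hom.ker_apply, hideal,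
        show Ideal.ofList rs = Ideal.span (Set.range rs.get) from congrArg Ideal.span (Set.range_list_get rs).symm,
        Ideal.map_span, ← Set.range_comp]
      rfl
    rw [hK] at ha ⊢
    exact RegConormal.coeff_mem_of_h1 _ hf a ha l
  exact ⟨i ⁻¹ᵁ U, hzU, ⟨(asIso g).symm ≪≫ QCoh.freeModRestrict _ _⟩⟩

section Geometry

variable {Y P : Scheme.{u}} {A : Y.Modules} {d : ℕ} (hA : FlatMod.IsFinLocFreeOfRank d A) {π : P ⟶ Y}
  {O1 : P.Modules} {q : (Scheme.Modules.pullback π).obj (A ⊞ Coh.structureModule Y) ⟶ O1}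
  (hP : KRR.IsProjBundle π (A ⊞ Coh.structureModule Y) O1 q)

/-- The section belonging to `(t, 1)`. -/
def IsSect (t : A ⟶ Coh.structureModule Y) (s : Y ⟶ P)
    (q : (Scheme.Modules.pullback π).obj (A ⊞ Coh.structureModule Y) ⟶ O1) : Prop :=
  s ≫ π = 𝟙 Y ∧ ∃ e : (Scheme.Modules.pullback s).obj O1 ≅ Coh.structureModule Y,
    ∀ (U : Y.Opens) (x : Γ(A ⊞ Coh.structureModule Y, U)) (hle : U ≤ s ⁻¹ᵁ (π ⁻¹ᵁ U)),
      e.hom.app U (QCoh.pullSec s O1 hle (q.app (π ⁻¹ᵁ U) (InvX.pullElt π x))) =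
        (biprod.desc t (𝟙 (Coh.structureModule Y))).app U x

include hP in
theorem exists_isSect (t : A ⟶ Coh.structureModule Y) : ∃ s, IsSect t s q := by
  haveI : Epi (biprod.desc t (𝟙 (Coh.structureModule Y))) :=
    epi_of_epi_fac (biprod.inr_desc t (𝟙 (Coh.structureModule Y)))
  obtain ⟨s, hs, e, he⟩ := exists_section hP (biprod.desc t (𝟙 (Coh.structureModule Y)))
  exact ⟨s, hs, e, he⟩

include hA hP in
/-- The coordinates of a section. -/
theorem exists_chart (y : Y) : ∃ (U : Y.Opens) (_ : IsAffineOpen U) (_ : y ∈ U) (bA : Fin d → Γ(A, U)),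
    H23.Frame.IsFrame A bA ∧ IsAffineOpen (locus q (bF bA) 0) ∧ Function.Bijective (coordHom q (bF bA) 0) := by
  obtain ⟨U₀, hyU₀, ⟨i⟩⟩ := hA y
  obtain ⟨s', hs'⟩ := H23.Frame.exists_frame i
  obtain ⟨U, hU, hyU, hUU⟩ := exists_isAffineOpen_mem_and_subset hyU₀
  have hf := hs'.res hUU
  exact ⟨U, hU, hyU, _, hf, (chart_iso q _ 0 (isFrame_bF _ hf) hP hU).1, (chart_iso q _ 0 (isFrame_bF _ hf) hP hU).2⟩

variable {t : A ⟶ Coh.structureModule Y} {s : Y ⟶ P} (hst : IsSect t s q)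
  {U : Y.Opens} (bA : Fin d → Γ(A, U))

include hst in
theorem le_pre : U ≤ s ⁻¹ᵁ (π ⁻¹ᵁ U) := fun y hy => by
  show π (s y) ∈ U
  rw [← Scheme.Hom.comp_apply, hst.1]
  exact hy

include hP hst in
theorem sect_le : U ≤ s ⁻¹ᵁ locus q (bF bA) 0 := by
  obtain ⟨hs, e, he⟩ := hst
  exact le_preimage q hP.invertible e (bF bA) (tv bA t) (Fin.cons_zero _ _) (le_pre ⟨hs, e, he⟩)
    fun i => (he U (bF bA i) _).trans (desc_bF bA t i)

include hP hst in
theorem sect_preimage : s ⁻¹ᵁ locus q (bF bA) 0 = U :=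
  le_antisymm (preimage_le q hst.1 (bF bA)) (sect_le hP hst bA)

include hP hst in
theorem sect_comp : (s.appLE (locus q (bF bA) 0) U (sect_le hP hst bA)).hom.comp (coordHom q (bF bA) 0) =
    eval₂Hom (RingHom.id Γ(Y, U)) fun l => (show Γ(Y, U) from t.app U (bA l)) := by
  obtain ⟨hs, e, he⟩ := hst
  refine (comp_coordHom q hP.invertible hs e (bF bA) (tv bA t) (Fin.cons_zero _ _) (le_pre ⟨hs, e, he⟩)
    fun i => (he U (bF bA i) _).trans (desc_bF bA t i)).trans ?_
  congr 1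

omit hst

variable {s₀ : Y ⟶ P} [IsClosedImmersion s₀] (h₀ : IsSect (0 : A ⟶ Coh.structureModule Y) s₀ q)

include hP h₀ in
theorem zero_ideal (hV : IsAffineOpen (locus q (bF bA) 0)) (hbij : Function.Bijective (coordHom q (bF bA) 0)) :
    s₀.ker.ideal ⟨locus q (bF bA) 0, hV⟩ = Ideal.ofList (List.ofFn fun l => coordHom q (bF bA) 0 (X l)) := by
  have hcomp := sect_comp hP h₀ bA
  have hev : eval₂Hom (RingHom.id Γ(Y, U)) (fun l => (show Γ(Y, U) from (0 : A ⟶ Coh.structureModule Y).app U (bA l))) =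
      constantCoeff := MvPolynomial.ringHom_ext (fun a => by simp) fun l => by
    rw [eval₂Hom_X', constantCoeff_X]; rfl
  rw [hev] at hcomp
  have hinj : Function.Injective (Y.presheaf.map (homOfLE (sect_le hP h₀ bA)).op) := by
    haveI : IsIso (Y.presheaf.map (homOfLE (sect_le hP h₀ bA)).op) := by
      rw [Subsingleton.elim (homOfLE (sect_le hP h₀ bA)) (eqToHom (sect_preimage hP h₀ bA).symm)]
      infer_instance
    exact (ConcreteCategory.bijective_of_isIso _).1
  have hk : RingHom.ker (s₀.appLE (locus q (bF bA) 0) U (sect_le hP h₀ bA)).hom =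
      RingHom.ker (s₀.app (locus q (bF bA) 0)).hom := by
    show RingHom.ker ((Y.presheaf.map (homOfLE (sect_le hP h₀ bA)).op).hom.comp (s₀.app (locus q (bF bA) 0)).hom) = _
    exact RingHom.ker_comp_of_injective _ hinj
  rw [Scheme.Hom.ker_apply, ← hk, ← Ideal.map_comap_of_surjective _ hbij.2
    (RingHom.ker (s₀.appLE (locus q (bF bA) 0) U (sect_le hP h₀ bA)).hom), RingHom.comap_ker, hcomp,
    KRegLib.ker_constantCoeff, Ideal.map_span, ← Set.range_comp]
  refine congrArg Ideal.span (Set.ext fun x => ?_)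
  simp [List.mem_ofFn, Set.mem_range]

include hP h₀ hA in
theorem zero_local (y : Y) : ∃ (V : P.Opens) (hV : IsAffineOpen V) (_ : s₀ y ∈ V) (rs : List Γ(P, V)),
    rs.length = d ∧ RingTheory.Sequence.IsRegular Γ(P, V) rs ∧ s₀.ker.ideal ⟨V, hV⟩ = Ideal.ofList rs := by
  obtain ⟨U, hU, hyU, bA, hf, hV, hbij⟩ := exists_chart hA hP y
  have hI := zero_ideal hP bA h₀ hV hbij
  have hy : s₀ y ∈ locus q (bF bA) 0 := sect_le hP h₀ bA hyU
  refine ⟨_, hV, hy, _, List.length_ofFn, ⟨?_, fun h => ?_⟩, hI⟩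
  · letI := (coordHom q (bF bA) 0).toAlgebra
    let e : MvPolynomial (Fin d) Γ(Y, U) ≃ₗ[MvPolynomial (Fin d) Γ(Y, U)] Γ(P, locus q (bF bA) 0) :=
      LinearEquiv.ofBijective (Algebra.linearMap (MvPolynomial (Fin d) Γ(Y, U)) Γ(P, locus q (bF bA) 0)) hbij
    have h := (RingTheory.Sequence.isWeaklyRegular_map_algebraMap_iff Γ(P, locus q (bF bA) 0)
      Γ(P, locus q (bF bA) 0) (List.ofFn (MvPolynomial.X : Fin d → MvPolynomial (Fin d) Γ(Y, U)))).2
      ((e.isWeaklyRegular_congr _).1 (isWeaklyRegular_X _ d))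
    rwa [List.map_ofFn] at h
  · have h' : s₀.ker.ideal ⟨_, hV⟩ = ⊤ := by
      rw [hI]
      simpa [smul_eq_mul, Ideal.mul_top] using h.symm
    have hsupp : s₀ y ∈ (s₀.ker.support : Set P) := by
      rw [Scheme.Hom.support_ker]
      exact subset_closure ⟨y, rfl⟩
    have := (Scheme.IdealSheafData.coe_support_inter s₀.ker ⟨_, hV⟩).le ⟨hsupp, hy⟩
    rw [h'] at this
    simp [Scheme.zeroLocus_def] at this
    exact this.1 1 (by rw [P.basicOpen_of_isUnit isUnit_one]; exact this.2)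

include hP h₀ hA in
theorem regular_zero : Mor2.IsRegularClosedImmersion s₀ :=
  ⟨inferInstance, fun y => by
    obtain ⟨V, hV, hy, rs, -, hrs, hI⟩ := zero_local hA hP h₀ y
    exact ⟨V, hV, hy, rs, hrs, hI⟩⟩

include hP h₀ hA in
theorem rank_zero [IsLocallyNoetherian P] : FlatMod.IsFinLocFreeOfRank d (Omega.conormal s₀) :=
  rank_conormal_of_local s₀ (zero_local hA hP h₀)

include hA hP h₀ hst in
/-- The zero scheme as the coincidence of two sections. -/
theorem isPullback_zero {Z : Scheme.{u}} (i : Z ⟶ Y) [IsClosedImmersion i]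
    (ht : ∀ U : Y.affineOpens, i.ker.ideal U = Ideal.span {a : Γ(Y, U.1) | ∃ x : Γ(A, U.1), (t.app U.1) x = a}) :
    IsPullback i i s s₀ := by
  classical
  choose U hU hyU bA hf hV hbij using exists_chart hA hP
  have hker : s₀.ker.comap s = i.ker := by
    refine Scheme.IdealSheafData.ext_of_iSup_eq_top (fun y => ⟨U y, hU y⟩)
      (eq_top_iff.2 fun y _ => Opens.mem_iSup.2 ⟨y, hyU y⟩) fun y => ?_
    rw [ModPairLib.ideal_comap _ s ⟨_, hV y⟩ ⟨U y, hU y⟩ (sect_le hP hst (bA y)),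
      zero_ideal hP (bA y) h₀ (hV y) (hbij y), Ideal.map_ofList, List.map_ofFn, ht ⟨U y, hU y⟩]
    have hX : ∀ l, (s.appLE (locus q (bF (bA y)) 0) (U y) (sect_le hP hst (bA y))).hom
        (coordHom q (bF (bA y)) 0 (X l)) = (show Γ(Y, U y) from t.app (U y) (bA y l)) := fun l => by
      have := RingHom.congr_fun (sect_comp hP hst (bA y)) (X l)
      rwa [eval₂Hom_X'] at this
    refine le_antisymm (Ideal.span_le.2 ?_) (Ideal.span_le.2 ?_)
    · intro a ha
      obtain ⟨l, rfl⟩ := List.mem_ofFn.1 ha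
      exact Ideal.subset_span ⟨bA y l, (hX l).symm⟩
    · rintro a ⟨x, rfl⟩
      obtain ⟨c, hc⟩ := (hf y (U y) le_rfl).2 x
      rw [← hc, H23.Frame.comb, map_sum]
      refine Ideal.sum_mem _ fun l _ => ?_
      rw [Scheme.Modules.Hom.app_smul]
      refine Ideal.mul_mem_left _ _ (Ideal.subset_span (List.mem_ofFn.2 ⟨l, (hX l).trans ?_⟩))
      exact congrArg (t.app (U y)) (res_self (bA y l)).symm
  have hfst : i.ker = (pullback.fst s s₀).ker := by
    rw [Scheme.IdealSheafData.ker_fst_of_isClosedImmersion, hker]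
  haveI : IsClosedImmersion (pullback.fst s s₀) := inferInstance
  let l := IsClosedImmersion.lift (pullback.fst s s₀) i hfst.ge
  have hl : l ≫ pullback.fst s s₀ = i := IsClosedImmersion.lift_fac _ _ _
  haveI : IsIso l := IsClosedImmersion.isIso_of_ker_eq i (pullback.fst s s₀) l hl hfst
  have heq : pullback.snd s s₀ = pullback.fst s s₀ := by
    have h := congrArg (· ≫ π) (pullback.condition (f := s) (g := s₀))
    simp only [Category.assoc, hst.1, h₀.1, Category.comp_id] at h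
    exact h.symm
  have hl2 : l ≫ pullback.snd s s₀ = i := by rw [heq]; exact hl
  exact IsPullback.of_iso_pullback ⟨by rw [← hl, Category.assoc, pullback.condition, ← Category.assoc, hl2, hl]⟩
    (asIso l) hl hl2

end Geometry

end Groth.Agent.H28.PBSect
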