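import Groth.Agent.PBlow.PB
import Groth.Agent.ProjUPX.Unique
import Groth.Agent.ProjUPX.Sections
import Groth.Agent.InvX.GenEpi
import Groth.Agent.PicClLib.Basic
import Groth.Agent.H28.KRRTw
import Groth.Agent.H28.KvbModel

/-!
# Projective space is the projective bundle of a free module
-/

set_option autoImplicit false
set_option linter.style.haveILetI false
set_option linter.unusedSectionVars false
set_option backward.isDefEq.respectTransparency false
set_option backward.isDefEq.respectTransparency.types false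

universe u

open CategoryTheory CategoryTheory.Limits AlgebraicGeometry TopologicalSpace Opposite

noncomputable section

namespace Groth.Agent.H28.PBFree

open Groth.Agent Groth.Agent.AModX Groth.Agent.PBlow

variable {X T : Scheme.{u}} {m : ℕ}

/-- The inverse image of a global section. -/
abbrev pS (g : T ⟶ X) (M : X.Modules) (x : Γ(M, ⊤)) : Γ((Scheme.Modules.pullback g).obj M, ⊤) :=
  QCoh.pullSec g M (V := (⊤ : X.Opens)) (fun _ _ => trivial) x

/-- The standard frame of a free module. -/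
abbrev bas (X : Scheme.{u}) (m : ℕ) : Fin m → Γ(FlatMod.freeMod X m, ⊤) :=
  fun i => (H23.Frame.incl X m i).app ⊤ (H23.Frame.one ⊤)

theorem exists_hom (g : T ⟶ X) {L : T.Modules} (t : Fin m → Γ(L, ⊤)) :
    ∃ s : (Scheme.Modules.pullback g).obj (FlatMod.freeMod X m) ⟶ L,
      ∀ i, s.app ⊤ (pS g (FlatMod.freeMod X m) (bas X m i)) = t i := by
  let e : Fin m → Γ((Scheme.Modules.pushforward g).obj L, ⊤) := t
  let φ : FlatMod.freeMod X m ⟶ (Scheme.Modules.pushforward g).obj L :=
    ∑ i, H23.Frame.proj X m i ≫ QCoh.homOfTop (e i)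
  refine ⟨((Scheme.Modules.pullbackPushforwardAdjunction g).homEquiv _ _).symm φ, fun i => ?_⟩
  let s := ((Scheme.Modules.pullbackPushforwardAdjunction g).homEquiv _ _).symm φ
  have hφ : (Scheme.Modules.pullbackPushforwardAdjunction g).homEquiv _ _ s = φ := Equiv.apply_symm_apply _ _
  have h1 : s.app (g ⁻¹ᵁ ⊤) (InvX.pullElt g (bas X m i)) = φ.app ⊤ (bas X m i) :=
    congrArg (fun f => Scheme.Modules.Hom.app f ⊤ (bas X m i)) hφ
  have h2 : φ.app ⊤ (bas X m i) = t i := by
    rw [H23.Frame.app_sum, Finset.sum_eq_single i]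
    · show (H23.Frame.incl X m i ≫ H23.Frame.proj X m i ≫ QCoh.homOfTop (e i)).app ⊤ (H23.Frame.one ⊤) = _
      rw [← Category.assoc, H23.Frame.incl_proj, if_pos rfl, Category.id_comp]
      exact (QCoh.homOfTop_app (e i) (1 : Γ(X, ⊤))).trans ((one_smul _ _).trans (res_self _))
    · intro j _ hj
      show (H23.Frame.incl X m i ≫ H23.Frame.proj X m j ≫ QCoh.homOfTop (e j)).app ⊤ (H23.Frame.one ⊤) = 0
      rw [← Category.assoc, H23.Frame.incl_proj, if_neg (Ne.symm hj), zero_comp]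
      rfl
    · simp
  refine Eq.trans ?_ (h1.trans h2)
  exact congrArg (s.app ⊤) (res_self (M := (Scheme.Modules.pullback g).obj (FlatMod.freeMod X m)) _)

section Locus

variable {π : T ⟶ X} {E : X.Modules} {O1 : T.Modules} (q : (Scheme.Modules.pullback π).obj E ⟶ O1)
  {U : X.Opens} {n : ℕ} {b : Fin n → Γ(E, U)}

/-- The values of an epimorphism onto an invertible module do not vanish simultaneously. -/
theorem exists_mem_locus (hb : H23.Frame.IsFrame E b) (hinv : FlatMod.IsFinLocFreeOfRank 1 O1) [Epi q] {p : T}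
    (hp : p ∈ π ⁻¹ᵁ U) : ∃ k, p ∈ locus q b k := by
  obtain ⟨W₀, hpW, ε₀, hε₀⟩ := exists_frame_rank_one hinv p
  let W := W₀ ⊓ π ⁻¹ᵁ U
  let ε := res O1 (inf_le_left : W ≤ W₀) ε₀
  have hε : InvX.IsFrame ε := hε₀.res _
  have hc := fun i => hε.exists_coord le_rfl (res O1 (inf_le_right : W ≤ π ⁻¹ᵁ U) (sig q b i))
  choose g hg using hc
  simp only [res_self] at hg
  by_cases H : ∃ i, p ∈ T.basicOpen (g i)
  · obtain ⟨i, hi⟩ := H
    exact ⟨i, basicOpen_le_locus q b inf_le_right hε (hg i) hi⟩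
  exfalso
  push Not at H
  let h := T.fromSpecResidueField p
  let K := Spec (T.residueField p)
  have hW : (⊤ : K.Opens) ≤ h ⁻¹ᵁ W := fun z _ => by
    show T.fromSpecResidueField p z ∈ W
    rw [Scheme.fromSpecResidueField_apply]
    exact ⟨hpW, hp⟩
  obtain ⟨e, he⟩ := exists_iso_of_frame (isFrame_pullSec h hW hε)
  haveI : (Scheme.Modules.pullback h).IsLeftAdjoint :=
    (Scheme.Modules.pullbackPushforwardAdjunction h).isLeftAdjoint
  let s := (Scheme.Modules.pullbackCongr (rfl : h ≫ π = h ≫ π)).inv.app E ≫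
    (Scheme.Modules.pullbackComp h π).inv.app E ≫ (Scheme.Modules.pullback h).map q ≫ e.hom
  haveI : Epi s := inferInstance
  have hzero : ∀ i, h.appLE W ⊤ hW (g i) = 0 := fun i => by
    by_contra hne
    have hf : IsField Γ(K, ⊤) := (MulEquiv.isField (Field.toIsField (T.residueField p))
      (Scheme.ΓSpecIso (T.residueField p)).commRingCatIsoToRingEquiv.toMulEquiv)
    obtain ⟨c, hc⟩ := hf.mul_inv_cancel hne
    have hu := K.basicOpen_of_isUnit (IsUnit.of_mul_eq_one c hc)
    rw [Scheme.basicOpen_appLE] at hu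
    obtain ⟨z⟩ : Nonempty K := inferInstanceAs (Nonempty (PrimeSpectrum (T.residueField p)))
    have : z ∈ (⊤ : K.Opens) ⊓ h ⁻¹ᵁ T.basicOpen (g i) := by rw [hu]; trivial
    have h2 : T.fromSpecResidueField p z ∈ T.basicOpen (g i) := this.2
    rw [Scheme.fromSpecResidueField_apply] at h2
    exact H i h2
  have hgU : (⊤ : K.Opens) ≤ (h ≫ π) ⁻¹ᵁ U := hW.trans (h.preimage_mono inf_le_right)
  have hs : s = 0 := hom_ext_frame (h ≫ π) hb hgU fun i => by
    refine (comp_app q b h _ rfl e hgU hgU i).trans ?_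
    have h1 : QCoh.pullSec h O1 hgU (sig q b i) = h.appLE W ⊤ hW (g i) • QCoh.pullSec h O1 hW ε := by
      rw [← QCoh.pullSec_smul, ← hg i, pullSec_restr]
    rw [h1, Scheme.Modules.Hom.app_smul, hzero i, zero_smul]
    rfl
  have h01 : (𝟙 (Coh.structureModule K)) = 0 := by rw [← cancel_epi s, hs, zero_comp, zero_comp]
  have h1 : (1 : Γ(K, ⊤)) = 0 :=
    congrArg (fun f : Coh.structureModule K ⟶ Coh.structureModule K =>
      Scheme.Modules.Hom.app f ⊤ (show Γ(Coh.structureModule K, ⊤) from (1 : Γ(K, ⊤)))) h01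
  have : Nontrivial Γ(K, ⊤) := (Scheme.ΓSpecIso (T.residueField p)).commRingCatIsoToRingEquiv.symm.injective.nontrivial
  exact one_ne_zero h1

/-- The values of an epimorphism on a global frame generate. -/
theorem generatedBy_sig {b : Fin n → Γ(E, ⊤)} (hb : H23.Frame.IsFrame E b)
    (hinv : FlatMod.IsFinLocFreeOfRank 1 O1) [Epi q] :
    ProjUP.GeneratedBy O1 (fun i => (sig q b i : Γ(O1, ⊤))) := fun x => by
  obtain ⟨k, hk⟩ := exists_mem_locus q hb hinv (p := x) trivial
  refine eq_top_iff.2 fun z _ => ?_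
  obtain ⟨c, hc⟩ := ((isFrame_sig q b k).germ_bijective hk).2 z
  rw [← hc]
  refine Submodule.smul_mem _ c (Submodule.subset_span ⟨k, ?_⟩)
  exact (InvX.germ_res' (le_top : locus q b k ≤ ⊤) hk (sig q b k : Γ(O1, ⊤))).symm

end Locus

theorem pS_congr {g g' : T ⟶ X} (e : g = g') (M : X.Modules) (x : Γ(M, ⊤)) :
    ((Scheme.Modules.pullbackCongr e).hom.app M).app ⊤ (pS g M x) = pS g' M x := by
  subst e
  simp [Scheme.Modules.pullbackCongr]

theorem pS_comp_inv {Z : Scheme.{u}} (g : T ⟶ X) (f : X ⟶ Z) (M : Z.Modules) (x : Γ(M, ⊤)) :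
    ((Scheme.Modules.pullbackComp g f).inv.app M).app ⊤ (pS (g ≫ f) M x) =
      pS g ((Scheme.Modules.pullback f).obj M) (pS f M x) := by
  have h := ExistEasy.pullSec_comp g f M (V := (⊤ : Z.Opens)) (le_refl (f ⁻¹ᵁ ⊤))
    (show (⊤ : T.Opens) ≤ g ⁻¹ᵁ (f ⁻¹ᵁ ⊤) from fun _ _ => trivial) x
  refine (congrArg (((Scheme.Modules.pullbackComp g f).inv.app M).app ⊤) h.symm).trans ?_
  exact congrArg (fun φ => Scheme.Modules.Hom.app φ ⊤ (pS g ((Scheme.Modules.pullback f).obj M) (pS f M x)))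
    ((Scheme.Modules.pullbackComp g f).hom_inv_id_app M)

variable (n : ℕ)

attribute [local instance] MvPolynomial.gradedAlgebra

/-- `ℤ[T₀, …, Tₙ]`. -/
abbrev R0 : Type u := ULift.{u} ℤ

/-- The coordinates on `P^n_X`. -/
def crdSec (X : Scheme.{u}) (i : Fin (n + 1)) : Γ(Twist.twistOver n X 1, ⊤) :=
  InvX.pullElt (KRRTw.toPn n X)
    (ProjUPX.sec (CohB1.polyGrading n R0.{u}) (ProjPt.X_mem (R := R0.{u}) i))

theorem isInvertible_twist1 :
    PicF.IsInvertible (Twist.twistProjSpace n R0.{u} 1) :=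
  PnCoh.Finite.isInvertible_twist (KRRReg.crd n) KRRReg.crd_mem KRRReg.crd_cover 1

theorem rank_twistOver (X : Scheme.{u}) : FlatMod.IsFinLocFreeOfRank 1 (Twist.twistOver n X 1) := fun x =>
  InvEnd.isFinLocFreeOfRank_one (KRRReg.isInvertible_twistOver 1) x

theorem exists_taut (X : Scheme.{u}) :
    ∃ q : (Scheme.Modules.pullback (KRR.pr n X)).obj (FlatMod.freeMod X (n + 1)) ⟶ Twist.twistOver n X 1,
      Epi q ∧ ∀ i, sig q (bas X (n + 1)) i = crdSec n X i := by
  obtain ⟨q, hq⟩ := exists_hom (KRR.pr n X) (crdSec n X)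
  have hsig : ∀ i, sig q (bas X (n + 1)) i = crdSec n X i := fun i => by
    refine Eq.trans ?_ (hq i)
    exact congrArg (q.app ⊤) (res_self (M := (Scheme.Modules.pullback (KRR.pr n X)).obj (FlatMod.freeMod X (n + 1))) _).symm
  refine ⟨q, ?_, hsig⟩
  have hgen : ProjUP.GeneratedBy (Twist.twistOver n X 1) (crdSec n X) :=
    ProjUPX.generatedBy_pullG (𝒜 := CohB1.polyGrading n R0.{u}) (KRRTw.toPn n X)
      (T := fun i : Fin (n + 1) => MvPolynomial.X i) (fun i => ProjPt.X_mem i) ProjUPX.cov_X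
  refine InvX.epi_of_generated hgen q
    (fun i => InvX.ofSect (pS (KRR.pr n X) _ (bas X (n + 1) i))) fun i => ?_
  show q.app ⊤ (InvX.one (InvX.ofSect _)) = _
  rw [InvX.one_ofSect]
  exact hq i

variable {n}

/-- `P^n_X` is the projective bundle of the free module. -/
theorem isProjBundle (q : (Scheme.Modules.pullback (KRR.pr n X)).obj (FlatMod.freeMod X (n + 1)) ⟶
    Twist.twistOver n X 1) (hqe : Epi q) (hq : ∀ i, sig q (bas X (n + 1)) i = crdSec n X i) :
    KRR.IsProjBundle (KRR.pr n X) (FlatMod.freeMod X (n + 1)) (Twist.twistOver n X 1) q where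
  invertible := rank_twistOver n X
  epi := hqe
  univ := by
    intro T g L hL s hs
    let 𝒜 := CohB1.polyGrading n R0.{u}
    have hfr := H23.Frame.incl_isFrame (X := X) (n := n + 1)
    have hinvL : PicF.IsInvertible L := fun x =>
      let ⟨U, hx, ⟨i⟩⟩ := hL x
      ⟨U, hx, ⟨i ≪≫ coproductUniqueIso fun _ : Fin 1 => Coh.structureModule (U : Scheme.{u})⟩⟩
    let p := KRR.pr n X
    let f := KRRTw.toPn n X
    let c : Fin (n + 1) → Γ(L, ⊤) := fun i => sig s (bas X (n + 1)) i
    have hc : ProjUP.GeneratedBy L c := generatedBy_sig s hfr hL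
    have hc' : ProjUP.GeneratedBy L (fun i : ULift.{u} (Fin (n + 1)) => c i.down) := fun x => by
      rw [show Set.range (fun i : ULift.{u} (Fin (n + 1)) => (L.presheaf.germ ⊤ x trivial).hom (c i.down)) =
        Set.range (fun i : Fin (n + 1) => (L.presheaf.germ ⊤ x trivial).hom (c i)) from
          ULift.down_surjective.range_comp (fun i => (L.presheaf.germ ⊤ x trivial).hom (c i))]
      exact hc x
    have hTgen : Algebra.adjoin R0.{u} (Set.range fun i : ULift.{u} (Fin (n + 1)) =>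
        (MvPolynomial.X i.down : MvPolynomial (Fin (n + 1)) R0.{u})) = ⊤ := by
      rw [show Set.range (fun i : ULift.{u} (Fin (n + 1)) => (MvPolynomial.X i.down : MvPolynomial (Fin (n + 1)) R0.{u})) =
            Set.range (fun i : Fin (n + 1) => (MvPolynomial.X i : MvPolynomial (Fin (n + 1)) R0.{u})) from
              ULift.down_surjective.range_comp (fun i : Fin (n + 1) => (MvPolynomial.X i : MvPolynomial (Fin (n + 1)) R0.{u}))]
      exact ProjUPX.adjoin_X
    have hcov : ∀ y : Proj 𝒜, ∃ i : ULift.{u} (Fin (n + 1)), y ∈ Proj.basicOpen 𝒜 (MvPolynomial.X i.down) :=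
      fun y => let ⟨i, hi⟩ := ProjUPX.cov_X y; ⟨⟨i⟩, hi⟩
    let q₀ : T ⟶ Spec (CommRingCat.of R0.{u}) := specULiftZIsTerminal.from T
    obtain ⟨r, hr, τ, hτ⟩ := ProjUPX.exists_map 𝒜 q₀ hinvL (ULift.{u} (Fin (n + 1)))
      (fun i => (MvPolynomial.X i.down : MvPolynomial (Fin (n + 1)) R0.{u})) (fun i => ProjPt.X_mem i.down)
      hTgen hcov (fun i => c i.down) hc'
      (fun V v k _ _ => ⟨MvPolynomial.eval₂Hom ((resR (le_top : V ≤ ⊤)).comp (ProjUP.toGlobal q₀)) (fun i => v ⟨i⟩),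
        fun l => MvPolynomial.eval₂Hom_X' _ _ _, fun x => MvPolynomial.eval₂Hom_C _ _ _⟩)
    let h : T ⟶ KRR.PY n X := pullback.lift r g (specULiftZIsTerminal.hom_ext _ _)
    have hg : h ≫ p = g := pullback.lift_snd _ _ _
    have hf : h ≫ f = r := pullback.lift_fst _ _ _
    have hval : ∀ (h' : T ⟶ KRR.PY n X) (i : Fin (n + 1)),
        ((Scheme.Modules.pullbackComp h' f).hom.app (Twist.twistProjSpace n R0.{u} 1)).app ⊤
          (pS h' (Twist.twistOver n X 1) (crdSec n X i)) =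
        pS (h' ≫ f) (Twist.twistProjSpace n R0.{u} 1)
          (ProjUPX.sec 𝒜 (ProjPt.X_mem (R := R0.{u}) i)) := fun h' i => by
      have h0 : crdSec n X i = pS f (Twist.twistProjSpace n R0.{u} 1)
          (ProjUPX.sec 𝒜 (ProjPt.X_mem (R := R0.{u}) i)) :=
        (res_self (M := (Scheme.Modules.pullback f).obj (Twist.twistProjSpace n R0.{u} 1)) _).symm
      rw [h0]
      exact ExistEasy.pullSec_comp h' f _ (le_refl (f ⁻¹ᵁ ⊤)) (le_top : ⊤ ≤ h' ⁻¹ᵁ (f ⁻¹ᵁ ⊤)) _
    let e : (Scheme.Modules.pullback h).obj (Twist.twistOver n X 1) ≅ L :=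
      (Scheme.Modules.pullbackComp h f).app (Twist.twistProjSpace n R0.{u} 1) ≪≫
        (Scheme.Modules.pullbackCongr hf).app _ ≪≫ τ
    have hev : ∀ i, e.hom.app ⊤ (pS h (Twist.twistOver n X 1) (crdSec n X i)) =
        c i := fun i => by
      have h1 : τ.hom.app ⊤ (pS r (Twist.twistProjSpace n R0.{u} 1) (ProjUPX.sec 𝒜 (ProjPt.X_mem (R := R0.{u}) i))) =
          c i := (congrArg (τ.hom.app ⊤)
            (res_self (M := (Scheme.Modules.pullback r).obj (Twist.twistProjSpace n R0.{u} 1)) _)).trans (hτ ⟨i⟩)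
      refine Eq.trans ?_ h1
      exact congrArg (τ.hom.app ⊤)
        ((congrArg (((Scheme.Modules.pullbackCongr hf).hom.app (Twist.twistProjSpace n R0.{u} 1)).app ⊤)
          (hval h i)).trans (pS_congr hf _ _))
    refine ⟨h, ⟨hg, e, ?_⟩, ?_⟩
    · refine hom_ext_frame g hfr le_top fun i => ?_
      refine (comp_app q (bas X (n + 1)) h g hg e le_top le_top i).trans ?_
      rw [hq i, hev i]
      exact congrArg (s.app ⊤) (res_self (M := (Scheme.Modules.pullback g).obj (FlatMod.freeMod X (n + 1))) _).symm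
    · rintro h' ⟨hg', e', he'⟩
      have hv' : ∀ i, e'.hom.app ⊤ (pS h' (Twist.twistOver n X 1)
          (crdSec n X i)) = c i := fun i => by
        rw [← hq i, ← comp_app q (bas X (n + 1)) h' g hg' e' le_top le_top i, he']
        exact congrArg (s.app ⊤) (res_self (M := (Scheme.Modules.pullback g).obj (FlatMod.freeMod X (n + 1))) _)
      let O := Twist.twistProjSpace n R0.{u} 1
      have h0 : ∀ i, crdSec n X i = pS f O (ProjUPX.sec 𝒜 (ProjPt.X_mem (R := R0.{u}) i)) := fun i =>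
        (res_self (M := (Scheme.Modules.pullback f).obj O) _).symm
      let τ' : (Scheme.Modules.pullback (h' ≫ f)).obj O ≅ L :=
        ((Scheme.Modules.pullbackComp h' f).app O).symm ≪≫ e'
      have hG : ∀ (r' : T ⟶ CohB1.ProjSpace n R0.{u}) (i : Fin (n + 1)),
          ProjUPX.pullG r' (ProjPt.X_mem (R := R0.{u}) i) = pS r' O (ProjUPX.sec 𝒜 (ProjPt.X_mem (R := R0.{u}) i)) :=
        fun r' i => (res_self (M := (Scheme.Modules.pullback r').obj O) _).symm
      have h2 : ∀ i, τ'.hom.app ⊤ (pS (h' ≫ f) O (ProjUPX.sec 𝒜 (ProjPt.X_mem (R := R0.{u}) i))) = c i := fun i => by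
        refine Eq.trans ?_ (hv' i)
        rw [h0]
        exact congrArg (e'.hom.app ⊤) (pS_comp_inv h' f O _)
      have h3 : ∀ i, τ.inv.app ⊤ (c i) = pS r O (ProjUPX.sec 𝒜 (ProjPt.X_mem (R := R0.{u}) i)) := fun i => by
        rw [← hτ ⟨i⟩]
        refine (congrArg (fun φ => Scheme.Modules.Hom.app φ ⊤ (ProjUP.pullSec r O
          (ProjUPX.sec 𝒜 (ProjPt.X_mem (R := R0.{u}) i)))) τ.hom_inv_id).trans ?_
        exact (res_self (M := (Scheme.Modules.pullback r).obj O) _).symm
      have hr' : h' ≫ f = r := by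
        refine ProjUPX.eq_of_iso_pullback (𝒜 := 𝒜) (T := fun i : ULift.{u} (Fin (n + 1)) => MvPolynomial.X i.down)
          (fun i => ProjPt.X_mem i.down) hTgen hcov (h' ≫ f) r (specULiftZIsTerminal.hom_ext _ _)
          (τ' ≪≫ τ.symm) fun i => ?_
        rw [hG, hG, ← h3, ← h2]
        rfl
      exact pullback.hom_ext (hr'.trans hf.symm) (hg'.trans hg.symm)

theorem exists_isProjBundle (n : ℕ) (X : Scheme.{u}) :
    ∃ q : (Scheme.Modules.pullback (KRR.pr n X)).obj (FlatMod.freeMod X (n + 1)) ⟶ Twist.twistOver n X 1,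
      KRR.IsProjBundle (KRR.pr n X) (FlatMod.freeMod X (n + 1)) (Twist.twistOver n X 1) q := by
  obtain ⟨q, hqe, hq⟩ := exists_taut n X
  exact ⟨q, isProjBundle q hqe hq⟩

end Groth.Agent.H28.PBFree
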