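import Groth.Agent.H28.PBEnough
import Groth.Agent.H28.PBSplit
import Groth.Agent.H28.PBFree
import Groth.Agent.QuotFunLib.ExtFinite
import Groth.Agent.KZ.QuasiProj
import Groth.Agent.S2336

/-!
# Quasi-projective schemes over affine Noetherian schemes have enough locally free modules
-/

set_option autoImplicit false
set_option linter.style.haveILetI false
set_option linter.unusedSectionVars false
set_option backward.isDefEq.respectTransparency false
set_option backward.isDefEq.respectTransparency.types false
set_option maxHeartbeats 1000000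

universe u

open CategoryTheory CategoryTheory.Limits AlgebraicGeometry TopologicalSpace

noncomputable section

namespace Groth.Agent.H28.QProjEnough

open Groth.Agent

theorem rank_freeMod (X : Scheme.{u}) (n : ℕ) : FlatMod.IsFinLocFreeOfRank n (FlatMod.freeMod X n) := fun _ =>
  ⟨⊤, trivial, ⟨QCoh.freeModRestrict _ _⟩⟩

theorem enough_affine (S : Scheme.{u}) [IsAffine S] [AlgebraicGeometry.IsNoetherian S] : KRR.HasEnoughLocFree S :=
  QuotFunLib.ExtFinite.hasEnoughLocFree_of_ample ((Groth.Agent.S2336.result S).1 inferInstance)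

variable (n : ℕ) (X : Scheme.{u}) [AlgebraicGeometry.IsNoetherian X]

theorem isNoetherian_PY : AlgebraicGeometry.IsNoetherian (KRR.PY n X) := by
  obtain ⟨q, hP⟩ := PBFree.exists_isProjBundle n X
  exact PBSplit.isNoetherian hP (rank_freeMod X (n + 1))

theorem connectedSpace_PY [ConnectedSpace ↥X] : ConnectedSpace ↥(KRR.PY n X) := by
  obtain ⟨q, hP⟩ := PBFree.exists_isProjBundle n X
  exact PBSplit.connectedSpace hP (rank_freeMod X (n + 1))

theorem enough_PY (hX : KRR.HasEnoughLocFree X) : KRR.HasEnoughLocFree (KRR.PY n X) := by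
  obtain ⟨q, hP⟩ := PBFree.exists_isProjBundle n X
  haveI := isNoetherian_PY n X
  obtain ⟨Oinv, hOi, hOO⟩ := H23.PicInv.exists_inverse (PBCores.isInvertible_iff_rank.2 hP.invertible)
  obtain ⟨eOO⟩ := hOO
  obtain ⟨ecomm⟩ := H23.PicMul.comm Oinv (Twist.twistOver n X 1)
  obtain ⟨D, -, -⟩ := PBBasis.exists_data hP (rank_freeMod X (n + 1)) Oinv ⟨ecomm ≪≫ eOO⟩
    (KvbModel.lf_of_rank (PBCores.isInvertible_iff_rank.1 hOi))
  exact PBEnough.enough D hX

/-- A quasi-projective scheme over an affine Noetherian scheme. -/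
theorem enough {S Y : Scheme.{u}} [IsAffine S] [AlgebraicGeometry.IsNoetherian S] (qY : Y ⟶ S)
    (hqY : KRR.IsQProjOver qY) : KRR.HasEnoughLocFree Y := by
  obtain ⟨N, ι, hι, -⟩ := hqY
  haveI := isNoetherian_PY N S
  let U := ι.coborderRange
  haveI : IsLocallyNoetherian U.toScheme := isLocallyNoetherian_of_isOpenImmersion U.ι
  haveI : CompactSpace U.toScheme := isCompact_iff_compactSpace.1 (NoetherianSpace.isCompact _)
  haveI : AlgebraicGeometry.IsNoetherian U.toScheme := {}
  exact KZ.QuasiProj.enough_closed (KZ.QuasiProj.enough_open (enough_PY N S (enough_affine S)) U) ι.liftCoborder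

end Groth.Agent.H28.QProjEnough
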