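import Groth.Agent.H28.LiftReg
import Groth.Agent.H28.PushTwo
import Groth.Agent.Lib.DivisorExt
import Groth.Agent.H26.IdealCl

/-!
# The class of an effective Cartier divisor
-/

set_option autoImplicit false
set_option linter.style.haveILetI false
set_option linter.unusedSectionVars false
set_option backward.isDefEq.respectTransparency false
set_option backward.isDefEq.respectTransparency.types false
set_option maxHeartbeats 1000000

universe v u

open CategoryTheory CategoryTheory.Limits AlgebraicGeometry TopologicalSpace Opposite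

noncomputable section

namespace Groth.Agent.H28.CartierPush

open Groth.Agent
open scoped ZeroObject

variable {M : Scheme.{u}} [AlgebraicGeometry.IsNoetherian M]

theorem rank_idealMod {I : M.IdealSheafData} (hI : BlowUp.IsEffCartierIdeal I) :
    FlatMod.IsFinLocFreeOfRank 1 (ClSub.idealMod I) :=
  PBCores.isInvertible_iff_rank.1 (H26.IdealCl.isInvertible_idealMod hI)

theorem regular {Z : Scheme.{u}} (ι : Z ⟶ M) [IsClosedImmersion ι] (h : BlowUp.IsEffCartierIdeal ι.ker) :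
    Mor2.IsRegularClosedImmersion ι ∧ FlatMod.IsFinLocFreeOfRank 1 (Omega.conormal ι) := by
  refine LiftReg.regular_of_exact ι fun z => ?_
  obtain ⟨⟨U, hU⟩, hzU, f, hf, hI⟩ := h (ι z)
  refine ⟨U, hU, hzU, fun _ => f, KRegLib.isExact_single fun x y hxy => ?_, by rw [hI, Set.range_const]⟩
  refine (mul_cancel_right_mem_nonZeroDivisors hf).1 ?_
  simpa [mul_comm] using hxy

/-- `ι_* 1 = 1 - [idealMod]`. -/
theorem push_one {Z : Scheme.{u}} (ι : Z ⟶ M) [IsClosedImmersion ι] [AlgebraicGeometry.IsNoetherian Z]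
    (h : BlowUp.IsEffCartierIdeal ι.ker) (hM : KRR.HasEnoughLocFree M)
    {KW : Type v} [CommRing KW] {φZ : SGA6.Kvb Z →+ KW} (hφZ : Function.Bijective φZ)
    (h1Z : φZ (KRR.cl Z (Coh.structureModule Z)) = 1)
    {KM : Type v} [CommRing KM] {φM : SGA6.Kvb M →+ KM} (h1M : φM (KRR.cl M (Coh.structureModule M)) = 1)
    {g : KW →+ KM} (hg : KRR.IsPushCl ι φZ φM g) : g 1 = 1 - φM (KRR.cl M (ClSub.idealMod ι.ker)) := by
  obtain ⟨hreg, -⟩ := regular ι h
  obtain ⟨j, hjb, hj⟩ := KRRPushK.exists_inclusion hM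
  have hI := KvbModel.lf_of_rank (rank_idealMod h)
  have hO : FlatMod.IsFinLocFree (Coh.structureModule M) := KvbLam.lf_O
  obtain ⟨e⟩ := Groth.Agent.DivisorExt.nonempty_quotMod_iso ι
  have hS := Groth.Agent.DivisorExt.ideal_shortExact ι.ker
  have hP := KRRPushK.p₁_push ι hM hreg (KvbLam.lf_O (X := Z))
  have hQ : KZ.LFRes.P₁ M (ClSub.quotMod ι.ker) := (KZ.LFRes.resSetup hM).iso₁.of_iso e.symm hP
  have h0 : KZ.LFRes.P₁ M (0 : M.Modules) :=
    KRRPushK.p₁_of_pdlt hM ((KZ.LFRes.pdlt_of_isZero (isZero_zero _)).mono (Nat.zero_le 1))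
  rw [← h1Z, (KRRPushK.isPushCl_iff ι φZ hφZ φM hM hreg hjb hj g).1 hg _ KvbLam.lf_O
    (KRR.cl M (Coh.structureModule M) - KRR.cl M (ClSub.idealMod ι.ker)) ?_, map_sub, h1M]
  rw [map_sub, hj _ hO, hj _ hI, ← KZ.clSub_iso _ e hQ hP (isZero_zero _) h0, sub_eq_iff_eq_add']
  exact KZ.clSub_ses (KZ.LFRes.P₁ M) hS ((KZ.LFRes.resSetup hM).le _ hI) ((KZ.LFRes.resSetup hM).le _ hO) hQ

/-- Classes of products of divisors. -/
theorem cl_mul {I J : M.IdealSheafData} (hI : BlowUp.IsEffCartierIdeal I) (hJ : BlowUp.IsEffCartierIdeal J)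
    {KM : Type v} [CommRing KM] [LambdaRing.LambdaOps KM] {PM : LambdaRing.PosStructure KM}
    {φM : SGA6.Kvb M →+ KM} (hM : KRR.IsModel M KM PM φM) :
    φM (KRR.cl M (ClSub.idealMod (J * I))) = φM (KRR.cl M (ClSub.idealMod J)) * φM (KRR.cl M (ClSub.idealMod I)) := by
  obtain ⟨e⟩ := H26.IdealCl.nonempty_tensor_iso I J hJ
  have li := KvbModel.lf_of_rank (rank_idealMod hI)
  have lj := KvbModel.lf_of_rank (rank_idealMod hJ)
  rw [hM.map_mul _ _ lj li]
  exact (congrArg φM (GenPush.cl_iso e (KFlatLib.isFinLocFree_tensor lj li)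
    (KvbModel.lf_of_rank (rank_idealMod (ModPairLib.isEffCartier_mul hJ hI))))).symm

end Groth.Agent.H28.CartierPush
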