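import Groth.Agent.H28.GenPsi

/-!
# `K₀` of bundles on `P^n_T` is free on the twists
-/

set_option linter.style.haveILetI false
set_option linter.unusedSectionVars false
set_option backward.isDefEq.respectTransparency false
set_option backward.isDefEq.respectTransparency.types false

universe v w u

open CategoryTheory CategoryTheory.Limits AlgebraicGeometry TopologicalSpace

namespace Groth.Agent.H28.GenBasis

open Groth.Agent Groth.Agent.H28.KRRTw Groth.Agent.H28.KRRReg Groth.Agent.H28.KRegK0 Groth.Agent.H28.GenPush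
  Groth.Agent.H28.GenPsi

variable {n : ℕ} {T : Scheme.{u}}

theorem mapSub_clSub {A : Type u} [Category.{v} A] [Abelian A] {B : Type w} [Category.{v} B] [Abelian B]
    (F : A ⥤ B) [F.Additive] [PreservesFiniteLimits F] [PreservesFiniteColimits F]
    (P : ObjectProperty A) (Q : ObjectProperty B) (h : ∀ X, P X → Q (F.obj X)) {X : A} (hX : P X) :
    SGA6.mapSub F P Q h (KZero.clSub P X) = KZero.clSub Q (F.obj X) := by
  rw [KZ.clSub_of_prop P hX, KZ.clSub_of_prop Q (h X hX)]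
  rfl

/-- Twisting on `K₀`. -/
theorem exists_twHom (n : ℕ) (T : Scheme.{u}) (d : ℤ) :
    ∃ t : SGA6.Kvb (KRR.PY n T) →+ SGA6.Kvb (KRR.PY n T),
      ∀ E, VP n T E → t (KRR.cl (KRR.PY n T) E) = KRR.cl (KRR.PY n T) (KRR.twF n T d E) :=
  KZ.exists_liftSub (KRR.vbP (KRR.PY n T)) (fun E => KRR.cl (KRR.PY n T) (KRR.twF n T d E))
    fun _ hS h₁ h₂ h₃ =>
      KZ.clSub_ses (KRR.vbP (KRR.PY n T)) (shortExact_twF hS d) (vp_twF d h₁) (vp_twF d h₂) (vp_twF d h₃)

theorem cl_twF_twF (a b c : ℤ) (h : a + b = c) {E : (KRR.PY n T).Modules} (hE : VP n T E) :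
    KRR.cl (KRR.PY n T) (KRR.twF n T a (KRR.twF n T b E)) = KRR.cl (KRR.PY n T) (KRR.twF n T c E) :=
  GenPush.cl_iso (twF_twF a b c h E).some (vp_twF a (vp_twF b hE)) (vp_twF c hE)

theorem cl_twF_zero {E : (KRR.PY n T).Modules} (hE : VP n T E) :
    KRR.cl (KRR.PY n T) (KRR.twF n T 0 E) = KRR.cl (KRR.PY n T) E :=
  GenPush.cl_iso (twF_zero E).some (vp_twF 0 hE) hE

section Res

variable [CompactSpace T] {F : (KRR.PY n T).Modules} (hF : RP n T F)

include hF in
theorem lf_W : ∀ k, FlatMod.IsFinLocFree (RegRes.W F k)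
  | 0 => hF.1
  | k + 1 => by
    have hk := lf_W k
    have hs := RegRes.W_spec (QCoh.isQCoh_of_isFinLocFree hF.1) hF.2 k
    haveI := KRREpi.epi_counit _ hs.1 hs.2
    rw [RegRes.W_succ]
    exact vp_twF _ (KFlatLib.isFinLocFree_kernel (RegRes.eps (RegRes.W F k))
      (KFlatLib.isFinLocFree_pullback _ (GenPush.isFinLocFree_push ⟨hk, hs.2⟩)) hk)

include hF in
theorem cl_W_mem (S : AddSubgroup (SGA6.Kvb (KRR.PY n T)))
    (hS : ∀ (k : ℕ) (G : T.Modules), k ≤ n → FlatMod.IsFinLocFree G →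
      KRR.cl (KRR.PY n T) (M (P n G) (k : ℤ)) ∈ S) :
    ∀ j k : ℕ, n + 1 ≤ k + j → KRR.cl (KRR.PY n T) (M (RegRes.W F k) ((n : ℤ) - k)) ∈ S := by
  intro j
  induction j with
  | zero =>
    intro k hk
    obtain ⟨m, rfl⟩ := Nat.exists_eq_add_of_le (show n + 1 ≤ k by omega)
    rw [show KRR.cl (KRR.PY n T) (M (RegRes.W F (n + 1 + m)) ((n : ℤ) - (n + 1 + m : ℕ))) = 0 from
      KZ.clSub_isZero _ ((Tw n T _).map_isZero
        (RegRes.isZero_W (QCoh.isQCoh_of_isFinLocFree hF.1) hF.2 m))]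
    exact S.zero_mem
  | succ j ih =>
    intro k hk
    by_cases hkn : n + 1 ≤ k + j
    · exact ih k hkn
    have hW := lf_W hF k
    have hs := RegRes.W_spec (QCoh.isQCoh_of_isFinLocFree hF.1) hF.2 k
    let G := (Scheme.Modules.pushforward (KRR.pr n T)).obj (RegRes.W F k)
    have hG : FlatMod.IsFinLocFree G := GenPush.isFinLocFree_push ⟨hW, hs.2⟩
    haveI := KRREpi.epi_counit _ hs.1 hs.2
    have hK := KFlatLib.isFinLocFree_kernel (RegRes.eps (RegRes.W F k)) (KFlatLib.isFinLocFree_pullback _ hG) hW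
    have h1 := KZ.clSub_ses (KRR.vbP (KRR.PY n T))
      (shortExact_twF (RegRes.shortExact_eps hs.1 hs.2) ((n : ℤ) - k))
      (vp_twF _ hK) (vp_twF _ (KFlatLib.isFinLocFree_pullback _ hG)) (vp_twF _ hW)
    have h2 : KRR.cl (KRR.PY n T) (M (kernel (RegRes.eps (RegRes.W F k))) ((n : ℤ) - k)) =
        KRR.cl (KRR.PY n T) (M (RegRes.W F (k + 1)) ((n : ℤ) - (k + 1 : ℕ))) :=
      (cl_twF_twF ((n : ℤ) - (k + 1 : ℕ)) 1 ((n : ℤ) - k) (by push_cast; ring) hK).symm
    have h3 : KRR.cl (KRR.PY n T) (M (RegRes.W F k) ((n : ℤ) - k)) =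
        KRR.cl (KRR.PY n T) (M (P n G) ((n - k : ℕ) : ℤ)) -
          KRR.cl (KRR.PY n T) (M (RegRes.W F (k + 1)) ((n : ℤ) - (k + 1 : ℕ))) := by
      rw [← h2, eq_sub_iff_add_eq, add_comm, show ((n - k : ℕ) : ℤ) = (n : ℤ) - k by omega]
      exact h1.symm
    rw [h3]
    exact S.sub_mem (hS _ G (Nat.sub_le n k) hG) (ih (k + 1) (by omega))

end Res

/-- The twists of pull-backs span. -/
theorem eq_top_of_mem [CompactSpace T] (S : AddSubgroup (SGA6.Kvb (KRR.PY n T)))
    (hS : ∀ (k : ℕ) (G : T.Modules), k ≤ n → FlatMod.IsFinLocFree G →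
      KRR.cl (KRR.PY n T) (M (P n G) (k : ℤ)) ∈ S) : S = ⊤ := by
  obtain ⟨t, ht⟩ := exists_twHom n T (n : ℤ)
  obtain ⟨t', ht'⟩ := exists_twHom n T (-(n : ℤ))
  obtain ⟨ι, hι⟩ := KZ.exists_liftSub (RP n T) (fun E => KRR.cl (KRR.PY n T) E) fun _ hS h₁ h₂ h₃ =>
    KZ.clSub_ses (KRR.vbP (KRR.PY n T)) hS h₁.1 h₂.1 h₃.1
  have hsurj := (bijective_of_exists_reg GenPush.exists_R ι hι).2
  have htt : t.comp t' = AddMonoidHom.id _ := KZ.K0sub_hom_ext _ fun E hE => by
    show t (t' (KRR.cl _ E)) = KRR.cl _ E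
    rw [ht' E hE, ht _ (vp_twF _ hE), cl_twF_twF _ _ 0 (by ring) hE, cl_twF_zero hE]
  have key : ∀ y, t (ι y) ∈ S := fun y => by
    refine QuotientAddGroup.induction_on y fun z => ?_
    induction z using FreeAbelianGroup.induction_on with
    | zero => simp
    | of E =>
      rw [show (QuotientAddGroup.mk (FreeAbelianGroup.of E) : KZero.K0sub (RP n T)) = KZero.clSub (RP n T) E.1
        from (KZ.clSub_of_prop (RP n T) E.2).symm, hι E.1 E.2, ht E.1 E.2.1]
      exact cl_W_mem E.2 S hS (n + 1) 0 (by omega)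
    | neg E h => rw [QuotientAddGroup.mk_neg, map_neg, map_neg]; exact S.neg_mem h
    | add a b ha hb => rw [QuotientAddGroup.mk_add, map_add, map_add]; exact S.add_mem ha hb
  refine eq_top_iff.2 fun x _ => ?_
  obtain ⟨y, hy⟩ := hsurj (t' x)
  have := key y
  rw [hy, ← AddMonoidHom.comp_apply, htt] at this
  exact this

/-- `K₀` of bundles on `P^n_T` is free over `K₀` of bundles on `T`, on the twists `0, …, n`. -/
theorem bijective_basis [CompactSpace T] (G : Fin (n + 1) → (SGA6.Kvb T →+ SGA6.Kvb (KRR.PY n T)))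
    (hG : ∀ (i : Fin (n + 1)) (N : T.Modules), FlatMod.IsFinLocFree N →
      G i (KRR.cl T N) = KRR.cl (KRR.PY n T) (M (P n N) ((i : ℕ) : ℤ))) :
    Function.Bijective fun x : Fin (n + 1) → SGA6.Kvb T => ∑ i, G i (x i) := by
  let Φ : (Fin (n + 1) → SGA6.Kvb T) →+ SGA6.Kvb (KRR.PY n T) :=
    ∑ i, (G i).comp (Pi.evalAddMonoidHom (fun _ : Fin (n + 1) => SGA6.Kvb T) i)
  have hΦ : ∀ x, Φ x = ∑ i, G i (x i) := fun x => by
    simp only [Φ, AddMonoidHom.finsetSum_apply, AddMonoidHom.comp_apply, Pi.evalAddMonoidHom_apply]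
  rw [show (fun x : Fin (n + 1) → SGA6.Kvb T => ∑ i, G i (x i)) = Φ from funext fun x => (hΦ x).symm]
  refine ⟨(injective_iff_map_eq_zero Φ).2 fun x hx => ?_, ?_⟩
  · obtain ⟨π, hπ⟩ := GenPsi.exists_pushHom (n := n) (T := T)
    have hval : ∀ (j i : Fin (n + 1)) (t : SGA6.Kvb (KRR.PY n T) →+ SGA6.Kvb (KRR.PY n T)),
        (∀ E, VP n T E → t (KRR.cl _ E) = KRR.cl _ (KRR.twF n T (-(((j : ℕ)) : ℤ)) E)) →
        ∀ y, π (t (G i y)) = ((n + (i : ℕ) - (j : ℕ)).choose n : ℤ) • y := fun j i t ht => by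
      refine fun y => DFunLike.congr_fun (f := (π.comp t).comp (G i))
        (g := ((n + (i : ℕ) - (j : ℕ)).choose n : ℤ) • AddMonoidHom.id _) (KZ.K0sub_hom_ext _ fun N hN => ?_) y
      show π (t (G i (KRR.cl T N))) = ((n + (i : ℕ) - (j : ℕ)).choose n : ℤ) • KRR.cl T N
      rw [hG i N hN]
      refine ((congrArg π ((ht _ (vp_twF _ (rp_pullback hN).1)).trans
        (cl_twF_twF _ _ (((n + (i : ℕ) - (j : ℕ) : ℕ) : ℤ) - n) (by omega) (rp_pullback hN).1))).trans ?_)
      exact GenPsi.push_twist hN π (AddMonoidHom.id _) hπ _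
    suffices H : ∀ k : ℕ, ∀ j : Fin (n + 1), n ≤ (j : ℕ) + k → x j = 0 from
      funext fun j => H n j (Nat.le_add_left n _)
    intro k
    induction k with
    | zero =>
      intro j hj
      obtain ⟨t, ht⟩ := exists_twHom n T (-(((j : ℕ)) : ℤ))
      have h := congrArg (π.comp t) ((hΦ x).symm.trans hx)
      rw [map_sum, map_zero, Finset.sum_eq_single j] at h
      · rw [AddMonoidHom.comp_apply, hval j j t ht, show n + (j : ℕ) - (j : ℕ) = n by omega, Nat.choose_self,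
          Nat.cast_one, one_smul] at h
        exact h
      · intro i _ hij
        rw [AddMonoidHom.comp_apply, hval j i t ht, Nat.choose_eq_zero_of_lt (by
          have := i.isLt; have := Fin.val_ne_of_ne hij; omega), Nat.cast_zero, zero_smul]
      · simp
    | succ k ih =>
      intro j hj
      obtain ⟨t, ht⟩ := exists_twHom n T (-(((j : ℕ)) : ℤ))
      have h := congrArg (π.comp t) ((hΦ x).symm.trans hx)
      rw [map_sum, map_zero, Finset.sum_eq_single j] at h
      · rw [AddMonoidHom.comp_apply, hval j j t ht, show n + (j : ℕ) - (j : ℕ) = n by omega, Nat.choose_self,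
          Nat.cast_one, one_smul] at h
        exact h
      · intro i _ hij
        have := i.isLt
        have := Fin.val_ne_of_ne hij
        rcases Nat.lt_or_ge (i : ℕ) (j : ℕ) with hlt | hge
        · rw [AddMonoidHom.comp_apply, hval j i t ht, Nat.choose_eq_zero_of_lt (by omega), Nat.cast_zero, zero_smul]
        · rw [ih i (by omega), map_zero, map_zero]
      · simp
  · refine fun y => ?_
    have htop := eq_top_of_mem Φ.range fun k N hk hN => ?_
    · exact (htop ▸ AddSubgroup.mem_top y : y ∈ Φ.range)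
    · refine ⟨Pi.single ⟨k, by omega⟩ (KRR.cl T N), ?_⟩
      rw [hΦ, Finset.sum_eq_single ⟨k, by omega⟩]
      · rw [Pi.single_eq_same]; exact hG ⟨k, by omega⟩ N hN
      · intro i _ hi
        rw [Pi.single_eq_of_ne hi, map_zero]
      · simp

end Groth.Agent.H28.GenBasis
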