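import Groth.Agent.H28.KRRPush
import Groth.Agent.KFlatLib.Scheme.ClosedPush

/-!
# Existence and uniqueness of `f_K`
-/

set_option linter.style.haveILetI false
set_option linter.unusedSectionVars false
set_option backward.isDefEq.respectTransparency false
set_option backward.isDefEq.respectTransparency.types false

universe v w u

open CategoryTheory CategoryTheory.Limits AlgebraicGeometry TopologicalSpace

namespace Groth.Agent.H28.KRRPushK

open scoped ZeroObject
open Groth.Agent Groth.Agent.KZ.LFRes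

variable {X : Scheme.{u}}

theorem p₁_of_pdlt [IsNoetherian X] (hX : KRR.HasEnoughLocFree X) {n : ℕ} {M : X.Modules} (h : PDLT (n + 1) M) :
    P₁ X M := ⟨h.1, hasLFRes hX n M h⟩

/-- The class of a resolved module is the alternating sum of the terms. -/
theorem clSub_resolution [IsNoetherian X] (hX : KRR.HasEnoughLocFree X) {F : X.Modules} {n : ℕ}
    {L : ChainComplex X.Modules ℕ} {π : L ⟶ (ChainComplex.single₀ X.Modules).obj F} (h : KRR.IsLFRes F n L π) :
    KZero.clSub (P₁ X) F = ∑ k ∈ Finset.range (n + 1), (-1 : ℤ) ^ k • KZero.clSub (P₁ X) (L.X k) := by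
  haveI := h.quasiIso
  have hex : ∀ k, L.ExactAt (k + 1) := fun k => by
    rw [← quasiIsoAt_iff_exactAt' π (k + 1) (HomologicalComplex.exactAt_single_obj _ _ _ _ (by simp))]
    infer_instance
  let e : L.opcycles 0 ≅ F := (L.isoHomologyι₀).symm ≪≫ asIso (HomologicalComplex.homologyMap π 0) ≪≫
    HomologicalComplex.singleObjHomologySelfIso (ComplexShape.down ℕ) 0 F
  have key : ∀ j k, k + j = n + 1 → PDLT (j + 1) (L.opcycles k) ∧
      KZero.clSub (P₁ X) (L.opcycles k) = ∑ i ∈ Finset.range j, (-1 : ℤ) ^ i • KZero.clSub (P₁ X) (L.X (k + i)) := by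
    intro j
    induction j with
    | zero =>
      intro k hk
      have hz : IsZero (L.opcycles k) := IsZero.of_epi (L.pOpcycles k) (h.isZero k (by omega))
      exact ⟨(pdlt_of_isZero hz).mono (Nat.zero_le _), by rw [KZ.clSub_isZero _ hz, Finset.range_zero, Finset.sum_empty]⟩
    | succ j ih =>
      intro k hk
      obtain ⟨hk1, hcl⟩ := ih (k + 1) (by omega)
      haveI : Mono (L.fromOpcycles (k + 1) k) := by
        have h' := (L.exactAt_iff' (k + 2) (k + 1) k (by simp) (by simp)).1 (hex k)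
        have := h'.mono_fromOpcycles
        have e : L.fromOpcycles (k + 1) k = (L.opcyclesIsoSc' (k + 2) (k + 1) k (by simp) (by simp)).hom ≫
            (L.sc' (k + 2) (k + 1) k).fromOpcycles := by
          rw [← cancel_epi (L.pOpcycles (k + 1))]
          rw [L.p_fromOpcycles, HomologicalComplex.pOpcycles_opcyclesIsoSc'_hom_assoc, ShortComplex.p_fromOpcycles]
          rfl
        rw [e]
        infer_instance
      let S := ShortComplex.mk (L.fromOpcycles (k + 1) k) (L.pOpcycles k)
        (by rw [← cancel_epi (L.pOpcycles (k + 1))]; simp)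
      have hS : S.ShortExact := by
        refine .mk' ?_ inferInstance inferInstance
        refine ShortComplex.exact_of_g_is_cokernel _ (CokernelCofork.IsColimit.ofπ _ _
          (fun g hg => L.descOpcycles g (k + 1) (by simp) (by
            rw [← L.p_fromOpcycles, Category.assoc]
            exact (congrArg _ hg).trans comp_zero))
          (fun g hg => L.p_descOpcycles _ _ _ _) (fun g hg b hb => ?_))
        rw [← cancel_epi (L.pOpcycles k), L.p_descOpcycles]
        exact hb
      have hLk : PDLT (j + 1) (L.X k) := ((pdlt_one_iff).2 (h.finLocFree k)).mono (by omega)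
      have hc : Coh.IsCoh (L.opcycles k) :=
        (PDLT.iso ((cokernelIsCokernel S.f).coconePointUniqueUpToIso hS.gIsCokernel)
          (PDLT.cokernel_of (S := ShortComplex.mk S.f (cokernel.π S.f) (cokernel.condition _))
            (ShortComplex.ShortExact.mk' (ShortComplex.exact_cokernel S.f) hS.mono_f inferInstance)
            (QCoh.isCoh_cokernel hk1.1.1 hLk.1 S.f) hk1 (hLk.mono (Nat.le_succ _)))).1
      have hpd : PDLT (j + 2) (L.opcycles k) := PDLT.cokernel_of hS hc hk1 (hLk.mono (Nat.le_succ _))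
      refine ⟨hpd, ?_⟩
      have := KZ.clSub_ses (P₁ X) hS (p₁_of_pdlt hX hk1) (p₁_of_pdlt hX hLk) (p₁_of_pdlt hX hpd)
      rw [Finset.sum_range_succ', pow_zero, one_smul, add_zero]
      simp only [pow_succ, mul_neg, mul_one, neg_smul, Finset.sum_neg_distrib]
      simp only [S] at this
      rw [this, hcl]
      simp only [add_assoc, add_comm 1]
      abel
  obtain ⟨h0, hcl⟩ := key (n + 1) 0 (by omega)
  simp only [zero_add] at hcl
  rw [← hcl]
  have hzero : P₁ X (0 : X.Modules) := p₁_of_pdlt hX ((pdlt_of_isZero (isZero_zero _)).mono (Nat.zero_le 1))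
  exact (KZ.clSub_iso _ e (p₁_of_pdlt hX h0) (p₁_of_pdlt hX (h0.iso e)) (isZero_zero _) hzero).symm

variable {Y : Scheme.{u}} (f : X ⟶ Y) [IsClosedImmersion f]

theorem shortExact_push {S : ShortComplex X.Modules} (hS : S.ShortExact) :
    (S.map (Scheme.Modules.pushforward f)).ShortExact := by
  haveI : PreservesFiniteColimits (Scheme.Modules.pushforward f) :=
    ⟨fun J _ _ => KFlatLib.preservesColimitsOfShape_push f J⟩
  haveI : PreservesFiniteLimits (Scheme.Modules.pushforward f) := by
    haveI := (Scheme.Modules.pullbackPushforwardAdjunction f).isRightAdjoint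
    infer_instance
  exact hS.map_of_exact _

variable [IsNoetherian X] [IsNoetherian Y]

theorem p₁_push (hY : KRR.HasEnoughLocFree Y) (hf : Mor2.IsRegularClosedImmersion f) {F : X.Modules}
    (hF : FlatMod.IsFinLocFree F) : P₁ Y ((Scheme.Modules.pushforward f).obj F) :=
  let ⟨_, hc⟩ := KRRPush.exists_pdlt_push f hf hF
  p₁_of_pdlt hY hc

theorem exists_inclusion (hY : KRR.HasEnoughLocFree Y) :
    ∃ ι : SGA6.Kvb Y →+ KZero.K0sub (P₁ Y), Function.Bijective ι ∧
      ∀ M, FlatMod.IsFinLocFree M → ι (KRR.cl Y M) = KZero.clSub (P₁ Y) M := by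
  obtain ⟨ι, hι⟩ := KZ.exists_liftSub (KRR.vbP Y) (fun M => KZero.clSub (P₁ Y) M) fun _ hS h₁ h₂ h₃ =>
    KZ.clSub_ses (P₁ Y) hS ((resSetup hY).le _ h₁) ((resSetup hY).le _ h₂) ((resSetup hY).le _ h₃)
  exact ⟨ι, bijective_resolvable hY ι hι, hι⟩

/-- The push-forward on `K₀`, valued in resolvable coherent modules. -/
theorem exists_pushK (hY : KRR.HasEnoughLocFree Y) (hf : Mor2.IsRegularClosedImmersion f) :
    ∃ π : SGA6.Kvb X →+ KZero.K0sub (P₁ Y),
      ∀ F, FlatMod.IsFinLocFree F → π (KRR.cl X F) = KZero.clSub (P₁ Y) ((Scheme.Modules.pushforward f).obj F) :=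
  KZ.exists_liftSub (KRR.vbP X) (fun F => KZero.clSub (P₁ Y) ((Scheme.Modules.pushforward f).obj F))
    fun _ hS h₁ h₂ h₃ => KZ.clSub_ses (P₁ Y) (shortExact_push f hS) (p₁_push f hY hf h₁) (p₁_push f hY hf h₂)
      (p₁_push f hY hf h₃)

variable {KX : Type v} [CommRing KX] (φX : SGA6.Kvb X →+ KX) (hφX : Function.Bijective φX)
  {KY : Type w} [CommRing KY] (φY : SGA6.Kvb Y →+ KY)

theorem resolution_eq (hY : KRR.HasEnoughLocFree Y) {ι : SGA6.Kvb Y →+ KZero.K0sub (P₁ Y)}
    (hι : ∀ M, FlatMod.IsFinLocFree M → ι (KRR.cl Y M) = KZero.clSub (P₁ Y) M) {M : Y.Modules} {n : ℕ}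
    {L : ChainComplex Y.Modules ℕ} {π : L ⟶ (ChainComplex.single₀ Y.Modules).obj M} (h : KRR.IsLFRes M n L π) :
    ι (∑ k ∈ Finset.range (n + 1), (-1 : ℤ) ^ k • KRR.cl Y (L.X k)) = KZero.clSub (P₁ Y) M := by
  rw [map_sum, clSub_resolution hY h]
  exact Finset.sum_congr rfl fun k _ => by rw [map_zsmul, hι _ (h.finLocFree k)]

include hφX in
/-- `f_K` is characterised by its values in resolvable coherent modules. -/
theorem isPushCl_iff (hY : KRR.HasEnoughLocFree Y) (hf : Mor2.IsRegularClosedImmersion f)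
    {ι : SGA6.Kvb Y →+ KZero.K0sub (P₁ Y)} (hιb : Function.Bijective ι)
    (hι : ∀ M, FlatMod.IsFinLocFree M → ι (KRR.cl Y M) = KZero.clSub (P₁ Y) M) (h : KX →+ KY) :
    KRR.IsPushCl f φX φY h ↔ ∀ (F : X.Modules), FlatMod.IsFinLocFree F → ∀ z : SGA6.Kvb Y,
      ι z = KZero.clSub (P₁ Y) ((Scheme.Modules.pushforward f).obj F) → h (φX (KRR.cl X F)) = φY z := by
  refine ⟨fun hh F hF z hz => ?_, fun hh F hF n L π hL => ?_⟩
  · obtain ⟨n, L, π, hL⟩ := (p₁_push f hY hf hF).2
    rw [hh F hF n L π hL]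
    have := hιb.1 ((resolution_eq hY hι hL).trans hz.symm)
    rw [← this, map_sum]
    simp only [map_zsmul]
  · rw [hh F hF _ (resolution_eq hY hι hL), map_sum]
    simp only [map_zsmul]

include hφX in
theorem existsUnique_isPushCl (hY : KRR.HasEnoughLocFree Y) (hf : Mor2.IsRegularClosedImmersion f) :
    ∃! h : KX →+ KY, KRR.IsPushCl f φX φY h := by
  obtain ⟨ι, hιb, hι⟩ := exists_inclusion hY
  obtain ⟨π, hπ⟩ := exists_pushK f hY hf
  let eX := AddEquiv.ofBijective φX hφX
  let eY := AddEquiv.ofBijective ι hιb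
  refine ⟨(φY.comp eY.symm.toAddMonoidHom).comp (π.comp eX.symm.toAddMonoidHom),
    (isPushCl_iff f φX hφX φY hY hf hιb hι _).2 fun F hF z hz => ?_, fun g hg => ?_⟩
  · show φY (eY.symm (π (eX.symm (eX (KRR.cl X F))))) = φY z
    rw [AddEquiv.symm_apply_apply, hπ F hF, ← hz]
    exact congrArg φY (eY.symm_apply_apply z)
  · have h : g.comp φX = (φY.comp eY.symm.toAddMonoidHom).comp π := KZ.K0sub_hom_ext _ fun F hF => by
      show g (φX (KRR.cl X F)) = φY (eY.symm (π (KRR.cl X F)))
      refine (isPushCl_iff f φX hφX φY hY hf hιb hι g).1 hg F hF _ ?_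
      rw [hπ F hF]
      exact eY.apply_symm_apply _
    refine AddMonoidHom.ext fun x => ?_
    obtain ⟨y, rfl⟩ := eX.surjective x
    exact (DFunLike.congr_fun h y).trans (congrArg (fun z => φY (eY.symm (π z))) (eX.symm_apply_apply y).symm)

end Groth.Agent.H28.KRRPushK
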