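import Groth.Agent.H28.PushFil
import Groth.Agent.H28.PBSect
import Groth.Agent.H28.GenBasis
import Groth.Agent.H28.KRRPushK
import Groth.Agent.KZ.CycleClass
import Groth.Agent.KZ.Localization
import Groth.Agent.RegLoc6.Seq
import Groth.Agent.RegLoc6.Basic
import Groth.Agent.S1679
import Groth.Agent.S2280
import Groth.Agent.S3746
import Groth.Agent.S3192
import Groth.Agent.KFlatLib.Scheme.RpushRestrict
import Groth.Agent.KFlatLib.Scheme.LocalDevissage
import Groth.Agent.H28.PullVB
import Groth.Agent.H28.PBCohPush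
import Groth.Agent.QCoh.DevissageP

/-!
# Classes of integral subschemes of a regular scheme in the γ-filtration
-/

set_option autoImplicit false
set_option linter.style.haveILetI false
set_option linter.unusedSectionVars false
set_option backward.isDefEq.respectTransparency false
set_option backward.isDefEq.respectTransparency.types false
set_option maxHeartbeats 1000000

universe v w u

open CategoryTheory CategoryTheory.Limits AlgebraicGeometry TopologicalSpace Opposite
attribute [local instance] HasDerivedCategory.standard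

noncomputable section

namespace Groth.Agent.H28.KFilt

open Groth.Agent

section Onto

open LambdaRing

variable {K : Type v} [CommRing K] [LambdaOps K] {P : PosStructure K} {K' : Type w} [CommRing K'] [LambdaOps K']
  {P' : PosStructure K'} {f : K →+* K'}

/-- A surjective homomorphism of augmented λ-rings maps the filtration onto the filtration. -/
theorem gamma_onto (hf : ∀ i x, f (LambdaOps.lam i x) = LambdaOps.lam i (f x))
    (haug : ∀ x, P'.aug (f x) = P.aug x) (hs : Function.Surjective f) {n : ℕ} {y : K'}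
    (hy : y ∈ gammaFiltration P' n) : ∃ x ∈ gammaFiltration P n, f x = y := by
  rcases eq_or_ne n 0 with rfl | hn
  · obtain ⟨x, rfl⟩ := hs y
    exact ⟨x, by rw [Lambda.gammaFiltration_zero]; trivial, rfl⟩
  rw [Lambda.gammaFiltration_of_ne_zero P' hn] at hy
  suffices h : y ∈ (gammaFiltration P n).map f.toAddMonoidHom from h
  revert hy
  refine fun hy => (AddSubgroup.closure_le _).2 ?_ hy
  rintro _ ⟨l, hl, hsum, rfl⟩
  refine ⟨((l.map fun p => (p.1, Function.surjInv hs p.2)).map fun p => gamma p.1 p.2).prod, ?_, ?_⟩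
  · rw [Lambda.gammaFiltration_of_ne_zero P hn]
    refine AddSubgroup.subset_closure ⟨_, ?_, ?_, rfl⟩
    · intro p hp
      obtain ⟨p', hp', rfl⟩ := List.mem_map.1 hp
      show P.aug (Function.surjInv hs p'.2) = 0
      rw [← haug, Function.surjInv_eq hs, hl p' hp']
    · rw [List.map_map]; exact hsum
  · show f _ = _
    rw [map_list_prod, List.map_map, List.map_map]
    refine congrArg List.prod (List.map_congr_left fun p _ => ?_)
    show f (gamma p.1 (Function.surjInv hs p.2)) = gamma p.1 p.2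
    rw [PBFil.map_gamma hf, Function.surjInv_eq hs]

end Onto

section RegularOpen

variable {X V : Scheme.{u}} [AlgebraicGeometry.IsNoetherian X] (ι : V ⟶ X) [IsClosedImmersion ι] [IsIntegral V]

/-- Near its generic point an integral closed subscheme of a regular scheme is regularly immersed. -/
theorem exists_regular_open (hreg : ∀ x : X, IsRegularLocalRing (X.presheaf.stalk x)) {n : ℕ}
    (hn : ringKrullDim (X.presheaf.stalk (ι (genericPoint V))) = n) :
    ∃ (U : X.Opens) (r : ℕ), ι (genericPoint V) ∈ U ∧ (U : Set X)ᶜ ⊆ Set.range ι ∧ n ≤ r ∧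
      Mor2.IsRegularClosedImmersion (ι ∣_ U) ∧ FlatMod.IsFinLocFreeOfRank r (Omega.conormal (ι ∣_ U)) := by
  haveI := hreg (ι (genericPoint V))
  have hker : RingHom.ker (ι.stalkMap (genericPoint V)).hom =
      IsLocalRing.maximalIdeal (X.presheaf.stalk (ι (genericPoint V))) := by
    have hs : Function.Surjective (ι.stalkMap (genericPoint V)).hom := ι.stalkMap_surjective _
    letI : Field (V.presheaf.stalk (genericPoint V)) := inferInstanceAs (Field V.functionField)
    exact IsLocalRing.eq_maximalIdeal (RingHom.ker_isMaximal_of_surjective _ hs)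
  obtain ⟨rs₀, hrs₀, hgen₀⟩ := RegLoc6.exists_regularSequence_maximalIdeal (X.presheaf.stalk (ι (genericPoint V)))
  obtain ⟨V₁, hξ₁, hreg₁⟩ := (S1679.result ι (genericPoint V)).2 ⟨rs₀, hrs₀, hker.trans hgen₀.symm⟩
  obtain ⟨U₁, hU₁, hzU₁, rs, hrs, hideal⟩ := hreg₁.2 ⟨genericPoint V, hξ₁⟩
  let U₀ : X.Opens := V₁.ι ''ᵁ U₁
  have hU₀ : IsAffineOpen U₀ := hU₁.image_of_isOpenImmersion _
  have hξ₀ : ι (genericPoint V) ∈ U₀ := ⟨_, hzU₁, morphismRestrict_base_coe ι V₁ _⟩
  have hI : ι.ker.ideal ⟨U₀, hU₀⟩ = Ideal.ofList (R := Γ(X, U₀)) rs :=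
    (Scheme.ker_morphismRestrict_ideal ι V₁ ⟨U₁, hU₁⟩).symm.trans hideal
  let U : X.Opens := ⟨(Set.range ι)ᶜ, ι.isClosedEmbedding.isClosed_range.isOpen_compl⟩ ⊔ U₀
  refine ⟨U, rs.length, Or.inr hξ₀, fun y hy => not_not.1 fun h => hy (Or.inl h), ?_, ?_⟩
  · have hmax := hker.symm.trans (KRRPush.ker_stalkMap ι (genericPoint V) hU₀ hξ₀)
    rw [hI, Ideal.map_ofList] at hmax
    have h1 := ringKrullDim_le_spanFinrank_maximalIdeal (R := X.presheaf.stalk (ι (genericPoint V)))
    rw [hn, hmax] at h1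
    norm_cast at h1
    refine h1.trans ((Submodule.spanFinrank_span_le_ncard_of_finite (List.finite_toSet _)).trans ?_)
    classical
    rw [show {r | r ∈ rs.map (X.presheaf.germ U₀ (ι (genericPoint V)) hξ₀).hom} =
      ↑(rs.map (X.presheaf.germ U₀ (ι (genericPoint V)) hξ₀).hom).toFinset from by ext; simp, Set.ncard_coe_finset]
    exact (List.toFinset_card_le _).trans_eq (List.length_map _)
  have hchart : ∀ z : ↥(ι ⁻¹ᵁ U), ∃ (W : U.toScheme.Opens) (hW : IsAffineOpen W) (_ : (ι ∣_ U) z ∈ W)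
      (l : List Γ(U.toScheme, W)), l.length = rs.length ∧ RingTheory.Sequence.IsRegular Γ(U.toScheme, W) l ∧
        (ι ∣_ U).ker.ideal ⟨W, hW⟩ = Ideal.ofList l := by
    intro z
    let W : U.toScheme.Opens := U.ι ⁻¹ᵁ U₀
    have hWeq : U.ι ''ᵁ W = U₀ := by
      rw [Scheme.Hom.image_preimage_eq_opensRange_inf, Scheme.Opens.opensRange_ι]
      exact inf_eq_right.2 le_sup_right
    have hW : IsAffineOpen W :=
      hU₀.preimage_of_isOpenImmersion _ (by rw [Scheme.Opens.opensRange_ι]; exact le_sup_right)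
    have hz : (ι ∣_ U) z ∈ W := by
      show U.ι ((ι ∣_ U) z) ∈ U₀
      have h : U.ι ((ι ∣_ U) z) = ι z.1 := morphismRestrict_base_coe ι U z
      rw [h]
      rcases z.2 with h' | h'
      · exact absurd ⟨_, rfl⟩ h'
      · exact h'
    refine ⟨W, hW, hz, ?_⟩
    rw [Scheme.ker_morphismRestrict_ideal ι U ⟨W, hW⟩]
    have key : ∀ (O : X.Opens) (hO : IsAffineOpen O), O = U₀ → ∃ l : List Γ(X, O), l.length = rs.length ∧
        RingTheory.Sequence.IsRegular Γ(X, O) l ∧ ι.ker.ideal ⟨O, hO⟩ = Ideal.ofList l := by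
      rintro _ _ rfl
      exact ⟨rs, rfl, hrs, hI⟩
    exact key _ _ hWeq
  refine ⟨⟨inferInstance, fun z => ?_⟩, PBSect.rank_conormal_of_local _ hchart⟩
  obtain ⟨W, hW, hz, l, -, hl, hl'⟩ := hchart z
  exact ⟨W, hW, hz, l, hl, hl'⟩

end RegularOpen

section Devissage

open Groth.Agent.H28.PBCohPush

variable {X : Scheme.{u}} [AlgebraicGeometry.IsNoetherian X] (G : AddSubgroup (SGA6.Kcoh X))

/-- The classes of integral closed subschemes inside a closed set generate the classes supported there. -/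
theorem mem_of_support : ∀ T : Closeds X,
    (∀ {Z : Scheme.{u}} (i : Z ⟶ X) [IsClosedImmersion i] [IsIntegral Z], Set.range i ⊆ T →
      clc X ((Coh.push i).obj (Coh.structureModule Z)) ∈ G) →
    ∀ M : X.Modules, Coh.IsCoh M → CohB1.support M ⊆ T → clc X M ∈ G := by
  intro T
  induction T using WellFoundedLT.induction
  rename_i T IH
  intro hstr M hM hsupp
  induction QCoh.filt_of_isCoh hM with
  | @zero N h =>
    rw [show clc X N = 0 from KZ.clSub_isZero _ h]
    exact G.zero_mem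
  | @step N M' φ _ _ hNc hMc hex ih =>
    obtain ⟨Z, i, hi, hZ, I, ι, hι, hI, hI0, ⟨e⟩⟩ := hex
    haveI := hi; haveI := hZ; haveI := hι
    have hc := QCoh.isCoh_cokernel hNc.1 hMc φ
    have hIc : Coh.IsCoh ((Coh.push i).obj I) :=
      QCoh.isCoh_of_mono (e.inv) hc (QCoh.isQCoh_pushforward i hI)
    let S := ShortComplex.mk φ (cokernel.π φ ≫ e.hom) (by rw [cokernel.condition_assoc, zero_comp])
    let e' : ShortComplex.mk φ (cokernel.π φ) (cokernel.condition φ) ≅ S :=
      ShortComplex.isoMk (Iso.refl _) (Iso.refl _) e (by simp [S]) (by simp [S])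
    have hS : S.ShortExact := ShortComplex.shortExact_of_iso e'
      (.mk' (ShortComplex.exact_of_g_is_cokernel _ (cokernelIsCokernel φ)) ‹_› inferInstance)
    haveI := hS.epi_g
    have hsN : CohB1.support N ⊆ T := (QCoh.mem_support_of_mono hNc.1 hMc.1 φ).trans hsupp
    have hsI : CohB1.support ((Coh.push i).obj I) ⊆ T := (QCoh.support_of_epi hMc.1 hIc.1 S.g).trans hsupp
    rw [show clc X M' = clc X N + clc X ((Coh.push i).obj I) from
      KZ.clSub_ses (fun M : X.Modules => Coh.IsCoh M) hS hNc hMc hIc]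
    refine G.add_mem (ih hNc hsN) ?_
    have hr : Set.range i ⊆ T := by
      rw [QCoh.range_eq_closure i, ← QCoh.support_push_ideal i ι hI hI0]
      exact hsI
    have hO : Coh.IsCoh ((Coh.push i).obj (Coh.structureModule Z)) := QCoh.isCoh_push_structure i
    haveI : Mono ((Coh.push i).map ι) := Functor.map_mono _ ι
    have hS' : (ShortComplex.mk ((Coh.push i).map ι) (cokernel.π _) (cokernel.condition _)).ShortExact :=
      .mk' (ShortComplex.exact_of_g_is_cokernel _ (cokernelIsCokernel _)) ‹_› inferInstance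
    have hK := QCoh.isCoh_cokernel hIc.1 hO ((Coh.push i).map ι)
    have hKr : CohB1.support (cokernel ((Coh.push i).map ι)) ⊆ T :=
      ((QCoh.support_of_epi hO.1 hK.1 (cokernel.π _)).trans
        (QCoh.support_push_subset i QCoh.isQCoh_structureModule)).trans hr
    let T' : Closeds X := ⟨_, QCoh.isClosed_support_of_isFT hK.1 hK.2⟩
    have hlt : T' < T := lt_of_le_of_ne hKr fun h =>
      (QCoh.mem_support_push_ideal i ι hI hI0).2 ((SetLike.ext_iff.1 h _).2 (hr ⟨_, rfl⟩))
    have h2 := IH T' hlt (fun i' _ _ h' => hstr i' (h'.trans hKr)) _ hK subset_rfl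
    have h3 := KZ.clSub_ses (fun M : X.Modules => Coh.IsCoh M) hS' hIc hO hK
    rw [show clc X ((Coh.push i).obj I) = clc X ((Coh.push i).obj (Coh.structureModule Z)) -
      clc X (cokernel ((Coh.push i).map ι)) from eq_sub_of_add_eq h3.symm]
    exact G.sub_mem (hstr i hr) h2

end Devissage

section Main

open LambdaRing Groth.Agent.H28.PBCohPush

variable {X : Scheme.{u}} [AlgebraicGeometry.IsNoetherian X] [ConnectedSpace ↥X]
  {K : Type (u + 1)} [CommRing K] [LambdaOps K] (P : PosStructure K) (φ : SGA6.Kvb X →+ K)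

/-- The inclusion of bundles in coherent modules. -/
abbrev δ (X : Scheme.{u}) : SGA6.Kvb X →+ SGA6.Kcoh X :=
  SGA6.mapSub (𝟭 X.Modules) (KRR.vbP X) (fun M : X.Modules => Coh.IsCoh M)
    fun _ h => PushLocFree.isCoh_of_isFinLocFree h

theorem δ_cl {M : X.Modules} (hM : FlatMod.IsFinLocFree M) : δ X (KRR.cl X M) = clc X M :=
  GenBasis.mapSub_clSub (𝟭 X.Modules) (KRR.vbP X) (fun M : X.Modules => Coh.IsCoh M) _ hM

/-- `ℚ F^n` among the classes of coherent modules. -/
def rat (n : ℕ) : AddSubgroup (SGA6.Kcoh X) where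
  carrier := {c | ∃ (N : ℕ) (w : SGA6.Kvb X), 1 ≤ N ∧ φ w ∈ gammaFiltration P n ∧ N • c = δ X w}
  zero_mem' := ⟨1, 0, le_rfl, by rw [map_zero]; exact AddSubgroup.zero_mem _, by rw [map_zero, smul_zero]⟩
  add_mem' := by
    rintro a b ⟨N, w, hN, hw, ha⟩ ⟨M, v, hM, hv, hb⟩
    refine ⟨N * M, M • w + N • v, Nat.one_le_iff_ne_zero.2 (Nat.mul_ne_zero (by omega) (by omega)), ?_, ?_⟩
    · rw [map_add, map_nsmul, map_nsmul]
      exact add_mem (nsmul_mem hw _) (nsmul_mem hv _)
    · rw [map_add, map_nsmul, map_nsmul, ← ha, ← hb, smul_add, smul_smul, smul_smul, mul_comm M N]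
  neg_mem' := by
    rintro a ⟨N, w, hN, hw, ha⟩
    exact ⟨N, -w, hN, by rw [map_neg]; exact neg_mem hw, by rw [smul_neg, ha, map_neg]⟩

theorem dim_le_of_specializes {x y : X} (h : x ⤳ y) :
    ringKrullDim (X.presheaf.stalk x) ≤ ringKrullDim (X.presheaf.stalk y) := by
  rw [ringKrullDim_stalk_eq_coheight x, ringKrullDim_stalk_eq_coheight y]
  exact WithBot.coe_le_coe.2 (Order.coheight_anti (show y ≤ x from h))

/-- The restriction step. -/
theorem step {A : X.Modules} (hA : CohB1.IsAmple A) (hK : KRR.IsModel X K P φ)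
    (hreg : ∀ x : X, IsRegularLocalRing (X.presheaf.stalk x)) {V : Scheme.{u}} (ι : V ⟶ X)
    [IsClosedImmersion ι] [IsIntegral V] {n : ℕ} (hn : ringKrullDim (X.presheaf.stalk (ι (genericPoint V))) = n) :
    ∃ (W : Closeds X) (N : ℕ) (w : SGA6.Kvb X), (W : Set X) ⊆ Set.range ι ∧ ι (genericPoint V) ∉ W ∧ 1 ≤ N ∧
      φ w ∈ gammaFiltration P n ∧ ∀ G : AddSubgroup (SGA6.Kcoh X),
        (∀ M : X.Modules, Coh.IsCoh M → CohB1.support M ⊆ W → clc X M ∈ G) →
          N • clc X ((Coh.push ι).obj (Coh.structureModule V)) - δ X w ∈ G := by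
  classical
  obtain ⟨U, r, hξU, hUr, hnr, hregf, hC⟩ := exists_regular_open ι hreg hn
  haveI : IsLocallyNoetherian U.toScheme := isLocallyNoetherian_of_isOpenImmersion U.ι
  haveI : CompactSpace U.toScheme := isCompact_iff_compactSpace.1 (NoetherianSpace.isCompact _)
  haveI : AlgebraicGeometry.IsNoetherian U.toScheme := {}
  haveI : IsIntegral X := (S2280.result X).2.2 ⟨inferInstance, fun x => by
    haveI := hreg x
    exact RegLoc6.isDomain_of_isRegularLocalRing _⟩
  haveI : Nonempty U.toScheme := ⟨⟨_, hξU⟩⟩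
  haveI : IsIntegral U.toScheme := isIntegral_of_isOpenImmersion U.ι
  haveI : Nonempty (ι ⁻¹ᵁ U).toScheme := ⟨⟨_, hξU⟩⟩
  haveI : IsIntegral (ι ⁻¹ᵁ U).toScheme := isIntegral_of_isOpenImmersion (ι ⁻¹ᵁ U).ι
  haveI : ConnectedSpace U.toScheme := inferInstance
  haveI : ConnectedSpace (ι ⁻¹ᵁ U).toScheme := inferInstance
  haveI := AmpleX.isSeparated_of_isAmple hA
  have hAU := PushFil.isAmple_immersion U.ι hA
  have hXe : KRR.HasEnoughLocFree X := QuotFunLib.ExtFinite.hasEnoughLocFree_of_ample hA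
  have hUe : KRR.HasEnoughLocFree U.toScheme := KZ.QuasiProj.enough_open hXe U
  have hregU : ∀ x : U.toScheme, IsRegularLocalRing (U.toScheme.presheaf.stalk x) := fun x => by
    haveI := hreg (U.ι x)
    exact IsRegularLocalRing.of_ringEquiv (asIso (U.ι.stalkMap x)).commRingCatIsoToRingEquiv
  obtain ⟨KU, _, _, PU, φU, hU⟩ := KvbModel.exists_isModel (X := U.toScheme)
  haveI : AlgebraicGeometry.IsNoetherian (ι ⁻¹ᵁ U).toScheme := PushComp.isNoetherian_of_closed (ι ∣_ U)
  obtain ⟨KV, _, _, PV, φV, hV⟩ := KvbModel.exists_isModel (X := (ι ⁻¹ᵁ U).toScheme)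
  obtain ⟨g, hg, -⟩ := PullVB.existsUnique_isPull U.ι φU φ hK.bijective
  obtain ⟨h, hh, -⟩ := KRRPushK.existsUnique_isPushCl (ι ∣_ U) φV hV.bijective φU hUe hregf
  obtain ⟨N, hN, hmem⟩ := PushFil.main hUe hAU (ι ∣_ U) hregf hC hV hU h hh 0 1
    (by rw [Lambda.gammaFiltration_zero]; trivial)
  rw [zero_add] at hmem
  have hmem' : (N : KU) * h 1 ∈ gammaFiltration PU n := Lambda.gammaFiltration_anti (P := PU) hnr hmem
  -- the restriction
  haveI : PreservesFiniteLimits (Scheme.Modules.restrictFunctor U.ι) := inferInstance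
  have hj : ∀ M : X.Modules, Coh.IsCoh M → Coh.IsCoh ((Scheme.Modules.restrictFunctor U.ι).obj M) :=
    fun M hM => KZ.Localization.isCoh_restrict U.ι hM
  let res := SGA6.mapSub (Scheme.Modules.restrictFunctor U.ι) (fun M : X.Modules => Coh.IsCoh M)
    (fun M : U.toScheme.Modules => Coh.IsCoh M) hj
  have hres : ∀ M, Coh.IsCoh M → res (clc X M) = clc U.toScheme ((Scheme.Modules.restrictFunctor U.ι).obj M) :=
    fun M hM => GenBasis.mapSub_clSub _ _ _ hj hM
  let W : Closeds X := ⟨(U : Set X)ᶜ, U.isOpen.isClosed_compl⟩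
  obtain ⟨Xc, i, hic, hrange⟩ : ∃ (Xc : Scheme.{u}) (i : Xc ⟶ X), IsClosedImmersion i ∧ Set.range i = W :=
    ⟨_, (Scheme.IdealSheafData.vanishingIdeal W).subschemeι, inferInstance, H23.RedSub.range_vanishingIdeal _⟩
  haveI := hic
  have hi : ∀ M : Xc.Modules, Coh.IsCoh M → Coh.IsCoh ((Scheme.Modules.pushforward i).obj M) :=
    fun M hM => QCoh.isCoh_push i hM
  haveI : PreservesFiniteColimits (Scheme.Modules.pushforward i) :=
    ⟨fun J _ _ => KFlatLib.preservesColimitsOfShape_push i J⟩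
  haveI : PreservesFiniteLimits (Scheme.Modules.pushforward i) := by
    haveI := (Scheme.Modules.pullbackPushforwardAdjunction i).isRightAdjoint
    infer_instance
  obtain ⟨hsurj, hker⟩ := KZ.Localization.sequence i U.ι
    (by rw [hrange]; exact U.range_ι.trans (compl_compl _).symm) hi hj
  have hδX := S3746.result X hreg hXe fun _ h => PushLocFree.isCoh_of_isFinLocFree h
  have hδU := S3746.result U.toScheme hregU hUe fun _ h => PushLocFree.isCoh_of_isFinLocFree h
  let eU := AddEquiv.ofBijective φU hU.bijective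
  have hsq : ∀ z, res (δ X z) = δ U.toScheme (eU.symm (g (φ z))) := by
    refine fun z => DFunLike.congr_fun (f := res.comp (δ X))
      (g := (δ U.toScheme).comp (eU.symm.toAddMonoidHom.comp (g.comp φ))) (KZ.K0sub_hom_ext _ fun F hF => ?_) z
    show res (δ X (KRR.cl X F)) = δ U.toScheme (eU.symm (g (φ (KRR.cl X F))))
    rw [δ_cl hF, hres F (PushLocFree.isCoh_of_isFinLocFree hF), hg F hF,
      show eU.symm (φU (KRR.cl U.toScheme ((Scheme.Modules.pullback U.ι).obj F))) = _ from eU.symm_apply_apply _,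
      δ_cl (KvbPull.lf_pull _ hF)]
    exact clc_iso ((Scheme.Modules.restrictFunctorIsoPullback U.ι).app F)
      (KZ.Localization.isCoh_restrict U.ι (PushLocFree.isCoh_of_isFinLocFree hF))
      (PushLocFree.isCoh_of_isFinLocFree (KvbPull.lf_pull _ hF))
  have hgs : Function.Surjective (KvbPull.ringHom hU hK hg) := by
    intro y
    obtain ⟨c, hc⟩ := hsurj (δ U.toScheme (eU.symm y))
    obtain ⟨z, rfl⟩ := hδX.2 c
    refine ⟨φ z, ?_⟩
    have h1 := hδU.1 ((hsq z).symm.trans hc)
    exact eU.symm.injective h1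
  obtain ⟨x, hx, hgx⟩ := gamma_onto (KvbPull.map_lam hU hK hg) (LineTwist.aug_pull hU hK hg) hgs hmem'
  obtain ⟨w, rfl⟩ := hK.bijective.2 x
  refine ⟨W, N, w, hUr, fun h => h hξU, hN, hx, fun G hG => ?_⟩
  -- the push-forward of the unit
  have hp₁ := KRRPushK.p₁_push (ι ∣_ U) hUe hregf (F := Coh.structureModule (ι ⁻¹ᵁ U).toScheme) KvbLam.lf_O
  obtain ⟨m, L, π, hL⟩ := hp₁.2
  obtain ⟨j, hj'⟩ := KZ.exists_liftSub (KZ.LFRes.P₁ U.toScheme) (fun M => clc U.toScheme M) fun _ hS h₁ h₂ h₃ =>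
    KZ.clSub_ses (fun M : U.toScheme.Modules => Coh.IsCoh M) hS h₁.1 h₂.1 h₃.1
  have hh1 : δ U.toScheme (eU.symm (h 1)) =
      clc U.toScheme ((Scheme.Modules.pushforward (ι ∣_ U)).obj (Coh.structureModule _)) := by
    rw [← hV.map_one, hh _ KvbLam.lf_O m L π hL, map_sum eU.symm, map_sum (δ U.toScheme), ← hj' _ hp₁,
      KRRPushK.clSub_resolution hUe hL, map_sum j]
    refine Finset.sum_congr rfl fun q _ => ?_
    rw [map_zsmul, map_zsmul, map_zsmul, hj' _ ((KZ.LFRes.resSetup hUe).le _ (hL.finLocFree q)),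
      show eU.symm (φU (KRR.cl U.toScheme (L.X q))) = _ from eU.symm_apply_apply _, δ_cl (hL.finLocFree q)]
  have hO : Coh.IsCoh ((Coh.push ι).obj (Coh.structureModule V)) := QCoh.isCoh_push_structure ι
  have hresc : res (clc X ((Coh.push ι).obj (Coh.structureModule V))) = δ U.toScheme (eU.symm (h 1)) := by
    rw [hh1, hres _ hO]
    exact clc_iso ((KFlatLib.pushRestrictIso ι U).app _ ≪≫
      (Scheme.Modules.pushforward (ι ∣_ U)).mapIso (KFlatLib.restrictStructureIso (ι ⁻¹ᵁ U).ι))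
      (KZ.Localization.isCoh_restrict U.ι hO) (QCoh.isCoh_push (ι ∣_ U) QCoh.isCoh_structureModule')
  have hzero : res (N • clc X ((Coh.push ι).obj (Coh.structureModule V)) - δ X w) = 0 := by
    rw [map_sub, map_nsmul, hresc, hsq, show g (φ w) = (N : KU) * h 1 from hgx, ← nsmul_eq_mul, map_nsmul,
      map_nsmul, sub_self]
  obtain ⟨y, hy⟩ := hker.le (AddMonoidHom.mem_ker.2 hzero)
  rw [← hy]
  refine (QuotientAddGroup.eq_zero_iff _).1 (DFunLike.congr_fun (f := (QuotientAddGroup.mk' G).comp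
    (SGA6.mapSub (Scheme.Modules.pushforward i) (fun M : Xc.Modules => Coh.IsCoh M)
      (fun M : X.Modules => Coh.IsCoh M) hi)) (g := 0) (KZ.K0sub_hom_ext _ fun M hM => ?_) y)
  show QuotientAddGroup.mk' G (SGA6.mapSub _ _ _ hi _) = 0
  rw [GenBasis.mapSub_clSub _ _ _ hi hM]
  refine (QuotientAddGroup.eq_zero_iff _).2 (hG _ (hi M hM) ?_)
  exact (QCoh.support_push_subset i hM.1).trans hrange.le

/-- Integral subschemes of codimension at least `n` lie in `ℚ F^n`. -/
theorem struct_mem {A : X.Modules} (hA : CohB1.IsAmple A) (hK : KRR.IsModel X K P φ)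
    (hreg : ∀ x : X, IsRegularLocalRing (X.presheaf.stalk x)) (n : ℕ) :
    ∀ T : Closeds X, ∀ {V : Scheme.{u}} (ι : V ⟶ X) [IsClosedImmersion ι] [IsIntegral V],
      Set.range ι ⊆ T → (n : WithBot ℕ∞) ≤ ringKrullDim (X.presheaf.stalk (ι (genericPoint V))) →
        clc X ((Coh.push ι).obj (Coh.structureModule V)) ∈ rat P φ n := by
  intro T
  induction T using WellFoundedLT.induction
  rename_i T IH
  intro V ι _ _ hr hdim
  haveI := hreg (ι (genericPoint V))
  obtain ⟨m, hm⟩ : ∃ m : ℕ, ringKrullDim (X.presheaf.stalk (ι (genericPoint V))) = m :=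
    ⟨_, (IsRegularLocalRing.spanFinrank_maximalIdeal).symm⟩
  obtain ⟨W, N, w, hW, hξ, hN, hw, hG⟩ := step P φ hA hK hreg ι hm
  have hnm : n ≤ m := by rw [hm] at hdim; exact_mod_cast hdim
  have hlt : W < T := lt_of_le_of_ne (hW.trans hr) fun h => hξ ((SetLike.ext_iff.1 h _).2 (hr ⟨_, rfl⟩))
  have h1 := hG (rat P φ n) fun M hM hs => mem_of_support (rat P φ n) W (fun i _ _ h => by
    refine IH W hlt i h (hdim.trans (dim_le_of_specializes ?_))
    have := hW (h ⟨genericPoint _, rfl⟩)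
    rw [QCoh.range_eq_closure ι] at this
    exact specializes_iff_mem_closure.2 this) M hM hs
  have h2 : δ X w ∈ rat P φ n :=
    ⟨1, w, le_rfl, Lambda.gammaFiltration_anti (P := P) hnm hw, one_nsmul _⟩
  obtain ⟨M, v, hM, hv, he⟩ : N • clc X ((Coh.push ι).obj (Coh.structureModule V)) ∈ rat P φ n := by
    simpa using add_mem h1 h2
  exact ⟨M * N, v, Nat.one_le_iff_ne_zero.2 (Nat.mul_ne_zero (by omega) (by omega)), hv,
    by rw [← he, smul_smul]⟩

end Main

end Groth.Agent.H28.KFilt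

end
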