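import Groth.Agent.H28.DefCore
import Groth.Agent.H28.CartierPush
import Groth.Agent.H28.KFilt
import Groth.Agent.RegBlow6.Geometry
import Groth.Agent.RegBlow6.Regular
import Groth.Agent.S4991

/-!
# Regular blowing ups and the classes of coherent modules
-/

set_option autoImplicit false
set_option linter.style.haveILetI false
set_option linter.unusedSectionVars false
set_option backward.isDefEq.respectTransparency false
set_option backward.isDefEq.respectTransparency.types false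
set_option maxHeartbeats 1000000

universe v u

open CategoryTheory CategoryTheory.Limits AlgebraicGeometry TopologicalSpace Opposite
attribute [local instance] HasDerivedCategory.standard

noncomputable section

namespace Groth.Agent.H28.BlowReg

open Groth.Agent Groth.Agent.H28.KFilt Groth.Agent.H28.PBCohPush

variable {X Y X₁ Y₁ : Scheme.{u}} [AlgebraicGeometry.IsNoetherian Y] (f : X ⟶ Y) (φ : Y₁ ⟶ Y)
  (f₁ : X₁ ⟶ Y₁) (ψ : X₁ ⟶ X)

/-- A blowing up of a scheme with enough bundles is Noetherian, proper and has enough bundles. -/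
theorem geom [ConnectedSpace ↥Y] (hYe : KRR.HasEnoughLocFree Y) (hφ : BlowUp.IsBlowUp φ f.ker) :
    AlgebraicGeometry.IsNoetherian Y₁ ∧ IsProper φ ∧ KRR.HasEnoughLocFree Y₁ := by
  obtain ⟨r, G, u, hG, hJ⟩ := DefSpace.exists_gens hYe f.ker
  obtain ⟨PG, πG, O1G, qG, hPG⟩ := PBMake.exists_of_rank hG
  haveI : AlgebraicGeometry.IsNoetherian PG := PBSplit.isNoetherian hPG hG
  obtain ⟨Oinv, hOi, hOO⟩ := H23.PicInv.exists_inverse (PBCores.isInvertible_iff_rank.2 hPG.invertible)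
  obtain ⟨eOO⟩ := hOO
  obtain ⟨ecomm⟩ := H23.PicMul.comm Oinv O1G
  obtain ⟨DG, hDO, -⟩ := PBBasis.exists_data hPG hG Oinv ⟨ecomm ≪≫ eOO⟩
    (KvbModel.lf_of_rank (PBCores.isInvertible_iff_rank.1 hOi))
  subst hDO
  obtain ⟨g, hg, eg, hgcomp⟩ := BlowEmb.exists_emb hG u f.ker hJ hφ hPG
  haveI : IsClosedImmersion g := BlowEmb.isClosedImmersion_emb hg eg hgcomp hG hJ hPG hφ
  haveI := PBCohPush.isProper DG
  exact ⟨PushComp.isNoetherian_of_closed g, by rw [← hg]; infer_instance,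
    KZ.QuasiProj.enough_closed (PBEnough.enough DG hYe) g⟩

/-- A blowing up of a regular scheme in a regular centre is regular. -/
theorem regular (hf : Mor2.IsRegularClosedImmersion f) {d : ℕ} (hd : 1 ≤ d)
    (hC : FlatMod.IsFinLocFreeOfRank d (Omega.conormal f))
    (hYreg : ∀ y : Y, IsRegularLocalRing (Y.presheaf.stalk y))
    (hXreg : ∀ x : X, IsRegularLocalRing (X.presheaf.stalk x))
    (hφ : BlowUp.IsBlowUp φ f.ker) (hsq : IsPullback f₁ ψ φ f) [IsClosedImmersion f₁] [IsLocallyNoetherian Y₁] :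
    (∀ x : X₁, IsRegularLocalRing (X₁.presheaf.stalk x)) ∧ ∀ y : Y₁, IsRegularLocalRing (Y₁.presheaf.stalk y) := by
  haveI := hf.1
  haveI : IsLocallyNoetherian X := LocallyOfFiniteType.isLocallyNoetherian f
  obtain ⟨q, -, hPB⟩ := ExcBundle.exists_isProjBundle hf hd hC hφ hsq
  obtain ⟨r, rfl⟩ : ∃ r, d = r + 1 := Nat.exists_eq_add_of_le' hd
  haveI := BlowEmb.smooth_projBundle hC hPB
  have hX₁ : ∀ x : X₁, IsRegularLocalRing (X₁.presheaf.stalk x) := fun x => by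
    haveI := hXreg (ψ x)
    exact (Groth.Agent.S4991.result ψ x ⟨⊤, trivial, inferInstance⟩).2 inferInstance
  refine ⟨hX₁, fun z => ?_⟩
  have hker : f₁.ker = f.ker.comap φ := TorPull.ker_eq hsq
  by_cases hz : z ∈ Set.range f₁
  · obtain ⟨x, rfl⟩ := hz
    have e1 : f₁.toImage ≫ f₁.imageι = f₁ := f₁.toImage_imageι
    haveI : IsRegularLocalRing (f₁.ker.subscheme.presheaf.stalk (f₁.toImage x)) := by
      haveI := hX₁ x
      exact IsRegularLocalRing.of_ringEquiv (asIso (f₁.toImage.stalkMap x)).commRingCatIsoToRingEquiv.symm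
    have := RegBlow6.isRegularLocalRing_of_effCartier (hker ▸ hφ.1 : BlowUp.IsEffCartierIdeal f₁.ker)
      (f₁.toImage x)
    rwa [← Scheme.Hom.comp_apply, show f₁.toImage ≫ f₁.ker.subschemeι = f₁ from e1] at this
  · have hz' : φ z ∈ ModPair.interior f.ker := by
      intro h
      refine hz ?_
      change φ z ∈ (f.ker.support : Set Y) at h
      rw [Scheme.Hom.support_ker, f.isClosedEmbedding.isClosed_range.closure_eq] at h
      obtain ⟨x, hx⟩ := h
      obtain ⟨p, hp, -⟩ := Scheme.exists_preimage_of_isPullback hsq z x hx.symm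
      exact ⟨p, hp⟩
    haveI := BlowUpLib.isIso_restrict hφ (ModPair.interior f.ker) le_rfl
    haveI : IsOpenImmersion ((φ ⁻¹ᵁ ModPair.interior f.ker).ι ≫ φ) := by
      rw [← morphismRestrict_ι]; infer_instance
    haveI : IsIso (φ.stalkMap z) := by
      have h1 : IsIso (((φ ⁻¹ᵁ ModPair.interior f.ker).ι ≫ φ).stalkMap ⟨z, hz'⟩) := inferInstance
      rw [Scheme.Hom.stalkMap_comp] at h1
      exact @IsIso.of_isIso_comp_right _ _ _ _ _ (φ.stalkMap z)
        ((φ ⁻¹ᵁ ModPair.interior f.ker).ι.stalkMap ⟨z, hz'⟩) inferInstance h1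
    haveI := hYreg (φ z)
    exact IsRegularLocalRing.of_ringEquiv (asIso (φ.stalkMap z)).commRingCatIsoToRingEquiv

/-- Push-forward of bundles along a regular immersion, seen in classes of coherent modules. -/
theorem δ_push {Z M : Scheme.{u}} [AlgebraicGeometry.IsNoetherian M] [AlgebraicGeometry.IsNoetherian Z]
    [ConnectedSpace ↥M] [ConnectedSpace ↥Z] (hM : KRR.HasEnoughLocFree M) (i : Z ⟶ M)
    (hi : Mor2.IsRegularClosedImmersion i) {KZ' : Type v} [AddCommGroup KZ'] {KM : Type v} [AddCommGroup KM]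
    (φZ : SGA6.Kvb Z →+ KZ') (φM : SGA6.Kvb M ≃+ KM) (g : KZ' →+ KM)
    (hg : ∀ (F : Z.Modules), FlatMod.IsFinLocFree F → ∀ (n : ℕ) (L : ChainComplex M.Modules ℕ)
      (π : L ⟶ (ChainComplex.single₀ M.Modules).obj ((Scheme.Modules.pushforward i).obj F)),
      KRR.IsLFRes ((Scheme.Modules.pushforward i).obj F) n L π →
        g (φZ (KRR.cl Z F)) = ∑ k ∈ Finset.range (n + 1), (-1 : ℤ) ^ k • φM (KRR.cl M (L.X k)))
    (hi' : ∀ N : Z.Modules, Coh.IsCoh N → Coh.IsCoh ((Scheme.Modules.pushforward i).obj N))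
    [(Scheme.Modules.pushforward i).Additive] [PreservesFiniteLimits (Scheme.Modules.pushforward i)]
    [PreservesFiniteColimits (Scheme.Modules.pushforward i)] (z : SGA6.Kvb Z) :
    δ M (φM.symm (g (φZ z))) = SGA6.mapSub (Scheme.Modules.pushforward i) (fun N : Z.Modules => Coh.IsCoh N)
      (fun N : M.Modules => Coh.IsCoh N) hi' (δ Z z) := by
  haveI := hi.1
  refine DFunLike.congr_fun (f := (δ M).comp (φM.symm.toAddMonoidHom.comp (g.comp φZ)))
    (g := (SGA6.mapSub (Scheme.Modules.pushforward i) (fun N : Z.Modules => Coh.IsCoh N)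
      (fun N : M.Modules => Coh.IsCoh N) hi').comp (δ Z)) (KZ.K0sub_hom_ext _ fun F hF => ?_) z
  show δ M (φM.symm (g (φZ (KRR.cl Z F)))) = SGA6.mapSub _ _ _ hi' (δ Z (KRR.cl Z F))
  rw [δ_cl hF, GenBasis.mapSub_clSub _ _ _ hi' (PushLocFree.isCoh_of_isFinLocFree hF)]
  have hp₁ := KRRPushK.p₁_push i hM hi hF
  obtain ⟨m, L, π, hL⟩ := hp₁.2
  obtain ⟨j, hj'⟩ := KZ.exists_liftSub (KZ.LFRes.P₁ M) (fun N => clc M N) fun _ hS h₁ h₂ h₃ =>
    KZ.clSub_ses (fun N : M.Modules => Coh.IsCoh N) hS h₁.1 h₂.1 h₃.1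
  rw [hg F hF m L π hL, map_sum φM.symm, map_sum (δ M),
    show KZero.clSub (fun N : M.Modules => Coh.IsCoh N) ((Scheme.Modules.pushforward i).obj F) = _ from
      (hj' _ hp₁).symm, KRRPushK.clSub_resolution hM hL, map_sum j]
  refine Finset.sum_congr rfl fun q _ => ?_
  rw [map_zsmul, map_zsmul, map_zsmul, hj' _ ((KZ.LFRes.resSetup hM).le _ (hL.finLocFree q)),
    AddEquiv.symm_apply_apply, δ_cl (hL.finLocFree q)]

section Surj

variable {KY : Type v} [AddCommGroup KY] {KX₁ : Type v} [AddCommGroup KX₁] {KY₁ : Type v} [AddCommGroup KY₁]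

/-- The sequence of a regular blowing up is surjective at the right. -/
theorem surjective [ConnectedSpace ↥Y] [ConnectedSpace ↥X] [ConnectedSpace ↥X₁] [ConnectedSpace ↥Y₁]
    (hYe : KRR.HasEnoughLocFree Y) (hf : Mor2.IsRegularClosedImmersion f) {d : ℕ} (hd : 1 ≤ d)
    (hC : FlatMod.IsFinLocFreeOfRank d (Omega.conormal f))
    (hYreg : ∀ y : Y, IsRegularLocalRing (Y.presheaf.stalk y))
    (hXreg : ∀ x : X, IsRegularLocalRing (X.presheaf.stalk x))
    (hφ : BlowUp.IsBlowUp φ f.ker) (hsq : IsPullback f₁ ψ φ f) [IsClosedImmersion f₁]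
    (φY : SGA6.Kvb Y →+ KY) (φX₁ : SGA6.Kvb X₁ →+ KX₁)
    (φY₁ : SGA6.Kvb Y₁ →+ KY₁) (hbY₁ : Function.Bijective φY₁)
    (gφ : KY →+ KY₁) (hgφ : ∀ F : Y.Modules, FlatMod.IsFinLocFree F →
      gφ (φY (KRR.cl Y F)) = φY₁ (KRR.cl Y₁ ((Scheme.Modules.pullback φ).obj F)))
    (gf₁ : KX₁ →+ KY₁) (hgf₁ : ∀ (F : X₁.Modules), FlatMod.IsFinLocFree F → ∀ (n : ℕ)
      (L : ChainComplex Y₁.Modules ℕ)
      (π : L ⟶ (ChainComplex.single₀ Y₁.Modules).obj ((Scheme.Modules.pushforward f₁).obj F)),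
      KRR.IsLFRes ((Scheme.Modules.pushforward f₁).obj F) n L π →
        gf₁ (φX₁ (KRR.cl X₁ F)) = ∑ k ∈ Finset.range (n + 1), (-1 : ℤ) ^ k • φY₁ (KRR.cl Y₁ (L.X k)))
    (y₁ : KY₁) : ∃ (x₁ : KX₁) (y : KY), gf₁ x₁ + gφ y = y₁ := by
  classical
  haveI := hf.1
  obtain ⟨hY₁n, hprop, hY₁e⟩ := geom f φ hYe hφ
  haveI := hY₁n; haveI := hprop
  obtain ⟨hX₁reg, hY₁reg⟩ := regular f φ f₁ ψ hf hd hC hYreg hXreg hφ hsq
  haveI : AlgebraicGeometry.IsNoetherian X₁ := PushComp.isNoetherian_of_closed f₁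
  have hX₁e : KRR.HasEnoughLocFree X₁ := KZ.QuasiProj.enough_closed hY₁e f₁
  have hker : f₁.ker = f.ker.comap φ := TorPull.ker_eq hsq
  have hf₁reg : Mor2.IsRegularClosedImmersion f₁ := (CartierPush.regular f₁ (hker ▸ hφ.1)).1
  -- the open
  let U : Y.Opens := ModPair.interior f.ker
  haveI := BlowUpLib.isIso_restrict hφ U le_rfl
  let j : (φ ⁻¹ᵁ U).toScheme ⟶ Y := (φ ⁻¹ᵁ U).ι ≫ φ
  haveI : IsOpenImmersion j := by
    show IsOpenImmersion ((φ ⁻¹ᵁ U).ι ≫ φ)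
    rw [← morphismRestrict_ι]; infer_instance
  have hU : (U : Set Y) = (Set.range f)ᶜ := by
    show (f.ker.support : Set Y)ᶜ = _
    rw [Scheme.Hom.support_ker, f.isClosedEmbedding.isClosed_range.closure_eq]
  have hrj : Set.range j = (Set.range f)ᶜ := by
    rw [← hU]
    show Set.range ((φ ⁻¹ᵁ U).ι ≫ φ) = _
    rw [← morphismRestrict_ι]
    have hs : Function.Surjective (φ ∣_ U) := (asIso (φ ∣_ U)).hom.homeomorph.surjective
    rw [Scheme.Hom.comp_base, TopCat.coe_comp, Set.range_comp, hs.range_eq, Set.image_univ]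
    exact U.range_ι
  have hr₁ : Set.range (φ ⁻¹ᵁ U).ι = (Set.range f₁)ᶜ := by
    rw [Scheme.Opens.range_ι]
    ext z
    show φ z ∈ (U : Set Y) ↔ _
    rw [hU]
    refine not_congr ⟨?_, ?_⟩
    · rintro ⟨x, hx⟩
      obtain ⟨p, hp, -⟩ := Scheme.exists_preimage_of_isPullback hsq z x hx.symm
      exact ⟨p, hp⟩
    · rintro ⟨p, rfl⟩
      exact ⟨ψ p, by rw [← Scheme.Hom.comp_apply, ← Scheme.Hom.comp_apply, hsq.w]⟩
  -- the two sequences
  haveI : ∀ {A B : Scheme.{u}} (g : A ⟶ B) [IsClosedImmersion g],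
      PreservesFiniteColimits (Scheme.Modules.pushforward g) := fun g _ =>
    ⟨fun J _ _ => KFlatLib.preservesColimitsOfShape_push g J⟩
  haveI : ∀ {A B : Scheme.{u}} (g : A ⟶ B), PreservesFiniteLimits (Scheme.Modules.pushforward g) := fun g => by
    haveI := (Scheme.Modules.pullbackPushforwardAdjunction g).isRightAdjoint
    infer_instance
  have hj : ∀ N : Y.Modules, Coh.IsCoh N → Coh.IsCoh ((Scheme.Modules.restrictFunctor j).obj N) :=
    fun N hN => KZ.Localization.isCoh_restrict j hN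
  have hj₁ : ∀ N : Y₁.Modules, Coh.IsCoh N →
      Coh.IsCoh ((Scheme.Modules.restrictFunctor (φ ⁻¹ᵁ U).ι).obj N) :=
    fun N hN => KZ.Localization.isCoh_restrict _ hN
  have hi : ∀ N : X.Modules, Coh.IsCoh N → Coh.IsCoh ((Scheme.Modules.pushforward f).obj N) :=
    fun N hN => QCoh.isCoh_push f hN
  have hi₁ : ∀ N : X₁.Modules, Coh.IsCoh N → Coh.IsCoh ((Scheme.Modules.pushforward f₁).obj N) :=
    fun N hN => QCoh.isCoh_push f₁ hN
  obtain ⟨hsurj, -⟩ := KZ.Localization.sequence f j hrj hi hj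
  obtain ⟨-, hker₁⟩ := KZ.Localization.sequence f₁ (φ ⁻¹ᵁ U).ι hr₁ hi₁ hj₁
  let resY := SGA6.mapSub (Scheme.Modules.restrictFunctor j) (fun N : Y.Modules => Coh.IsCoh N)
    (fun N : (φ ⁻¹ᵁ U).toScheme.Modules => Coh.IsCoh N) hj
  let res₁ := SGA6.mapSub (Scheme.Modules.restrictFunctor (φ ⁻¹ᵁ U).ι) (fun N : Y₁.Modules => Coh.IsCoh N)
    (fun N : (φ ⁻¹ᵁ U).toScheme.Modules => Coh.IsCoh N) hj₁
  have hδY := S3746.result Y hYreg hYe fun _ h => PushLocFree.isCoh_of_isFinLocFree h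
  have hδY₁ := S3746.result Y₁ hY₁reg hY₁e fun _ h => PushLocFree.isCoh_of_isFinLocFree h
  have hδX₁ := S3746.result X₁ hX₁reg hX₁e fun _ h => PushLocFree.isCoh_of_isFinLocFree h
  let e₁ := AddEquiv.ofBijective φY₁ hbY₁
  have hsqr : ∀ w, resY (δ Y w) = res₁ (δ Y₁ (e₁.symm (gφ (φY w)))) := by
    refine fun w => DFunLike.congr_fun (f := resY.comp (δ Y))
      (g := (res₁.comp (δ Y₁)).comp (e₁.symm.toAddMonoidHom.comp (gφ.comp φY))) (KZ.K0sub_hom_ext _ fun F hF => ?_) w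
    show resY (δ Y (KRR.cl Y F)) = res₁ (δ Y₁ (e₁.symm (gφ (φY (KRR.cl Y F)))))
    have hFp := KvbPull.lf_pull φ hF
    rw [δ_cl hF, hgφ F hF, show e₁.symm (φY₁ (KRR.cl Y₁ ((Scheme.Modules.pullback φ).obj F))) = _ from
      e₁.symm_apply_apply _, δ_cl hFp,
      GenBasis.mapSub_clSub _ _ _ hj (PushLocFree.isCoh_of_isFinLocFree hF),
      GenBasis.mapSub_clSub _ _ _ hj₁ (PushLocFree.isCoh_of_isFinLocFree hFp)]
    exact clc_iso ((Scheme.Modules.restrictFunctorIsoPullback j).app F ≪≫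
        ((Scheme.Modules.pullbackComp (φ ⁻¹ᵁ U).ι φ).app F).symm ≪≫
        ((Scheme.Modules.restrictFunctorIsoPullback (φ ⁻¹ᵁ U).ι).app _).symm)
      (hj F (PushLocFree.isCoh_of_isFinLocFree hF)) (hj₁ _ (PushLocFree.isCoh_of_isFinLocFree hFp))
  obtain ⟨c', hc'⟩ := hsurj (res₁ (δ Y₁ (e₁.symm y₁)))
  obtain ⟨w, rfl⟩ := hδY.2 c'
  have hz : res₁ (δ Y₁ (e₁.symm (y₁ - gφ (φY w)))) = 0 := by
    rw [map_sub e₁.symm, map_sub (δ Y₁), map_sub res₁, ← hsqr]
    exact sub_eq_zero.2 hc'.symm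
  obtain ⟨c₁, hc₁⟩ := hker₁.le (AddMonoidHom.mem_ker.2 hz)
  obtain ⟨z, rfl⟩ := hδX₁.2 c₁
  refine ⟨φX₁ z, φY w, eq_sub_iff_add_eq.1 (e₁.symm.injective (hδY₁.1 ?_))⟩
  exact (δ_push hY₁e f₁ hf₁reg φX₁ e₁ gf₁ hgf₁ hi₁ z).trans hc₁

end Surj

end Groth.Agent.H28.BlowReg

end
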