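import Groth.Agent.H28.BlowHH
import Groth.Agent.H28.BlowReg
import Groth.Agent.S0927
import Groth.Agent.Lib.DivisorExt

/-!
# Higher direct images of the powers of the exceptional ideal of a regular blowing up
-/

set_option autoImplicit false
set_option linter.style.haveILetI false
set_option linter.unusedSectionVars false
set_option backward.isDefEq.respectTransparency false
set_option backward.isDefEq.respectTransparency.types false
set_option maxHeartbeats 1000000

universe u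

open CategoryTheory CategoryTheory.Limits AlgebraicGeometry TopologicalSpace Opposite

noncomputable section

namespace Groth.Agent.H28.BlowVan

open Groth.Agent Groth.Agent.H28.KRRTw

/-- Twisting `n` times on `P^n` over an affine scheme is ample. -/
theorem isAmple_twistOver {n : ℕ} (T : Scheme.{u}) [IsAffine T] :
    CohB1.IsAmple (Twist.twistOver n T 1) := by
  haveI : IsProper (KRR.pr n T) :=
    MorphismProperty.pullback_snd _ _ (PnCoh.Chow.isProper_toSpec n (ULift.{u} ℤ))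
  haveI : IsAffineHom (toPn n T) := by
    haveI : ∀ g : T ⟶ Spec (CommRingCat.of (ULift.{u} ℤ)), IsAffineHom g := fun g => inferInstance
    exact MorphismProperty.pullback_fst (P := @IsAffineHom) _ _ inferInstance
  haveI : CompactSpace (KRR.PY n T) := QuasiCompact.compactSpace_of_compactSpace (KRR.pr n T)
  exact RegTwist.isAmple_pull (toPn n T) (RegTwist.isAmple_O1 n)

variable {X Y X₁ Y₁ : Scheme.{u}} [AlgebraicGeometry.IsNoetherian Y] [ConnectedSpace ↥Y]

/-- High powers of the exceptional ideal are acyclic. -/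
theorem exists_vanishing (hYe : KRR.HasEnoughLocFree Y) (J : Y.IdealSheafData) (φ : Y₁ ⟶ Y)
    (hφ : BlowUp.IsBlowUp φ J) [IsProper φ] :
    ∃ N, ∀ n, N ≤ n → ∀ i, 0 < i →
      RKoszul.RZ φ (CohB1.tensorPow (ClSub.idealMod (BlowUp.exceptional φ J)) n) i := by
  classical
  obtain ⟨r, G, u, hG, hJ⟩ := DefSpace.exists_gens hYe J
  obtain ⟨PG, πG, O1G, qG, hPG⟩ := PBMake.exists_of_rank hG
  obtain ⟨g, hg, e, hcomp⟩ := BlowEmb.exists_emb hG u J hJ hφ hPG
  haveI : IsClosedImmersion g := BlowEmb.isClosedImmersion_emb hg e hcomp hG hJ hPG hφ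
  haveI : IsLocallyNoetherian Y₁ := LocallyOfFiniteType.isLocallyNoetherian φ
  obtain ⟨s, a, ha⟩ := PBAtlas.exists_atlas (G := G) hPG hG (KvbModel.lf_of_rank hG)
  let L := ClSub.idealMod (BlowUp.exceptional φ J)
  have hL : PicF.IsInvertible L := H26.IdealCl.isInvertible_idealMod hφ.1
  have hamp : ∀ y, CohB1.IsAmple (L.restrict (φ ⁻¹ᵁ (a y).U.1).ι) := by
    intro y
    have key : ∀ Z : Y₁.Opens, Z = g ⁻¹ᵁ (πG ⁻¹ᵁ (a y).U.1) → CohB1.IsAmple (L.restrict Z.ι) := by
      rintro Z rfl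
      let c := a y
      let Z := g ⁻¹ᵁ (πG ⁻¹ᵁ c.U.1)
      haveI : IsAffineHom (g ∣_ (πG ⁻¹ᵁ c.U.1)) := IsZariskiLocalAtTarget.restrict (P := @IsAffineHom) inferInstance _
      let h : Z.toScheme ⟶ KRR.PY r c.B := (g ∣_ (πG ⁻¹ᵁ c.U.1)) ≫ inv c.θ
      haveI : IsProper (KRR.pr r c.B) :=
        MorphismProperty.pullback_snd _ _ (PnCoh.Chow.isProper_toSpec r (ULift.{u} ℤ))
      haveI : CompactSpace (KRR.PY r c.B) := QuasiCompact.compactSpace_of_compactSpace (KRR.pr r c.B)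
      haveI : CompactSpace Z.toScheme := QuasiCompact.compactSpace_of_compactSpace h
      have hh : h ≫ c.j = Z.ι ≫ g := by
        show ((g ∣_ _) ≫ inv c.θ) ≫ c.θ ≫ _ = _
        rw [Category.assoc, IsIso.inv_hom_id_assoc, morphismRestrict_ι]
      obtain ⟨e₁⟩ := c.nonempty_O1
      exact AmpleX.isAmple_of_iso ((Scheme.Modules.pullback h).mapIso e₁.symm ≪≫
        (Scheme.Modules.pullbackComp h c.j).app O1G ≪≫ (Scheme.Modules.pullbackCongr hh).app O1G ≪≫
        ((Scheme.Modules.pullbackComp Z.ι g).app O1G).symm ≪≫ (Scheme.Modules.pullback Z.ι).mapIso e ≪≫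
        ((Scheme.Modules.restrictFunctorIsoPullback Z.ι).app L).symm)
        (RegTwist.isAmple_pull h (isAmple_twistOver c.B))
    exact key _ (by rw [← hg]; rfl)
  have hd : ∀ y, ∃ d₀, ∀ d, d₀ ≤ d → ∀ q, Subsingleton (Coh.HH (φ ⁻¹ᵁ (a y).U.1).toScheme
      ((CohB1.tensorPow L d).restrict (φ ⁻¹ᵁ (a y).U.1).ι) (q + 1)) := by
    intro y
    let W := (a y).U
    haveI : IsAffine W.1.toScheme := W.2
    haveI : IsNoetherianRing Γ(Y, W.1) := IsLocallyNoetherian.component_noetherian W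
    letI : (φ ⁻¹ᵁ W.1).toScheme.Over (Spec (CommRingCat.of Γ(Y, W.1))) := ⟨(φ ∣_ W.1) ≫ W.2.isoSpec.hom⟩
    haveI : IsProper ((φ ⁻¹ᵁ W.1).toScheme ↘ Spec (CommRingCat.of Γ(Y, W.1))) :=
      MorphismProperty.comp_mem @IsProper _ _ (IsZariskiLocalAtTarget.restrict ‹IsProper φ› W.1) inferInstance
    obtain ⟨d₀, hd₀⟩ := AmpleVan.exists_vanishing (A := Γ(Y, W.1)) (hamp y)
      (QCoh.isCoh_restrict_open (U := φ ⁻¹ᵁ W.1) QCoh.isCoh_structureModule')
    refine ⟨d₀, fun d hd q => ?_⟩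
    obtain ⟨e₁⟩ := AmpleVan.RelVanish.restrict_iso (φ ⁻¹ᵁ W.1).ι L (Coh.structureModule Y₁) d
    obtain ⟨e₂⟩ := H23.PicMul.unit (CohB1.tensorPow L d)
    obtain ⟨e₃⟩ := H23.PicMul.comm (Coh.structureModule Y₁) (CohB1.tensorPow L d)
    exact QCoh.subsingleton_HH_of_iso
      (e₁.symm ≪≫ (Scheme.Modules.restrictFunctor (φ ⁻¹ᵁ W.1).ι).mapIso (e₃ ≪≫ e₂)) _ (hd₀ d hd q)
  choose d hd using hd
  refine ⟨s.sup d, fun n hn i hi => ?_⟩
  refine RzCover.isZero_RpushAb_of_cover (f := φ)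
    (QCoh.isQCoh_of_isFinLocFree (KvbModel.lf_of_rank (PBCores.isInvertible_iff_rank.1
      (InvX.isInvertible_tensorPow hL n)))) {W | ∃ y ∈ s, W = (a y).U} (fun x => ?_) ?_ i hi
  · obtain ⟨y, hy, hx⟩ := ha x
    exact ⟨(a y).U, ⟨y, hy, rfl⟩, hx⟩
  rintro W ⟨y, hy, rfl⟩ q
  exact hd y n ((Finset.le_sup hy).trans hn) q

/-- The powers of the exceptional ideal of a regular blowing up are acyclic. -/
theorem van (hYe : KRR.HasEnoughLocFree Y) (f : X ⟶ Y) (hf : Mor2.IsRegularClosedImmersion f) {d : ℕ} (hd : 1 ≤ d)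
    (hC : FlatMod.IsFinLocFreeOfRank d (Omega.conormal f)) (φ : Y₁ ⟶ Y) (hφ : BlowUp.IsBlowUp φ f.ker)
    (n : ℕ) (i : ℕ) (hi : 1 ≤ i) :
    RKoszul.RZ φ (CohB1.tensorPow (ClSub.idealMod (BlowUp.exceptional φ f.ker)) n) i := by
  haveI := hf.1
  obtain ⟨hY₁, hprop, -⟩ := BlowReg.geom f φ hYe hφ
  haveI := hY₁; haveI := hprop
  haveI : AlgebraicGeometry.IsNoetherian X := PushComp.isNoetherian_of_closed f
  obtain ⟨N, hN⟩ := exists_vanishing hYe f.ker φ hφ
  let ι : pullback φ f ⟶ Y₁ := pullback.fst φ f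
  let ψ : pullback φ f ⟶ X := pullback.snd φ f
  have hsq : IsPullback ι ψ φ f := IsPullback.of_hasPullback φ f
  haveI : IsClosedImmersion ι := inferInstanceAs (IsClosedImmersion (pullback.fst φ f))
  haveI : IsProper ψ := inferInstanceAs (IsProper (pullback.snd φ f))
  have hker : ι.ker = BlowUp.exceptional φ f.ker := TorPull.ker_eq hsq
  rw [← hker] at hN ⊢
  have heff : BlowUp.IsEffCartierIdeal ι.ker := hker ▸ hφ.1
  obtain ⟨q, -, hPB⟩ := ExcBundle.exists_isProjBundle hf hd hC hφ hsq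
  obtain ⟨r, rfl⟩ : ∃ r, d = r + 1 := Nat.exists_eq_add_of_le' hd
  let L := ClSub.idealMod ι.ker
  have hL : PicF.IsInvertible L := H26.IdealCl.isInvertible_idealMod heff
  suffices H : ∀ k m, N ≤ m + k → ∀ i, 1 ≤ i → RKoszul.RZ φ (CohB1.tensorPow L m) i from
    H N n (Nat.le_add_left N n) i hi
  intro k
  induction k with
  | zero => exact fun m hm i hi => hN m hm i hi
  | succ k ih =>
    intro m hm i hi
    haveI := H26.IdealCl.isEquivalence_tensor (InvX.isInvertible_tensorPow hL m)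
    let T := DCoh.tensorBi.obj (CohB1.tensorPow L m)
    have hS := (DivisorExt.ideal_shortExact ι.ker).map_of_exact T
    have h₁ : RKoszul.RZ φ (T.obj (ClSub.idealMod ι.ker)) i := ih (m + 1) (by omega) i hi
    obtain ⟨eQ⟩ := DivisorExt.nonempty_quotMod_iso ι
    have h₃ : RKoszul.RZ φ (T.obj (ClSub.quotMod ι.ker)) i := by
      let F := CohB1.tensorPow L m
      let N₀ : (pullback φ f).Modules := (Scheme.Modules.pullback ι).obj F
      have hlf : FlatMod.IsFinLocFree F :=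
        KvbModel.lf_of_rank (PBCores.isInvertible_iff_rank.1 (InvX.isInvertible_tensorPow hL m))
      haveI : HasInjectiveResolutions (pullback φ f).Modules := KFlatLib.hasInjectiveResolutions_modules
      haveI := SpObjSS.enoughInjectives_of_hasInjectiveResolutions (C := (pullback φ f).Modules)
      haveI := QCoh.preservesFiniteLimits_push ι
      obtain ⟨e₀⟩ := S0927.result ι (Coh.structureModule _) F hlf 0
      let z := (Scheme.Modules.pushforward ι).rightDerivedZeroIsoSelf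
      obtain ⟨eu⟩ := H23.PicMul.unit N₀
      let e₁ : T.obj (ClSub.quotMod ι.ker) ≅ (Scheme.Modules.pushforward ι).obj N₀ :=
        T.mapIso (eQ ≪≫ (z.app _).symm) ≪≫ e₀ ≪≫ z.app _ ≪≫ (Scheme.Modules.pushforward ι).mapIso eu
      have hN₀ : Coh.IsQCoh N₀ := QCoh.isQCoh_pullback ι (QCoh.isQCoh_of_isFinLocFree hlf)
      refine RKoszul.rz_of_iso φ e₁.symm i ?_
      haveI : HasInjectiveResolutions Y₁.Modules := KFlatLib.hasInjectiveResolutions_modules
      refine H9Misc.RpushZero.isZero_RpushAb φ (QCoh.isQCoh_pushforward ι hN₀) i fun W hW => ?_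
      refine BlowHH.hh_affine_push ι hN₀ (φ ⁻¹ᵁ W) i ?_
      have hkey : ι ⁻¹ᵁ (φ ⁻¹ᵁ W) = ψ ⁻¹ᵁ (f ⁻¹ᵁ W) := by
        rw [← Scheme.Hom.comp_preimage, hsq.w, Scheme.Hom.comp_preimage]
      rw [hkey]
      obtain ⟨i', rfl⟩ : ∃ i', i = i' + 1 := Nat.exists_eq_add_of_le' hi
      obtain ⟨ep⟩ := AmpleVan.RelVanish.pullback_tensorPow ι L m
      exact BlowHH.hh_of_rz ψ hN₀ i' (RKoszul.rz_of_iso ψ ep.symm _
        (BlowHH.rz_bundle hPB hC m (i' + 1) (by omega))) (hW.preimage f)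
    have h₂ := RKoszul.rz_mid φ hS i h₁ h₃
    obtain ⟨eu⟩ := H23.PicMul.unit (CohB1.tensorPow L m)
    exact RKoszul.rz_of_iso φ eu i h₂

end Groth.Agent.H28.BlowVan

end
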