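import Groth.Agent.H28.PushEngine
import Groth.Agent.H28.PnBC
import Groth.Agent.QCoh.RpushAbGod

/-!
# Comparing and composing push-forwards through projective embeddings
-/

set_option autoImplicit false
set_option linter.style.haveILetI false
set_option linter.unusedSectionVars false
set_option backward.isDefEq.respectTransparency false
set_option backward.isDefEq.respectTransparency.types false
set_option maxHeartbeats 1000000

universe v w u

open CategoryTheory CategoryTheory.Limits AlgebraicGeometry TopologicalSpace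

noncomputable section

namespace Groth.Agent.H28.PushComp

open Groth.Agent Groth.Agent.KZ.LFRes Groth.Agent.H28.KRRTw Groth.Agent.H28.KRRReg Groth.Agent.H28.KRegK0
  Groth.Agent.H28.PushEngine
open scoped ZeroObject

theorem isNoetherian_PY (n : ℕ) (Y : Scheme.{u}) [AlgebraicGeometry.IsNoetherian Y] :
    AlgebraicGeometry.IsNoetherian (KRR.PY n Y) := by
  haveI : IsProper (KRR.pr n Y) := PushK.isProper_pr
  haveI := LocallyOfFiniteType.isLocallyNoetherian (KRR.pr n Y)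
  haveI := QuasiCompact.compactSpace_of_compactSpace (KRR.pr n Y)
  exact {}

theorem isNoetherian_of_closed {X P : Scheme.{u}} (i : X ⟶ P) [IsClosedImmersion i] [AlgebraicGeometry.IsNoetherian P] :
    AlgebraicGeometry.IsNoetherian X := by
  haveI := LocallyOfFiniteType.isLocallyNoetherian i
  haveI := QuasiCompact.compactSpace_of_compactSpace i
  exact {}

section Leray

variable {X Y Z : Scheme.{u}} (f : X ⟶ Y) (g : Y ⟶ Z)

theorem rz_godQ {M : X.Modules} (h : ∀ r : ℕ, RKoszul.RZ f M (r + 1)) :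
    ∀ m r : ℕ, RKoszul.RZ f (QCoh.godQ M m) (r + 1)
  | 0, r => h r
  | m + 1, r => RKoszul.rz_quot f (QCoh.godSES_shortExact M m) (r + 1)
      (QCoh.isZero_RpushAb_of_flasque f _ (QCoh.isFlasque_God _) r) (rz_godQ h m (r + 1))

/-- The degenerate Leray spectral sequence. -/
theorem leray {M : X.Modules} (h : ∀ r : ℕ, RKoszul.RZ f M (r + 1)) (p : ℕ) :
    Nonempty ((Coh.RpushAb g p).obj (Coh.toAb ((Coh.push f).obj M)) ≅
      (Coh.RpushAb (f ≫ g) p).obj (Coh.toAb M)) := by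
  haveI := QCoh.preservesFiniteLimits_pushAb g
  cases p with
  | zero =>
    obtain ⟨e₁⟩ := QCoh.nonempty_RpushAb_zero_iso g ((Coh.push f).obj M)
    obtain ⟨e₂⟩ := QCoh.nonempty_RpushAb_zero_iso (f ≫ g) M
    exact ⟨e₁ ≪≫ e₂.symm⟩
  | succ q =>
    let S := fun m => (QCoh.godSES M m).map (Scheme.Modules.pushforward f)
    have hS : ∀ m, (S m).ShortExact := fun m => PushK.shortExact_push f (QCoh.godSES_shortExact M m) (rz_godQ f h m 0)
    obtain ⟨e⟩ := QCoh.nonempty_tower_iso (Coh.pushAb g) (fun m => (S m).map (QCoh.toAbFunctor Y))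
      (fun m => QCoh.toAb_shortExact (hS m)) (fun m => Iso.refl _)
      (fun m i => QCoh.isZero_RpushAb_of_flasque g _ (QCoh.isFlasque_pushAb f (QCoh.isFlasque_God _)) i) q
    obtain ⟨e'⟩ := QCoh.nonempty_toAb_cokernel ((Scheme.Modules.pushforward (f ≫ g)).map (QCoh.godπ M q))
    obtain ⟨e''⟩ := QCoh.nonempty_RpushAb_iso (f ≫ g) M q
    exact ⟨e ≪≫ e'.symm ≪≫ e''.symm⟩

theorem rz_push_of {M : X.Modules} (h : ∀ r : ℕ, RKoszul.RZ f M (r + 1)) {p : ℕ} (hp : RKoszul.RZ (f ≫ g) M p) :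
    RKoszul.RZ g ((Scheme.Modules.pushforward f).obj M) p :=
  let ⟨e⟩ := leray f g h p
  hp.of_iso e

end Leray

section Push

variable {Y P : Scheme.{u}} [AlgebraicGeometry.IsNoetherian Y] [AlgebraicGeometry.IsNoetherian P]

/-- A push-forward along a closed immersion on classes of resolvable modules. -/
theorem pushCl_val₁ (j : Y ⟶ P) (hj : Mor2.IsRegularClosedImmersion j) (hY : KRR.HasEnoughLocFree Y)
    (hP : KRR.HasEnoughLocFree P)
    {KY : Type v} [CommRing KY] {φY : SGA6.Kvb Y →+ KY} {K : Type w} [CommRing K] {φ : SGA6.Kvb P →+ K}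
    {a : KY →+ K} (ha : KRR.IsPushCl j φY φ a) {VY : KZero.K0sub (P₁ Y) →+ KY}
    (hVY : ∀ M, FlatMod.IsFinLocFree M → VY (KZero.clSub (P₁ Y) M) = φY (KRR.cl Y M))
    {V : KZero.K0sub (P₁ P) →+ K} (hV : ∀ M, FlatMod.IsFinLocFree M → V (KZero.clSub (P₁ P) M) = φ (KRR.cl P M))
    {G : Y.Modules} (hG : P₁ Y G) :
    P₁ P ((Scheme.Modules.pushforward j).obj G) ∧
      a (VY (KZero.clSub (P₁ Y) G)) = V (KZero.clSub (P₁ P) ((Scheme.Modules.pushforward j).obj G)) := by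
  haveI := hj.1
  obtain ⟨T, hT⟩ := KZ.exists_liftSub (P₁ Y)
    (fun M => KZero.clSub (P₁ P) ((Scheme.Modules.pushforward j).obj M)) fun _ hS h₁ h₂ h₃ =>
    KZ.clSub_ses (P₁ P) (KRRPushK.shortExact_push j hS) (KRRPushProp.p₁_push_of_p₁ j hY hP hj h₁)
      (KRRPushProp.p₁_push_of_p₁ j hY hP hj h₂) (KRRPushProp.p₁_push_of_p₁ j hY hP hj h₃)
  refine ⟨KRRPushProp.p₁_push_of_p₁ j hY hP hj hG, ?_⟩
  have h : a.comp VY = V.comp T := hom_ext hY fun E hE => by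
    show a (VY _) = V (T _)
    rw [hVY E hE, hT E (p1_flf hY hE)]
    exact (pushCl_val j hj hP ha hV hE).2
  exact (DFunLike.congr_fun h _).trans (congrArg V (hT G hG))

end Push

section Indep

variable {n m : ℕ} {X Y : Scheme.{u}} [AlgebraicGeometry.IsNoetherian Y]

theorem isCoh_lx [AlgebraicGeometry.IsNoetherian X] {S : Scheme.{u}} {k : ℕ} (i : X ⟶ KRR.PY k S) (d : ℤ) : Coh.IsCoh (Lx i d) :=
  PushLocFree.isCoh_of_isFinLocFree (lf_Lx i d)

/-- The composite `p_K i_K` on a bundle with regular direct image. -/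
theorem val_comp [AlgebraicGeometry.IsNoetherian X] [AlgebraicGeometry.IsNoetherian (KRR.PY n Y)]
    (hY : KRR.HasEnoughLocFree Y) (hP : KRR.HasEnoughLocFree (KRR.PY n Y))
    (i : X ⟶ KRR.PY n Y) (hi : Mor2.IsRegularClosedImmersion i) {f : X ⟶ Y} (hf : i ≫ KRR.pr n Y = f)
    {KX : Type v} [CommRing KX] {φX : SGA6.Kvb X →+ KX} {K : Type v} [CommRing K] {φ : SGA6.Kvb (KRR.PY n Y) →+ K}
    {KY : Type v} [CommRing KY] {φY : SGA6.Kvb Y →+ KY}
    {a : KX →+ K} (ha : KRR.IsPushCl i φX φ a) {b : K →+ KY} (hb : KRR.IsPushPr n Y φ φY b)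
    {VY : KZero.K0sub (P₁ Y) →+ KY}
    (hVY : ∀ M, FlatMod.IsFinLocFree M → VY (KZero.clSub (P₁ Y) M) = φY (KRR.cl Y M))
    {F : X.Modules} (hF : FlatMod.IsFinLocFree F)
    (hr : KRR.IsRegSheaf n Y ((Scheme.Modules.pushforward i).obj F)) :
    P₁ Y ((Scheme.Modules.pushforward f).obj F) ∧
      b (a (φX (KRR.cl X F))) = VY (KZero.clSub (P₁ Y) ((Scheme.Modules.pushforward f).obj F)) := by
  subst hf
  obtain ⟨V, hV⟩ := exists_val hP φ
  obtain ⟨h1, e1⟩ := pushCl_val i hi hP ha hV hF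
  obtain ⟨h2, e2⟩ := pushPr_val hY hP hb hV hVY h1 hr
  let e := (Scheme.Modules.pushforwardComp i (KRR.pr n Y)).app F
  have h3 := p1_iso hY e h2
  refine ⟨h3, ?_⟩
  rw [e1, e2]
  exact congrArg VY (KZ.clSub_iso (P₁ Y) e h2 h3 (isZero_zero _) (p1_zero hY (isZero_zero _)))

/-- Independence of the factorisation. -/
theorem independent (hY : KRR.HasEnoughLocFree Y) (hP₁ : KRR.HasEnoughLocFree (KRR.PY n Y))
    (hP₂ : KRR.HasEnoughLocFree (KRR.PY m Y)) (f : X ⟶ Y) (i₁ : X ⟶ KRR.PY n Y) (i₂ : X ⟶ KRR.PY m Y)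
    (h₁ : Mor2.IsRegularClosedImmersion i₁) (h₂ : Mor2.IsRegularClosedImmersion i₂)
    (hf₁ : i₁ ≫ KRR.pr n Y = f) (hf₂ : i₂ ≫ KRR.pr m Y = f)
    {KX : Type v} [CommRing KX] [LambdaRing.LambdaOps KX] {PX : LambdaRing.PosStructure KX}
    {φX : SGA6.Kvb X →+ KX} (hKX : KRR.IsModel X KX PX φX)
    {KY : Type v} [CommRing KY] {φY : SGA6.Kvb Y →+ KY}
    {K₁ : Type v} [CommRing K₁] {φ₁ : SGA6.Kvb (KRR.PY n Y) →+ K₁}
    {K₂ : Type v} [CommRing K₂] {φ₂ : SGA6.Kvb (KRR.PY m Y) →+ K₂}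
    {a₁ : KX →+ K₁} (ha₁ : KRR.IsPushCl i₁ φX φ₁ a₁) {b₁ : K₁ →+ KY} (hb₁ : KRR.IsPushPr n Y φ₁ φY b₁)
    {a₂ : KX →+ K₂} (ha₂ : KRR.IsPushCl i₂ φX φ₂ a₂) {b₂ : K₂ →+ KY} (hb₂ : KRR.IsPushPr m Y φ₂ φY b₂) :
    b₁.comp a₁ = b₂.comp a₂ := by
  haveI := isNoetherian_PY n Y
  haveI := isNoetherian_PY m Y
  haveI := h₁.1
  haveI := h₂.1
  haveI := isNoetherian_of_closed i₁
  obtain ⟨VY, hVY⟩ := exists_val hY φY
  refine eq_of_twists hKX.bijective hKX.map_one hKX.map_mul _ _ i₁ fun F hF => ?_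
  have hc := PushLocFree.isCoh_of_isFinLocFree hF
  obtain ⟨d₁, hd₁⟩ := exists_reg_twist i₁ hf₁ i₁ hf₁ hc (isCoh_lx i₁) (isCoh_lx i₁)
  obtain ⟨d₂, hd₂⟩ := exists_reg_twist i₂ hf₂ i₁ hf₁ hc (isCoh_lx i₁) (isCoh_lx i₂)
  refine ⟨max d₁ d₂, fun d hd => ?_⟩
  have hF' := KFlatLib.isFinLocFree_tensor hF (lf_Lx i₁ (d : ℤ))
  exact (val_comp hY hP₁ i₁ h₁ hf₁ ha₁ hb₁ hVY hF' (hd₁ d (le_trans (le_max_left _ _) hd))).2.trans
    (val_comp hY hP₂ i₂ h₂ hf₂ ha₂ hb₂ hVY hF' (hd₂ d (le_trans (le_max_right _ _) hd))).2.symm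

end Indep

section Comp

variable {n m l : ℕ} {X Y Z : Scheme.{u}} [AlgebraicGeometry.IsNoetherian Y] [AlgebraicGeometry.IsNoetherian Z]

/-- Lifting an embedding over `Z` to one over `Y`. -/
theorem exists_lift (g : Y ⟶ Z) [IsSeparated g] (k : X ⟶ KRR.PY l Z) [IsClosedImmersion k] (f : X ⟶ Y)
    (hk : k ≫ KRR.pr l Z = f ≫ g) :
    ∃ k' : X ⟶ KRR.PY l Y, IsClosedImmersion k' ∧ k' ≫ KRR.pr l Y = f ∧ k' ≫ KRR.projSpaceMap l g = k := by
  let k' : X ⟶ KRR.PY l Y := pullback.lift (k ≫ pullback.fst _ _) f (specULiftZIsTerminal.hom_ext _ _)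
  have h1 : k' ≫ KRR.pr l Y = f := pullback.lift_snd _ _ _
  have h2 : k' ≫ KRR.projSpaceMap l g = k := pullback.hom_ext
    (by rw [Category.assoc, KRR.projSpaceMap, pullback.map, pullback.lift_fst, Category.comp_id]
        exact pullback.lift_fst _ _ _)
    (by rw [Category.assoc, KRR.projSpaceMap, pullback.map, pullback.lift_snd, ← Category.assoc]
        exact (congrArg (· ≫ g) h1).trans hk.symm)
  haveI : IsSeparated (KRR.pr l Y) := by
    haveI : IsProper (KRR.pr l Y) := PushK.isProper_pr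
    infer_instance
  haveI : IsSeparated (KRR.projSpaceMap l g ≫ KRR.pr l Z) := by
    rw [PnBC.ψ_pr g]; infer_instance
  haveI : IsSeparated (KRR.projSpaceMap l g) := IsSeparated.of_comp _ (KRR.pr l Z)
  haveI : IsClosedImmersion (k' ≫ KRR.projSpaceMap l g) := by rw [h2]; infer_instance
  exact ⟨k', IsClosedImmersion.of_comp k' (KRR.projSpaceMap l g), h1, h2⟩

theorem lx_lift (g : Y ⟶ Z) (k : X ⟶ KRR.PY l Z) (k' : X ⟶ KRR.PY l Y) (h : k' ≫ KRR.projSpaceMap l g = k)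
    (d : ℤ) : Nonempty (Lx k' d ≅ Lx k d) := by
  obtain ⟨e⟩ := PnBC.pullback_twistOver (n := l) g d
  exact ⟨(Scheme.Modules.pullback k').mapIso e.symm ≪≫
    (Scheme.Modules.pullbackComp k' (KRR.projSpaceMap l g)).app _ ≪≫ (Scheme.Modules.pullbackCongr h).app _⟩

theorem isInvertible_Lx {S : Scheme.{u}} {k : ℕ} (j : Y ⟶ KRR.PY k S) (d : ℤ) : PicF.IsInvertible (Lx j d) :=
  PicClLib.isInvertible_pullback j (isInvertible_twistOver d)

/-- Push-forwards compose. -/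
theorem comp (hY : KRR.HasEnoughLocFree Y) (hZ : KRR.HasEnoughLocFree Z)
    (hPY : KRR.HasEnoughLocFree (KRR.PY n Y)) (hPm : KRR.HasEnoughLocFree (KRR.PY m Z))
    (hPl : KRR.HasEnoughLocFree (KRR.PY l Z)) (f : X ⟶ Y) (g : Y ⟶ Z)
    (i : X ⟶ KRR.PY n Y) (hi : Mor2.IsRegularClosedImmersion i) (hf : i ≫ KRR.pr n Y = f)
    (j : Y ⟶ KRR.PY m Z) (hj : Mor2.IsRegularClosedImmersion j) (hg : j ≫ KRR.pr m Z = g)
    (k : X ⟶ KRR.PY l Z) (hk : Mor2.IsRegularClosedImmersion k) (hfg : k ≫ KRR.pr l Z = f ≫ g)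
    {KX : Type v} [CommRing KX] [LambdaRing.LambdaOps KX] {PX : LambdaRing.PosStructure KX}
    {φX : SGA6.Kvb X →+ KX} (hKX : KRR.IsModel X KX PX φX)
    {KY : Type v} [CommRing KY] {φY : SGA6.Kvb Y →+ KY} {KZ' : Type v} [CommRing KZ'] {φZ : SGA6.Kvb Z →+ KZ'}
    {K₁ : Type v} [CommRing K₁] {φ₁ : SGA6.Kvb (KRR.PY n Y) →+ K₁}
    {K₂ : Type v} [CommRing K₂] {φ₂ : SGA6.Kvb (KRR.PY m Z) →+ K₂}
    {K₃ : Type v} [CommRing K₃] {φ₃ : SGA6.Kvb (KRR.PY l Z) →+ K₃}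
    {a₁ : KX →+ K₁} (ha₁ : KRR.IsPushCl i φX φ₁ a₁) {b₁ : K₁ →+ KY} (hb₁ : KRR.IsPushPr n Y φ₁ φY b₁)
    {a₂ : KY →+ K₂} (ha₂ : KRR.IsPushCl j φY φ₂ a₂) {b₂ : K₂ →+ KZ'} (hb₂ : KRR.IsPushPr m Z φ₂ φZ b₂)
    {a₃ : KX →+ K₃} (ha₃ : KRR.IsPushCl k φX φ₃ a₃) {b₃ : K₃ →+ KZ'} (hb₃ : KRR.IsPushPr l Z φ₃ φZ b₃) :
    b₃.comp a₃ = (b₂.comp a₂).comp (b₁.comp a₁) := by
  haveI := isNoetherian_PY n Y
  haveI := isNoetherian_PY m Z
  haveI := isNoetherian_PY l Z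
  haveI := hi.1
  haveI := hj.1
  haveI := hk.1
  haveI := isNoetherian_of_closed i
  haveI : IsSeparated g := by
    haveI : IsProper (KRR.pr m Z) := PushK.isProper_pr
    rw [← hg]; infer_instance
  obtain ⟨k', hk', hk'f, hk'k⟩ := exists_lift g k f hfg
  obtain ⟨VY, hVY⟩ := exists_val hY φY
  obtain ⟨VZ, hVZ⟩ := exists_val hZ φZ
  obtain ⟨V₂, hV₂⟩ := exists_val hPm φ₂
  refine eq_of_twists hKX.bijective hKX.map_one hKX.map_mul _ _ k fun F hF => ?_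
  have hc := PushLocFree.isCoh_of_isFinLocFree hF
  obtain ⟨d₁, hd₁⟩ := exists_reg_twist i hf k' hk'f hc (isCoh_lx k') (isCoh_lx i)
  obtain ⟨d₃, hd₃⟩ := exists_reg_twist k hfg k hfg hc (isCoh_lx k) (isCoh_lx k)
  let A : ℕ → X.Modules := fun q => (DCoh.tensorBi.obj F).obj ((Scheme.Modules.pullback f).obj (Lx j (-(q : ℤ))))
  have hA : ∀ q, Coh.IsCoh (A q) := fun q => PushLocFree.isCoh_of_isFinLocFree
    (KFlatLib.isFinLocFree_tensor hF (KFlatLib.isFinLocFree_pullback f (lf_Lx j _)))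
  choose D hD using fun q : ℕ => exists_van k' hk'f (hA q)
  choose E hE using fun q : ℕ => exists_van k hfg (hA q)
  refine ⟨d₁ + d₃ + (Finset.range (m + 1)).sup D + (Finset.range (m + 1)).sup E, fun d hd => ?_⟩
  have hF' : FlatMod.IsFinLocFree ((DCoh.tensorBi.obj F).obj (Lx k (d : ℤ))) :=
    KFlatLib.isFinLocFree_tensor hF (lf_Lx k _)
  obtain ⟨eL⟩ := lx_lift g k k' hk'k (d : ℤ)
  have hr₁ : KRR.IsRegSheaf n Y ((Scheme.Modules.pushforward i).obj ((DCoh.tensorBi.obj F).obj (Lx k (d : ℤ)))) :=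
    isReg_of_iso ((Scheme.Modules.pushforward i).mapIso (PicGrp.tensorModIso (Iso.refl F) eL)) (hd₁ d (by omega))
  obtain ⟨hG, e₁⟩ := val_comp hY hPY i hi hf ha₁ hb₁ hVY hF' hr₁
  have e₃ := (val_comp hZ hPl k hk hfg ha₃ hb₃ hVZ hF' (hd₃ d (by omega))).2
  obtain ⟨hjG, e₂⟩ := pushCl_val₁ j hj hY hPm ha₂ hVY hV₂ hG
  have hr₂ : KRR.IsRegSheaf m Z ((Scheme.Modules.pushforward j).obj
      ((Scheme.Modules.pushforward f).obj ((DCoh.tensorBi.obj F).obj (Lx k (d : ℤ))))) := by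
    refine isReg_push j hg hG.1.1 fun q hq => ?_
    rcases Nat.lt_or_ge m q with hq' | hq'
    · exact rz_of_lt j hg (isQCoh_twL j hG.1.1 _) hq'
    · have hqm : q ∈ Finset.range (m + 1) := Finset.mem_range.2 (by omega)
      have hDq := Finset.le_sup (f := D) hqm
      have hEq := Finset.le_sup (f := E) hqm
      obtain ⟨e⟩ := AmpleVan.FiniteSurj.nonempty_push_twist f ((DCoh.tensorBi.obj F).obj (Lx k (d : ℤ)))
        (isInvertible_Lx j (-(q : ℤ)))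
      obtain ⟨α₁⟩ := H23.PicMul.assoc F (Lx k (d : ℤ)) ((Scheme.Modules.pullback f).obj (Lx j (-(q : ℤ))))
      obtain ⟨α₂⟩ := H23.PicMul.assoc F ((Scheme.Modules.pullback f).obj (Lx j (-(q : ℤ)))) (Lx k (d : ℤ))
      obtain ⟨c⟩ := H23.PicMul.comm (Lx k (d : ℤ)) ((Scheme.Modules.pullback f).obj (Lx j (-(q : ℤ))))
      let ε := α₂ ≪≫ PicGrp.tensorModIso (Iso.refl F) c.symm ≪≫ α₁.symm
      refine RKoszul.rz_of_iso g e.symm q (rz_push_of f g (fun r => ?_) ?_)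
      · exact RKoszul.rz_of_iso f (PicGrp.tensorModIso (Iso.refl (A q)) eL ≪≫ ε) (r + 1)
          (hD q d (by omega) (r + 1) (by omega))
      · exact RKoszul.rz_of_iso (f ≫ g) ε q (hE q d (by omega) q hq)
  obtain ⟨hGG, e₄⟩ := pushPr_val hZ hPm hb₂ hV₂ hVZ hjG hr₂
  let κ : (Scheme.Modules.pushforward (KRR.pr m Z)).obj ((Scheme.Modules.pushforward j).obj
      ((Scheme.Modules.pushforward f).obj ((DCoh.tensorBi.obj F).obj (Lx k (d : ℤ))))) ≅
      (Scheme.Modules.pushforward (f ≫ g)).obj ((DCoh.tensorBi.obj F).obj (Lx k (d : ℤ))) :=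
    (Scheme.Modules.pushforwardComp j (KRR.pr m Z)).app _ ≪≫ (Scheme.Modules.pushforwardCongr hg).app _ ≪≫
      (Scheme.Modules.pushforwardComp f g).app _
  show b₃ (a₃ _) = b₂ (a₂ (b₁ (a₁ _)))
  rw [e₁, e₂, e₄, e₃]
  exact congrArg VZ (KZ.clSub_iso (P₁ Z) κ hGG (p1_iso hZ κ hGG) (isZero_zero _) (p1_zero hZ (isZero_zero _))).symm

end Comp

end Groth.Agent.H28.PushComp
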