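import Groth.Agent.H28.PBFree
import Groth.Agent.H28.LineTwist

/-!
# A projective bundle is a projective space over a frame
-/

set_option autoImplicit false
set_option linter.style.haveILetI false
set_option linter.unusedSectionVars false
set_option backward.isDefEq.respectTransparency false
set_option backward.isDefEq.respectTransparency.types false

universe u

open CategoryTheory CategoryTheory.Limits AlgebraicGeometry TopologicalSpace Opposite

noncomputable section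

namespace Groth.Agent.H28.PBChart

open Groth.Agent Groth.Agent.AModX Groth.Agent.PBlow Groth.Agent.H28.PBFree

variable {X T : Scheme.{u}} {M : X.Modules} {U : X.Opens} {n : ℕ} {b : Fin n → Γ(M, U)}
  (g : T ⟶ X)

/-- The value of an inverse image on a section over an open containing the image. -/
abbrev pU (M : X.Modules) (hgU : ⊤ ≤ g ⁻¹ᵁ U) (x : Γ(M, U)) : Γ((Scheme.Modules.pullback g).obj M, ⊤) :=
  QCoh.pullSec g M hgU x

/-- The morphism to any module with given values on a frame. -/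
theorem exists_hom_to (hb : H23.Frame.IsFrame M b) (hgU : ⊤ ≤ g ⁻¹ᵁ U) {L : T.Modules} (t : Fin n → Γ(L, ⊤)) :
    ∃ s : (Scheme.Modules.pullback g).obj M ⟶ L, ∀ i, s.app ⊤ (pU g M hgU (b i)) = t i := by
  classical
  have hle : ∀ V : X.Opens, g ⁻¹ᵁ V ≤ g ⁻¹ᵁ (V ⊓ U) := fun V z hz => ⟨hz, hgU trivial⟩
  let F : ∀ V : X.Opens, Γ(M, V) → Γ(L, g ⁻¹ᵁ V) := fun V x =>
    ∑ i, g.appLE (V ⊓ U) (g ⁻¹ᵁ V) (hle V) (coord hb V x i) • res L le_top (t i)
  have hadd : ∀ V x y, F V (x + y) = F V x + F V y := fun V x y => by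
    have : coord hb V (x + y) = coord hb V x + coord hb V y := coord_unique hb V _ _ (by
      simp only [Pi.add_apply, add_smul, Finset.sum_add_distrib, coord_sum, map_add])
    simp only [F, this, Pi.add_apply, map_add, add_smul, Finset.sum_add_distrib]
  have hsmul : ∀ (V : X.Opens) (r : Γ(X, V)) x, F V (r • x) = g.app V r • F V x := fun V r x => by
    have : coord hb V (r • x) = fun i => resR inf_le_left r * coord hb V x i := coord_unique hb V _ _ (by
      simp only [mul_smul, ← Finset.smul_sum, coord_sum, res_smul])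
    simp only [F, this, map_mul, Finset.smul_sum, mul_smul]
    refine Finset.sum_congr rfl fun i _ => ?_
    congr 1
    rw [Scheme.Hom.app_eq_appLE]
    exact ConcreteCategory.congr_hom (Scheme.Hom.map_appLE g (hle V) (homOfLE (inf_le_left : V ⊓ U ≤ V)).op) r
  have hres : ∀ (V W : X.Opens) (h : W ≤ V) x, F W (res M h x) = res L (g.preimage_mono h) (F V x) :=
    fun V W h x => by
      have : coord hb W (res M h x) = fun i => resR (inf_le_inf_right U h) (coord hb V x i) :=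
        coord_unique hb W _ _ (by
          have := congrArg (res M (inf_le_inf_right U h)) (coord_sum hb V x)
          simp only [map_sum, res_smul, res_res] at this ⊢
          exact this)
      simp only [F, this, map_sum, res_smul, res_res]
      refine Finset.sum_congr rfl fun i _ => ?_
      congr 1
      refine (ConcreteCategory.congr_hom (Scheme.Hom.map_appLE g (hle W)
        (homOfLE (inf_le_inf_right U h)).op) (coord hb V x i)).trans ?_
      exact (ConcreteCategory.congr_hom (Scheme.Hom.appLE_map g (hle V)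
        (homOfLE (g.preimage_mono h)).op) (coord hb V x i)).symm
  let φ : M ⟶ (Scheme.Modules.pushforward g).obj L :=
    ⟨PresheafOfModules.homMk
      { app := fun V => AddCommGrpCat.ofHom (AddMonoidHom.mk' (fun x : Γ(M, unop V) => F (unop V) x)
          (hadd (unop V)))
        naturality := fun V W i => by
          ext x
          exact hres (unop V) (unop W) i.unop.le x }
      fun V r x => hsmul (unop V) r x⟩
  refine ⟨((Scheme.Modules.pullbackPushforwardAdjunction g).homEquiv _ _).symm φ, fun i => ?_⟩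
  let s := ((Scheme.Modules.pullbackPushforwardAdjunction g).homEquiv _ _).symm φ
  have hφ : (Scheme.Modules.pullbackPushforwardAdjunction g).homEquiv _ _ s = φ :=
    Equiv.apply_symm_apply _ _
  have h1 : s.app (g ⁻¹ᵁ U) (InvX.pullElt g (b i)) = F U (b i) :=
    congrArg (fun f => Scheme.Modules.Hom.app f U (b i)) hφ
  have h2 : coord hb U (b i) = fun j => if j = i then 1 else 0 := coord_unique hb U _ _ (by
    rw [Finset.sum_eq_single i (fun j _ hj => by rw [if_neg hj, zero_smul]) (by simp), if_pos rfl, one_smul])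
  have h3 : F U (b i) = res L le_top (t i) := by
    show ∑ j, _ = _
    rw [h2]
    dsimp only
    rw [Finset.sum_eq_single i (fun j _ hj => by rw [if_neg hj, map_zero, zero_smul]) (by simp), if_pos rfl,
      map_one, one_smul]
  refine (app_res s hgU (InvX.pullElt g (b i))).trans ?_
  rw [h1, h3]
  exact (res_res (le_top : g ⁻¹ᵁ U ≤ ⊤) hgU (t i)).trans (res_self _)

theorem pU_eq (hgU : ⊤ ≤ g ⁻¹ᵁ U) (x : Γ(M, U)) {L : T.Modules}
    {s : (Scheme.Modules.pullback g).obj M ⟶ L} : s.app ⊤ (pU g M hgU x) = s.app ⊤ (QCoh.pullSec g M hgU x) := rfl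

theorem pU_congr {g' : T ⟶ X} (e : g = g') (h : ⊤ ≤ g ⁻¹ᵁ U) (h' : ⊤ ≤ g' ⁻¹ᵁ U) (x : Γ(M, U)) :
    ((Scheme.Modules.pullbackCongr e).hom.app M).app ⊤ (pU g M h x) = pU g' M h' x := by
  subst e
  simp [Scheme.Modules.pullbackCongr]

theorem pU_comp_inv {Z : Scheme.{u}} (f : X ⟶ Z) (N : Z.Modules) {W : Z.Opens} (hf : ⊤ ≤ f ⁻¹ᵁ W)
    (hgf : ⊤ ≤ (g ≫ f) ⁻¹ᵁ W) (x : Γ(N, W)) :
    ((Scheme.Modules.pullbackComp g f).inv.app N).app ⊤ (pU (g ≫ f) N hgf x) =
      pS g ((Scheme.Modules.pullback f).obj N) (pU f N hf x) := by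
  have h := ExistEasy.pullSec_comp g f N (V := W) hf
    (show (⊤ : T.Opens) ≤ g ⁻¹ᵁ (⊤ : X.Opens) from fun _ _ => trivial) x
  refine (congrArg (((Scheme.Modules.pullbackComp g f).inv.app N).app ⊤) h.symm).trans ?_
  exact congrArg (fun φ => Scheme.Modules.Hom.app φ ⊤ (pS g ((Scheme.Modules.pullback f).obj N) (pU f N hf x)))
    ((Scheme.Modules.pullbackComp g f).hom_inv_id_app N)

theorem pS_map {N N' : X.Modules} (φ : N ⟶ N') (x : Γ(N, ⊤)) :
    ((Scheme.Modules.pullback g).map φ).app ⊤ (pS g N x) = pS g N' (φ.app ⊤ x) :=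
  ExistEasy.pullSec_natural g φ _ x

theorem pullbackId_val (N : X.Modules) (x : Γ(N, ⊤)) :
    ((Scheme.Modules.pullbackId X).hom.app N).app ⊤ (pS (𝟙 X) N x) = x := by
  have h := congrArg (fun k => Scheme.Modules.Hom.app (NatTrans.app k N) ⊤)
    (Scheme.Modules.conjugateEquiv_pullbackId_hom X)
  simp only [conjugateEquiv_apply_app] at h
  refine (QCoh.map_app_comm ((Scheme.Modules.pullbackId X).hom.app N)
    (homOfLE (show (⊤ : X.Opens) ≤ (𝟙 X : X ⟶ X) ⁻¹ᵁ ⊤ from fun _ _ => trivial)) _).trans ?_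
  exact (congrArg (N.presheaf.map (homOfLE _).op) congr($h x)).trans (res_self (M := N) x)

/-- The identity module along a composite. -/
theorem pU_sig {P : Scheme.{u}} {π : P ⟶ X} {O1 : P.Modules} (q : (Scheme.Modules.pullback π).obj M ⟶ O1)
    (h : T ⟶ P) (hg : h ≫ π = g) (hle : ⊤ ≤ h ⁻¹ᵁ (π ⁻¹ᵁ U)) (hgU : ⊤ ≤ g ⁻¹ᵁ U) {L : T.Modules}
    (e : (Scheme.Modules.pullback h).obj O1 ≅ L) (i : Fin n) :
    ((Scheme.Modules.pullbackCongr hg).inv.app M ≫ (Scheme.Modules.pullbackComp h π).inv.app M ≫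
      (Scheme.Modules.pullback h).map q ≫ e.hom).app ⊤ (pU g M hgU (b i)) =
      e.hom.app ⊤ (pU h O1 hle (sig q b i)) :=
  comp_app q b h g hg e hgU hle i

variable {P : Scheme.{u}} {π : P ⟶ X} {O1 : P.Modules} {q : (Scheme.Modules.pullback π).obj M ⟶ O1}

/-- Morphisms to a projective bundle with the same values on a frame agree. -/
theorem hom_ext (hP : KRR.IsProjBundle π M O1 q) (hb : H23.Frame.IsFrame M b) {L : T.Modules}
    (hL : FlatMod.IsFinLocFreeOfRank 1 L) (h h' : T ⟶ P) (hh : h ≫ π = h' ≫ π)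
    (hle : ⊤ ≤ h ⁻¹ᵁ (π ⁻¹ᵁ U)) (hle' : ⊤ ≤ h' ⁻¹ᵁ (π ⁻¹ᵁ U))
    (e : (Scheme.Modules.pullback h).obj O1 ≅ L) (e' : (Scheme.Modules.pullback h').obj O1 ≅ L)
    (hv : ∀ i, e.hom.app ⊤ (pU h O1 hle (sig q b i)) = e'.hom.app ⊤ (pU h' O1 hle' (sig q b i))) : h = h' := by
  haveI : Epi q := hP.epi
  haveI : (Scheme.Modules.pullback h).IsLeftAdjoint :=
    (Scheme.Modules.pullbackPushforwardAdjunction h).isLeftAdjoint
  have hgU : ⊤ ≤ (h ≫ π) ⁻¹ᵁ U := hle
  let s := (Scheme.Modules.pullbackCongr (rfl : h ≫ π = h ≫ π)).inv.app M ≫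
    (Scheme.Modules.pullbackComp h π).inv.app M ≫ (Scheme.Modules.pullback h).map q ≫ e.hom
  obtain ⟨h₀, -, huniq⟩ := hP.univ T (h ≫ π) L hL s inferInstance
  rw [huniq h ⟨rfl, e, rfl⟩]
  refine (huniq h' ⟨hh.symm, e', hom_ext_frame (h ≫ π) hb hgU fun i => ?_⟩).symm
  rw [pU_sig (h ≫ π) q h' hh.symm hle' hgU e' i, pU_sig (h ≫ π) q h rfl hle hgU e i, hv i]

section Chart

variable {m : ℕ} {b' : Fin (m + 1) → Γ(M, U)}

/-- The chart. -/
theorem exists_chart (hP : KRR.IsProjBundle π M O1 q) (hb : H23.Frame.IsFrame M b') :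
    ∃ θ : KRR.PY m (U : Scheme.{u}) ⟶ (π ⁻¹ᵁ U : P.Opens), IsIso θ ∧ θ ≫ (π ∣_ U) = KRR.pr m (U : Scheme.{u}) ∧
      Nonempty ((Scheme.Modules.pullback θ).obj ((Scheme.Modules.pullback (π ⁻¹ᵁ U).ι).obj O1) ≅
        Twist.twistOver m (U : Scheme.{u}) 1) := by
  classical
  let V : P.Opens := π ⁻¹ᵁ U
  let p := KRR.pr m (U : Scheme.{u})
  have hVle : (⊤ : (V : Scheme.{u}).Opens) ≤ V.ι ⁻¹ᵁ V := V.ι_preimage_self.ge
  have hUle : (⊤ : (KRR.PY m (U : Scheme.{u})).Opens) ≤ (p ≫ U.ι) ⁻¹ᵁ U := fun z _ => (p z).2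
  -- the tautological map of projective space
  obtain ⟨qP, hqPe, hqP⟩ := exists_taut m (U : Scheme.{u})
  have hPn := isProjBundle qP hqPe hqP
  -- β
  let O1' := (Scheme.Modules.pullback V.ι).obj O1
  have hO1' : FlatMod.IsFinLocFreeOfRank 1 O1' := LineTwist.rank_pull V.ι hP.invertible
  let t : Fin (m + 1) → Γ(O1', ⊤) := fun i => pU V.ι O1 hVle (sig q b' i)
  obtain ⟨s₁, hs₁⟩ := PBFree.exists_hom (π ∣_ U) t
  have hgen : ProjUP.GeneratedBy O1' t := fun x => by
    obtain ⟨k, hk⟩ := PBlow.exists_mem_locus q b' hb hP (p := V.ι x) x.2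
    have hfr : InvX.IsFrame (res O1' (le_top : V.ι ⁻¹ᵁ locus q b' k ≤ ⊤) (t k)) := by
      have h := isFrame_pullSec V.ι (le_refl (V.ι ⁻¹ᵁ locus q b' k)) (isFrame_sig q b' k)
      rw [pullSec_restr] at h
      rw [show res O1' (le_top : V.ι ⁻¹ᵁ locus q b' k ≤ ⊤) (t k) =
        QCoh.pullSec V.ι O1 (le_top.trans hVle) (sig q b' k) from res_pullSec V.ι le_top hVle _]
      exact h
    refine eq_top_iff.2 fun z _ => ?_
    obtain ⟨c, hc⟩ := (hfr.germ_bijective (show x ∈ V.ι ⁻¹ᵁ locus q b' k from hk)).2 z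
    rw [← hc]
    refine Submodule.smul_mem _ c (Submodule.subset_span ⟨k, ?_⟩)
    exact (InvX.germ_res' (le_top : V.ι ⁻¹ᵁ locus q b' k ≤ ⊤) hk (t k)).symm
  haveI : Epi s₁ := InvX.epi_of_generated hgen s₁
    (fun i => InvX.ofSect (pS (π ∣_ U) _ (bas (U : Scheme.{u}) (m + 1) i))) fun i => by
      show s₁.app ⊤ (InvX.one (InvX.ofSect _)) = _
      rw [InvX.one_ofSect]
      exact hs₁ i
  obtain ⟨β, ⟨hβ, eβ, heβ⟩, -⟩ := hPn.univ _ (π ∣_ U) O1' hO1' s₁ inferInstance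
  have hvβ : ∀ i, eβ.hom.app ⊤ (pS β _ (crdSec m (U : Scheme.{u}) i)) = t i := fun i => by
    rw [← hqP i]
    refine Eq.trans ?_ (hs₁ i)
    exact ((pU_sig (U := ⊤) (π ∣_ U) qP β hβ (fun _ _ => trivial) (fun _ _ => trivial) eβ i).symm).trans
      (congrArg (fun φ => Scheme.Modules.Hom.app φ ⊤ (pS (π ∣_ U) _ (bas (U : Scheme.{u}) (m + 1) i))) heβ)
  -- α
  obtain ⟨s₂, hs₂⟩ := exists_hom_to (p ≫ U.ι) hb hUle (crdSec m (U : Scheme.{u}))
  have hgen₂ : ProjUP.GeneratedBy (Twist.twistOver m (U : Scheme.{u}) 1) (crdSec m (U : Scheme.{u})) :=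
    ProjUPX.generatedBy_pullG (𝒜 := CohB1.polyGrading m R0.{u}) (KRRTw.toPn m (U : Scheme.{u}))
      (T := fun i : Fin (m + 1) => MvPolynomial.X i) (fun i => ProjPt.X_mem i) ProjUPX.cov_X
  haveI : Epi s₂ := InvX.epi_of_generated hgen₂ s₂ (fun i => InvX.ofSect (pU (p ≫ U.ι) M hUle (b' i))) fun i => by
    show s₂.app ⊤ (InvX.one (InvX.ofSect _)) = _
    rw [InvX.one_ofSect]
    exact hs₂ i
  obtain ⟨α, ⟨hα, eα, heα⟩, -⟩ := hP.univ _ (p ≫ U.ι) _ (rank_twistOver m (U : Scheme.{u})) s₂ inferInstance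
  have hαle : ⊤ ≤ α ⁻¹ᵁ V := fun z _ => by
    show (α ≫ π) z ∈ U
    rw [hα]
    exact (p z).2
  have hvα : ∀ i, eα.hom.app ⊤ (pU α O1 hαle (sig q b' i)) = crdSec m (U : Scheme.{u}) i := fun i => by
    rw [← hs₂ i]
    exact ((pU_sig (p ≫ U.ι) q α hα hαle hUle eα i).symm).trans
      (congrArg (fun φ => Scheme.Modules.Hom.app φ ⊤ (pU (p ≫ U.ι) M hUle (b' i))) heα)
  have hrange : Set.range α ⊆ Set.range V.ι := by
    rintro _ ⟨z, rfl⟩
    rw [Scheme.Opens.range_ι]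
    exact hαle (show z ∈ (⊤ : (KRR.PY m (U : Scheme.{u})).Opens) from trivial)
  let θ := IsOpenImmersion.lift V.ι α hrange
  have hθ : θ ≫ V.ι = α := IsOpenImmersion.lift_fac _ _ _
  have hθp : θ ≫ (π ∣_ U) = p := by
    rw [← cancel_mono U.ι, Category.assoc, morphismRestrict_ι, ← Category.assoc, hθ, hα]
  let eθ : (Scheme.Modules.pullback θ).obj O1' ≅ Twist.twistOver m (U : Scheme.{u}) 1 :=
    (Scheme.Modules.pullbackComp θ V.ι).app O1 ≪≫ (Scheme.Modules.pullbackCongr hθ).app O1 ≪≫ eα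
  have hvθ : ∀ i, eθ.hom.app ⊤ (pS θ O1' (t i)) = crdSec m (U : Scheme.{u}) i := fun i => by
    refine Eq.trans ?_ (hvα i)
    refine congrArg (eα.hom.app ⊤) ?_
    have h1 := pU_comp_inv θ V.ι O1 hVle (show ⊤ ≤ (θ ≫ V.ι) ⁻¹ᵁ V from fun z _ => (θ z).2) (sig q b' i)
    refine (congrArg (fun z => ((Scheme.Modules.pullbackCongr hθ).hom.app O1).app ⊤
      (((Scheme.Modules.pullbackComp θ V.ι).hom.app O1).app ⊤ z)) h1.symm).trans ?_
    refine (congrArg (((Scheme.Modules.pullbackCongr hθ).hom.app O1).app ⊤)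
      (congrArg (fun φ => Scheme.Modules.Hom.app φ ⊤ (pU (θ ≫ V.ι) O1 (show ⊤ ≤ (θ ≫ V.ι) ⁻¹ᵁ V from fun z _ => (θ z).2) (sig q b' i)))
        ((Scheme.Modules.pullbackComp θ V.ι).inv_hom_id_app O1))).trans ?_
    exact pU_congr (θ ≫ V.ι) hθ _ hαle _
  refine ⟨θ, ⟨β, ?_, ?_⟩, hθp, ⟨eθ⟩⟩
  · -- θ ≫ β = 𝟙
    let e₁ : (Scheme.Modules.pullback (θ ≫ β)).obj (Twist.twistOver m (U : Scheme.{u}) 1) ≅
        Twist.twistOver m (U : Scheme.{u}) 1 :=
      ((Scheme.Modules.pullbackComp θ β).app _).symm ≪≫ (Scheme.Modules.pullback θ).mapIso eβ ≪≫ eθ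
    refine hom_ext (U := ⊤) (T := KRR.PY m (U : Scheme.{u})) hPn H23.Frame.incl_isFrame (rank_twistOver m _)
      (θ ≫ β) (𝟙 _) (by rw [Category.assoc, hβ, hθp, Category.id_comp]) (fun _ _ => trivial) (fun _ _ => trivial)
      e₁ ((Scheme.Modules.pullbackId _).app _) fun i => ?_
    rw [hqP i]
    have hR : ((Scheme.Modules.pullbackId (KRR.PY m (U : Scheme.{u}))).app (Twist.twistOver m (U : Scheme.{u}) 1)).hom.app ⊤
        (pU (𝟙 _) (Twist.twistOver m (U : Scheme.{u}) 1) (U := ⊤) (fun _ _ => trivial) (crdSec m (U : Scheme.{u}) i)) =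
          crdSec m (U : Scheme.{u}) i := pullbackId_val _ _
    refine Eq.trans ?_ hR.symm
    refine Eq.trans ?_ (hvθ i)
    refine congrArg (eθ.hom.app ⊤) ?_
    refine Eq.trans (congrArg (((Scheme.Modules.pullback θ).map eβ.hom).app ⊤)
      (pS_comp_inv θ β (Twist.twistOver m (U : Scheme.{u}) 1) (crdSec m (U : Scheme.{u}) i))) ?_
    rw [pS_map, hvβ i]
  · -- β ≫ θ = 𝟙
    rw [← cancel_mono V.ι, Category.assoc, hθ, Category.id_comp]
    let e₂ : (Scheme.Modules.pullback (β ≫ α)).obj O1 ≅ O1' :=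
      ((Scheme.Modules.pullbackComp β α).app _).symm ≪≫ (Scheme.Modules.pullback β).mapIso eα ≪≫ eβ
    refine hom_ext (T := (V : Scheme.{u})) hP hb hO1' (β ≫ α) V.ι
      (by rw [Category.assoc, hα, ← Category.assoc, hβ, morphismRestrict_ι]) (fun z _ => hαle (show β z ∈ (⊤ : (KRR.PY m (U : Scheme.{u})).Opens) from trivial)) hVle
      e₂ (Iso.refl _) fun i => ?_
    refine Eq.trans ?_ (show t i = (Iso.refl O1').hom.app ⊤ (pU V.ι O1 hVle (sig q b' i)) from rfl)
    refine Eq.trans ?_ (hvβ i)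
    refine congrArg (eβ.hom.app ⊤) ?_
    refine Eq.trans (congrArg (((Scheme.Modules.pullback β).map eα.hom).app ⊤)
      (pU_comp_inv β α O1 hαle _ (sig q b' i))) ?_
    rw [pS_map, hvα i]

end Chart

end Groth.Agent.H28.PBChart
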