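import Groth.Agent.H28.ExcCharts
import Groth.Agent.H28.PBChart
import Groth.Agent.H28.PBAtlas
import Groth.Agent.PerfBlow.Main
import Groth.Agent.KRegLib.Closed
import Groth.Agent.KRegLib.Mor
import Groth.Agent.RelTildeX.SheafCrit
import Groth.Agent.PPSheaf.Unit
import Groth.Agent.PnLight.Chart

/-!
# The embedding of a regular blowing up into a projective bundle
-/

set_option autoImplicit false
set_option linter.style.haveILetI false
set_option linter.unusedSectionVars false
set_option backward.isDefEq.respectTransparency false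
set_option backward.isDefEq.respectTransparency.types false
set_option maxHeartbeats 1000000

universe u

open CategoryTheory CategoryTheory.Limits AlgebraicGeometry TopologicalSpace Opposite MvPolynomial

noncomputable section

namespace Groth.Agent.H28.BlowEmb

open Groth.Agent Groth.Agent.AModX Groth.Agent.PBlow

section Lift

variable {B M : Scheme.{u}} {G : B.Modules} {r : ℕ} (hG : FlatMod.IsFinLocFreeOfRank (r + 1) G)
  (u : G ⟶ Coh.structureModule B) (J : B.IdealSheafData)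
  (hJ : ∀ U : B.affineOpens, J.ideal U = Ideal.span (Set.range fun x : Γ(G, U.1) => OmegaSh.fnSect B U.1 (u.app U.1 x)))
  {b : M ⟶ B}

/-- `b^* G → O_M`. -/
def pullMap (b : M ⟶ B) : (Scheme.Modules.pullback b).obj G ⟶ Coh.structureModule M :=
  (Scheme.Modules.pullback b).map u ≫
    ((Scheme.Modules.pullbackPushforwardAdjunction b).homEquiv _ _).symm
      (SheafOfModules.unitToPushforwardObjUnit b.toRingCatSheafHom)

theorem pullMap_app (U : B.Opens) (x : Γ(G, U)) :
    (pullMap u b).app (b ⁻¹ᵁ U) (InvX.pullElt b x) =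
      OmegaSh.strSect M (b ⁻¹ᵁ U) (b.app U (OmegaSh.fnSect B U (u.app U x))) := by
  have h1 : ((Scheme.Modules.pullbackPushforwardAdjunction b).homEquiv _ _) (pullMap u b) =
      u ≫ SheafOfModules.unitToPushforwardObjUnit b.toRingCatSheafHom := by
    rw [pullMap, Adjunction.homEquiv_naturality_left, Equiv.apply_symm_apply]
  rw [Adjunction.homEquiv_unit] at h1
  exact congrArg (fun k => (Scheme.Modules.Hom.app k U) x) h1

include hJ in
theorem mem_ideal {U : B.Opens} (hU : IsAffineOpen U) (x : Γ(G, U)) :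
    OmegaSh.fnSect B U (u.app U x) ∈ J.ideal ⟨U, hU⟩ := by
  rw [hJ]
  exact Ideal.subset_span ⟨x, rfl⟩

include hJ in
theorem subschemeι_app_eq_zero (b : M ⟶ B) (U : B.Opens) (x : Γ(G, U)) :
    (J.comap b).subschemeι.app (b ⁻¹ᵁ U) (b.app U (OmegaSh.fnSect B U (u.app U x))) = 0 := by
  let ι := (J.comap b).subschemeι
  refine TopCat.Presheaf.section_ext (J.comap b).subscheme.sheaf _ _ 0 fun y hy => ?_
  obtain ⟨V, hV, hyV, hVU⟩ := exists_isAffineOpen_mem_and_subset (show b (ι y) ∈ U from hy)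
  obtain ⟨W, hW, hyW, hWV⟩ := exists_isAffineOpen_mem_and_subset (show ι y ∈ b ⁻¹ᵁ V from hyV)
  have hWU : W ≤ b ⁻¹ᵁ U := hWV.trans (b.preimage_mono hVU)
  have hmem := mem_ideal u J hJ hV (res G hVU x)
  have hres : OmegaSh.fnSect B V (u.app V (res G hVU x)) = resR hVU (OmegaSh.fnSect B U (u.app U x)) := by
    rw [app_res]
    rfl
  rw [hres] at hmem
  have h2 : b.appLE V W hWV (resR hVU (OmegaSh.fnSect B U (u.app U x))) ∈ (J.comap b).ideal ⟨W, hW⟩ := by
    rw [ModPairLib.ideal_comap J b ⟨V, hV⟩ ⟨W, hW⟩ hWV]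
    exact Ideal.mem_map_of_mem _ hmem
  rw [← (J.comap b).ker_subschemeι_app, RingHom.mem_ker] at h2
  have h3 : b.appLE V W hWV (resR hVU (OmegaSh.fnSect B U (u.app U x))) =
      resR hWU (b.app U (OmegaSh.fnSect B U (u.app U x))) := by
    refine (ConcreteCategory.congr_hom (Scheme.Hom.map_appLE b hWV (homOfLE hVU).op) _).trans ?_
    rfl
  rw [h3] at h2
  have h4 := ConcreteCategory.congr_hom (ι.naturality (homOfLE hWU).op) (b.app U (OmegaSh.fnSect B U (u.app U x)))
  have h5 : (J.comap b).subscheme.presheaf.map (homOfLE (ι.preimage_mono hWU)).op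
      (ι.app (b ⁻¹ᵁ U) (b.app U (OmegaSh.fnSect B U (u.app U x)))) = 0 := h4.symm.trans h2
  refine ((TopCat.Presheaf.germ_res_apply (J.comap b).subscheme.presheaf (homOfLE (ι.preimage_mono hWU)) y hyW _).symm.trans ?_).trans (map_zero _).symm
  exact (congrArg _ h5).trans (map_zero _)

include hJ in
theorem pullMap_toSubscheme : pullMap u b ≫ ClSub.toSubscheme (J.comap b) = 0 := by
  refine ((Scheme.Modules.pullbackPushforwardAdjunction b).homEquiv _ _).injective ?_
  rw [Adjunction.homEquiv_unit, Adjunction.homEquiv_unit, Functor.map_zero, comp_zero]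
  refine Scheme.Modules.hom_ext _ _ fun U => AddCommGrpCat.hom_ext (AddMonoidHom.ext fun x => ?_)
  show (ClSub.toSubscheme (J.comap b)).app (b ⁻¹ᵁ U) ((pullMap u b).app (b ⁻¹ᵁ U) (InvX.pullElt b x)) = 0
  rw [pullMap_app, OmegaSh.toSubscheme_app_strSect]
  exact subschemeι_app_eq_zero u J hJ b U x

/-- The lift to the exceptional ideal. -/
def lift : (Scheme.Modules.pullback b).obj G ⟶ ClSub.idealMod (J.comap b) :=
  kernel.lift _ (pullMap u b) (pullMap_toSubscheme u J hJ)

theorem lift_ι : lift u J hJ ≫ ClSub.idealModι (BlowUp.exceptional b J) = pullMap u b := kernel.lift_ι _ _ _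

theorem idealSect_lift (U : B.Opens) (x : Γ(G, U)) :
    OmegaSh.idealSect (J.comap b) (b ⁻¹ᵁ U) ((lift u J hJ).app (b ⁻¹ᵁ U) (InvX.pullElt b x)) =
      b.app U (OmegaSh.fnSect B U (u.app U x)) := by
  rw [OmegaSh.idealSect_apply]
  show OmegaSh.fnSect M _ ((lift u J hJ ≫ ClSub.idealModι (J.comap b)).app (b ⁻¹ᵁ U) (InvX.pullElt b x)) = _
  rw [show lift u J hJ ≫ ClSub.idealModι (J.comap b) = pullMap u b from lift_ι u J hJ, pullMap_app]
  rfl

include hG hJ in
theorem exists_frame (y : B) : ∃ (U : B.Opens) (hU : IsAffineOpen U) (bf : Fin (r + 1) → Γ(G, U)),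
    y ∈ U ∧ H23.Frame.IsFrame G bf ∧
      J.ideal ⟨U, hU⟩ = Ideal.span (Set.range fun l => OmegaSh.fnSect B U (u.app U (bf l))) := by
  obtain ⟨U₀, hy, ⟨i⟩⟩ := hG y
  obtain ⟨b₀, hb₀⟩ := H23.Frame.exists_frame i
  obtain ⟨U, hU, hyU, hUU⟩ := exists_isAffineOpen_mem_and_subset hy
  have hb : H23.Frame.IsFrame G fun l => G.presheaf.map (homOfLE hUU).op (b₀ l) := hb₀.res hUU
  refine ⟨U, hU, _, hyU, hb, ?_⟩
  rw [hJ]
  refine le_antisymm (Ideal.span_le.2 ?_) (Ideal.span_le.2 ?_)
  · rintro _ ⟨x, rfl⟩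
    obtain ⟨c, hc⟩ := (hb U le_rfl).2 x
    have hx : x = ∑ l, c l • G.presheaf.map (homOfLE hUU).op (b₀ l) := by
      rw [← hc]
      exact Finset.sum_congr rfl fun l _ => congrArg (c l • ·) (QCoh.map_id' _ _)
    rw [SetLike.mem_coe]
    show OmegaSh.fnSect B U (u.app U x) ∈ _
    rw [hx, map_sum, map_sum]
    refine Ideal.sum_mem _ fun l _ => ?_
    rw [Scheme.Modules.Hom.app_smul]
    exact Ideal.mul_mem_left _ (c l) (Ideal.subset_span ⟨l, rfl⟩)
  · rintro _ ⟨l, rfl⟩
    exact Ideal.subset_span ⟨_, rfl⟩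

include hG hJ in
/-- Near a point the exceptional ideal is framed by the image of a pulled back section. -/
theorem exists_frame_image (hb : BlowUp.IsBlowUp b J) (z : M) :
    ∃ (U : B.Opens) (x : Γ(G, U)) (W : M.Opens) (hW : W ≤ b ⁻¹ᵁ U), z ∈ W ∧
      InvX.IsFrame (res (ClSub.idealMod (J.comap b)) hW ((lift u J hJ).app (b ⁻¹ᵁ U) (InvX.pullElt b x))) := by
  obtain ⟨U, hU, bf, hzU, -, hspan⟩ := exists_frame hG u J hJ (b z)
  obtain ⟨j, hj⟩ := ExcCharts.cover hb hU _ hspan (z := z) hzU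
  refine ⟨U, bf j, _, ExcCharts.D_le hb hU _ hspan j, hj,
    ExcCharts.isFrame_of_gen _ (ExcCharts.D_affine hb hU _ hspan j) (ExcCharts.nonZeroDivisor hb hU _ hspan j)
      (ExcCharts.ideal_D hb hU _ hspan j) _ ?_⟩
  rw [show OmegaSh.idealSect (J.comap b) _ (res _ (ExcCharts.D_le hb hU _ hspan j) _) = _ from
    OmegaLib.idealSect_map (J.comap b) (ExcCharts.D_le hb hU _ hspan j) _, idealSect_lift, Scheme.Hom.app_eq_appLE]
  exact ConcreteCategory.congr_hom (Scheme.Hom.appLE_map b le_rfl (homOfLE (ExcCharts.D_le hb hU _ hspan j)).op) _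

include hG hJ in
theorem rank_exceptional (hb : BlowUp.IsBlowUp b J) :
    FlatMod.IsFinLocFreeOfRank 1 (ClSub.idealMod (J.comap b)) :=
  ExcCharts.rank_one_of_frames fun z => by
    obtain ⟨U, x, W, hW, hz, hfr⟩ := exists_frame_image hG u J hJ hb z
    exact ⟨W, hz, _, hfr⟩

include hG hJ in
theorem epi_lift (hb : BlowUp.IsBlowUp b J) : Epi (lift u J hJ : (Scheme.Modules.pullback b).obj G ⟶ _) := by
  refine RelTildeX.epi_of_locally _ fun V t z hz => ?_
  obtain ⟨U, x, W, hW, hzW, hfr⟩ := exists_frame_image hG u J hJ hb z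
  obtain ⟨c, hc⟩ := hfr.exists_coord (inf_le_left : W ⊓ V ≤ W) (res _ (inf_le_right : W ⊓ V ≤ V) t)
  refine ⟨W ⊓ V, inf_le_right, ⟨hzW, hz⟩, c • res _ (inf_le_left.trans hW) (InvX.pullElt b x), ?_⟩
  rw [Scheme.Modules.Hom.app_smul, app_res]
  refine Eq.trans ?_ hc.symm
  rw [res_res]

include hG hJ in
/-- The morphism to the projective bundle. -/
theorem exists_emb (hb : BlowUp.IsBlowUp b J) {P : Scheme.{u}} {π : P ⟶ B} {O1 : P.Modules}
    {q : (Scheme.Modules.pullback π).obj G ⟶ O1} (hP : KRR.IsProjBundle π G O1 q) :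
    ∃ (g : M ⟶ P) (hg : g ≫ π = b)
      (e : (Scheme.Modules.pullback g).obj O1 ≅ ClSub.idealMod (BlowUp.exceptional b J)),
      (Scheme.Modules.pullbackCongr hg).inv.app G ≫ (Scheme.Modules.pullbackComp g π).inv.app G ≫
          (Scheme.Modules.pullback g).map q ≫ e.hom ≫ ClSub.idealModι (BlowUp.exceptional b J) =
        (Scheme.Modules.pullback b).map u ≫
          ((Scheme.Modules.pullbackPushforwardAdjunction b).homEquiv _ _).symm
            (SheafOfModules.unitToPushforwardObjUnit b.toRingCatSheafHom) := by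
  haveI := epi_lift hG u J hJ hb
  obtain ⟨g, ⟨hg, e, he⟩, -⟩ := hP.univ M b _ (rank_exceptional hG u J hJ hb) (lift u J hJ) inferInstance
  refine ⟨g, hg, e, ?_⟩
  have h := congrArg (· ≫ ClSub.idealModι (BlowUp.exceptional b J)) he
  simp only [Category.assoc] at h
  exact h.trans (lift_ι u J hJ)

end Lift

section Closed

variable {X X' P : Scheme.{u}} {E : X.Modules} {u : E ⟶ Coh.structureModule X} {J : X.IdealSheafData}
  {π : P ⟶ X} {O1 : P.Modules} {q : (Scheme.Modules.pullback π).obj E ⟶ O1}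
  {f : X' ⟶ X} {j : X' ⟶ P} (hjπ : j ≫ π = f)
  (e : (Scheme.Modules.pullback j).obj O1 ≅ ClSub.idealMod (BlowUp.exceptional f J))
  (hcomp : (Scheme.Modules.pullbackCongr hjπ).inv.app E ≫ (Scheme.Modules.pullbackComp j π).inv.app E ≫
      (Scheme.Modules.pullback j).map q ≫ e.hom ≫ ClSub.idealModι (BlowUp.exceptional f J) =
    (Scheme.Modules.pullback f).map u ≫
      ((Scheme.Modules.pullbackPushforwardAdjunction f).homEquiv _ _).symm
        (SheafOfModules.unitToPushforwardObjUnit f.toRingCatSheafHom))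
  {U : X.Opens} {m : ℕ} (b : Fin (m + 1) → Γ(E, U)) (k : Fin (m + 1))

include hcomp in
/-- On a chart of the bundle, generators of the ideal suffice for a closed immersion. -/
theorem chart_closed (hb : H23.Frame.IsFrame E b) (hP : KRR.IsProjBundle π E O1 q) (hf : BlowUp.IsBlowUp f J)
    (hU : IsAffineOpen U) (a : Fin (m + 1) → Γ(X, U)) (ha : ∀ i, (show Γ(X, U) from u.app U (b i)) = a i)
    (hJ : J.ideal ⟨U, hU⟩ = Ideal.span (Set.range a)) :
    IsAffineOpen (locus q b k) ∧ IsClosedImmersion (j ∣_ locus q b k) := by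
  obtain ⟨hV, -⟩ := chart_iso q b k hb hP hU
  let V := locus q b k
  let D : X'.Opens := j ⁻¹ᵁ V
  let Ca := CommRingCat.of (RegBlow6.chartAlg a k)
  let φ : Γ(X, U) ⟶ Ca := CommRingCat.ofHom (algebraMap Γ(X, U) (RegBlow6.chartAlg a k))
  let c := ExcCharts.chart hf hU a hJ k
  have hcf : c ≫ f = Spec.map φ ≫ hU.fromSpec := ExcCharts.chart_comp hf hU a hJ k
  have hle1 : D ≤ c.opensRange := by
    intro z hz
    obtain ⟨W, hW, hzW, hWD⟩ := exists_isAffineOpen_mem_and_subset (show z ∈ D from hz)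
    have hWf : W ≤ f ⁻¹ᵁ U := (show W ≤ D from hWD).trans (preimage_locus_le hjπ b k)
    have hJW : (J.comap f).ideal ⟨W, hW⟩ = Ideal.span {f.appLE U W hWf (a k)} := by
      rw [ModPairLib.ideal_comap J f ⟨U, hU⟩ ⟨W, hW⟩ hWf, hJ, Ideal.map_span]
      refine le_antisymm (Ideal.span_le.2 ?_) ((Ideal.span_singleton_le_iff_mem _).2
        (Ideal.subset_span ⟨a k, ⟨k, rfl⟩, rfl⟩))
      rintro _ ⟨_, ⟨i, rfl⟩, rfl⟩
      refine Ideal.mem_span_singleton'.2 ⟨j.appLE V W hWD (ratio q b k i), ?_⟩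
      rw [← ha i, ← ha k]
      exact (relation hjπ e hcomp b k hWD hWf i).symm
    exact ExcCharts.mem_D hf hU a hJ k hW hWf hJW hzW
  have hdiv : ∀ i, ∃ x : Ca, x * φ (a k) = φ (a i) := fun i => by
    have hmem : algebraMap Γ(X, U) (RegBlow6.chartAlg a k) (a i) ∈ RegBlow6.exc a k :=
      Ideal.mem_map_of_mem _ (RegBlow6.mem_cI a i)
    rw [RegBlow6.exc_eq, Ideal.mem_span_singleton'] at hmem
    exact hmem
  have hle2 : c.opensRange ≤ D := range_le_preimage hjπ e hcomp b k hU φ c hcf a ha hb hP hdiv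
  have hDaff : IsAffineOpen D := (le_antisymm hle1 hle2) ▸ isAffineOpen_opensRange c
  have htop : (⊤ : (Spec Ca).Opens) ≤ c ⁻¹ᵁ D := fun w _ => hle2 ⟨w, rfl⟩
  have hbijD := appLE_bijective c htop hle1
  have hnzd : ∀ z : Ca, z * φ (a k) = 0 → z = 0 := fun z hz =>
    Subtype.ext (mem_nonZeroDivisors_iff_right.mp
      (IsLocalization.Away.algebraMap_isUnit (S := Localization.Away (a k)) (a k)).mem_nonZeroDivisors z.1
      (congrArg Subtype.val hz))
  have hρ := appLE_coordHom hjπ e hcomp b k hU φ c hcf a ha htop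
      (fun i => RegBlow6.coord a k ⟨k.succAbove i, Fin.succAbove_ne k i⟩)
      (fun i => RegBlow6.coord_mul a k ⟨k.succAbove i, Fin.succAbove_ne k i⟩) hnzd
  have hsurj : Function.Surjective (j.app V) := fun y => by
    obtain ⟨x, hx⟩ := ((ConcreteCategory.bijective_of_isIso (Scheme.ΓSpecIso Ca).inv).2.comp
      (pres_surjective a k)) (c.appLE D ⊤ htop y)
    exact ⟨coordHom q b k x, hbijD.1 ((RingHom.congr_fun hρ x).trans hx)⟩
  refine ⟨hV, ?_⟩
  haveI : IsAffine (V : P.Opens).toScheme := hV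
  haveI : IsAffine (j ⁻¹ᵁ V).toScheme := hDaff
  refine IsClosedImmersion.of_surjective_of_isAffine (j ∣_ V) ?_
  rw [morphismRestrict_appTop]
  refine (ConcreteCategory.bijective_of_isIso
    (X'.presheaf.map (eqToHom (image_morphismRestrict_preimage j V ⊤)).op)).2.comp ?_
  have key : ∀ W : P.Opens, W = V → Function.Surjective (j.app W) := fun W h => by subst h; exact hsurj
  exact key _ V.ι_image_top

include hcomp in
theorem isClosedImmersion_emb {r : ℕ} (hE : FlatMod.IsFinLocFreeOfRank (r + 1) E)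
    (hJ : ∀ U : X.affineOpens, J.ideal U = Ideal.span (Set.range fun x : Γ(E, U.1) => OmegaSh.fnSect X U.1 (u.app U.1 x)))
    (hP : KRR.IsProjBundle π E O1 q) (hf : BlowUp.IsBlowUp f J) : IsClosedImmersion j :=
  isClosedImmersion_of_charts j fun p => by
    obtain ⟨U, hU, bf, hpU, hbf, hspan⟩ := exists_frame hE u J hJ (π p)
    obtain ⟨k, hk⟩ := exists_mem_locus q bf hbf hP (p := p) hpU
    obtain ⟨hV, hcl⟩ := chart_closed hjπ e hcomp bf k hbf hP hf hU (fun l => OmegaSh.fnSect X U (u.app U (bf l)))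
      (fun _ => rfl) hspan
    exact ⟨⟨_, hV⟩, hk, hcl⟩

end Closed

section Koszul

variable {X X' : Scheme.{u}} {f : X' ⟶ X}

theorem isKoszulAt_chart {J : X.IdealSheafData} (hf : BlowUp.IsBlowUp f J) {U : X.Opens} (hU : IsAffineOpen U)
    {n : ℕ} (a : Fin n → Γ(X, U)) (ha : WiebeLib.IsExact a) (hJ : J.ideal ⟨U, hU⟩ = Ideal.span (Set.range a))
    {x : X'} (hx : f x ∈ U) : Synt.IsKoszulAt f x := by
  obtain ⟨k, hk⟩ := ExcCharts.cover hf hU a hJ hx
  obtain ⟨m, rfl⟩ : ∃ m, n = m + 1 := ⟨n - 1, by have := k.2; omega⟩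
  refine KRegLib.isKoszulAt_of_chart f x _ (ExcCharts.D_affine hf hU a hJ k) U hU (ExcCharts.D_le hf hU a hJ k) hk ?_
  letI := (f.appLE U (ExcCharts.D hf hU a hJ k) (ExcCharts.D_le hf hU a hJ k)).hom.toAlgebra
  exact PerfBlow.isLCI_chart a k ha
    (AlgEquiv.ofRingEquiv (f := ExcCharts.eqv hf hU a hJ k) (ExcCharts.eqv_algebraMap hf hU a hJ k))

/-- A blowing up in a regular centre is a local complete intersection morphism. -/
theorem isKoszulAt {Y : Scheme.{u}} {i : Y ⟶ X} (hi : Mor2.IsRegularClosedImmersion i)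
    (hf : BlowUp.IsBlowUp f i.ker) (x : X') : Synt.IsKoszulAt f x := by
  haveI := hi.1
  by_cases hx : f x ∈ Set.range i
  · obtain ⟨z, hz⟩ := hx
    obtain ⟨U, hU, hzU, rs, hrs, hI⟩ := hi.2 z
    refine isKoszulAt_chart hf hU rs.get ?_ ?_ (hz ▸ hzU)
    · exact WiebeLib.isExact_of_isKoszulRegularSeq _
        (by rw [List.ofFn_get]; exact (Groth.Agent.S15821.result _ rs hrs.toIsWeaklyRegular).1)
    · rw [hI, Set.range_list_get]
  · obtain ⟨U, hU, hxU, hUi⟩ := exists_isAffineOpen_mem_and_subset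
      (show f x ∈ (⟨(Set.range i)ᶜ, i.isClosedEmbedding.isClosed_range.isOpen_compl⟩ : X.Opens) from hx)
    refine isKoszulAt_chart (n := 1) hf hU (fun _ => 1) ?_ ?_ hxU
    · exact KRegLib.isExact_of_span_eq_top (by rw [Set.range_const, Ideal.span_singleton_one])
    · rw [Set.range_const, Ideal.span_singleton_one]
      refine BlowUpX.ideal_eq_top_of_disjoint i.ker ⟨U, hU⟩ fun z hz hz' => ?_
      refine hUi hz ?_
      rw [Scheme.Hom.support_ker, i.isClosedEmbedding.isClosed_range.closure_eq] at hz'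
      exact hz'

/-- An immersion into a smooth scheme over the base of a regular blowing up is regular. -/
theorem isRegular_of_smooth {Y P : Scheme.{u}} {i : Y ⟶ X} (hi : Mor2.IsRegularClosedImmersion i)
    (hf : BlowUp.IsBlowUp f i.ker) (j : X' ⟶ P) [IsClosedImmersion j] [IsLocallyNoetherian P] (π : P ⟶ X) [Smooth π]
    (h : j ≫ π = f) : Mor2.IsRegularClosedImmersion j :=
  KRegLib.regClosed_of_isKoszulAt j fun z =>
    KRegLib.isKoszulAt_of_comp_smooth j π (by rw [h]; exact fun x => isKoszulAt hi hf x) z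

end Koszul

theorem smooth_pr (n : ℕ) (Y : Scheme.{u}) : Smooth (KRR.pr n Y) := by
  haveI : SmoothOfRelativeDimension n (CohB1.ProjSpace.toSpec n (ULift.{u} ℤ)) :=
    PnLight.smoothOfRelativeDimension_toSpec n _
  haveI : Smooth (CohB1.ProjSpace.toSpec n (ULift.{u} ℤ)) := SmoothOfRelativeDimension.smooth n _
  exact MorphismProperty.pullback_snd (P := @Smooth) _ _ inferInstance

/-- A projective bundle is smooth. -/
theorem smooth_projBundle {B P : Scheme.{u}} {G : B.Modules} {r : ℕ} {π : P ⟶ B} {O1 : P.Modules}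
    {q : (Scheme.Modules.pullback π).obj G ⟶ O1} (hG : FlatMod.IsFinLocFreeOfRank (r + 1) G)
    (hP : KRR.IsProjBundle π G O1 q) : Smooth π := by
  choose U hU i using hG
  refine (IsZariskiLocalAtTarget.iff_of_iSup_eq_top (P := @Smooth) U
    (top_le_iff.1 fun y _ => Opens.mem_iSup.2 ⟨y, hU y⟩)).2 fun y => ?_
  obtain ⟨b', hb'⟩ := H23.Frame.exists_frame (i y).some
  obtain ⟨θ, hθ, hc, -⟩ := PBChart.exists_chart hP hb'
  haveI := hθ
  haveI := smooth_pr r (U y : Scheme.{u})
  rw [show π ∣_ U y = inv θ ≫ KRR.pr r (U y : Scheme.{u}) by rw [← hc, IsIso.inv_hom_id_assoc]]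
  infer_instance

end Groth.Agent.H28.BlowEmb
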