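import Groth.Agent.PBlow.Main
import Groth.Agent.H28.TorPull
import Groth.Agent.Lib.InvEnd
import Groth.Agent.OmegaLib.IdealMod
import Groth.Agent.MeroX.Basic
import Groth.Agent.PinchPO7.FrameLemmas

/-!
# Charts of a blowing up over an affine open with a regular system of equations
-/

set_option autoImplicit false
set_option linter.style.haveILetI false
set_option linter.unusedSectionVars false
set_option backward.isDefEq.respectTransparency false
set_option backward.isDefEq.respectTransparency.types false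
set_option maxHeartbeats 1000000

universe u

open CategoryTheory CategoryTheory.Limits AlgebraicGeometry TopologicalSpace Opposite MvPolynomial

noncomputable section

namespace Groth.Agent.H28.ExcCharts

open Groth.Agent Groth.Agent.AModX

/-- A nonzerodivisor generating the ideal on an affine open frames the ideal module. -/
theorem isFrame_of_gen {S : Scheme.{u}} (I : S.IdealSheafData) {U : S.Opens} (hU : IsAffineOpen U) {f : Γ(S, U)}
    (hf : f ∈ nonZeroDivisors Γ(S, U)) (hI : I.ideal ⟨U, hU⟩ = Ideal.span {f}) (e : Γ(ClSub.idealMod I, U))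
    (he : OmegaSh.idealSect I U e = f) : InvX.IsFrame e := fun V hV => by
  have hinj : ∀ (W : S.Opens) (hW : W ≤ U) (r r' : Γ(S, W)),
      r • AModX.res _ hW e = r' • AModX.res _ hW e → r = r' := by
    intro W hW r r' hr
    have h1 := congrArg (OmegaSh.idealSect I W) hr
    have h2 : OmegaSh.idealSect I W (AModX.res _ hW e) = AModX.resR hW f := by
      rw [← he]
      exact OmegaLib.idealSect_map I hW e
    rw [OmegaLib.idealSect_smul, OmegaLib.idealSect_smul, h2] at h1
    refine TopCat.Presheaf.section_ext S.sheaf W r r' fun y hy => ?_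
    have h3 : S.presheaf.germ W y hy r * S.presheaf.germ W y hy (AModX.resR hW f) =
        S.presheaf.germ W y hy r' * S.presheaf.germ W y hy (AModX.resR hW f) := by
      rw [← map_mul, ← map_mul, h1]
    rw [InvX.germ_resR' hW hy f] at h3
    exact (mul_cancel_right_mem_nonZeroDivisors (MeroX.germ_mem_nonZeroDivisors hU hf y (hW hy))).1 h3
  refine ⟨fun r r' hr => hinj V hV r r' hr, fun z => ?_⟩
  have hloc : ∀ p : V, ∃ (W : S.Opens) (hW : W ≤ V) (_ : p.1 ∈ W) (r : Γ(S, W)),
      AModX.res _ hW z = r • AModX.res _ (hW.trans hV) e := fun p => by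
    obtain ⟨W, hW, hpW, hWV⟩ := exists_isAffineOpen_mem_and_subset p.2
    have hmem := OmegaLib.idealSect_mem I ⟨W, hW⟩ (AModX.res _ hWV z)
    rw [← I.map_ideal (U := ⟨W, hW⟩) (V := ⟨U, hU⟩) (show W ≤ U from le_trans hWV hV), hI, Ideal.map_span,
      Set.image_singleton, Ideal.mem_span_singleton'] at hmem
    obtain ⟨r, hr⟩ := hmem
    refine ⟨W, hWV, hpW, r, OmegaLib.idealSect_injective I W ?_⟩
    rw [OmegaLib.idealSect_smul, show OmegaSh.idealSect I W (AModX.res _ (le_trans hWV hV) e) = _ from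
      OmegaLib.idealSect_map I _ e, he]
    exact hr.symm
  choose W hW hpW r hr using hloc
  obtain ⟨R, hR, -⟩ := TopCat.Sheaf.existsUnique_gluing' S.sheaf W V (fun p => homOfLE (hW p))
    (fun p hp => TopologicalSpace.Opens.mem_iSup.2 ⟨⟨p, hp⟩, hpW ⟨p, hp⟩⟩) r fun p q => by
      apply hinj _ (inf_le_left.trans ((hW p).trans hV))
      have h1 := congrArg (AModX.res _ (inf_le_left : W p ⊓ W q ≤ W p)) (hr p)
      have h2 := congrArg (AModX.res _ (inf_le_right : W p ⊓ W q ≤ W q)) (hr q)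
      rw [AModX.res_res, AModX.res_smul, AModX.res_res] at h1 h2
      exact h1.symm.trans h2
  refine ⟨R, AModX.eq_of_locally _ _ fun p hp => ⟨W ⟨p, hp⟩, hW _, hpW _, ?_⟩⟩
  rw [AModX.res_smul, AModX.res_res, hr]
  exact congrArg (· • _) (hR ⟨p, hp⟩)

/-- Modules with local frames of length one are lines. -/
theorem rank_one_of_frames {S : Scheme.{u}} {L : S.Modules}
    (h : ∀ x : S, ∃ (U : S.Opens) (_ : x ∈ U) (e : Γ(L, U)), InvX.IsFrame e) : FlatMod.IsFinLocFreeOfRank 1 L :=
  fun x => InvEnd.isFinLocFreeOfRank_one (InvX.isInvertible_of_frames fun y =>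
    (h y).imp fun _ hU => hU.choose_spec.elim fun e he => ⟨hU.choose, e, he⟩) x

section Cn

variable {P X : Scheme.{u}} (ι : X ⟶ P) [IsClosedImmersion ι]

/-- The class in the conormal sheaf of a section of the ideal. -/
def cn {W : P.Opens} (k : Γ(ClSub.idealMod ι.ker, W)) : Γ(Omega.conormal ι, ι ⁻¹ᵁ W) :=
  ((Scheme.Modules.pullbackPushforwardAdjunction ι).unit.app (ClSub.idealMod ι.ker)).app W k

theorem cn_add {W : P.Opens} (k k' : Γ(ClSub.idealMod ι.ker, W)) : cn ι (k + k') = cn ι k + cn ι k' :=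
  map_add (((Scheme.Modules.pullbackPushforwardAdjunction ι).unit.app (ClSub.idealMod ι.ker)).app W).hom k k'

theorem cn_smul {W : P.Opens} (r : Γ(P, W)) (k : Γ(ClSub.idealMod ι.ker, W)) : cn ι (r • k) = ι.app W r • cn ι k :=
  (Scheme.Modules.Hom.app_smul
    ((Scheme.Modules.pullbackPushforwardAdjunction ι).unit.app (ClSub.idealMod ι.ker)) r k).trans
    (QCoh.pushforward_smul ι W r _)

theorem cn_sum {W : P.Opens} {σ : Type*} (s : Finset σ) (k : σ → Γ(ClSub.idealMod ι.ker, W)) :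
    cn ι (∑ i ∈ s, k i) = ∑ i ∈ s, cn ι (k i) := map_sum (AddMonoidHom.mk' (cn ι (W := W)) (cn_add ι)) _ _

theorem cn_res {W V : P.Opens} (h : V ≤ W) (h' : ι ⁻¹ᵁ V ≤ ι ⁻¹ᵁ W) (k : Γ(ClSub.idealMod ι.ker, W)) :
    res (Omega.conormal ι) h' (cn ι k) = cn ι (res (ClSub.idealMod ι.ker) h k) :=
  (app_res ((Scheme.Modules.pullbackPushforwardAdjunction ι).unit.app (ClSub.idealMod ι.ker)) h k).symm

theorem cn_surjective {W : P.Opens} (hW : IsAffineOpen W) : Function.Surjective (cn ι (W := W)) :=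
  (QCoh.unit_app_closed ι (QCoh.isQCoh_kernel (PnCoh.isQCoh_structureModule P)
    (QCoh.isQCoh_pushforward ι.ker.subschemeι (PnCoh.isQCoh_structureModule _)) _) hW).1

end Cn

section Local

variable {Z B : Scheme.{u}} (i : Z ⟶ B) [IsClosedImmersion i] [IsLocallyNoetherian B]

/-- A regular system of equations near a point with its frame of the conormal module. -/
theorem exists_local (hi : Mor2.IsRegularClosedImmersion i) {d : ℕ}
    (hC : FlatMod.IsFinLocFreeOfRank d (Omega.conormal i)) (z : Z) :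
    ∃ (U : B.Opens) (hU : IsAffineOpen U) (_ : i z ∈ U) (n : ℕ) (a : Fin n → Γ(B, U))
      (k : Fin n → Γ(ClSub.idealMod i.ker, U)), n = d ∧ (∀ l, OmegaSh.idealSect i.ker U (k l) = a l) ∧
        i.ker.ideal ⟨U, hU⟩ = Ideal.span (Set.range a) ∧ WiebeLib.IsExact a ∧
          H23.Frame.IsFrame (Omega.conormal i) fun l => cn i (k l) := by
  obtain ⟨U, hU, hzU, rs, hrs, hideal⟩ := hi.2 z
  have hideal' : RingHom.ker (i.app U).hom = Ideal.ofList rs := (Scheme.Hom.ker_apply i ⟨U, hU⟩).symm.trans hideal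
  have h1 := KRegLib.seq_of_isRegular RegImm.Kind.h1 rs hrs
  obtain ⟨g, hg⟩ := RegConormal.exists_freeIso_conormal i ⟨U, hU⟩ inferInstance rs hideal' fun y hy a ha l => by
    letI : Algebra Γ(B, U) (B.presheaf.stalk (i y)) := (B.presheaf.germ U (i y) hy).hom.toAlgebra
    haveI : IsLocalization.AtPrime (B.presheaf.stalk (i y)) (hU.primeIdealOf ⟨i y, hy⟩).asIdeal :=
      hU.isLocalization_stalk ⟨i y, hy⟩
    have hf := RegConormal.isH1Regular_localization (B := B.presheaf.stalk (i y))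
      (hU.primeIdealOf ⟨i y, hy⟩).asIdeal.primeCompl rs.get h1
    have hK : RingHom.ker (i.stalkMap y).hom =
        Ideal.span (Set.range fun l => algebraMap Γ(B, U) (B.presheaf.stalk (i y)) (rs.get l)) := by
      rw [KRRPush.ker_stalkMap i y hU hy, Scheme.Hom.ker_apply, hideal',
        show Ideal.ofList rs = Ideal.span (Set.range rs.get) from congrArg Ideal.span (Set.range_list_get rs).symm,
        Ideal.map_span, ← Set.range_comp]
      rfl
    rw [hK] at ha ⊢
    exact RegConormal.coeff_mem_of_h1 _ hf a ha l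
  have hlen : rs.length = d := by
    have hfree : FlatMod.IsFinLocFreeOfRank rs.length (FlatMod.freeMod Z rs.length) := fun z' =>
      ⟨⊤, trivial, ⟨QCoh.freeModRestrict _ _⟩⟩
    have ha := (ConsPropLib.isFinLocFreeOfRank_iso (asIso g)).1
      (ConsPropLib.isFinLocFreeOfRank_restrict (i ⁻¹ᵁ U).ι hfree)
    have hb := ConsPropLib.isFinLocFreeOfRank_restrict (i ⁻¹ᵁ U).ι hC
    exact ((ConsPropLib.isFinLocFreeOfRank_iff.1 ha).2 ⟨z, hzU⟩).symm.trans
      ((ConsPropLib.isFinLocFreeOfRank_iff.1 hb).2 ⟨z, hzU⟩)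
  obtain ⟨s', hs'⟩ := H23.Frame.exists_frame ((asIso g).symm ≪≫ QCoh.freeModRestrict _ _)
  choose k hk using fun l => OmegaUniv.exists_idealSect_of_app_eq_zero i U (rs.get l)
    (RingHom.mem_ker.1 (hideal' ▸ Ideal.subset_span (List.get_mem rs l)))
  refine ⟨U, hU, hzU, rs.length, rs.get, k, hlen, hk, hideal.trans (congrArg Ideal.span (Set.range_list_get rs).symm),
    KRegLib.isExact_of_isWeaklyRegular _ (by rw [List.ofFn_get]; exact hrs.toIsWeaklyRegular),
    PinchPO7.isFrame_of_span hs' fun l => ?_⟩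
  obtain ⟨k', hk'⟩ := cn_surjective i hU (s' l)
  have hmem : OmegaSh.idealSect i.ker U k' ∈ Ideal.span (Set.range rs.get) := by
    rw [show Ideal.span (Set.range rs.get) = Ideal.ofList rs from congrArg Ideal.span (Set.range_list_get rs),
      ← hideal']
    exact OmegaUniv.app_idealSect i U k'
  obtain ⟨c, hc⟩ := Ideal.mem_span_range_iff_exists_fun.1 hmem
  have hsum : k' = ∑ j, c j • k j := OmegaLib.idealSect_injective i.ker U (by
    rw [map_sum]
    refine hc.symm.trans (Finset.sum_congr rfl fun j _ => ?_)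
    rw [OmegaLib.idealSect_smul, hk])
  refine ⟨fun j => i.app U (c j), ?_⟩
  rw [← hk', hsum, cn_sum]
  refine Finset.sum_congr rfl fun j _ => ?_
  rw [cn_smul]
  exact congrArg (i.app U (c j) • ·) (res_self _)

end Local

section Chart

variable {B M : Scheme.{u}} {J : B.IdealSheafData} {b : M ⟶ B} (hb : BlowUp.IsBlowUp b J)
  {U : B.Opens} (hU : IsAffineOpen U) {n : ℕ} (a : Fin n → Γ(B, U)) (hJ : J.ideal ⟨U, hU⟩ = Ideal.span (Set.range a))
  (j : Fin n)

/-- The chart. -/
def chart : Spec (CommRingCat.of (RegBlow6.chartAlg a j)) ⟶ M :=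
  (PBlow.exists_blowUp_chart hb hU (RegBlow6.cI a) hJ ⟨a j, RegBlow6.mem_cI a j⟩).choose

instance isOpenImmersion_chart : IsOpenImmersion (chart hb hU a hJ j) :=
  (PBlow.exists_blowUp_chart hb hU (RegBlow6.cI a) hJ ⟨a j, RegBlow6.mem_cI a j⟩).choose_spec.choose

theorem chart_comp : chart hb hU a hJ j ≫ b =
    Spec.map (CommRingCat.ofHom (algebraMap Γ(B, U) (RegBlow6.chartAlg a j))) ≫ hU.fromSpec :=
  (PBlow.exists_blowUp_chart hb hU (RegBlow6.cI a) hJ ⟨a j, RegBlow6.mem_cI a j⟩).choose_spec.choose_spec.1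

/-- The open of the chart. -/
def D : M.Opens := (chart hb hU a hJ j).opensRange

theorem mem_D {W : M.Opens} (hW : IsAffineOpen W) (hWf : W ≤ b ⁻¹ᵁ U)
    (h : (J.comap b).ideal ⟨W, hW⟩ = Ideal.span {b.appLE U W hWf (a j)}) {z : M} (hz : z ∈ W) : z ∈ D hb hU a hJ j :=
  (PBlow.exists_blowUp_chart hb hU (RegBlow6.cI a) hJ ⟨a j, RegBlow6.mem_cI a j⟩).choose_spec.choose_spec.2 W hW hWf h z hz

theorem D_le : D hb hU a hJ j ≤ b ⁻¹ᵁ U :=
  PBlow.opensRange_le hU (CommRingCat.ofHom (algebraMap Γ(B, U) (RegBlow6.chartAlg a j))) (chart hb hU a hJ j)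
    (chart_comp hb hU a hJ j)

theorem D_affine : IsAffineOpen (D hb hU a hJ j) := isAffineOpen_opensRange (chart hb hU a hJ j)

theorem top_le : (⊤ : (Spec (CommRingCat.of (RegBlow6.chartAlg a j))).Opens) ≤
    (chart hb hU a hJ j) ⁻¹ᵁ (D hb hU a hJ j) := fun w _ => ⟨w, rfl⟩

/-- The functions on the chart. -/
def eqv : (RegBlow6.chartAlg a j) ≃+* Γ(M, D hb hU a hJ j) :=
  ((Scheme.ΓSpecIso (CommRingCat.of (RegBlow6.chartAlg a j))).symm.commRingCatIsoToRingEquiv).trans
    (RingEquiv.ofBijective ((chart hb hU a hJ j).appLE (D hb hU a hJ j) ⊤ (top_le hb hU a hJ j)).hom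
      (PBlow.appLE_bijective (chart hb hU a hJ j) (top_le hb hU a hJ j) le_rfl)).symm

theorem eqv_algebraMap (x : Γ(B, U)) :
    eqv hb hU a hJ j (algebraMap Γ(B, U) (RegBlow6.chartAlg a j) x) =
      b.appLE U (D hb hU a hJ j) (D_le hb hU a hJ j) x := by
  let c := chart hb hU a hJ j
  have hbij := PBlow.appLE_bijective c (top_le hb hU a hJ j) le_rfl
  let e := RingEquiv.ofBijective (c.appLE (D hb hU a hJ j) ⊤ (top_le hb hU a hJ j)).hom hbij
  show e.symm ((Scheme.ΓSpecIso (CommRingCat.of (RegBlow6.chartAlg a j))).inv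
    (algebraMap Γ(B, U) (RegBlow6.chartAlg a j) x)) = _
  rw [RingEquiv.symm_apply_eq]
  exact (PBlow.appLE_chart hU (CommRingCat.ofHom (algebraMap Γ(B, U) (RegBlow6.chartAlg a j))) c
    (chart_comp hb hU a hJ j) x _ (D_le hb hU a hJ j) (top_le hb hU a hJ j)).symm

/-- The equation on the chart is a nonzerodivisor. -/
theorem nonZeroDivisor : b.appLE U (D hb hU a hJ j) (D_le hb hU a hJ j) (a j) ∈ nonZeroDivisors Γ(M, D hb hU a hJ j) := by
  rw [mem_nonZeroDivisors_iff_right]
  intro z hz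
  obtain ⟨z, rfl⟩ := (eqv hb hU a hJ j).surjective z
  rw [← eqv_algebraMap, ← map_mul, map_eq_zero_iff _ (eqv hb hU a hJ j).injective] at hz
  have h0 : z = 0 := Subtype.ext (mem_nonZeroDivisors_iff_right.mp
    (IsLocalization.Away.algebraMap_isUnit (S := Localization.Away (a j)) (a j)).mem_nonZeroDivisors z.1
    (congrArg Subtype.val hz))
  rw [h0, map_zero]

/-- The exceptional ideal on the chart. -/
theorem ideal_D : (J.comap b).ideal ⟨D hb hU a hJ j, D_affine hb hU a hJ j⟩ =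
    Ideal.span {b.appLE U (D hb hU a hJ j) (D_le hb hU a hJ j) (a j)} := by
  rw [ModPairLib.ideal_comap J b ⟨U, hU⟩ ⟨_, D_affine hb hU a hJ j⟩ (D_le hb hU a hJ j), hJ]
  have h : (b.appLE U (D hb hU a hJ j) (D_le hb hU a hJ j)).hom =
      (eqv hb hU a hJ j).toRingHom.comp (algebraMap Γ(B, U) (RegBlow6.chartAlg a j)) :=
    RingHom.ext fun x => (eqv_algebraMap hb hU a hJ j x).symm
  rw [h, ← Ideal.map_map,
    show (Ideal.span (Set.range a)).map (algebraMap Γ(B, U) (RegBlow6.chartAlg a j)) = RegBlow6.exc a j from rfl,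
    RegBlow6.exc_eq, Ideal.map_span, Set.image_singleton]
  exact congrArg (fun v => Ideal.span {v}) (eqv_algebraMap hb hU a hJ j (a j))

include hJ in
/-- The charts cover. -/
theorem cover {z : M} (hz : z ∈ b ⁻¹ᵁ U) : ∃ j, z ∈ D hb hU a hJ j := by
  obtain ⟨⟨W₀, hW₀⟩, hzW₀, f, hf, hW₀I⟩ := hb.1 z
  obtain ⟨g, hgle, hzg⟩ := hW₀.exists_basicOpen_le ⟨z, show z ∈ b ⁻¹ᵁ U from hz⟩ hzW₀
  let W : M.Opens := M.basicOpen g
  have hW : IsAffineOpen W := hW₀.basicOpen g
  let f' : Γ(M, W) := M.presheaf.map (homOfLE (M.basicOpen_le g)).op f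
  have hf' : f' ∈ nonZeroDivisors Γ(M, W) := by
    letI := (M.presheaf.map (homOfLE (M.basicOpen_le g)).op).hom.toAlgebra
    haveI : IsLocalization.Away g Γ(M, W) := hW₀.isLocalization_basicOpen g
    exact IsLocalization.nonZeroDivisors_le_comap (Submonoid.powers g) Γ(M, W) hf
  have hWI : (J.comap b).ideal ⟨W, hW⟩ = Ideal.span {f'} := by
    rw [← (J.comap b).map_ideal (U := ⟨W, hW⟩) (V := ⟨W₀, hW₀⟩) (M.basicOpen_le g), hW₀I, Ideal.map_span,
      Set.image_singleton]
    rfl
  let a' : Fin n → Γ(M, W) := fun l => b.appLE U W hgle (a l)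
  have hsp : Ideal.span {f'} = Ideal.span (Set.range a') := by
    rw [← hWI, ModPairLib.ideal_comap J b ⟨U, hU⟩ ⟨W, hW⟩ hgle, hJ, Ideal.map_span, ← Set.range_comp]
    rfl
  have hu : ∀ l, ∃ u, u * f' = a' l := fun l =>
    Ideal.mem_span_singleton'.1 (hsp.ge (Ideal.subset_span ⟨l, rfl⟩))
  choose u hu using hu
  obtain ⟨v, hv⟩ := Ideal.mem_span_range_iff_exists_fun.1 (hsp.le (Ideal.mem_span_singleton_self f'))
  have h1 : ∑ l, v l * u l = 1 := by
    refine (mul_cancel_right_mem_nonZeroDivisors hf').1 ?_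
    rw [one_mul, Finset.sum_mul]
    refine Eq.trans (Finset.sum_congr rfl fun l _ => ?_) hv
    rw [mul_assoc, hu]
  obtain ⟨l, hl⟩ : ∃ l, z ∈ M.basicOpen (u l) := by
    by_contra H
    push Not at H
    have h2 := congrArg (fun x => M.evaluation W z hzg x) h1
    simp only [map_sum, map_mul, map_one] at h2
    rw [Finset.sum_eq_zero fun l _ => by
      rw [show M.evaluation W z hzg (u l) = 0 from
        (M.evaluation_eq_zero_iff_notMem_basicOpen z hzg (u l)).2 (H l), mul_zero]] at h2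
    exact zero_ne_one h2
  refine ⟨l, ?_⟩
  let W' : M.Opens := M.basicOpen (u l)
  have hW'W : W' ≤ W := M.basicOpen_le _
  refine mem_D hb hU a hJ l (hW.basicOpen _) (hW'W.trans hgle) ?_ hl
  rw [← (J.comap b).map_ideal (U := ⟨W', hW.basicOpen _⟩) (V := ⟨W, hW⟩) hW'W, hWI, Ideal.map_span,
    Set.image_singleton]
  have hunit : IsUnit (resR hW'W (u l)) := isUnit_resR _ _ le_rfl
  rw [show b.appLE U W' (hW'W.trans hgle) (a l) = resR hW'W (u l) * resR hW'W f' by
    rw [← map_mul, hu]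
    exact (ConcreteCategory.congr_hom (Scheme.Hom.appLE_map b hgle (homOfLE hW'W).op) (a l)).symm]
  exact (Ideal.span_singleton_mul_left_unit hunit _).symm

end Chart

section Coords

variable {B M : Scheme.{u}} {J : B.IdealSheafData} {b : M ⟶ B} (hb : BlowUp.IsBlowUp b J)
  {U : B.Opens} (hU : IsAffineOpen U) {m : ℕ} (a : Fin (m + 1) → Γ(B, U))
  (hJ : J.ideal ⟨U, hU⟩ = Ideal.span (Set.range a)) (j : Fin (m + 1))

/-- The coordinates of the chart. -/
def cc (l : Fin m) : Γ(M, D hb hU a hJ j) :=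
  eqv hb hU a hJ j (RegBlow6.coord a j ⟨j.succAbove l, Fin.succAbove_ne j l⟩)

theorem cc_mul (l : Fin m) :
    cc hb hU a hJ j l * b.appLE U (D hb hU a hJ j) (D_le hb hU a hJ j) (a j) =
      b.appLE U (D hb hU a hJ j) (D_le hb hU a hJ j) (a (j.succAbove l)) := by
  rw [← eqv_algebraMap, ← eqv_algebraMap, cc, ← map_mul, RegBlow6.coord_mul]

/-- Functions on the chart are polynomials in the coordinates. -/
theorem eval_eq : eval₂Hom (b.appLE U (D hb hU a hJ j) (D_le hb hU a hJ j)).hom (cc hb hU a hJ j) =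
    (eqv hb hU a hJ j).toRingHom.comp (PBlow.pres a j).toRingHom := by
  refine MvPolynomial.ringHom_ext (fun x => ?_) fun l => ?_
  · rw [eval₂Hom_C]
    show _ = eqv hb hU a hJ j (PBlow.pres a j (C x))
    rw [PBlow.pres, aeval_C, eqv_algebraMap]
  · rw [eval₂Hom_X']
    show _ = eqv hb hU a hJ j (PBlow.pres a j (X l))
    rw [PBlow.pres, aeval_X]
    rfl

/-- Where a coordinate is invertible, the point lies in that chart. -/
theorem basicOpen_cc_le (l : Fin m) : M.basicOpen (cc hb hU a hJ j l) ≤ D hb hU a hJ (j.succAbove l) := by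
  intro z hz
  let W : M.Opens := M.basicOpen (cc hb hU a hJ j l)
  have hW : IsAffineOpen W := (D_affine hb hU a hJ j).basicOpen _
  have hWD : W ≤ D hb hU a hJ j := M.basicOpen_le _
  refine mem_D hb hU a hJ _ hW (hWD.trans (D_le hb hU a hJ j)) ?_ hz
  rw [← (J.comap b).map_ideal (U := ⟨W, hW⟩) (V := ⟨_, D_affine hb hU a hJ j⟩) hWD, ideal_D, Ideal.map_span,
    Set.image_singleton]
  have h := congrArg (resR hWD) (cc_mul hb hU a hJ j l)
  rw [map_mul] at h
  have he : ∀ x, b.appLE U W (hWD.trans (D_le hb hU a hJ j)) x = resR hWD (b.appLE U _ (D_le hb hU a hJ j) x) :=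
    fun x => (ConcreteCategory.congr_hom (Scheme.Hom.appLE_map b (D_le hb hU a hJ j) (homOfLE hWD).op) x).symm
  rw [he, ← h]
  exact (Ideal.span_singleton_mul_left_unit (isUnit_resR _ _ le_rfl) _).symm

end Coords

end Groth.Agent.H28.ExcCharts
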