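import Groth.Agent.H28.PBSect
import Groth.Agent.H28.ExcCharts
import Groth.Agent.InvX.Tensor

/-!
# The conormal module of a zero section of `P(O ⊕ O)` is trivial
-/

set_option autoImplicit false
set_option linter.style.haveILetI false
set_option linter.unusedSectionVars false
set_option backward.isDefEq.respectTransparency false
set_option backward.isDefEq.respectTransparency.types false
set_option maxHeartbeats 1000000

universe u

open CategoryTheory CategoryTheory.Limits AlgebraicGeometry TopologicalSpace Opposite MvPolynomial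

noncomputable section

namespace Groth.Agent.H28.PBTriv

open Groth.Agent Groth.Agent.AModX Groth.Agent.PBlow Groth.Agent.H28.PBSect

variable {Y P : Scheme.{u}} {π : P ⟶ Y} {O1 : P.Modules}
  {q : (Scheme.Modules.pullback π).obj (Coh.structureModule Y ⊞ Coh.structureModule Y) ⟶ O1}

/-- The frame of the unit. -/
theorem isFrame_oneF (U : Y.Opens) :
    H23.Frame.IsFrame (Coh.structureModule Y) (fun _ : Fin 1 => H23.Frame.one U) := fun W h => by
  have h1 := (InvX.isFrame_one U W h).comp (Equiv.funUnique (Fin 1) Γ(Y, W)).bijective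
  refine (congrArg Function.Bijective (funext fun c => ?_)).mp h1
  show c default • _ = H23.Frame.comb _ _ W h c
  rw [H23.Frame.comb, Fin.sum_univ_one]
  rfl

theorem bF_res {U : Y.Opens} (i : Fin 2) :
    bF (A := Coh.structureModule Y) (fun _ : Fin 1 => H23.Frame.one U) i =
      res _ (le_top : U ≤ ⊤) (bF (A := Coh.structureModule Y) (fun _ : Fin 1 => H23.Frame.one (⊤ : Y.Opens)) i) := by
  induction i using Fin.cases with
  | zero =>
    rw [bF_zero, bF_zero]
    exact (H23.Frame.app_one_res _ (le_top : U ≤ ⊤)).symm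
  | succ l =>
    rw [bF_succ, bF_succ]
    exact (H23.Frame.app_one_res _ (le_top : U ≤ ⊤)).symm

theorem sig_res {E : Y.Modules} (q : (Scheme.Modules.pullback π).obj E ⟶ O1) {U U' : Y.Opens} (h : U ≤ U') {n : ℕ}
    (b : Fin n → Γ(E, U')) (i : Fin n) :
    sig q (fun l => res E h (b l)) i = res O1 (π.preimage_mono h) (sig q b i) := by
  show q.app _ (InvX.pullElt π (res E h (b i))) = _
  rw [sig, ← app_res q (π.preimage_mono h)]
  exact congrArg _ (app_res ((Scheme.Modules.pullbackPushforwardAdjunction π).unit.app E) h (b i))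

theorem locus_res {E : Y.Modules} (q : (Scheme.Modules.pullback π).obj E ⟶ O1) {U U' : Y.Opens} (h : U ≤ U') {n : ℕ}
    (b : Fin n → Γ(E, U')) (k : Fin n) :
    ∃ hle : locus q (fun l => res E h (b l)) k ≤ locus q b k,
      ∀ i, resR hle (ratio q b k i) = ratio q (fun l => res E h (b l)) k i := by
  have hle : locus q (fun l => res E h (b l)) k ≤ locus q b k := by
    refine sSup_le fun W hW => ?_
    obtain ⟨hW, hf⟩ := hW
    refine le_locus q b (hW.trans (π.preimage_mono h)) ?_
    rwa [sig_res q h b, res_res] at hf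
  refine ⟨hle, fun i => (isFrame_sig q (fun l => res E h (b l)) k).coord_unique le_rfl ?_⟩
  have h1 := congrArg (res O1 hle) (ratio_smul q b k i)
  rw [res_smul, res_res, res_res] at h1
  rw [res_self, ratio_smul q (fun l => res E h (b l)) k i, sig_res, sig_res, res_res, res_res]
  exact h1

variable (hP : KRR.IsProjBundle π (Coh.structureModule Y ⊞ Coh.structureModule Y) O1 q) {s₀ : Y ⟶ P}
  [IsClosedImmersion s₀] (h₀ : IsSect (0 : Coh.structureModule Y ⟶ Coh.structureModule Y) s₀ q)

include hP h₀ in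
/-- The conormal module of the zero section is trivial. -/
theorem conormal_zero_trivial : Nonempty (Omega.conormal s₀ ≅ Coh.structureModule Y) := by
  classical
  let b : Fin 2 → Γ(Coh.structureModule Y ⊞ Coh.structureModule Y, (⊤ : Y.Opens)) :=
    bF (A := Coh.structureModule Y) (fun _ : Fin 1 => H23.Frame.one (⊤ : Y.Opens))
  let V := locus q b 0
  have hle : (⊤ : Y.Opens) ≤ s₀ ⁻¹ᵁ V := sect_le hP h₀ _
  let c : Γ(P, V) := coordHom q b 0 (X 0)
  have hc : s₀.app V c = 0 := by
    have h1 : s₀.appLE V ⊤ hle c = 0 := by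
      have := RingHom.congr_fun (sect_comp hP h₀ (fun _ : Fin 1 => H23.Frame.one (⊤ : Y.Opens))) (X 0)
      rw [eval₂Hom_X'] at this
      exact this
    haveI : IsIso (Y.presheaf.map (homOfLE hle).op) := by
      rw [Subsingleton.elim (homOfLE hle) (eqToHom (top_le_iff.1 hle).symm)]
      infer_instance
    refine (ConcreteCategory.bijective_of_isIso (Y.presheaf.map (homOfLE hle).op)).1 ?_
    rw [map_zero]
    exact h1
  obtain ⟨k, hk⟩ := OmegaUniv.exists_idealSect_of_app_eq_zero s₀ V c hc
  have hfr : InvX.IsFrame (res (Omega.conormal s₀) hle (ExcCharts.cn s₀ k)) := by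
    refine isFrame_of_cover fun y _ => ?_
    obtain ⟨U, hU, hyU, -⟩ := exists_isAffineOpen_mem_and_subset (show y ∈ (⊤ : Y.Opens) from trivial)
    let bA : Fin 1 → Γ(Coh.structureModule Y, U) := fun _ => H23.Frame.one U
    have hfun : bF bA = fun i => res _ (le_top : U ≤ ⊤) (b i) := funext bF_res
    obtain ⟨hVa, hbij⟩ := chart_iso q (bF bA) 0 (isFrame_bF _ (isFrame_oneF U)) hP hU
    have hI := zero_ideal hP bA h₀ hVa hbij
    obtain ⟨hloc, hrat⟩ : ∃ h : locus q (bF bA) 0 ≤ V, ∀ i, resR h (ratio q b 0 i) = ratio q (bF bA) 0 i := by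
      rw [hfun]
      exact locus_res q le_top b 0
    have hcU : resR hloc c = coordHom q (bF bA) 0 (X 0) := by
      rw [show c = coordHom q b 0 (X 0) from rfl, coordHom_X, coordHom_X]
      exact hrat _
    have hsub : U ≤ s₀ ⁻¹ᵁ locus q (bF bA) 0 := sect_le hP h₀ bA
    refine ⟨U, le_top, hyU, ?_⟩
    have hgen : InvX.IsFrame (res (ClSub.idealMod s₀.ker) hloc k) := by
      refine ExcCharts.isFrame_of_gen s₀.ker hVa (f := coordHom q (bF bA) 0 (X 0)) ?_ ?_ _ ?_
      · refine mem_nonZeroDivisors_iff_right.2 fun z hz => ?_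
        obtain ⟨z, rfl⟩ := hbij.2 z
        rw [← map_mul, ← map_zero (coordHom q (bF bA) 0)] at hz
        have h0 : X (0 : Fin 1) * z = X (0 : Fin 1) * 0 := by rw [mul_zero, mul_comm]; exact hbij.1 hz
        rw [MvPolynomial.isRegular_X.left h0, map_zero]
      · rw [hI, List.ofFn_succ, List.ofFn_zero, Ideal.ofList_singleton]
      · exact (OmegaLib.idealSect_map s₀.ker hloc k).trans (by rw [← hcU, ← hk]; rfl)
    rw [res_res]
    have h2 := (isFrame_pullSec s₀ (le_rfl : s₀ ⁻¹ᵁ locus q (bF bA) 0 ≤ _) hgen).res hsub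
    have heq : QCoh.pullSec s₀ (ClSub.idealMod s₀.ker) (le_rfl : s₀ ⁻¹ᵁ locus q (bF bA) 0 ≤ _)
        (res (ClSub.idealMod s₀.ker) hloc k) = ExcCharts.cn s₀ (res (ClSub.idealMod s₀.ker) hloc k) := res_self _
    rw [heq, ← ExcCharts.cn_res s₀ hloc (s₀.preimage_mono hloc)] at h2
    exact (res_res (M := Omega.conormal s₀) (s₀.preimage_mono hloc) hsub (ExcCharts.cn s₀ k)) ▸ h2
  obtain ⟨i, -⟩ := PBlow.exists_iso_of_frame hfr
  exact ⟨i⟩

end Groth.Agent.H28.PBTriv
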