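import Groth.Agent.H28.PushTwo
import Groth.Agent.H28.PBSect
import Groth.Agent.H28.PBMake
import Groth.Agent.H28.PBTriv
import Groth.Agent.H28.BlowEmb
import Groth.Agent.PerfBlow.Main

/-!
# The projective line bundle with two disjoint sections
-/

set_option autoImplicit false
set_option linter.style.haveILetI false
set_option linter.unusedSectionVars false
set_option backward.isDefEq.respectTransparency false
set_option backward.isDefEq.respectTransparency.types false
set_option maxHeartbeats 1000000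

universe v u

open CategoryTheory CategoryTheory.Limits AlgebraicGeometry TopologicalSpace Opposite
attribute [local instance] HasDerivedCategory.standard

noncomputable section

namespace Groth.Agent.H28.DefLine

open Groth.Agent Groth.Agent.AModX Groth.Agent.PBlow Groth.Agent.H28.PBSect

/-- A bundle transported along an automorphism of the module. -/
theorem isProjBundle_iso {Y P : Scheme.{u}} {π : P ⟶ Y} {F : Y.Modules} {O1 : P.Modules}
    {q : (Scheme.Modules.pullback π).obj F ⟶ O1} (hP : KRR.IsProjBundle π F O1 q) (α : F ≅ F) :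
    KRR.IsProjBundle π F O1 ((Scheme.Modules.pullback π).map α.hom ≫ q) := by
  haveI := hP.epi
  refine ⟨hP.invertible, epi_comp _ _, fun T g L hL s hs => ?_⟩
  haveI := hs
  obtain ⟨h, ⟨hg, e, he⟩, huniq⟩ := hP.univ T g L hL ((Scheme.Modules.pullback g).map α.inv ≫ s) (epi_comp _ _)
  have key : ∀ (h : T ⟶ P) (hg : h ≫ π = g) (e : (Scheme.Modules.pullback h).obj O1 ≅ L),
      (Scheme.Modules.pullbackCongr hg).inv.app F ≫ (Scheme.Modules.pullbackComp h π).inv.app F ≫
          (Scheme.Modules.pullback h).map ((Scheme.Modules.pullback π).map α.hom ≫ q) ≫ e.hom =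
        (Scheme.Modules.pullback g).map α.hom ≫ (Scheme.Modules.pullbackCongr hg).inv.app F ≫
          (Scheme.Modules.pullbackComp h π).inv.app F ≫ (Scheme.Modules.pullback h).map q ≫ e.hom := by
    intro h hg e
    rw [Functor.map_comp, Category.assoc]
    rw [← Category.assoc ((Scheme.Modules.pullback g).map α.hom)]
    rw [(Scheme.Modules.pullbackCongr hg).inv.naturality α.hom, Category.assoc]
    refine congrArg ((Scheme.Modules.pullbackCongr hg).inv.app F ≫ ·) ?_
    rw [← Category.assoc, ← Category.assoc ((Scheme.Modules.pullback (h ≫ π)).map α.hom)]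
    exact congrArg (· ≫ _) ((Scheme.Modules.pullbackComp h π).inv.naturality α.hom).symm
  refine ⟨h, ⟨hg, e, ?_⟩, fun h' hh' => ?_⟩
  · rw [key, he, ← Functor.map_comp_assoc, Iso.hom_inv_id, CategoryTheory.Functor.map_id, Category.id_comp]
  · obtain ⟨hg', e', he'⟩ := hh'
    refine huniq h' ⟨hg', e', ?_⟩
    rw [key] at he'
    rw [← he', ← Functor.map_comp_assoc, Iso.inv_hom_id, CategoryTheory.Functor.map_id, Category.id_comp]

variable (Y : Scheme.{u})

/-- The interchange of the two summands. -/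
def swap : Coh.structureModule Y ⊞ Coh.structureModule Y ≅ Coh.structureModule Y ⊞ Coh.structureModule Y where
  hom := biprod.lift biprod.snd biprod.fst
  inv := biprod.lift biprod.snd biprod.fst
  hom_inv_id := by apply biprod.hom_ext <;> simp
  inv_hom_id := by apply biprod.hom_ext <;> simp

variable {Y}

/-- The section of a divisor of local length one is effective Cartier. -/
theorem isEffCartier_ker {Z P : Scheme.{u}} (s : Z ⟶ P) [IsClosedImmersion s]
    (h : ∀ z : Z, ∃ (V : P.Opens) (hV : IsAffineOpen V) (_ : s z ∈ V) (rs : List Γ(P, V)),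
      rs.length = 1 ∧ RingTheory.Sequence.IsRegular Γ(P, V) rs ∧ s.ker.ideal ⟨V, hV⟩ = Ideal.ofList rs) :
    BlowUp.IsEffCartierIdeal s.ker := by
  intro x
  by_cases hx : x ∈ Set.range s
  · obtain ⟨z, rfl⟩ := hx
    obtain ⟨V, hV, hzV, rs, hlen, hrs, hI⟩ := h z
    obtain ⟨f, rfl⟩ := List.length_eq_one_iff.1 hlen
    refine ⟨⟨V, hV⟩, hzV, f, ?_, by rw [hI, Ideal.ofList_singleton]⟩
    have := hrs.toIsWeaklyRegular
    rw [RingTheory.Sequence.isWeaklyRegular_cons_iff] at this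
    exact mem_nonZeroDivisors_iff_right.2 fun y hy => this.1.right_eq_zero_of_smul (by rwa [smul_eq_mul, mul_comm])
  · obtain ⟨U, hU, hxU, hUs⟩ := exists_isAffineOpen_mem_and_subset
      (show x ∈ (⟨(Set.range s)ᶜ, s.isClosedEmbedding.isClosed_range.isOpen_compl⟩ : P.Opens) from hx)
    refine ⟨⟨U, hU⟩, hxU, 1, one_mem _, ?_⟩
    rw [Ideal.span_singleton_one]
    refine BlowUpX.ideal_eq_top_of_disjoint s.ker ⟨U, hU⟩ fun z hz hz' => ?_
    refine hUs hz ?_
    rwa [Scheme.Hom.support_ker, s.isClosedEmbedding.isClosed_range.closure_eq] at hz'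

set_option maxHeartbeats 4000000 in
/-- The line bundle, its two sections and the equality of their classes. -/
theorem exists_line [AlgebraicGeometry.IsNoetherian Y] [ConnectedSpace ↥Y] (hYe : KRR.HasEnoughLocFree Y) :
    ∃ (B : Scheme.{u}) (π : B ⟶ Y) (D : PBPush.Data π 1) (s₀ s₁ : Y ⟶ B),
      AlgebraicGeometry.IsNoetherian B ∧ ConnectedSpace ↥B ∧ KRR.HasEnoughLocFree B ∧ PicF.IsInvertible D.O1 ∧
      s₀ ≫ π = 𝟙 Y ∧ s₁ ≫ π = 𝟙 Y ∧ Disjoint (Set.range s₀.base) (Set.range s₁.base) ∧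
      Mor2.IsRegularClosedImmersion s₀ ∧ Mor2.IsRegularClosedImmersion s₁ ∧
      FlatMod.IsFinLocFreeOfRank 1 (Omega.conormal s₀) ∧ FlatMod.IsFinLocFreeOfRank 1 (Omega.conormal s₁) ∧
      BlowUp.IsEffCartierIdeal s₀.ker ∧ BlowUp.IsEffCartierIdeal s₁.ker ∧
      Nonempty ((Scheme.Modules.pullback s₀).obj D.O1 ≅ Coh.structureModule Y) ∧
      Smooth π ∧ Nonempty (Omega.conormal s₁ ≅ Coh.structureModule Y) ∧
      (∃ F : Y.Modules, FlatMod.IsFinLocFreeOfRank (1 + 1) F ∧
        ∃ q : (Scheme.Modules.pullback π).obj F ⟶ D.O1, KRR.IsProjBundle π F D.O1 q) ∧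
      ∀ {KY : Type (u + 1)} [CommRing KY] [LambdaRing.LambdaOps KY] {PY : LambdaRing.PosStructure KY}
        {φY : SGA6.Kvb Y →+ KY}, KRR.IsModel Y KY PY φY →
      ∀ {KB : Type (u + 1)} [CommRing KB] [LambdaRing.LambdaOps KB] {PB : LambdaRing.PosStructure KB}
        {φB : SGA6.Kvb B →+ KB}, KRR.IsModel B KB PB φB →
      ∀ (g₀ g₁ : KY →+ KB), KRR.IsPushCl s₀ φY φB g₀ → KRR.IsPushCl s₁ φY φB g₁ → g₀ 1 = g₁ 1 := by
  classical
  have hO : FlatMod.IsFinLocFreeOfRank 1 (Coh.structureModule Y) := KvbModel.rank_of_frameAt KvbModel.frameAt_O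
  obtain ⟨hF, -⟩ := KRRZero.rank_biprod hO hO
  obtain ⟨B, π, O1, q, hP⟩ := PBMake.exists_of_rank hF
  haveI := PBSplit.isNoetherian hP hF
  haveI := PBSplit.connectedSpace hP hF
  obtain ⟨Oinv, hOi, hOO⟩ := H23.PicInv.exists_inverse (PBCores.isInvertible_iff_rank.2 hP.invertible)
  have li := KvbModel.lf_of_rank (PBCores.isInvertible_iff_rank.1 hOi)
  obtain ⟨eOO⟩ := hOO
  obtain ⟨ecomm⟩ := H23.PicMul.comm Oinv O1
  obtain ⟨D, hDO, hDi⟩ := PBBasis.exists_data hP hF Oinv ⟨ecomm ≪≫ eOO⟩ li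
  subst hDO hDi
  have hBe := PBEnough.enough D hYe
  haveI := PBCohPush.isProper D
  have hP' := isProjBundle_iso hP (swap Y)
  obtain ⟨s₀, hs₀⟩ := PBSect.exists_isSect (t := (0 : Coh.structureModule Y ⟶ Coh.structureModule Y)) hP
  obtain ⟨s₁, hs₁⟩ := PBSect.exists_isSect (t := (0 : Coh.structureModule Y ⟶ Coh.structureModule Y)) hP'
  haveI : IsClosedImmersion s₀ := by
    haveI : IsClosedImmersion (s₀ ≫ π) := by rw [hs₀.1]; infer_instance
    exact IsClosedImmersion.of_comp s₀ π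
  haveI : IsClosedImmersion s₁ := by
    haveI : IsClosedImmersion (s₁ ≫ π) := by rw [hs₁.1]; infer_instance
    exact IsClosedImmersion.of_comp s₁ π
  obtain ⟨e₀⟩ : Nonempty ((Scheme.Modules.pullback s₀).obj D.O1 ≅ Coh.structureModule Y) := ⟨hs₀.2.choose⟩
  obtain ⟨e₁⟩ : Nonempty ((Scheme.Modules.pullback s₁).obj D.O1 ≅ Coh.structureModule Y) := ⟨hs₁.2.choose⟩
  have hreg₀ := regular_zero hO hP hs₀
  have hreg₁ := regular_zero hO hP' hs₁
  refine ⟨B, π, D, s₀, s₁, inferInstance, inferInstance, hBe, PBCores.isInvertible_iff_rank.2 hP.invertible,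
    hs₀.1, hs₁.1, ?_, hreg₀, hreg₁, rank_zero hO hP hs₀, rank_zero hO hP' hs₁,
    isEffCartier_ker s₀ (zero_local hO hP hs₀), isEffCartier_ker s₁ (zero_local hO hP' hs₁), ⟨e₀⟩, BlowEmb.smooth_projBundle hF hP,
    PBTriv.conormal_zero_trivial hP' hs₁, ⟨_, hF, q, hP⟩, ?_⟩
  · rw [Set.disjoint_left]
    rintro _ ⟨y, rfl⟩ ⟨y', hy'⟩
    have hyy : y' = y := by
      have h := congrArg π.base hy'
      rwa [← Scheme.Hom.comp_apply, ← Scheme.Hom.comp_apply, hs₁.1, hs₀.1] at h
    subst y'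
    obtain ⟨U, hU, hyU, bA, hf, -, -⟩ := PBSect.exists_chart hO hP y
    have h0 : s₀ y ∈ locus q (bF bA) 0 := sect_le hP hs₀ bA hyU
    have h1 : s₁ y ∈ locus q (bF bA) 0 := by rw [show s₁ y = s₀ y from hy']; exact h0
    obtain ⟨hs, e, he⟩ := hs₁
    let x := bF bA 0
    let x' := (swap Y).inv.app U x
    have hle : U ≤ s₁ ⁻¹ᵁ (π ⁻¹ᵁ U) := fun z hz => by
      show π (s₁ z) ∈ U
      rw [← Scheme.Hom.comp_apply, hs]
      exact hz
    have hv := he U x' hle
    have hq : ((Scheme.Modules.pullback π).map (swap Y).hom ≫ q).app (π ⁻¹ᵁ U) (InvX.pullElt π x') =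
        sig q (bF bA) 0 := by
      show q.app _ (((Scheme.Modules.pullback π).map (swap Y).hom).app _ (InvX.pullElt π x')) = _
      refine congrArg (q.app (π ⁻¹ᵁ U)) ((congrArg (fun φ => φ.app U x')
        ((Scheme.Modules.pullbackPushforwardAdjunction π).unit.naturality (swap Y).hom)).symm.trans ?_)
      show InvX.pullElt π ((swap Y).hom.app U ((swap Y).inv.app U x)) = InvX.pullElt π x
      refine congrArg (InvX.pullElt π) ?_
      exact congrArg (fun φ => Scheme.Modules.Hom.app φ U x) (swap Y).inv_hom_id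
    rw [hq] at hv
    have hz : (biprod.desc (0 : Coh.structureModule Y ⟶ Coh.structureModule Y) (𝟙 _)).app U x' = 0 := by
      have hc : (biprod.inr : Coh.structureModule Y ⟶ _) ≫ (swap Y).inv ≫
          biprod.desc (0 : Coh.structureModule Y ⟶ Coh.structureModule Y) (𝟙 _) = 0 := by
        rw [← Category.assoc, show (biprod.inr : Coh.structureModule Y ⟶ _) ≫ (swap Y).inv = biprod.inl by
          apply biprod.hom_ext <;> simp [swap], biprod.inl_desc]
      exact (congrArg ((biprod.desc (0 : Coh.structureModule Y ⟶ Coh.structureModule Y) (𝟙 _)).app U)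
        (congrArg ((swap Y).inv.app U) (bF_zero (bA := bA)))).trans
        ((congrArg (fun φ => Scheme.Modules.Hom.app φ U (H23.Frame.one U)) hc).trans rfl)
    rw [hz] at hv
    let W : Y.Opens := U ⊓ s₁ ⁻¹ᵁ locus q (bF bA) 0
    have hfr : InvX.IsFrame (QCoh.pullSec s₁ D.O1 (inf_le_left.trans hle : W ≤ s₁ ⁻¹ᵁ (π ⁻¹ᵁ U)) (sig q (bF bA) 0)) := by
      rw [← pullSec_restr s₁ (locus_le q (bF bA) 0) (inf_le_right : W ≤ _)]
      exact isFrame_pullSec s₁ inf_le_right (isFrame_sig q (bF bA) 0)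
    have hzero : QCoh.pullSec s₁ D.O1 (inf_le_left.trans hle : W ≤ s₁ ⁻¹ᵁ (π ⁻¹ᵁ U)) (sig q (bF bA) 0) = 0 := by
      rw [← res_pullSec s₁ (inf_le_left : W ≤ U) hle]
      rw [show QCoh.pullSec s₁ D.O1 hle (sig q (bF bA) 0) = 0 from
        (ZClosLib.app_bijective_of_isIso e.hom U).1 (hv.trans (map_zero _).symm), map_zero]
    have h10 : (1 : Γ(Y, W)) = 0 := hfr.coord_unique le_rfl (by rw [res_self, hzero, smul_zero, smul_zero])
    haveI : Nonempty W := ⟨⟨y, hyU, h1⟩⟩
    exact one_ne_zero h10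
  · intro KY _ _ PY φY hKY KB _ _ PB φB hKB g₀ g₁ hg₀ hg₁
    obtain ⟨gπ, hgπ, -⟩ := PullVB.existsUnique_isPull π φB φY hKY.bijective
    obtain ⟨p₀, hp₀, -⟩ := PullVB.existsUnique_isPull s₀ φY φB hKB.bijective
    obtain ⟨p₁, hp₁, -⟩ := PullVB.existsUnique_isPull s₁ φY φB hKB.bijective
    set ℓ := φB (KRR.cl B D.O1) with hℓ
    set u := φB (KRR.cl B D.Oinv) with hudef
    have l1 : FlatMod.IsFinLocFree D.O1 := D.lf1
    have hlu : u * ℓ = 1 := by
      rw [hudef, hℓ, hKB.map_mul _ _ li l1, ← hKB.map_one]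
      exact congrArg φB (GenPush.cl_iso (ecomm ≪≫ eOO) (KFlatLib.isFinLocFree_tensor li l1) KvbLam.lf_O)
    have hu : ∀ a : ℕ, φB (KRR.cl B (CohB1.tensorPow D.Oinv a)) = u ^ a := LineTwist.cl_tensorPow hKB hOi
    obtain ⟨c, ρ₀, hc1, hc2, hρc, hρ₀⟩ := KRRZero.exists_coord D hKY.bijective hKB.bijective hKB.map_mul hgπ hu
    obtain ⟨ρ, hρdef, hρ⟩ := PushTwo.exists_rho D hYe (PBCores.isInvertible_iff_rank.2 hP.invertible) hKB hKY
    have hzℓ : ∀ (s : Y ⟶ B) (g : KY →+ KB) (p : KB →+ KY) [IsClosedImmersion s],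
        Mor2.IsRegularClosedImmersion s → KRR.IsPushCl s φY φB g → KRR.IsPull s φB φY p →
        ((Scheme.Modules.pullback s).obj D.O1 ≅ Coh.structureModule Y) → g 1 * u = g 1 := by
      intro s g p _ hs hg hp es
      have h1 : p ℓ = 1 := by
        rw [hℓ, hp _ l1, ← hKY.map_one]
        exact congrArg φY (GenPush.cl_iso es (KvbPull.lf_pull _ l1) KvbLam.lf_O)
      have h2 := KRRPushProp.push_mul_pull s φY hKY.bijective φB hBe hs hKB.bijective.2 hKY.map_mul hKB.map_mul p hp g hg 1 ℓ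
      rw [h1, mul_one] at h2
      conv_lhs => rw [h2]
      rw [mul_assoc, mul_comm ℓ u, hlu, mul_one]
    have hid := PushTwo.isPushCl_id hYe φY
    have hr₀ := hρ s₀ hreg₀ (𝟙 Y) hs₀.1 ⟨e₀⟩ φY hKY.bijective g₀ hg₀ _ hid
    have hr₁ := hρ s₁ hreg₁ (𝟙 Y) hs₁.1 ⟨e₁⟩ φY hKY.bijective g₁ hg₁ _ hid
    set z := g₀ 1 - g₁ 1 with hz
    have hzu : z * u = z := by
      rw [hz, sub_mul, hzℓ s₀ g₀ p₀ hreg₀ hg₀ hp₀ e₀, hzℓ s₁ g₁ p₁ hreg₁ hg₁ hp₁ e₁]
    have hρeq : ∀ w, ρ w = ρ₀ w := fun w => by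
      conv_lhs => rw [← hc1 w]
      conv_rhs => rw [← hc1 w]
      rw [map_sum, map_sum]
      refine Finset.sum_congr rfl fun k _ => ?_
      obtain ⟨A, A', hA, hA', hAA⟩ := KvbPull.exists_cl hKY (c w k)
      have hgen : ∀ {N : Y.Modules}, FlatMod.IsFinLocFree N →
          ρ (gπ (φY (KRR.cl Y N)) * u ^ (k : ℕ)) = ρ₀ (gπ (φY (KRR.cl Y N)) * u ^ (k : ℕ)) := fun {N} hN => by
        have hval : gπ (φY (KRR.cl Y N)) * u ^ (k : ℕ) = φB (KRR.cl B (PBBasis.gN D (k : ℕ) N)) := by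
          rw [hgπ N hN, ← hu, mul_comm, hKB.map_mul _ _ (PBBasis.lf_pow D _) (KvbPull.lf_pull π hN)]
          rfl
        have hd := PBBasis.def_gN D (Nat.le_of_lt_succ k.2) hN
        rw [hval, hρdef _ hd, hρ₀ _ hd]
      rw [hAA]
      simp only [map_sub, sub_mul]
      rw [hgen hA, hgen hA']
    have hz0 : c z 0 = 0 := by
      rw [← hρc, ← hρeq, hz, map_sub, show ρ (g₀ 1) = 1 from DFunLike.congr_fun hr₀ 1,
        show ρ (g₁ 1) = 1 from DFunLike.congr_fun hr₁ 1, sub_self]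
    have hzl : z * ℓ = z := by
      conv_lhs => rw [← hzu]
      rw [mul_assoc, hlu, mul_one]
    have hshift : ∑ k, gπ ((Fin.snoc (fun l : Fin 1 => c z l.succ) 0 : Fin (1 + 1) → KY) k) * u ^ (k : ℕ) = z := by
      conv_rhs => rw [← hzl, ← hc1 z, Finset.sum_mul]
      rw [Fin.sum_univ_castSucc, Fin.sum_univ_succ (fun k : Fin (1 + 1) => gπ (c z k) * u ^ (k : ℕ) * ℓ)]
      simp only [Fin.snoc_castSucc, Fin.snoc_last, map_zero, zero_mul, add_zero, hz0, zero_add, Fin.val_castSucc,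
        Fin.val_succ]
      refine Finset.sum_congr rfl fun l _ => ?_
      rw [pow_succ, mul_assoc, mul_assoc, hlu, mul_one]
    have hfix : (Fin.snoc (fun l : Fin 1 => c z l.succ) 0 : Fin (1 + 1) → KY) = c z := by
      rw [← hc2 (Fin.snoc (fun l : Fin 1 => c z l.succ) 0), hshift]
    have hall : ∀ k, c z k = 0 := fun k => by
      induction k using Fin.induction with
      | zero => exact hz0
      | succ l ih => rw [← ih, ← congrFun hfix l.castSucc, Fin.snoc_castSucc]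
    have hz' : z = 0 := by
      rw [← hc1 z]
      exact Finset.sum_eq_zero fun k _ => by rw [hall k, map_zero, zero_mul]
    exact sub_eq_zero.1 hz'

end Groth.Agent.H28.DefLine
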