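import Groth.Agent.H28.ExcCharts
import Groth.Agent.H28.PBExist
import Groth.Agent.S9371
import Groth.Agent.S9372

/-!
# The exceptional divisor of a regular blowing up is the projective bundle of the conormal module
-/

set_option autoImplicit false
set_option linter.style.haveILetI false
set_option linter.unusedSectionVars false
set_option backward.isDefEq.respectTransparency false
set_option backward.isDefEq.respectTransparency.types false
set_option maxHeartbeats 1000000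

universe u

open CategoryTheory CategoryTheory.Limits AlgebraicGeometry TopologicalSpace Opposite MvPolynomial

noncomputable section

namespace Groth.Agent.H28.ExcBundle

open Groth.Agent Groth.Agent.AModX ExcCharts

section Local

variable {B M Z E : Scheme.{u}} {i : Z ⟶ B} {b : M ⟶ B} {ι : E ⟶ M} {ψ : E ⟶ Z}
  [IsClosedImmersion i] [IsClosedImmersion ι] (hb : BlowUp.IsBlowUp b i.ker) (hsq : IsPullback ι ψ b i)
  (φ : (Scheme.Modules.pullback ψ).obj (Omega.conormal i) ⟶ Omega.conormal ι)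
  (hφ : OmegaSh.IsConormalMap ι i b ψ φ)
  {U : B.Opens} (hU : IsAffineOpen U) {m : ℕ} (a : Fin (m + 1) → Γ(B, U))
  (hJ : i.ker.ideal ⟨U, hU⟩ = Ideal.span (Set.range a))
  (k : Fin (m + 1) → Γ(ClSub.idealMod i.ker, U)) (hk : ∀ l, OmegaSh.idealSect i.ker U (k l) = a l)

/-- The chart of the exceptional divisor. -/
def W (j : Fin (m + 1)) : E.Opens := ι ⁻¹ᵁ D hb hU a hJ j

include hsq in
theorem W_le (j : Fin (m + 1)) : W (ι := ι) hb hU a hJ j ≤ ψ ⁻¹ᵁ (i ⁻¹ᵁ U) := fun e he => by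
  show i (ψ e) ∈ U
  rw [← Scheme.Hom.comp_apply, ← hsq.w, Scheme.Hom.comp_apply]
  exact D_le hb hU a hJ j he

/-- The tautological sections. -/
def s (l : Fin (m + 1)) : Γ(Omega.conormal ι, ψ ⁻¹ᵁ (i ⁻¹ᵁ U)) :=
  PBlow.sig φ (fun l => cn i (k l)) l

include hk in
theorem app_a (l : Fin (m + 1)) : i.app U (a l) = 0 := by
  rw [← hk]
  exact OmegaUniv.app_idealSect i U (k l)

include hsq hφ hk in
/-- The sections on the charts. -/
theorem res_s (j l : Fin (m + 1)) (κ : Γ(ClSub.idealMod ι.ker, D hb hU a hJ j))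
    (hκ : OmegaSh.idealSect ι.ker _ κ = b.appLE U (D hb hU a hJ j) (D_le hb hU a hJ j) (a l)) :
    res (Omega.conormal ι) (W_le hb hsq hU a hJ j) (s φ k l) = cn ι κ := by
  have hx : ι.app (b ⁻¹ᵁ U) (b.app U (a l)) = 0 := by
    have h1 : ι.app (b ⁻¹ᵁ U) (b.app U (a l)) = (ι ≫ b).appLE U ((ι ≫ b) ⁻¹ᵁ U) le_rfl (a l) := by
      rw [← Scheme.Hom.app_eq_appLE]
      rfl
    have hle : (ι ≫ b) ⁻¹ᵁ U ≤ ψ ⁻¹ᵁ (i ⁻¹ᵁ U) := by rw [hsq.w]; exact le_rfl
    rw [h1, ← PBlow.comp_appLE_apply ψ i U (i ⁻¹ᵁ U) _ le_rfl hle hsq.w.symm le_rfl (a l),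
      ← Scheme.Hom.app_eq_appLE, app_a a k hk l, map_zero]
  obtain ⟨s', hs'⟩ := OmegaUniv.exists_idealSect_of_app_eq_zero ι (b ⁻¹ᵁ U) _ hx
  have h2 : ι ⁻¹ᵁ D hb hU a hJ j ≤ ι ⁻¹ᵁ (b ⁻¹ᵁ U) := ι.preimage_mono (D_le hb hU a hJ j)
  have h := hφ.2 U (k l) s' (hs'.trans (by rw [hk])) (W (ι := ι) hb hU a hJ j) (W_le hb hsq hU a hJ j) h2
  refine Eq.trans ?_ (h.trans ?_)
  · rfl
  · refine (cn_res ι (D_le hb hU a hJ j) h2 s').trans (congrArg (cn ι) (OmegaLib.idealSect_injective _ _ ?_))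
    rw [show OmegaSh.idealSect ι.ker _ (res _ (D_le hb hU a hJ j) s') = _ from
      OmegaLib.idealSect_map ι.ker (D_le hb hU a hJ j) s', hs', hκ]
    rfl

include hsq in
theorem exists_kappa (j l : Fin (m + 1)) : ∃ κ : Γ(ClSub.idealMod ι.ker, D hb hU a hJ j),
    OmegaSh.idealSect ι.ker _ κ = b.appLE U (D hb hU a hJ j) (D_le hb hU a hJ j) (a l) := by
  refine OmegaLib.exists_of_mem ι.ker ⟨_, D_affine hb hU a hJ j⟩ _ ?_
  rw [TorPull.ker_eq hsq, ModPairLib.ideal_comap _ b ⟨U, hU⟩ ⟨_, D_affine hb hU a hJ j⟩ (D_le hb hU a hJ j), hJ]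
  exact Ideal.mem_map_of_mem _ (Ideal.subset_span ⟨l, rfl⟩)

include hsq hφ hk in
theorem frame (j : Fin (m + 1)) : InvX.IsFrame (res (Omega.conormal ι) (W_le hb hsq hU a hJ j) (s φ k j)) := by
  obtain ⟨κ, hκ⟩ := exists_kappa hb hsq hU a hJ j j
  have he : InvX.IsFrame κ := isFrame_of_gen ι.ker (D_affine hb hU a hJ j) (nonZeroDivisor hb hU a hJ j)
    (by rw [TorPull.ker_eq hsq]; exact ideal_D hb hU a hJ j) κ hκ
  rw [res_s hb hsq φ hφ hU a hJ k hk j j κ hκ]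
  have h := PBlow.isFrame_pullSec ι (le_rfl : ι ⁻¹ᵁ D hb hU a hJ j ≤ ι ⁻¹ᵁ D hb hU a hJ j) he
  have heq : QCoh.pullSec ι (ClSub.idealMod ι.ker) (le_rfl : ι ⁻¹ᵁ D hb hU a hJ j ≤ ι ⁻¹ᵁ D hb hU a hJ j) κ = cn ι κ :=
    res_self _
  rwa [heq] at h

/-- The coordinates of the chart. -/
def ψc (j : Fin (m + 1)) : MvPolynomial (Fin m) Γ(Z, i ⁻¹ᵁ U) →+* Γ(E, W (ι := ι) hb hU a hJ j) :=
  eval₂Hom (ψ.appLE (i ⁻¹ᵁ U) (W (ι := ι) hb hU a hJ j) (W_le hb hsq hU a hJ j)).hom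
    fun l => ι.app (D hb hU a hJ j) (cc hb hU a hJ j l)

theorem ψc_C (j : Fin (m + 1)) (x : Γ(Z, i ⁻¹ᵁ U)) :
    ψc hb hsq hU a hJ j (C x) =
      ψ.appLE (i ⁻¹ᵁ U) (W (ι := ι) hb hU a hJ j) (W_le hb hsq hU a hJ j) x := eval₂Hom_C _ _ _

theorem ψc_X (j : Fin (m + 1)) (l : Fin m) :
    ψc hb hsq hU a hJ j (X l) = ι.app (D hb hU a hJ j) (cc hb hU a hJ j l) := eval₂Hom_X' _ _ _

theorem comp_map (j : Fin (m + 1)) :
    (ψc hb hsq hU a hJ j).comp (MvPolynomial.map (i.app U).hom) =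
      (ι.app (D hb hU a hJ j)).hom.comp ((eqv hb hU a hJ j).toRingHom.comp (PBlow.pres a j).toRingHom) := by
  rw [← eval_eq hb hU a hJ j]
  refine MvPolynomial.ringHom_ext (fun x => ?_) fun l => ?_
  · have hW : W (ι := ι) hb hU a hJ j ≤ (ι ≫ b) ⁻¹ᵁ U := fun e he => D_le hb hU a hJ j he
    show ψc hb hsq hU a hJ j (MvPolynomial.map (i.app U).hom (C x)) = ι.app _ (eval₂Hom _ _ (C x))
    rw [map_C, ψc_C, eval₂Hom_C, Scheme.Hom.app_eq_appLE, Scheme.Hom.app_eq_appLE]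
    exact (PBlow.comp_appLE_apply ψ i U (i ⁻¹ᵁ U) _ le_rfl (W_le hb hsq hU a hJ j) hsq.w.symm hW x).trans
      (PBlow.comp_appLE_apply ι b U (D hb hU a hJ j) _ (D_le hb hU a hJ j) le_rfl rfl hW x).symm
  · show ψc hb hsq hU a hJ j (MvPolynomial.map (i.app U).hom (X l)) = ι.app _ (eval₂Hom _ _ (X l))
    rw [map_X, ψc_X, eval₂Hom_X']

include hk in
theorem bijective (hex : WiebeLib.IsExact a) (j : Fin (m + 1)) : Function.Bijective (ψc hb hsq hU a hJ j) := by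
  have hmap : Function.Surjective (MvPolynomial.map (σ := Fin m) (i.app U).hom) :=
    MvPolynomial.map_surjective _ (i.app_surjective U hU)
  have hcomp := fun g => RingHom.congr_fun (comp_map hb hsq hU a hJ j) g
  refine ⟨(injective_iff_map_eq_zero _).2 fun f hf => ?_, fun y => ?_⟩
  · obtain ⟨g, rfl⟩ := hmap f
    have h0 : ι.app (D hb hU a hJ j) (eqv hb hU a hJ j (PBlow.pres a j g)) = 0 := (hcomp g).symm.trans hf
    have hmem : eqv hb hU a hJ j (PBlow.pres a j g) ∈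
        Ideal.span {b.appLE U (D hb hU a hJ j) (D_le hb hU a hJ j) (a j)} := by
      rw [← ideal_D hb hU a hJ j, ← TorPull.ker_eq hsq, Scheme.Hom.ker_apply, RingHom.mem_ker]
      exact h0
    obtain ⟨q, hq⟩ := Ideal.mem_span_singleton'.1 hmem
    obtain ⟨q, rfl⟩ := (eqv hb hU a hJ j).surjective q
    obtain ⟨g', rfl⟩ := PBlow.pres_surjective a j q
    rw [← eqv_algebraMap, ← map_mul, (eqv hb hU a hJ j).injective.eq_iff] at hq
    have hker : g - g' * C (a j) ∈ Ideal.span (Set.range (PBlow.eqs a j)) := by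
      rw [← PBlow.ker_pres a j hex, RingHom.mem_ker]
      show PBlow.pres a j (g - g' * C (a j)) = 0
      rw [map_sub, map_mul, ← hq, PBlow.pres, aeval_C, sub_self]
    have hz : Ideal.span (Set.range (PBlow.eqs a j)) ≤ RingHom.ker (MvPolynomial.map (σ := Fin m) (i.app U).hom) := by
      refine Ideal.span_le.2 ?_
      rintro _ ⟨l, rfl⟩
      rw [SetLike.mem_coe, RingHom.mem_ker, PBlow.eqs, map_sub, map_mul, map_C, map_C, map_X,
        show (i.app U).hom (a j) = 0 from app_a a k hk j,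
        show (i.app U).hom (a (j.succAbove l)) = 0 from app_a a k hk _, map_zero, zero_mul, sub_zero]
    have := RingHom.mem_ker.1 (hz hker)
    rwa [map_sub, map_mul, map_C, show (i.app U).hom (a j) = 0 from app_a a k hk j, map_zero, mul_zero,
      sub_zero] at this
  · obtain ⟨x, hx⟩ := ι.app_surjective (D hb hU a hJ j) (D_affine hb hU a hJ j) y
    obtain ⟨x, rfl⟩ := (eqv hb hU a hJ j).surjective x
    obtain ⟨g, rfl⟩ := PBlow.pres_surjective a j x
    exact ⟨MvPolynomial.map (i.app U).hom g, (hcomp g).trans hx⟩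

include hsq hφ hk in
/-- The coordinates of the exceptional divisor. -/
def coords (hex : WiebeLib.IsExact a) : H23.ProjBd.Coords ψ (Omega.conormal ι) m (i ⁻¹ᵁ U) where
  isAffine := hU.preimage i
  s := s φ k
  W := W (ι := ι) hb hU a hJ
  le := W_le hb hsq hU a hJ
  frame := frame hb hsq φ hφ hU a hJ k hk
  cover := fun z hz => by
    have : ι z ∈ b ⁻¹ᵁ U := by
      show b (ι z) ∈ U
      rw [← Scheme.Hom.comp_apply, hsq.w, Scheme.Hom.comp_apply]
      exact hz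
    exact cover hb hU a hJ this
  affine := fun j => (D_affine hb hU a hJ j).preimage ι
  ψ := ψc hb hsq hU a hJ
  bij := bijective hb hsq hU a hJ k hk hex
  ψ_C := ψc_C hb hsq hU a hJ
  ψ_X := fun j l => by
    obtain ⟨κ, hκ⟩ := exists_kappa hb hsq hU a hJ j j
    rw [ψc_X, res_s hb hsq φ hφ hU a hJ k hk j j κ hκ,
      res_s hb hsq φ hφ hU a hJ k hk j (j.succAbove l) (cc hb hU a hJ j l • κ)
        (by rw [OmegaLib.idealSect_smul, hκ, cc_mul])]
    exact (cn_smul ι _ κ).symm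
  basicOpen_le := fun j l => by
    rw [ψc_X, ← Scheme.preimage_basicOpen]
    exact ι.preimage_mono (basicOpen_cc_le hb hU a hJ j l)

include hb hsq hφ hk hU hJ in
theorem good (hF : H23.Frame.IsFrame (Omega.conormal i) fun l => cn i (k l)) (hex : WiebeLib.IsExact a) :
    PBExist.Good φ (fun l => cn i (k l)) :=
  PBExist.good_of_coords φ _ hF (coords hb hsq φ hφ hU a hJ k hk hex) fun _ => rfl

end Local

variable {B M Z E : Scheme.{u}} [IsLocallyNoetherian B] {i : Z ⟶ B} {b : M ⟶ B} {ι : E ⟶ M} {ψ : E ⟶ Z}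
  [IsClosedImmersion ι] (hi : Mor2.IsRegularClosedImmersion i) {d : ℕ} (hd : 1 ≤ d)
  (hC : FlatMod.IsFinLocFreeOfRank d (Omega.conormal i)) (hb : BlowUp.IsBlowUp b i.ker) (hsq : IsPullback ι ψ b i)

include hi hd hC hb hsq in
/-- The conormal module of the exceptional divisor is a line. -/
theorem rank_conormal : FlatMod.IsFinLocFreeOfRank 1 (Omega.conormal ι) := by
  haveI := hi.1
  refine rank_one_of_frames fun e => ?_
  obtain ⟨U, hU, hzU, n, a, k, hn, hk, hJ, hex, hF⟩ := exists_local i hi hC (ψ e)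
  obtain ⟨m, rfl⟩ : ∃ m, n = m + 1 := Nat.exists_eq_add_of_le' (hn ▸ hd)
  have he : ι e ∈ b ⁻¹ᵁ U := by
    show b (ι e) ∈ U
    rw [← Scheme.Hom.comp_apply, hsq.w, Scheme.Hom.comp_apply]
    exact hzU
  obtain ⟨j, hj⟩ := cover hb hU a hJ he
  obtain ⟨φ, hφ, -⟩ := S9371.result ι i b ψ hsq.w.symm
  exact ⟨_, hj, _, frame hb hsq φ hφ hU a hJ k hk j⟩

include hi hd hC hb hsq in
/-- The exceptional divisor is the projective bundle of the conormal module. -/
theorem isProjBundle (φ : (Scheme.Modules.pullback ψ).obj (Omega.conormal i) ⟶ Omega.conormal ι)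
    (hφ : OmegaSh.IsConormalMap ι i b ψ φ) :
    KRR.IsProjBundle ψ (Omega.conormal i) (Omega.conormal ι) φ := by
  haveI := hi.1
  refine PBExist.isProjBundle φ (rank_conormal hi hd hC hb hsq) fun z => ?_
  obtain ⟨U, hU, hzU, n, a, k, hn, hk, hJ, hex, hF⟩ := exists_local i hi hC z
  obtain ⟨m, rfl⟩ : ∃ m, n = m + 1 := Nat.exists_eq_add_of_le' (hn ▸ hd)
  exact ⟨i ⁻¹ᵁ U, m, _, hzU, good hb hsq φ hφ hU a hJ k hk hF hex⟩

include hi hd hC hb hsq in
theorem exists_isProjBundle : ∃ φ : (Scheme.Modules.pullback ψ).obj (Omega.conormal i) ⟶ Omega.conormal ι,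
    OmegaSh.IsConormalMap ι i b ψ φ ∧ KRR.IsProjBundle ψ (Omega.conormal i) (Omega.conormal ι) φ := by
  haveI := hi.1
  obtain ⟨φ, hφ, -⟩ := S9371.result ι i b ψ hsq.w.symm
  exact ⟨φ, hφ, isProjBundle hi hd hC hb hsq φ hφ⟩

end Groth.Agent.H28.ExcBundle
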