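import Groth.Agent.H28.KRRBC

/-!
# Products of classes of subschemes meeting regularly
-/

set_option autoImplicit false
set_option linter.style.haveILetI false
set_option linter.unusedSectionVars false
set_option backward.isDefEq.respectTransparency false
set_option backward.isDefEq.respectTransparency.types false
set_option maxHeartbeats 1000000

universe v w u

open CategoryTheory CategoryTheory.Limits AlgebraicGeometry TopologicalSpace

noncomputable section

namespace Groth.Agent.H28.KRRMeet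

open Groth.Agent Groth.Agent.KZ.LFRes Groth.Agent.H28.PushEngine

/-- Closed subschemes inherit the resolution property. -/
theorem enough_of_closed {X Z : Scheme.{u}} [AlgebraicGeometry.IsNoetherian X] (j : Z ⟶ X) [IsClosedImmersion j]
    (hX : KRR.HasEnoughLocFree X) : KRR.HasEnoughLocFree Z := fun F hF => by
  obtain ⟨E, p, hE, hp⟩ := hX _ (QCoh.isCoh_pushforward_finite j hF)
  haveI := KZ.ClosedDev.isIso_counit j (M := F) (QCoh.isQCoh_pushforward j hF.1)
  haveI : Epi ((Scheme.Modules.pullback j).map p) := (Scheme.Modules.pullback j).map_epi p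
  exact ⟨(Scheme.Modules.pullback j).obj E,
    (Scheme.Modules.pullback j).map p ≫ (Scheme.Modules.pullbackPushforwardAdjunction j).counit.app F,
    KFlatLib.isFinLocFree_pullback j hE, inferInstance⟩

theorem meet {X Y Z W : Scheme.{u}} [AlgebraicGeometry.IsNoetherian X] (hXe : KRR.HasEnoughLocFree X)
    (i : Y ⟶ X) (hi : Mor2.IsRegularClosedImmersion i) (j : Z ⟶ X) (hj : Mor2.IsRegularClosedImmersion j)
    (h : W ⟶ Y) (g : W ⟶ Z) (hsq : IsPullback g h j i) (hg : Mor2.IsRegularClosedImmersion g)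
    (d : ℕ) (hci : FlatMod.IsFinLocFreeOfRank d (Omega.conormal i)) (hcg : FlatMod.IsFinLocFreeOfRank d (Omega.conormal g))
    {KX : Type v} [CommRing KX] [LambdaRing.LambdaOps KX] {PX : LambdaRing.PosStructure KX}
    {φX : SGA6.Kvb X →+ KX} (hKX : KRR.IsModel X KX PX φX)
    {KY : Type v} [CommRing KY] [LambdaRing.LambdaOps KY] {PY : LambdaRing.PosStructure KY}
    {φY : SGA6.Kvb Y →+ KY} (hKY : KRR.IsModel Y KY PY φY)
    {KZ' : Type v} [CommRing KZ'] [LambdaRing.LambdaOps KZ'] {PZ : LambdaRing.PosStructure KZ'}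
    {φZ : SGA6.Kvb Z →+ KZ'} (hKZ : KRR.IsModel Z KZ' PZ φZ)
    {KW : Type v} [CommRing KW] [LambdaRing.LambdaOps KW] {PW : LambdaRing.PosStructure KW}
    {φW : SGA6.Kvb W →+ KW} (hKW : KRR.IsModel W KW PW φW)
    {a : KY →+ KX} (ha : KRR.IsPushCl i φY φX a) {b : KZ' →+ KX} (hb : KRR.IsPushCl j φZ φX b)
    {c : KW →+ KX} (hc : KRR.IsPushCl (g ≫ j) φW φX c) :
    a 1 * b 1 = c 1 := by
  haveI := hi.1
  haveI := hj.1
  haveI := hg.1
  haveI := PushComp.isNoetherian_of_closed j
  haveI := PushComp.isNoetherian_of_closed g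
  have hZe := enough_of_closed j hXe
  obtain ⟨jK, hjK, -⟩ := PullVB.existsUnique_isPull j φZ φX hKX.bijective
  obtain ⟨hK, hhK, -⟩ := PullVB.existsUnique_isPull h φW φY hKY.bijective
  obtain ⟨gW, hgW, -⟩ := KRRPushK.existsUnique_isPushCl g φW hKW.bijective φZ hZe hg
  have h1 : hK 1 = 1 := by
    rw [← hKY.map_one, hhK _ (PushK.isFinLocFree_structure Y), ← hKW.map_one]
    obtain ⟨e⟩ := PicClLib.nonempty_pullback_structureModule h
    exact congrArg φW (GenPush.cl_iso e (KFlatLib.isFinLocFree_pullback h (PushK.isFinLocFree_structure Y))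
      (PushK.isFinLocFree_structure W))
  have hp := KRRPushProp.push_mul_pull j φZ hKZ.bijective φX hXe hj hKX.bijective.2
    (fun E F hE hF => hKZ.map_mul E F hE hF) (fun E F hE hF => hKX.map_mul E F hE hF) jK hjK b hb 1 (a 1)
  rw [mul_comm (a 1) (b 1), ← hp, one_mul,
    KRRBC.pull_pushCl j hsq hi hg d hci hcg hZe hXe hKY.bijective.2 hjK hhK ha hgW 1, h1,
    KRRPushProp.push_comp g j φW hKW.bijective φZ hKZ.bijective φX hZe hXe hg hj gW hgW b hb c hc]
  rfl

end Groth.Agent.H28.KRRMeet
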