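import Groth.Agent.H28.DefSpace
import Groth.Agent.H28.DefLine
import Groth.Agent.H28.ExcBundle
import Groth.Agent.H28.QProjEnough
import Groth.Agent.H26.InterDiv
import Groth.Agent.H23.ProjBd.BcBundle
import Groth.Agent.H28.KRRMeet
import Groth.Agent.S8859

/-!
# The deformation to the normal cone of a regular immersion
-/

set_option autoImplicit false
set_option linter.style.haveILetI false
set_option linter.unusedSectionVars false
set_option backward.isDefEq.respectTransparency false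
set_option backward.isDefEq.respectTransparency.types false
set_option maxHeartbeats 1000000

universe v u

open CategoryTheory CategoryTheory.Limits AlgebraicGeometry TopologicalSpace Opposite
attribute [local instance] HasDerivedCategory.standard

noncomputable section

namespace Groth.Agent.H28.DefCore

open Groth.Agent Groth.Agent.AModX Groth.Agent.WiebeLib

theorem idealMod_top (X : Scheme.{u}) : Nonempty (ClSub.idealMod (⊤ : X.IdealSheafData) ≅ Coh.structureModule X) :=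
  ⟨((H26.IdealCl.nonempty_iso_of_range (𝟙 (Coh.structureModule X)) ⊤ fun U => by
    rw [Scheme.IdealSheafData.ideal_top]
    refine Set.eq_univ_of_forall fun x => ⟨OmegaSh.strSect X U.1 x, ?_⟩
    rfl).some).symm⟩

theorem koszulAt_of_regular {Z W : Scheme.{u}} [IsLocallyNoetherian W] (i : Z ⟶ W)
    (hi : Mor2.IsRegularClosedImmersion i) {d : ℕ} (hC : FlatMod.IsFinLocFreeOfRank d (Omega.conormal i)) (z : Z) :
    Synt.IsKoszulAt i z := by
  haveI := hi.1
  obtain ⟨U, hU, hzU, n, a, k, rfl, -, hI, hex, -⟩ := ExcCharts.exists_local i hi hC z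
  haveI : Algebra.Smooth Γ(W, U) Γ(W, U) := ⟨inferInstance, inferInstance⟩
  refine KRegLib.isKoszulAt_of_kReg i (hU.preimage i) hU le_rfl z hzU (i.app U).hom
    (by rw [Scheme.Hom.app_eq_appLE]; rfl) (i.app_surjective U hU) ?_
  refine KRegLib.KReg.of_on 1 (fun h1 => ?_) (Localization.Away (1 : Γ(W, U))) ?_
  · exact ((hU.preimage i).primeIdealOf ⟨z, hzU⟩).isPrime.ne_top ((Ideal.eq_top_iff_one _).2 (by
      rw [← map_one (i.app U).hom]; exact h1))
  · rw [Scheme.Hom.ker_apply] at hI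
    haveI : Module.Flat Γ(W, U) (Localization.Away (1 : Γ(W, U))) := IsLocalization.flat _ (Submonoid.powers 1)
    exact ⟨n, _, isExact_map (S := Localization.Away (1 : Γ(W, U))) hex, by
      rw [hI, Ideal.map_span, ← Set.range_comp]; rfl⟩

/-- A lift of a regular immersion to a smooth scheme over the target is regular. -/
theorem regular_lift_smooth {Z W P : Scheme.{u}} [IsLocallyNoetherian W] [IsLocallyNoetherian P] (σ : Z ⟶ P)
    [IsClosedImmersion σ] (π : P ⟶ W) [Smooth π] (s : Z ⟶ W) (hs : σ ≫ π = s)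
    (hreg : Mor2.IsRegularClosedImmersion s) {d : ℕ} (hC : FlatMod.IsFinLocFreeOfRank d (Omega.conormal s)) :
    Mor2.IsRegularClosedImmersion σ :=
  KRegLib.regClosed_of_isKoszulAt σ fun z => KRegLib.isKoszulAt_of_comp_smooth σ π
    (by rw [hs]; exact fun x => koszulAt_of_regular s hreg hC x) z

/-- Equal classes of divisors stay equal after inverse image. -/
theorem cl_comap {B M : Scheme.{u}} [AlgebraicGeometry.IsNoetherian B] [AlgebraicGeometry.IsNoetherian M]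
    (b : M ⟶ B) {I I' : B.IdealSheafData} (hI : BlowUp.IsEffCartierIdeal I) (hI' : BlowUp.IsEffCartierIdeal I')
    (hIb : BlowUp.IsEffCartierIdeal (I.comap b)) (hIb' : BlowUp.IsEffCartierIdeal (I'.comap b))
    {KB : Type (u + 1)} [CommRing KB] {φB : SGA6.Kvb B →+ KB} (hbij : Function.Bijective φB)
    {KM : Type (u + 1)} [CommRing KM] {φM : SGA6.Kvb M →+ KM}
    (h : φB (KRR.cl B (ClSub.idealMod I)) = φB (KRR.cl B (ClSub.idealMod I'))) :
    φM (KRR.cl M (ClSub.idealMod (I.comap b))) = φM (KRR.cl M (ClSub.idealMod (I'.comap b))) := by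
  obtain ⟨gb, hgb, -⟩ := PullVB.existsUnique_isPull b φM φB hbij
  obtain ⟨e⟩ := H26.InterDiv.nonempty_pullback_idealMod b I hI hIb
  obtain ⟨e'⟩ := H26.InterDiv.nonempty_pullback_idealMod b I' hI' hIb'
  have l := KvbModel.lf_of_rank (CartierPush.rank_idealMod hI)
  have l' := KvbModel.lf_of_rank (CartierPush.rank_idealMod hI')
  have h1 := congrArg gb h
  rw [hgb _ l, hgb _ l'] at h1
  rwa [GenPush.cl_iso e (KvbPull.lf_pull b l) (KvbModel.lf_of_rank (CartierPush.rank_idealMod hIb)),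
    GenPush.cl_iso e' (KvbPull.lf_pull b l') (KvbModel.lf_of_rank (CartierPush.rank_idealMod hIb'))] at h1

/-- The data of the deformation. -/
structure Def {X Y : Scheme.{u}} (f : X ⟶ Y) (d : ℕ) where
  M : Scheme.{u}
  P : Scheme.{u}
  E : Scheme.{u}
  noethM : AlgebraicGeometry.IsNoetherian M
  connM : ConnectedSpace ↥M
  enoughM : KRR.HasEnoughLocFree M
  noethP : AlgebraicGeometry.IsNoetherian P
  connP : ConnectedSpace ↥P
  noethE : AlgebraicGeometry.IsNoetherian E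
  connE : ConnectedSpace ↥E
  F : P ⟶ M
  hF : Mor2.IsRegularClosedImmersion F
  hFd : FlatMod.IsFinLocFreeOfRank d (Omega.conormal F)
  pX : P ⟶ X
  t0 : X ⟶ P
  t1 : X ⟶ P
  ht0 : t0 ≫ pX = 𝟙 X
  ht1 : t1 ≫ pX = 𝟙 X
  i0 : Y ⟶ M
  closed0 : IsClosedImmersion i0
  eff0 : BlowUp.IsEffCartierIdeal i0.ker
  sq0 : IsPullback f t0 i0 F
  ι : E ⟶ M
  closedE : IsClosedImmersion ι
  effE : BlowUp.IsEffCartierIdeal ι.ker
  z : X ⟶ E
  ψ : E ⟶ X
  hz : z ≫ ψ = 𝟙 X
  hzreg : Mor2.IsRegularClosedImmersion z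
  hzd : FlatMod.IsFinLocFreeOfRank d (Omega.conormal z)
  sqE : IsPullback z t1 ι F
  C : X.Modules
  hC : FlatMod.IsFinLocFreeOfRank (d + 1) C
  O1 : E.Modules
  q : (Scheme.Modules.pullback ψ).obj C ⟶ O1
  hPE : KRR.IsProjBundle ψ C O1 q
  trivz : Nonempty ((Scheme.Modules.pullback z).obj O1 ≅ Coh.structureModule X)
  clC : ∀ {KX : Type (u + 1)} [CommRing KX] [LambdaRing.LambdaOps KX] {PX : LambdaRing.PosStructure KX}
    {φX : SGA6.Kvb X →+ KX}, KRR.IsModel X KX PX φX →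
      φX (KRR.cl X C) = φX (KRR.cl X (Omega.conormal f)) + 1
  R : M.IdealSheafData
  effR : BlowUp.IsEffCartierIdeal R
  disjR : Disjoint (Set.range R.subschemeι.base) (Set.range F.base)
  clI : ∀ {KM : Type (u + 1)} [CommRing KM] [LambdaRing.LambdaOps KM] {PM : LambdaRing.PosStructure KM}
    {φM : SGA6.Kvb M →+ KM}, KRR.IsModel M KM PM φM →
      φM (KRR.cl M (ClSub.idealMod i0.ker)) = φM (KRR.cl M (ClSub.idealMod (R * ι.ker)))
  inj : ∀ {KY : Type (u + 1)} [CommRing KY] [LambdaRing.LambdaOps KY] {PY : LambdaRing.PosStructure KY}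
    {φY : SGA6.Kvb Y →+ KY}, KRR.IsModel Y KY PY φY →
    ∀ {KM : Type (u + 1)} [CommRing KM] {φM : SGA6.Kvb M →+ KM}, Function.Bijective φM →
    ∀ g0 : KY →+ KM, KRR.IsPushCl i0 φY φM g0 → ∀ δ, g0 δ = 0 → δ = 0

/-- The trivial line bundle with its two sections. -/
structure Line (Y : Scheme.{u}) where
  B : Scheme.{u}
  π : B ⟶ Y
  D : PBPush.Data π 1
  s₀ : Y ⟶ B
  s₁ : Y ⟶ B
  noethB : AlgebraicGeometry.IsNoetherian B
  connB : ConnectedSpace ↥B
  enoughB : KRR.HasEnoughLocFree B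
  hO1 : PicF.IsInvertible D.O1
  hs₀ : s₀ ≫ π = 𝟙 Y
  hs₁ : s₁ ≫ π = 𝟙 Y
  disj : Disjoint (Set.range s₀.base) (Set.range s₁.base)
  reg₀ : Mor2.IsRegularClosedImmersion s₀
  reg₁ : Mor2.IsRegularClosedImmersion s₁
  rank₀ : FlatMod.IsFinLocFreeOfRank 1 (Omega.conormal s₀)
  rank₁ : FlatMod.IsFinLocFreeOfRank 1 (Omega.conormal s₁)
  eff₀ : BlowUp.IsEffCartierIdeal s₀.ker
  eff₁ : BlowUp.IsEffCartierIdeal s₁.ker
  triv₀ : Nonempty ((Scheme.Modules.pullback s₀).obj D.O1 ≅ Coh.structureModule Y)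
  smooth : Smooth π
  triv₁ : Nonempty (Omega.conormal s₁ ≅ Coh.structureModule Y)
  bundle : ∃ F : Y.Modules, FlatMod.IsFinLocFreeOfRank (1 + 1) F ∧
    ∃ q : (Scheme.Modules.pullback π).obj F ⟶ D.O1, KRR.IsProjBundle π F D.O1 q
  clI : ∀ {KB : Type (u + 1)} [CommRing KB] [LambdaRing.LambdaOps KB] {PB : LambdaRing.PosStructure KB}
    {φB : SGA6.Kvb B →+ KB}, KRR.IsModel B KB PB φB →
    φB (KRR.cl B (ClSub.idealMod s₀.ker)) = φB (KRR.cl B (ClSub.idealMod s₁.ker))

/-- Such a bundle exists. -/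
theorem exists_Line {Y : Scheme.{u}} [AlgebraicGeometry.IsNoetherian Y] [ConnectedSpace ↥Y]
    (hYe : KRR.HasEnoughLocFree Y) : Nonempty (Line Y) := by
  obtain ⟨B, π, D, s₀, s₁, hBn, hBc, hBe, hO1, hs₀, hs₁, hdisj, hreg₀, hreg₁, hr₀, hr₁, heff₀, heff₁, htriv₀, hsm,
    htriv₁, hF₂, hcl⟩ := DefLine.exists_line hYe
  refine ⟨⟨B, π, D, s₀, s₁, hBn, hBc, hBe, hO1, hs₀, hs₁, hdisj, hreg₀, hreg₁, hr₀, hr₁, heff₀, heff₁, htriv₀, hsm,
    htriv₁, hF₂, ?_⟩⟩
  intro KB _ _ PB φB hB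
  haveI := hreg₀.1
  haveI := hreg₁.1
  obtain ⟨KY, _, _, PY, φY, hY⟩ := KvbModel.exists_isModel (X := Y)
  obtain ⟨g₀, hg₀, -⟩ := KRRPushK.existsUnique_isPushCl s₀ φY hY.bijective φB hBe hreg₀
  obtain ⟨g₁, hg₁, -⟩ := KRRPushK.existsUnique_isPushCl s₁ φY hY.bijective φB hBe hreg₁
  have h := hcl hY hB g₀ g₁ hg₀ hg₁
  rwa [CartierPush.push_one s₀ heff₀ hBe hY.bijective hY.map_one hB.map_one hg₀,
    CartierPush.push_one s₁ heff₁ hBe hY.bijective hY.map_one hB.map_one hg₁, sub_right_inj] at h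

set_option maxHeartbeats 8000000 in
/-- The deformation over a given line bundle, with its blowing down. -/
theorem exists_defB {X Y : Scheme.{u}} [AlgebraicGeometry.IsNoetherian Y] [ConnectedSpace ↥Y]
    (hYe : KRR.HasEnoughLocFree Y) (Λ : Line Y) (f : X ⟶ Y) (hf : Mor2.IsRegularClosedImmersion f)
    [ConnectedSpace ↥X] {d : ℕ} (hC : FlatMod.IsFinLocFreeOfRank d (Omega.conormal f)) :
    ∃ (Δ : Def f d) (b : Δ.M ⟶ Λ.B), BlowUp.IsBlowUp b (f ≫ Λ.s₁).ker ∧
      Δ.i0 ≫ b = Λ.s₀ ∧ (f ≫ Λ.s₁).ker.comap Λ.s₀ = ⊤ ∧ IsPullback Δ.ι Δ.ψ b (f ≫ Λ.s₁) ∧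
      Δ.ι.ker = (f ≫ Λ.s₁).ker.comap b ∧ Δ.R * Δ.ι.ker = Λ.s₁.ker.comap b ∧
      Nonempty (Δ.O1 ≅ Omega.conormal Δ.ι) := by
  classical
  haveI := hf.1
  haveI := PushComp.isNoetherian_of_closed f
  obtain ⟨B, π, D, s₀, s₁, hBn, hBc, hBe, hO1, hs₀, hs₁, hdisj, hreg₀, hreg₁, hr₀, hr₁, heff₀, heff₁, htriv₀, hsm,
    htriv₁, ⟨F₂, hF₂, q₂, hP₂⟩, hcl⟩ := Λ
  obtain ⟨e₁⟩ := htriv₁
  haveI := hreg₀.1
  haveI := hreg₁.1
  haveI := hsm
  let P := pullback π f
  let jX : P ⟶ B := pullback.fst π f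
  let pX : P ⟶ X := pullback.snd π f
  have hsqP : IsPullback jX pX π f := IsPullback.of_hasPullback π f
  haveI : IsClosedImmersion jX := MorphismProperty.of_isPullback (P := @IsClosedImmersion) hsqP.flip hf.1
  haveI : AlgebraicGeometry.IsNoetherian P := PushComp.isNoetherian_of_closed jX
  obtain ⟨hjreg, hjd⟩ := DefGeom.baseChange hsqP.flip hf hC
  haveI : ConnectedSpace ↥P := PBSplit.connectedSpace (H23.ProjBd.isProjBundle_baseChange hsqP hP₂)
    (H23.GrassFlag.rank_pullback f hF₂)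
  have hlift : ∀ (s : Y ⟶ B) (hs : s ≫ π = 𝟙 Y), (f ≫ s) ≫ π = 𝟙 X ≫ f := fun s hs => by
    rw [Category.assoc, hs, Category.comp_id, Category.id_comp]
  let t0 : X ⟶ P := pullback.lift (f ≫ s₀) (𝟙 X) (hlift s₀ hs₀)
  let t1 : X ⟶ P := pullback.lift (f ≫ s₁) (𝟙 X) (hlift s₁ hs₁)
  have ht0 : t0 ≫ pX = 𝟙 X := pullback.lift_snd _ _ _
  have ht1 : t1 ≫ pX = 𝟙 X := pullback.lift_snd _ _ _
  have ht0j : t0 ≫ jX = f ≫ s₀ := pullback.lift_fst _ _ _
  have ht1j : t1 ≫ jX = f ≫ s₁ := pullback.lift_fst _ _ _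
  have hsq₀ : IsPullback t0 f jX s₀ :=
    IsPullback.of_right (by rw [ht0, hs₀]; exact IsPullback.of_horiz_isIso ⟨by simp⟩) ht0j hsqP.flip
  have hsq₁ : IsPullback t1 f jX s₁ :=
    IsPullback.of_right (by rw [ht1, hs₁]; exact IsPullback.of_horiz_isIso ⟨by simp⟩) ht1j hsqP.flip
  haveI : IsClosedImmersion t1 := MorphismProperty.of_isPullback (P := @IsClosedImmersion) hsq₁.flip hreg₁.1
  have ht1ker : t1.ker = s₁.ker.comap jX := TorPull.ker_eq hsq₁
  have heff₁j : BlowUp.IsEffCartierIdeal (s₁.ker.comap jX) := DefGeom.isEffCartier_bc π f s₁ hs₁ heff₁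
  -- the centre
  let c : X ⟶ B := f ≫ s₁
  haveI : IsClosedImmersion c := inferInstanceAs (IsClosedImmersion (f ≫ s₁))
  obtain ⟨hcreg, hcd⟩ : Mor2.IsRegularClosedImmersion c ∧ FlatMod.IsFinLocFreeOfRank (d + 1) (Omega.conormal c) := by
    have h := DefGeom.regular_centre jX hjreg hjd s₁.ker heff₁ heff₁j t1 ht1ker
    rwa [ht1j] at h
  have hcker : c.ker = jX.ker ⊔ s₁.ker := Scheme.IdealSheafData.ext (funext fun U => by
    show (f ≫ s₁).ker.ideal U = _
    rw [← ht1j, DefGeom.ker_comp jX t1 s₁.ker ht1ker U, Scheme.IdealSheafData.ideal_sup, Pi.sup_apply])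
  have hcj : c.ker.comap jX = s₁.ker.comap jX := by
    rw [hcker, Scheme.IdealSheafData.comap_sup]
    refine sup_eq_right.2 ?_
    rw [show jX.ker = Scheme.IdealSheafData.map ⊥ jX from (Scheme.IdealSheafData.map_bot jX).symm]
    exact (Scheme.IdealSheafData.comap_map_le (I := ⊥) (f := jX)).trans bot_le
  -- the blowing up and its embedding
  obtain ⟨M, b, hb⟩ := Groth.Agent.S8859.result B c.ker
  obtain ⟨r, G, u, hG, hJ⟩ := DefSpace.exists_gens hBe c.ker
  obtain ⟨PG, πG, O1G, qG, hPG⟩ := PBMake.exists_of_rank hG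
  haveI : AlgebraicGeometry.IsNoetherian PG := PBSplit.isNoetherian hPG hG
  haveI : ConnectedSpace ↥PG := PBSplit.connectedSpace hPG hG
  obtain ⟨Oinv, hOi, hOO⟩ := H23.PicInv.exists_inverse (PBCores.isInvertible_iff_rank.2 hPG.invertible)
  obtain ⟨eOO⟩ := hOO
  obtain ⟨ecomm⟩ := H23.PicMul.comm Oinv O1G
  obtain ⟨DG, hDO, -⟩ := PBBasis.exists_data hPG hG Oinv ⟨ecomm ≪≫ eOO⟩
    (KvbModel.lf_of_rank (PBCores.isInvertible_iff_rank.1 hOi))
  subst hDO
  obtain ⟨g, hg, eg, hgcomp⟩ := BlowEmb.exists_emb hG u c.ker hJ hb hPG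
  haveI : IsClosedImmersion g := BlowEmb.isClosedImmersion_emb hg eg hgcomp hG hJ hPG hb
  haveI : AlgebraicGeometry.IsNoetherian M := PushComp.isNoetherian_of_closed g
  haveI := BlowEmb.smooth_projBundle hG hPG
  haveI := PBCohPush.isProper DG
  haveI : IsProper b := by rw [← hg]; infer_instance
  have hPGe := PBEnough.enough DG hBe
  have hMe : KRR.HasEnoughLocFree M := KZ.QuasiProj.enough_closed hPGe g
  have hgreg := BlowEmb.isRegular_of_smooth hcreg hb g πG hg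
  -- the lift of the family
  obtain ⟨F, hFb, -⟩ := hb.2 P jX (hcj.symm ▸ heff₁j)
  haveI : IsClosedImmersion F := by
    haveI : IsClosedImmersion (F ≫ b) := by rw [hFb]; infer_instance
    exact IsClosedImmersion.of_comp F b
  obtain ⟨hFreg, hFd⟩ := LiftReg.isRegular_lift hb jX hjreg hjd s₁.ker heff₁ heff₁j
    (fun U => by rw [hcker, Scheme.IdealSheafData.ideal_sup, Pi.sup_apply]) F hFb
  -- the fibre at zero
  have havoid : c.ker.comap s₀ = ⊤ := by
    rw [← Scheme.IdealSheafData.support_eq_bot_iff, Scheme.IdealSheafData.support_comap]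
    refine TopologicalSpace.Closeds.ext (Set.eq_empty_iff_forall_notMem.2 fun y hy => ?_)
    have hy' : s₀ y ∈ (c.ker.support : Set B) := hy
    rw [Scheme.Hom.support_ker, c.isClosedEmbedding.isClosed_range.closure_eq] at hy'
    obtain ⟨x, hx⟩ := hy'
    exact Set.disjoint_left.1 hdisj ⟨y, rfl⟩ ⟨f x, hx⟩
  obtain ⟨i0, hi0b, -⟩ := hb.2 Y s₀ (havoid.symm ▸ H26.IdealCl.isEffCartier_top)
  haveI : IsClosedImmersion i0 := by
    haveI : IsClosedImmersion (i0 ≫ b) := by rw [hi0b]; infer_instance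
    exact IsClosedImmersion.of_comp i0 b
  have huniq0 : ∀ {T : Scheme.{u}} (q : T ⟶ Y) (h : T ⟶ M), h ≫ b = q ≫ s₀ → h = q ≫ i0 := fun {T} q h hh => by
    refine (hb.2 T (q ≫ s₀) ?_).unique hh (by rw [Category.assoc, hi0b])
    rw [Scheme.IdealSheafData.comap_comp, havoid, Scheme.IdealSheafData.comap_top]
    exact H26.IdealCl.isEffCartier_top
  have hsqi0 : IsPullback i0 (𝟙 Y) b s₀ := by
    have hw : i0 ≫ b = 𝟙 Y ≫ s₀ := by rw [hi0b, Category.id_comp]
    have hinv : IsIso (pullback.lift i0 (𝟙 Y) hw) := by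
      refine ⟨pullback.snd b s₀, pullback.lift_snd _ _ _, ?_⟩
      refine pullback.hom_ext ?_ ?_
      · rw [Category.assoc, pullback.lift_fst, Category.id_comp, ← huniq0 _ _ pullback.condition]
      · rw [Category.assoc, pullback.lift_snd, Category.comp_id, Category.id_comp]
    exact IsPullback.of_iso_pullback ⟨hw⟩ (asIso (pullback.lift i0 (𝟙 Y) hw)) (pullback.lift_fst _ _ _)
      (pullback.lift_snd _ _ _)
  have hker0 : i0.ker = s₀.ker.comap b := TorPull.ker_eq hsqi0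
  have heff0 : BlowUp.IsEffCartierIdeal i0.ker := hker0 ▸ ModPairLib.isEffCartier_comap_blowUp hb heff₀
  have hsq0 : IsPullback f t0 i0 F :=
    (IsPullback.of_bot (by rw [Category.comp_id, hFb]; exact hsq₀)
      (huniq0 f (t0 ≫ F) (by rw [Category.assoc, hFb, ht0j])) hsqi0).flip
  -- the exceptional divisor
  let E := pullback b c
  let ι : E ⟶ M := pullback.fst b c
  let ψ : E ⟶ X := pullback.snd b c
  have hsqE : IsPullback ι ψ b c := IsPullback.of_hasPullback b c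
  haveI : IsClosedImmersion ι := inferInstanceAs (IsClosedImmersion (pullback.fst b c))
  haveI : AlgebraicGeometry.IsNoetherian E := PushComp.isNoetherian_of_closed ι
  have hιker : ι.ker = c.ker.comap b := TorPull.ker_eq hsqE
  have heffE : BlowUp.IsEffCartierIdeal ι.ker := hιker ▸ hb.1
  obtain ⟨qE, -, hPE⟩ := ExcBundle.exists_isProjBundle hcreg (Nat.le_add_left 1 d) hcd hb hsqE
  haveI : ConnectedSpace ↥E := PBSplit.connectedSpace hPE hcd
  haveI : ConnectedSpace ↥M := DefSpace.connectedSpace_blowUp hb hsqE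
  have hwz : (t1 ≫ F) ≫ b = 𝟙 X ≫ c := by rw [Category.assoc, hFb, ht1j, Category.id_comp]
  let z : X ⟶ E := pullback.lift (t1 ≫ F) (𝟙 X) hwz
  have hz : z ≫ ψ = 𝟙 X := pullback.lift_snd _ _ _
  have hzι : z ≫ ι = t1 ≫ F := pullback.lift_fst _ _ _
  have hsqz : IsPullback z t1 ι F := by
    refine (IsPullback.of_bot ?_ hzι.symm hsqE).flip
    rw [hz, hFb]
    refine ⟨⟨by rw [ht1j, Category.id_comp]⟩, ⟨PullbackCone.IsLimit.mk _ (fun s => s.snd) (fun s => ?_)
      (fun s => Category.comp_id _) fun s m _ hm2 => (Category.comp_id m).symm.trans hm2⟩⟩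
    rw [← cancel_mono jX, Category.assoc, ht1j]
    exact s.condition.symm
  have hFι : ι.ker.comap F = s₁.ker.comap jX := by
    rw [hιker, ← Scheme.IdealSheafData.comap_comp, hFb, hcj]
  obtain ⟨hzreg, hzd⟩ := DefSpace.regular_meet F hFreg hFd ι heffE (hFι.symm ▸ heff₁j) z t1 hsqz
  -- classes
  let R := ModPairLib.colon (s₁.ker.comap b) ι.ker (ModPairLib.isLocPrincipal_of_isEffCartier heffE)
  have hRmul : R * ι.ker = s₁.ker.comap b := ModPairLib.colon_mul heffE (by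
    rw [hιker]
    exact Scheme.IdealSheafData.comap_mono b (hcker ▸ le_sup_right))
  have heff₁b := ModPairLib.isEffCartier_comap_blowUp hb heff₁
  have hReff : BlowUp.IsEffCartierIdeal R := ModPairLib.isEffCartier_of_mul heffE (hRmul.symm ▸ heff₁b)
  have hRF : R.comap F = ⊤ := by
    refine ModPairLib.eq_of_mul_eq_mul (hFι.symm ▸ heff₁j : BlowUp.IsEffCartierIdeal (ι.ker.comap F)) ?_
    rw [← ModPairLib.ideal_comap_mul, hRmul, ← Scheme.IdealSheafData.comap_comp, hFb, ← hFι]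
    refine Scheme.IdealSheafData.ext (funext fun U => ?_)
    rw [Scheme.IdealSheafData.ideal_mul, Pi.mul_apply, Scheme.IdealSheafData.ideal_top, Pi.top_apply, Ideal.top_mul]
  have htrivz : Nonempty ((Scheme.Modules.pullback z).obj (Omega.conormal ι) ≅ Coh.structureModule X) := by
    obtain ⟨i1⟩ := H26.InterDiv.nonempty_pullback_idealMod F ι.ker heffE (hFι.symm ▸ heff₁j)
    obtain ⟨i2⟩ := H26.InterDiv.nonempty_pullback_idealMod jX s₁.ker heff₁ heff₁j
    exact ⟨(Scheme.Modules.pullbackComp z ι).app _ ≪≫ (Scheme.Modules.pullbackCongr hzι).app _ ≪≫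
      ((Scheme.Modules.pullbackComp t1 F).app _).symm ≪≫
      (Scheme.Modules.pullback t1).mapIso (i1 ≪≫ eqToIso (by rw [hFι]) ≪≫ i2.symm) ≪≫
      (Scheme.Modules.pullbackComp t1 jX).app _ ≪≫ (Scheme.Modules.pullbackCongr ht1j).app _ ≪≫
      ((Scheme.Modules.pullbackComp f s₁).app _).symm ≪≫ (Scheme.Modules.pullback f).mapIso e₁ ≪≫ KvbPull.unitIso f⟩
  refine ⟨{
    M := M, P := P, E := E, noethM := inferInstance, connM := inferInstance, enoughM := hMe
    noethP := inferInstance, connP := inferInstance, noethE := inferInstance, connE := inferInstance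
    F := F, hF := hFreg, hFd := hFd, pX := pX, t0 := t0, t1 := t1, ht0 := ht0, ht1 := ht1
    i0 := i0, closed0 := inferInstance, eff0 := heff0, sq0 := hsq0
    ι := ι, closedE := inferInstance, effE := heffE, z := z, ψ := ψ, hz := hz, hzreg := hzreg, hzd := hzd
    sqE := hsqz, C := Omega.conormal c, hC := hcd, O1 := Omega.conormal ι, q := qE, hPE := hPE, trivz := htrivz
    clC := fun hX => DefGeom.cl_conormal_comp f s₁ hf hreg₁ e₁ (KvbModel.lf_of_rank hcd) (KvbModel.lf_of_rank hC) hX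
    R := R, effR := hReff, disjR := ?_, clI := ?_, inj := ?_ }, b, hb, hi0b, havoid, hsqE, hιker, hRmul, ⟨Iso.refl _⟩⟩
  · rw [Set.disjoint_left]
    rintro _ ⟨y, rfl⟩ ⟨p, hp⟩
    have h1 : F p ∈ (R.support : Set M) := by
      rw [show F p = R.subschemeι y from hp, ← Scheme.IdealSheafData.range_subschemeι]
      exact ⟨y, rfl⟩
    have h2 : p ∈ ((R.comap F).support : Set P) := by
      rw [Scheme.IdealSheafData.support_comap]
      exact h1
    rw [hRF, Scheme.IdealSheafData.support_top] at h2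
    exact h2
  · intro KM _ _ PM φM hM
    rw [hker0, hRmul]
    obtain ⟨KB, _, _, PB, φB, hB⟩ := KvbModel.exists_isModel (X := B)
    have h := hcl hB
    exact cl_comap b heff₀ heff₁ (hker0 ▸ heff0) heff₁b hB.bijective h
  · intro KY _ _ PY φY hY KM _ φM hMb g0 hg0 δ hδ
    obtain ⟨KB, _, _, PB, φB, hB⟩ := KvbModel.exists_isModel (X := B)
    obtain ⟨KG, _, _, PGs, φG, hGm⟩ := KvbModel.exists_isModel (X := PG)
    have hi0reg := (CartierPush.regular i0 heff0).1
    have hσπ : (i0 ≫ g) ≫ πG = s₀ := by rw [Category.assoc, hg, hi0b]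
    haveI : IsClosedImmersion (i0 ≫ g) := inferInstance
    have hσreg := regular_lift_smooth (i0 ≫ g) πG s₀ hσπ hreg₀ hr₀
    obtain ⟨gg, hgg, -⟩ := KRRPushK.existsUnique_isPushCl g φM hMb φG hPGe hgreg
    obtain ⟨gσ, hgσ, -⟩ := KRRPushK.existsUnique_isPushCl (i0 ≫ g) φY hY.bijective φG hPGe hσreg
    obtain ⟨gs, hgs, -⟩ := KRRPushK.existsUnique_isPushCl s₀ φY hY.bijective φB hBe hreg₀
    have e1 := KRRPushProp.push_comp i0 g φY hY.bijective φM hMb φG hMe hPGe hi0reg hgreg g0 hg0 gg hgg gσ hgσ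
    obtain ⟨ρG, -, hρG⟩ := PushTwo.exists_rho DG hBe (PBCores.isInvertible_iff_rank.2 hPG.invertible) hGm hB
    obtain ⟨ρ, -, hρ⟩ := PushTwo.exists_rho D hYe hO1 hB hY
    have hes : Nonempty ((Scheme.Modules.pullback (i0 ≫ g)).obj DG.O1 ≅ Coh.structureModule Y) := by
      have htop : (c.ker.comap b).comap i0 = ⊤ := by rw [← Scheme.IdealSheafData.comap_comp, hi0b, havoid]
      obtain ⟨i1⟩ := H26.InterDiv.nonempty_pullback_idealMod i0 (c.ker.comap b) hb.1
        (htop.symm ▸ H26.IdealCl.isEffCartier_top)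
      obtain ⟨i2⟩ := idealMod_top Y
      exact ⟨((Scheme.Modules.pullbackComp i0 g).app _).symm ≪≫ (Scheme.Modules.pullback i0).mapIso eg ≪≫ i1 ≪≫
        eqToIso (by rw [htop]) ≪≫ i2⟩
    have h1 : gs δ = 0 := by
      rw [← DFunLike.congr_fun (hρG (i0 ≫ g) hσreg s₀ hσπ hes φY hY.bijective gσ hgσ gs hgs) δ,
        AddMonoidHom.comp_apply, e1, AddMonoidHom.comp_apply, hδ, map_zero, map_zero]
    have h2 := DFunLike.congr_fun (hρ s₀ hreg₀ (𝟙 Y) hs₀ htriv₀ φY hY.bijective gs hgs _ (PushTwo.isPushCl_id hYe φY)) δ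
    rw [AddMonoidHom.comp_apply, h1, map_zero] at h2
    exact h2.symm

set_option maxHeartbeats 1000000 in
/-- The deformation exists. -/
theorem exists_def {X Y : Scheme.{u}} [AlgebraicGeometry.IsNoetherian Y] [ConnectedSpace ↥Y]
    (hYe : KRR.HasEnoughLocFree Y) (f : X ⟶ Y) (hf : Mor2.IsRegularClosedImmersion f) [ConnectedSpace ↥X] {d : ℕ}
    (hC : FlatMod.IsFinLocFreeOfRank d (Omega.conormal f)) : Nonempty (Def f d) := by
  obtain ⟨Λ⟩ := exists_Line hYe
  obtain ⟨Δ, -⟩ := exists_defB hYe Λ f hf hC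
  exact ⟨Δ⟩

end Groth.Agent.H28.DefCore
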