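import Groth.Agent.H28.PBPush
import Groth.Agent.H28.PBCores
import Groth.Agent.H28.GenBasis

/-!
# `K₀` of a projective bundle is free on the twists
-/

set_option autoImplicit false
set_option linter.style.haveILetI false
set_option linter.unusedSectionVars false
set_option backward.isDefEq.respectTransparency false
set_option backward.isDefEq.respectTransparency.types false

universe u

open CategoryTheory CategoryTheory.Limits AlgebraicGeometry TopologicalSpace Opposite

noncomputable section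

namespace Groth.Agent.H28.PBBasis

open Groth.Agent Groth.Agent.H23.PicMul Groth.Agent.H28.KRRTw Groth.Agent.H28.KRRReg Groth.Agent.H28.PBAtlas
  Groth.Agent.H28.PBPush

variable {X P : Scheme.{u}} {π : P ⟶ X} {n : ℕ}

section Gen

/-- An isomorphism can be checked on a cover. -/
theorem isIso_of_restrict {Y : Scheme.{u}} {A B : Y.Modules} (f : A ⟶ B)
    (h : ∀ p : Y, ∃ U : Y.Opens, p ∈ U ∧ IsIso ((Scheme.Modules.pullback U.ι).map f)) : IsIso f := by
  haveI : Epi f := PBAtlas.epi_of_restrict f fun p => (h p).imp fun U hU => ⟨hU.1, @IsIso.epi_of_iso _ _ _ _ _ hU.2⟩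
  haveI : Mono f := Preadditive.mono_of_isZero_kernel _ (PBAtlas.isZero_of_restrict _ fun p => by
    obtain ⟨U, hp, hU⟩ := h p
    refine ⟨U, hp, ?_⟩
    haveI := hU
    haveI := isLeftAdjoint_pullback U.ι
    haveI : PreservesFiniteLimits (Scheme.Modules.pullback U.ι) :=
      preservesFiniteLimits_of_natIso (Scheme.Modules.restrictFunctorIsoPullback U.ι)
    exact (isZero_kernel_of_mono ((Scheme.Modules.pullback U.ι).map f)).of_iso
      (PreservesKernel.iso (Scheme.Modules.pullback U.ι) f))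
  exact isIso_of_mono_of_epi f

/-- Inverse image along an isomorphism and back. -/
def backIso {Y Z : Scheme.{u}} (h : Y ⟶ Z) [IsIso h] :
    Scheme.Modules.pullback h ⋙ Scheme.Modules.pullback (inv h) ≅ 𝟭 Z.Modules :=
  Scheme.Modules.pullbackComp (inv h) h ≪≫ Scheme.Modules.pullbackCongr (IsIso.inv_hom_id h) ≪≫
    Scheme.Modules.pullbackId _

end Gen

section Chart

variable {G : X.Modules} {O1 : P.Modules} (c : Chart π O1 G n)

/-- Restriction to the chart of `π^*`, naturally. -/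
def pullNat : Scheme.Modules.pullback π ⋙ Scheme.Modules.pullback c.j ≅
    Scheme.Modules.pullback c.U.1.ι ⋙ Scheme.Modules.pullback (KRR.pr n c.B) :=
  Scheme.Modules.pullbackComp c.j π ≪≫ Scheme.Modules.pullbackCongr c.j_π ≪≫
    (Scheme.Modules.pullbackComp (KRR.pr n c.B) c.U.1.ι).symm

/-- A map from an inverse image factors through the counit. -/
theorem factor_counit {B : Scheme.{u}} {A : B.Modules} {M : (KRR.PY n B).Modules}
    (φ : (Scheme.Modules.pullback (KRR.pr n B)).obj A ⟶ M) :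
    (Scheme.Modules.pullback (KRR.pr n B)).map ((Scheme.Modules.pullbackPushforwardAdjunction (KRR.pr n B)).unit.app A ≫
      (Scheme.Modules.pushforward (KRR.pr n B)).map φ) ≫ RegRes.eps M = φ := by
  have h := ((Scheme.Modules.pullbackPushforwardAdjunction (KRR.pr n B)).homEquiv A M).symm_apply_apply φ
  rw [Adjunction.homEquiv_counit, Adjunction.homEquiv_unit] at h
  exact h

/-- The restriction of the counit to a chart, with its kernel. -/
theorem counit_chart (W : P.Modules) (hlf : FlatMod.IsFinLocFree ((Scheme.Modules.pushforward π).obj W))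
    (hreg : KRR.IsRegSheaf n c.B ((Scheme.Modules.pullback c.j).obj W))
    (hW : FlatMod.IsFinLocFree ((Scheme.Modules.pullback c.j).obj W)) :
    let ε := (Scheme.Modules.pullbackPushforwardAdjunction π).counit.app W
    Epi ((Scheme.Modules.pullback c.j).map ε) ∧
      Nonempty ((Scheme.Modules.pullback c.j).obj (kernel ε) ≅ kernel (RegRes.eps ((Scheme.Modules.pullback c.j).obj W))) := by
  intro ε
  let J := Scheme.Modules.pullback c.j
  let I := Scheme.Modules.pullback c.U.1.ι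
  let p := KRR.pr n c.B
  haveI : CompactSpace c.B := isCompact_iff_compactSpace.1 c.U.2.isCompact
  have hq : Coh.IsQCoh (J.obj W) := QCoh.isQCoh_of_isFinLocFree hW
  have hA : FlatMod.IsFinLocFree (I.obj ((Scheme.Modules.pushforward π).obj W)) := KvbPull.lf_pull _ hlf
  have hB : FlatMod.IsFinLocFree ((Scheme.Modules.pushforward p).obj (J.obj W)) := GenPush.isFinLocFree_push ⟨hW, hreg⟩
  let e := (pullNat c).app ((Scheme.Modules.pushforward π).obj W)
  let φ : (Scheme.Modules.pullback p).obj (I.obj ((Scheme.Modules.pushforward π).obj W)) ⟶ J.obj W := e.inv ≫ J.map ε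
  haveI : Epi ((Scheme.Modules.pushforward p).map φ) := by
    haveI : IsSplitEpi ((Scheme.Modules.pushforward π).map ε) :=
      ⟨⟨⟨(Scheme.Modules.pullbackPushforwardAdjunction π).unit.app _,
        (Scheme.Modules.pullbackPushforwardAdjunction π).right_triangle_components W⟩⟩⟩
    haveI : IsSplitEpi ((Scheme.Modules.pushforward π ⋙ I).map ε) :=
      inferInstanceAs (IsSplitEpi (I.map ((Scheme.Modules.pushforward π).map ε)))
    have h : (J ⋙ Scheme.Modules.pushforward p).map ε = c.push.inv.app _ ≫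
        (Scheme.Modules.pushforward π ⋙ I).map ε ≫ c.push.hom.app _ := by
      rw [c.push.hom.naturality ε, Iso.inv_hom_id_app_assoc]
    haveI : Epi ((Scheme.Modules.pushforward p).map (J.map ε)) := by
      rw [← Functor.comp_map, h]; infer_instance
    rw [Functor.map_comp]
    infer_instance
  haveI := PnH0.isIso_unit (n := n) (I.obj ((Scheme.Modules.pushforward π).obj W)) (QCoh.isQCoh_of_isFinLocFree hA)
  let a := (Scheme.Modules.pullbackPushforwardAdjunction p).unit.app _ ≫ (Scheme.Modules.pushforward p).map φ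
  haveI : Epi a := inferInstance
  haveI : IsIso a := PBAtlas.isIso_of_epi a hA hB ⟨c.push.app W⟩
  haveI := KRREpi.epi_counit _ hq hreg
  have hJ : J.map ε = (e.hom ≫ (Scheme.Modules.pullback p).map a) ≫ RegRes.eps (J.obj W) := by
    rw [Category.assoc, factor_counit φ]
    exact (e.hom_inv_id_assoc _).symm
  refine ⟨by rw [hJ]; infer_instance, ?_⟩
  haveI := isLeftAdjoint_pullback c.j
  haveI : PreservesFiniteLimits J := preservesFiniteLimits_of_natIso (Scheme.Modules.restrictFunctorIsoPullback c.j)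
  exact ⟨PreservesKernel.iso J ε ≪≫ kernelIsoOfEq hJ ≪≫ kernelIsIsoComp _ _⟩

/-- The unit at a bundle, restricted to a chart. -/
theorem isIso_unit_chart (N : X.Modules) (hN : FlatMod.IsFinLocFree N) :
    IsIso ((Scheme.Modules.pullback c.U.1.ι).map
      ((Scheme.Modules.pullbackPushforwardAdjunction π).unit.app N)) := by
  let J := Scheme.Modules.pullback c.j
  let I := Scheme.Modules.pullback c.U.1.ι
  let p := KRR.pr n c.B
  let Pl := Scheme.Modules.pullback p
  let adj := Scheme.Modules.pullbackPushforwardAdjunction π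
  let η := adj.unit.app N
  have hIN : FlatMod.IsFinLocFree (I.obj N) := KvbPull.lf_pull _ hN
  haveI := PnH0.isIso_unit (n := n) (I.obj N) (QCoh.isQCoh_of_isFinLocFree hIN)
  let e₀ : J.obj ((Scheme.Modules.pullback π).obj N) ≅ Pl.obj (I.obj N) := (pullNat c).app N
  let e₁ : I.obj ((Scheme.Modules.pushforward π).obj ((Scheme.Modules.pullback π).obj N)) ≅ I.obj N :=
    c.push.app _ ≪≫ (Scheme.Modules.pushforward p).mapIso e₀ ≪≫
      (asIso ((Scheme.Modules.pullbackPushforwardAdjunction p).unit.app (I.obj N))).symm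
  have hA : FlatMod.IsFinLocFree (I.obj ((Scheme.Modules.pushforward π).obj ((Scheme.Modules.pullback π).obj N))) :=
    lf_of_iso e₁.symm hIN
  let ε := adj.counit.app ((Scheme.Modules.pullback π).obj N)
  have htri : J.map ((Scheme.Modules.pullback π).map η) ≫ J.map ε = 𝟙 _ :=
    (J.map_comp _ _).symm.trans ((congrArg (fun v => J.map v) (adj.left_triangle_components N)).trans (J.map_id _))
  haveI : Epi (J.map ε) := by
    haveI : IsSplitEpi (J.map ε) := ⟨⟨⟨_, htri⟩⟩⟩
    infer_instance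
  let e₂ := (pullNat c).app ((Scheme.Modules.pushforward π).obj ((Scheme.Modules.pullback π).obj N))
  haveI : IsIso (J.map ε) := PBAtlas.isIso_of_epi _ (lf_of_iso e₂.symm (KvbPull.lf_pull p hA))
    (lf_of_iso e₀.symm (KvbPull.lf_pull p hIN)) ⟨e₂ ≪≫ Pl.mapIso e₁ ≪≫ e₀.symm⟩
  haveI : IsIso (J.map ((Scheme.Modules.pullback π).map η)) :=
    IsIso.of_isIso_fac_right htri
  haveI : IsIso (Pl.map (I.map η)) := by
    have h : Pl.map (I.map η) = (pullNat c).inv.app _ ≫ J.map ((Scheme.Modules.pullback π).map η) ≫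
        (pullNat c).hom.app _ := by
      rw [← Functor.comp_map (Scheme.Modules.pullback π) J, (pullNat c).hom.naturality η, Iso.inv_hom_id_app_assoc]
      rfl
    rw [h]; infer_instance
  have hnat := (Scheme.Modules.pullbackPushforwardAdjunction p).unit.naturality (I.map η)
  simp only [Functor.id_map, Functor.comp_map] at hnat
  have hu := PnH0.isIso_unit (n := n) (I.obj N) (QCoh.isQCoh_of_isFinLocFree hIN)
  have hmap : IsIso ((Scheme.Modules.pushforward p).map (Pl.map (I.map η))) := Functor.map_isIso _ _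
  have hu' := PnH0.isIso_unit (n := n) _ (QCoh.isQCoh_of_isFinLocFree hA)
  have hc := IsIso.comp_isIso' hu hmap
  exact @IsIso.of_isIso_fac_right _ _ _ _ _ _ _ _ hu' hc hnat

theorem cl_j_O1 : PicF.pullCl c.j (PicF.cl O1) = PicF.cl (Twist.twistOver n c.B 1) := by
  obtain ⟨e⟩ := c.nonempty_O1
  exact cl_eq_iff.2 ⟨e⟩

theorem twistOver_mul (a b : ℤ) :
    PicF.cl (Twist.twistOver n c.B a) * PicF.cl (Twist.twistOver n c.B b) = PicF.cl (Twist.twistOver n c.B (a + b)) := by
  obtain ⟨e⟩ := twistOver_add (n := n) (T := c.B) a b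
  exact cl_eq_iff.2 ⟨e⟩

theorem cl_j_pow {Oinv : P.Modules} (hinv : PicF.cl O1 * PicF.cl Oinv = 1) (a : ℕ) :
    PicF.pullCl c.j (PicF.cl Oinv ^ a) = PicF.cl (Twist.twistOver n c.B (-(a : ℤ))) := by
  have h0 : PicF.cl (Twist.twistOver n c.B 0) = 1 := by
    obtain ⟨e⟩ := twistOver_zero (n := n) (T := c.B)
    exact cl_eq_iff.2 ⟨e⟩
  have h1 : PicF.pullCl c.j (PicF.cl Oinv) = PicF.cl (Twist.twistOver n c.B (-1)) := by
    refine left_inv_eq_right_inv (a := PicF.cl (Twist.twistOver n c.B 1)) ?_ ?_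
    · rw [← cl_j_O1 c, ← pullCl_mul, mul_comm, hinv, pullCl_one]
    · rw [twistOver_mul c, show (1 : ℤ) + -1 = 0 by ring, h0]
  induction a with
  | zero => rw [pow_zero, pullCl_one, Nat.cast_zero, neg_zero, h0]
  | succ a ih => rw [pow_succ, pullCl_mul, ih, h1, twistOver_mul c, show -(a : ℤ) + -1 = -((a + 1 : ℕ) : ℤ) by push_cast; ring]

theorem nonempty_j_tw {Oinv : P.Modules} (hinv : PicF.cl O1 * PicF.cl Oinv = 1) (a : ℕ) (N : X.Modules) :
    Nonempty ((Scheme.Modules.pullback c.j).obj (CohB1.tensorMod (CohB1.tensorPow Oinv a) ((Scheme.Modules.pullback π).obj N)) ≅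
      (Tw n c.B (-(a : ℤ))).obj ((Scheme.Modules.pullback (KRR.pr n c.B)).obj ((Scheme.Modules.pullback c.U.1.ι).obj N))) := by
  obtain ⟨e⟩ := H23.PicMul.pull c.j (CohB1.tensorPow Oinv a) ((Scheme.Modules.pullback π).obj N)
  obtain ⟨e'⟩ : Nonempty ((Scheme.Modules.pullback c.j).obj (CohB1.tensorPow Oinv a) ≅ Twist.twistOver n c.B (-(a : ℤ))) :=
    cl_eq_iff.1 ((congrArg (PicF.pullCl c.j) (cl_tensorPow Oinv a)).trans (cl_j_pow c hinv a))
  exact ⟨e ≪≫ (DCoh.tensorBi.mapIso e').app _ ≪≫ (DCoh.tensorBi.obj _).mapIso ((pullNat c).app N)⟩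

theorem isZero_push_chart {Oinv : P.Modules} (hinv : PicF.cl O1 * PicF.cl Oinv = 1) {a : ℕ} (h1 : 1 ≤ a)
    (ha : a ≤ n) {N : X.Modules} (hN : FlatMod.IsFinLocFree N) :
    IsZero ((Scheme.Modules.pullback c.U.1.ι).obj ((Scheme.Modules.pushforward π).obj
      (CohB1.tensorMod (CohB1.tensorPow Oinv a) ((Scheme.Modules.pullback π).obj N)))) := by
  let F := CohB1.tensorMod (CohB1.tensorPow Oinv a) ((Scheme.Modules.pullback π).obj N)
  let M := (Tw n c.B (-(a : ℤ))).obj
    ((Scheme.Modules.pullback (KRR.pr n c.B)).obj ((Scheme.Modules.pullback c.U.1.ι).obj N))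
  obtain ⟨e⟩ := nonempty_j_tw c hinv a N
  have hq : Coh.IsQCoh ((Scheme.Modules.pullback c.U.1.ι).obj N) :=
    QCoh.isQCoh_of_isFinLocFree (KvbPull.lf_pull _ hN)
  have hz : IsZero ((Scheme.Modules.pushforward (KRR.pr n c.B)).obj M) :=
    (RegRes.isZero_push_iff (A := M) (KRR.pr n c.B)).1 (RegRes.rz_zero_tw_pullback _ hq a h1 ha)
  exact IsZero.of_iso hz (Iso.trans (c.push.app F) ((Scheme.Modules.pushforward (KRR.pr n c.B)).mapIso e))

end Chart

variable (D : Data π n)

/-- The class identity of the twisting line and its inverse. -/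
theorem cl_inv : PicF.cl D.O1 * PicF.cl D.Oinv = 1 := cl_eq_iff.2 ⟨D.inv⟩

theorem lf_pow : ∀ a : ℕ, FlatMod.IsFinLocFree (CohB1.tensorPow D.Oinv a)
  | 0 => KvbLam.lf_O
  | a + 1 => KFlatLib.isFinLocFree_tensor (lf_pow a) D.lfi

theorem lf_tp (a : ℕ) {F : P.Modules} (hF : FlatMod.IsFinLocFree F) :
    FlatMod.IsFinLocFree (CohB1.tensorMod (CohB1.tensorPow D.Oinv a) F) :=
  KFlatLib.isFinLocFree_tensor (lf_pow D a) hF

/-- The basic elements. -/
abbrev gN (a : ℕ) (N : X.Modules) : P.Modules :=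
  CohB1.tensorMod (CohB1.tensorPow D.Oinv a) ((Scheme.Modules.pullback π).obj N)

section Syz

/-- The counit. -/
abbrev eG (W : P.Modules) :
    (Scheme.Modules.pullback π).obj ((Scheme.Modules.pushforward π).obj W) ⟶ W :=
  (Scheme.Modules.pullbackPushforwardAdjunction π).counit.app W

/-- The successive syzygies. -/
def PW (F : P.Modules) : ℕ → P.Modules
  | 0 => F
  | k + 1 => CohB1.tensorMod D.O1 (kernel (eG (π := π) (PW F k)))

theorem reg_zero_iff {W : P.Modules} : D.Reg 0 W ↔ FlatMod.IsFinLocFree W ∧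
    ∀ y ∈ D.s, KRR.IsRegSheaf n (D.a y).B ((Scheme.Modules.pullback (D.a y).j).obj W) := by
  refine and_congr_right fun _ => forall₂_congr fun y _ => forall₂_congr fun i _ => ?_
  rw [Nat.cast_zero, zero_sub]
  rfl

theorem epi_eG {W : P.Modules} (hW : D.Reg 0 W) : Epi (eG (π := π) W) := by
  refine PBAtlas.epi_of_restrict _ fun p => ?_
  obtain ⟨y, hy, hx⟩ := D.cover (π p)
  let c := D.a y
  refine ⟨π ⁻¹ᵁ c.U.1, hx, ?_⟩
  haveI := (counit_chart c W (D.lf_push_def (D.def_of_reg hW)) ((reg_zero_iff D).1 hW |>.2 y hy)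
    (KvbPull.lf_pull c.j hW.1)).1
  have h : Epi ((Scheme.Modules.pullback (inv c.θ)).map ((Scheme.Modules.pullback c.θ).map
      ((Scheme.Modules.pullback (π ⁻¹ᵁ c.U.1).ι).map (eG (π := π) W)))) := by
    haveI := isLeftAdjoint_pullback (inv c.θ)
    haveI : Epi ((Scheme.Modules.pullback c.θ).map ((Scheme.Modules.pullback (π ⁻¹ᵁ c.U.1).ι).map (eG (π := π) W))) :=
      ((MorphismProperty.epimorphisms _).arrow_mk_iso_iff
        (((Functor.mapArrowFunctor _ _).mapIso (Scheme.Modules.pullbackComp c.θ (π ⁻¹ᵁ c.U.1).ι)).app (Arrow.mk (eG (π := π) W)))).2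
        (inferInstanceAs (Epi ((Scheme.Modules.pullback c.j).map (eG (π := π) W))))
    infer_instance
  exact ((MorphismProperty.epimorphisms _).arrow_mk_iso_iff
    (((Functor.mapArrowFunctor _ _).mapIso (backIso c.θ)).app
      (Arrow.mk ((Scheme.Modules.pullback (π ⁻¹ᵁ c.U.1).ι).map (eG (π := π) W))))).1 h

theorem PW_spec {F : P.Modules} (hF : D.Reg 0 F) : ∀ k, D.Reg 0 (PW D F k) ∧
    ∀ y ∈ D.s, Nonempty ((Scheme.Modules.pullback (D.a y).j).obj (PW D F k) ≅
      RegRes.W ((Scheme.Modules.pullback (D.a y).j).obj F) k)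
  | 0 => ⟨hF, fun y _ => ⟨Iso.refl _⟩⟩
  | k + 1 => by
    obtain ⟨hk, hek⟩ := PW_spec hF k
    have hp := D.lf_push_def (D.def_of_reg hk)
    haveI := epi_eG D hk
    have hK : FlatMod.IsFinLocFree (kernel (eG (π := π) (PW D F k))) :=
      KFlatLib.isFinLocFree_kernel _ (KvbPull.lf_pull π hp) hk.1
    have hiso : ∀ y ∈ D.s, Nonempty ((Scheme.Modules.pullback (D.a y).j).obj (PW D F (k + 1)) ≅
        RegRes.W ((Scheme.Modules.pullback (D.a y).j).obj F) (k + 1)) := fun y hy => by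
      let c := D.a y
      obtain ⟨e₁⟩ := nonempty_twist c (kernel (eG (π := π) (PW D F k)))
      obtain ⟨e₂⟩ := (counit_chart c _ hp ((reg_zero_iff D).1 hk |>.2 y hy) (KvbPull.lf_pull c.j hk.1)).2
      obtain ⟨e⟩ := hek y hy
      let adj := Scheme.Modules.pullbackPushforwardAdjunction (KRR.pr n c.B)
      exact ⟨e₁ ≪≫ (Tw n c.B 1).mapIso (e₂ ≪≫ kernel.mapIso _ _
        ((Scheme.Modules.pullback _).mapIso ((Scheme.Modules.pushforward _).mapIso e)) e (adj.counit.naturality e.hom).symm)⟩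
    refine ⟨(reg_zero_iff D).2 ⟨KFlatLib.isFinLocFree_tensor D.lf1 hK, fun y hy => ?_⟩, hiso⟩
    obtain ⟨e⟩ := hiso y hy
    exact KRegK0.isReg_of_iso e.symm (RegRes.W_spec (QCoh.isQCoh_of_isFinLocFree (KvbPull.lf_pull _ hF.1))
      ((reg_zero_iff D).1 hF |>.2 y hy) (k + 1)).2

theorem isZero_PW {F : P.Modules} (hF : D.Reg 0 F) (m : ℕ) : IsZero (PW D F (n + 1 + m)) := by
  refine PBAtlas.isZero_of_restrict _ fun p => ?_
  obtain ⟨y, hy, hx⟩ := D.cover (π p)
  let c := D.a y
  obtain ⟨e⟩ := (PW_spec D hF (n + 1 + m)).2 y hy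
  refine ⟨π ⁻¹ᵁ c.U.1, hx, ?_⟩
  have hz : IsZero ((Scheme.Modules.pullback c.θ).obj ((Scheme.Modules.pullback (π ⁻¹ᵁ c.U.1).ι).obj (PW D F (n + 1 + m)))) :=
    (RegRes.isZero_W (QCoh.isQCoh_of_isFinLocFree (KvbPull.lf_pull _ hF.1))
      ((reg_zero_iff D).1 hF |>.2 y hy) m).of_iso
      ((Scheme.Modules.pullbackComp c.θ (π ⁻¹ᵁ c.U.1).ι).app _ ≪≫ e)
  exact ((Scheme.Modules.pullback (inv c.θ)).map_isZero hz).of_iso
    ((Scheme.Modules.pullbackComp (inv c.θ) c.θ).app _ ≪≫
      (Scheme.Modules.pullbackCongr (IsIso.inv_hom_id c.θ)).app _ ≪≫ (Scheme.Modules.pullbackId _).app _).symm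

theorem cl_tp_iso (a : ℕ) {A B : P.Modules} (e : PicF.cl (CohB1.tensorMod (CohB1.tensorPow D.Oinv a) A) = PicF.cl B)
    (hA : FlatMod.IsFinLocFree A) (hB : FlatMod.IsFinLocFree B) :
    KRR.cl P (CohB1.tensorMod (CohB1.tensorPow D.Oinv a) A) = KRR.cl P B :=
  GenPush.cl_iso (cl_eq_iff.1 e).some (lf_tp D a hA) hB

variable {S : AddSubgroup (SGA6.Kvb P)}
  (hS : ∀ (a : ℕ) (N : X.Modules), a ≤ n → FlatMod.IsFinLocFree N → KRR.cl P (gN D a N) ∈ S)

include hS in
theorem cl_PW_mem {F : P.Modules} (hF : D.Reg 0 F) :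
    ∀ j k : ℕ, n + 1 ≤ k + j → KRR.cl P (CohB1.tensorMod (CohB1.tensorPow D.Oinv k) (PW D F k)) ∈ S := by
  intro j
  induction j with
  | zero =>
    intro k hk
    obtain ⟨m, rfl⟩ := Nat.exists_eq_add_of_le (show n + 1 ≤ k by omega)
    rw [show KRR.cl P (CohB1.tensorMod (CohB1.tensorPow D.Oinv (n + 1 + m)) (PW D F (n + 1 + m))) = 0 from
      KZ.clSub_isZero _ ((DCoh.tensorBi.obj _).map_isZero (isZero_PW D hF m))]
    exact S.zero_mem
  | succ j ih =>
    intro k hk
    by_cases hkn : n + 1 ≤ k + j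
    · exact ih k hkn
    obtain ⟨hW, -⟩ := PW_spec D hF k
    have hp := D.lf_push_def (D.def_of_reg hW)
    haveI := epi_eG D hW
    have hK : FlatMod.IsFinLocFree (kernel (eG (π := π) (PW D F k))) :=
      KFlatLib.isFinLocFree_kernel _ (KvbPull.lf_pull π hp) hW.1
    have hpow := lf_pow D k
    have h1 := KZ.clSub_ses (KRR.vbP P) (PBPush.shortExact_tens hpow (KZ.kerSeq_shortExact (eG (π := π) (PW D F k))))
      (lf_tp D k hK) (lf_tp D k (KvbPull.lf_pull π hp)) (lf_tp D k hW.1)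
    have h2 : KRR.cl P (CohB1.tensorMod (CohB1.tensorPow D.Oinv (k + 1)) (PW D F (k + 1))) =
        KRR.cl P (CohB1.tensorMod (CohB1.tensorPow D.Oinv k) (kernel (eG (π := π) (PW D F k)))) := by
      refine cl_tp_iso D (k + 1) ?_ (KFlatLib.isFinLocFree_tensor D.lf1 hK) (lf_tp D k hK)
      show PicF.cl (CohB1.tensorPow D.Oinv (k + 1)) * (PicF.cl D.O1 * PicF.cl (kernel (eG (π := π) (PW D F k)))) =
        PicF.cl (CohB1.tensorPow D.Oinv k) * PicF.cl (kernel (eG (π := π) (PW D F k)))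
      rw [cl_tensorPow, cl_tensorPow, pow_succ, ← mul_assoc, mul_assoc (PicF.cl D.Oinv ^ k) (PicF.cl D.Oinv),
        mul_comm (PicF.cl D.Oinv) (PicF.cl D.O1), cl_inv, mul_one]
    have h3 : KRR.cl P (CohB1.tensorMod (CohB1.tensorPow D.Oinv k) (PW D F k)) =
        KRR.cl P (gN D k ((Scheme.Modules.pushforward π).obj (PW D F k))) -
          KRR.cl P (CohB1.tensorMod (CohB1.tensorPow D.Oinv (k + 1)) (PW D F (k + 1))) := by
      rw [h2, eq_sub_iff_add_eq, add_comm]
      exact h1.symm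
    rw [h3]
    exact S.sub_mem (hS k _ (by omega) hp) (ih (k + 1) (by omega))

include hS in
theorem cl_mem : ∀ (j : ℕ) (F : P.Modules), D.Reg j F → KRR.cl P F ∈ S
  | 0, F, hF => by
    have h := cl_PW_mem D hS hF (n + 1) 0 (by omega)
    rw [show PW D F 0 = F from rfl] at h
    rwa [cl_tp_iso D 0 (B := F) (by rw [cl_tensor, cl_tensorPow, pow_zero, one_mul]) hF.1 hF.1] at h
  | j + 1, F, hF => by
    obtain ⟨f, g, w, hs⟩ := D.exists_coresolution hF.1
    have h1 := KZ.clSub_ses (KRR.vbP P) hs hF.1 (D.reg_Mf hF).1 (D.reg_Cf hF).1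
    have h2 : KRR.cl P F = KRR.cl P (D.Mf.obj F) - KRR.cl P (D.Cf.obj F) := eq_sub_iff_add_eq.2 h1.symm
    rw [h2]
    exact S.sub_mem (cl_mem j _ (D.reg_Mf hF)) (cl_mem j _ (D.reg_Cf hF))

include hS in
theorem eq_top : S = ⊤ := by
  refine eq_top_iff.2 fun x _ => ?_
  refine QuotientAddGroup.induction_on x fun z => ?_
  induction z using FreeAbelianGroup.induction_on with
  | zero => exact S.zero_mem
  | of E =>
    rw [show (QuotientAddGroup.mk (FreeAbelianGroup.of E) : SGA6.Kvb P) = KRR.cl P E.1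
      from (KZ.clSub_of_prop (KRR.vbP P) E.2).symm]
    obtain ⟨j, hj⟩ := D.exists_reg E.2
    exact cl_mem D hS j _ hj
  | neg E h => rw [QuotientAddGroup.mk_neg]; exact S.neg_mem h
  | add a b ha hb => rw [QuotientAddGroup.mk_add]; exact S.add_mem ha hb

end Syz

theorem def_gN {a : ℕ} (ha : a ≤ n) {N : X.Modules} (hN : FlatMod.IsFinLocFree N) : D.Def 0 (gN D a N) :=
  ⟨lf_tp D a (KvbPull.lf_pull π hN), fun y _ b i hi _ => by
    obtain ⟨e⟩ := nonempty_j_tw (D.a y) (cl_inv D) a N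
    exact RKoszul.rz_of_iso _ ((Tw n (D.a y).B (b : ℤ)).mapIso e.symm) i (RKoszul.rz_of_iso _
      (twF_twF (b : ℤ) (-(a : ℤ)) ((b : ℤ) - a) (by ring) _).some.symm i
      (PnBox.rz_tw_pullback _ (QCoh.isQCoh_of_isFinLocFree (KvbPull.lf_pull _ hN)) _ i hi (Or.inl (by omega))))⟩

set_option maxHeartbeats 1000000 in
theorem isZero_push_gN {a : ℕ} (h1 : 1 ≤ a) (ha : a ≤ n) {N : X.Modules} (hN : FlatMod.IsFinLocFree N) :
    IsZero ((Scheme.Modules.pushforward π).obj (gN D a N)) :=
  PBAtlas.isZero_of_restrict _ fun x => by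
    obtain ⟨y, -, hx⟩ := D.cover x
    exact ⟨(D.a y).U.1, hx, isZero_push_chart (D.a y) (cl_inv D) h1 ha hN⟩

include D in
theorem isIso_unit {N : X.Modules} (hN : FlatMod.IsFinLocFree N) :
    IsIso ((Scheme.Modules.pullbackPushforwardAdjunction π).unit.app N) :=
  isIso_of_restrict _ fun x => by
    obtain ⟨y, -, hx⟩ := D.cover x
    exact ⟨(D.a y).U.1, hx, isIso_unit_chart (D.a y) N hN⟩

theorem gN_zero (N : X.Modules) : Nonempty (gN D 0 N ≅ (Scheme.Modules.pullback π).obj N) :=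
  cl_eq_iff.1 (by rw [cl_tensor, cl_tensorPow, pow_zero, one_mul])

theorem twist_gN (a : ℕ) (N : X.Modules) : Nonempty (CohB1.tensorMod D.O1 (gN D (a + 1) N) ≅ gN D a N) :=
  cl_eq_iff.1 (by
    rw [cl_tensor, cl_tensor, cl_tensor, cl_tensorPow, cl_tensorPow, pow_succ, ← mul_assoc, ← mul_assoc,
      mul_comm (PicF.cl D.O1), mul_assoc (PicF.cl D.Oinv ^ a), cl_inv, mul_one])

theorem cl_twist_gN (a : ℕ) {N : X.Modules} (hN : FlatMod.IsFinLocFree N) :
    KRR.cl P ((DCoh.tensorBi.obj D.O1).obj (gN D (a + 1) N)) = KRR.cl P (gN D a N) :=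
  GenPush.cl_iso (A := (DCoh.tensorBi.obj D.O1).obj (gN D (a + 1) N)) (B := gN D a N) (twist_gN D a N).some
    (KFlatLib.isFinLocFree_tensor (M := D.O1) (N := gN D (a + 1) N) D.lf1 (lf_tp D _ (KvbPull.lf_pull π hN)))
    (lf_tp D _ (KvbPull.lf_pull π hN))

set_option maxHeartbeats 1000000 in
/-- `K₀` of the bundle is free on the negative twists. -/
theorem bijective_basis (G : Fin (n + 1) → (SGA6.Kvb X →+ SGA6.Kvb P))
    (hG : ∀ (i : Fin (n + 1)) (N : X.Modules), FlatMod.IsFinLocFree N →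
      G i (KRR.cl X N) = KRR.cl P (gN D (i : ℕ) N)) :
    Function.Bijective fun x : Fin (n + 1) → SGA6.Kvb X => ∑ i, G i (x i) := by
  let Φ : (Fin (n + 1) → SGA6.Kvb X) →+ SGA6.Kvb P :=
    ∑ i, (G i).comp (Pi.evalAddMonoidHom (fun _ : Fin (n + 1) => SGA6.Kvb X) i)
  have hΦ : ∀ x, Φ x = ∑ i, G i (x i) := fun x => by
    simp only [Φ, AddMonoidHom.finsetSum_apply, AddMonoidHom.comp_apply, Pi.evalAddMonoidHom_apply]
  rw [show (fun x : Fin (n + 1) → SGA6.Kvb X => ∑ i, G i (x i)) = Φ from funext fun x => (hΦ x).symm]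
  refine ⟨(injective_iff_map_eq_zero Φ).2 fun x hx => ?_, fun y => ?_⟩
  · obtain ⟨p, hp⟩ := D.exists_pushHom
    obtain ⟨t, ht⟩ := KZ.exists_liftSub (KRR.vbP P) (fun F => KRR.cl P ((DCoh.tensorBi.obj D.O1).obj F))
      fun _ hS h₁ h₂ h₃ => KZ.clSub_ses (KRR.vbP P) (PBPush.shortExact_tens D.lf1 hS)
        (KFlatLib.isFinLocFree_tensor D.lf1 h₁) (KFlatLib.isFinLocFree_tensor D.lf1 h₂)
        (KFlatLib.isFinLocFree_tensor D.lf1 h₃)
    have hiter : ∀ (j a : ℕ) (N : X.Modules), FlatMod.IsFinLocFree N →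
        (⇑t)^[j] (KRR.cl P (gN D (a + j) N)) = KRR.cl P (gN D a N) := by
      intro j
      induction j with
      | zero => intro a N _; rfl
      | succ j ih =>
        intro a N hN
        rw [Function.iterate_succ_apply, show a + (j + 1) = a + j + 1 by omega,
          ht _ (lf_tp D _ (KvbPull.lf_pull π hN)), cl_twist_gN D (a + j) hN]
        exact ih a N hN
    let T : ℕ → SGA6.Kvb P →+ SGA6.Kvb P := fun j => Nat.rec (AddMonoidHom.id _) (fun _ f => f.comp t) j
    have hT : ∀ j z, T j z = (⇑t)^[j] z := by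
      intro j
      induction j with
      | zero => intro z; rfl
      | succ j ih => intro z; rw [Function.iterate_succ_apply]; exact ih (t z)
    have hval : ∀ (j : ℕ) (i : Fin (n + 1)), j ≤ (i : ℕ) → ∀ y,
        p (T j (G i y)) = if (i : ℕ) = j then y else 0 := by
      intro j i hji
      obtain ⟨a, ha⟩ := Nat.exists_eq_add_of_le hji
      have hz : ∀ N, FlatMod.IsFinLocFree N → p (T j (G i (KRR.cl X N))) = if (i : ℕ) = j then KRR.cl X N else 0 :=
        fun N hN => by
        have hin := i.isLt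
        rw [hG i N hN, hT, show (i : ℕ) = a + j by omega, hiter j a N hN, hp _ (def_gN D (by omega) hN)]
        rcases Nat.eq_zero_or_pos a with rfl | h
        · rw [if_pos (by omega)]
          haveI := isIso_unit D hN
          exact GenPush.cl_iso ((Scheme.Modules.pushforward π).mapIso (gN_zero D N).some ≪≫
            (asIso ((Scheme.Modules.pullbackPushforwardAdjunction π).unit.app N)).symm)
            (D.lf_push_def (def_gN D (by omega) hN)) hN
        · rw [if_neg (by omega)]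
          exact KZ.clSub_isZero _ (isZero_push_gN D h (by omega) hN)
      intro y
      by_cases hij : (i : ℕ) = j
      · rw [if_pos hij]
        exact DFunLike.congr_fun (f := (p.comp (T j)).comp (G i)) (g := AddMonoidHom.id _)
          (KZ.K0sub_hom_ext _ fun N hN => by simpa [hij] using hz N hN) y
      · rw [if_neg hij]
        exact DFunLike.congr_fun (f := (p.comp (T j)).comp (G i)) (g := 0)
          (KZ.K0sub_hom_ext _ fun N hN => by simpa [hij] using hz N hN) y
    suffices H : ∀ j : ℕ, ∀ i : Fin (n + 1), (i : ℕ) = j → x i = 0 from funext fun i => H _ i rfl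
    intro j
    induction j using Nat.strong_induction_on with
    | _ j ih =>
      intro i hij
      have h := congrArg (fun z => p (T j z)) ((hΦ x).symm.trans hx)
      simp only [map_sum, map_zero] at h
      rw [Finset.sum_eq_single i] at h
      · rwa [hval j i hij.ge, if_pos hij] at h
      · intro k _ hk
        rcases Nat.lt_or_ge (k : ℕ) j with h' | h'
        · rw [ih _ h' k rfl, map_zero, map_zero, map_zero]
        · rw [hval j k h', if_neg fun e => hk (Fin.ext (e.trans hij.symm))]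
      · simp
  · have htop := eq_top D (S := Φ.range) fun a N ha hN => by
      refine ⟨Pi.single ⟨a, by omega⟩ (KRR.cl X N), ?_⟩
      rw [hΦ, Finset.sum_eq_single ⟨a, by omega⟩]
      · rw [Pi.single_eq_same]; exact hG ⟨a, by omega⟩ N hN
      · intro i _ hi
        rw [Pi.single_eq_of_ne hi, map_zero]
      · simp
    exact (htop ▸ AddSubgroup.mem_top y : y ∈ Φ.range)

/-- The data of a projective bundle. -/
theorem exists_data [CompactSpace X] {E : X.Modules} {O1 : P.Modules} {q : (Scheme.Modules.pullback π).obj E ⟶ O1}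
    (hP : KRR.IsProjBundle π E O1 q) (hE : FlatMod.IsFinLocFreeOfRank (n + 1) E) (Oinv : P.Modules)
    (hinv : ClSub.IsInverseOf Oinv O1) (hli : FlatMod.IsFinLocFree Oinv) :
    ∃ D : Data π n, D.O1 = O1 ∧ D.Oinv = Oinv := by
  haveI := hP.epi
  obtain ⟨G, Q, f, g, w, hG, hQ, hs⟩ := PBCores.exists_cores π hE hP.invertible q
  obtain ⟨s, a, ha⟩ := PBAtlas.exists_atlas (G := G) hP hE hG
  obtain ⟨e⟩ := hinv
  obtain ⟨e'⟩ := H23.PicMul.comm O1 Oinv
  exact ⟨⟨O1, Oinv, G, Q, f, g, w, hs, hG, hQ, KvbModel.lf_of_rank hP.invertible, hli, e' ≪≫ e, s, a, ha⟩, rfl, rfl⟩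

end Groth.Agent.H28.PBBasis
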