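import Groth.Agent.H28.PnGamma
import Groth.Agent.H28.KRegK0
import Groth.Agent.ConsPropLib.FibreLocFree
import Groth.Agent.KFlatLib.Scheme.RpushRestrict

/-!
# Locally free modules on `P^n_T`, `T` quasi-compact: high twists are regular with locally free direct image
-/

set_option linter.style.haveILetI false
set_option linter.unusedSectionVars false
set_option backward.isDefEq.respectTransparency false
set_option backward.isDefEq.respectTransparency.types false

universe u

open CategoryTheory CategoryTheory.Limits AlgebraicGeometry TopologicalSpace Opposite MonoidalCategory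
open Groth.Agent.H23.PicMul

namespace Groth.Agent.H28.GenReg

open Groth.Agent Groth.Agent.H28.KRRTw Groth.Agent.H28.KRRReg

attribute [local instance] MvPolynomial.gradedAlgebra

variable {n : ℕ} {T : Scheme.{u}} (U : T.affineOpens)

/-- The inverse image of an affine open. -/
noncomputable abbrev V : Scheme.{u} := (PnBox.PU (n := n) (U : T.affineOpens).1).toScheme

/-- Its structure map. -/
noncomputable instance ovV : (V (n := n) U).Over (Spec (CommRingCat.of Γ(T, U.1))) :=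
  ⟨(KRR.pr n T ∣_ U.1) ≫ U.2.isoSpec.hom⟩

theorem isChart : PnChart.IsChart (A := Γ(T, U.1)) (PnBox.gU (n := n) U.1) :=
  IsPullback.of_iso (PnBox.isPullback_gU (n := n) U.1) (Iso.refl _) (Iso.refl _) U.2.isoSpec (Iso.refl _)
    (by simp) (by simp [ovV]; rfl) (by simp) (specULiftZIsTerminal.hom_ext _ _)

theorem restrict_tensor {X Z : Scheme.{u}} (j : Z ⟶ X) [IsOpenImmersion j] (P : X.Modules) (Q : X.Modules) :
    Nonempty ((CohB1.tensorMod P Q).restrict j ≅
      CohB1.tensorMod ((Scheme.Modules.pullback j).obj P) (Q.restrict j)) := by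
  obtain ⟨e⟩ := H23.PicMul.pull j P Q
  rw [← cl_eq_iff, cl_eq_iff.2 ⟨(Scheme.Modules.restrictFunctorIsoPullback j).app (CohB1.tensorMod P Q) ≪≫ e⟩,
    cl_tensor, cl_tensor, cl_eq_iff.2 ⟨((Scheme.Modules.restrictFunctorIsoPullback j).app Q).symm⟩]

theorem nonempty_pullback_twistOver (d : ℤ) {Z : Scheme.{u}} (j : Z ⟶ KRR.PY n T) :
    Nonempty ((Scheme.Modules.pullback j).obj (Twist.twistOver n T d) ≅
      (Scheme.Modules.pullback (j ≫ toPn n T)).obj (Box.O1.{u} n d)) :=
  ⟨(Scheme.Modules.pullbackComp j (toPn n T)).app (Twist.twistProjSpace n (ULift.{u} ℤ) d)⟩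

theorem restrict_twF (d : ℤ) (F : (KRR.PY n T).Modules) :
    Nonempty ((KRR.twF n T d F).restrict (PnBox.PU (n := n) U.1).ι ≅
      CohB1.tensorMod (PnChart.L n (PnBox.gU (n := n) U.1) d) (F.restrict (PnBox.PU (n := n) U.1).ι)) := by
  obtain ⟨e⟩ := restrict_tensor (PnBox.PU (n := n) U.1).ι (Twist.twistOver n T d) F
  obtain ⟨e'⟩ := nonempty_pullback_twistOver d (PnBox.PU (n := n) U.1).ι
  refine ⟨?_⟩
  refine (show (KRR.twF n T d F).restrict (PnBox.PU (n := n) U.1).ι ≅ _ from e) ≪≫ ?_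
  exact PicGrp.tensorModIso e' (Iso.refl _)

theorem isQCoh_twF (d : ℤ) {F : (KRR.PY n T).Modules} (hF : Coh.IsQCoh F) :
    Coh.IsQCoh (KRR.twF n T d F) :=
  KFlatLib.isQCoh_tensor (QCoh.isQCoh_pullback _ (PnCoh.isQCoh_twist_mvPolynomial _ _ d)) hF

theorem isFinLocFree_restrict {F : (KRR.PY n T).Modules} (hF : FlatMod.IsFinLocFree F) :
    FlatMod.IsFinLocFree (F.restrict (PnBox.PU (n := n) U.1).ι) :=
  ConsPropLib.isFinLocFree_restrict _ hF

theorem cl_Mod_structure (d : ℤ) :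
    PicF.cl (Box.Mod (PnBox.gU (n := n) U.1) (V (n := n) U ↘ Spec (CommRingCat.of Γ(T, U.1))) d
      (Coh.structureModule (Spec (CommRingCat.of Γ(T, U.1))))) =
      PicF.cl (PnChart.L n (PnBox.gU (n := n) U.1) d) := by
  rw [cl_tensor, cl_eq_iff.2 (PicClLib.nonempty_pullback_structureModule _), ← one_def, mul_one]

set_option maxHeartbeats 1000000 in
theorem exists_local {F : (KRR.PY n T).Modules} (hF : FlatMod.IsFinLocFree F) :
    ∃ m₀ : ℕ, ∀ m : ℕ, m₀ ≤ m →
      (∀ q : ℕ, Subsingleton (Coh.HH (V (n := n) U)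
        ((KRR.twF n T (m : ℤ) F).restrict (PnBox.PU (n := n) U.1).ι) (q + 1))) ∧
      FlatMod.IsFinLocFree (((Scheme.Modules.pushforward (KRR.pr n T)).obj (KRR.twF n T (m : ℤ) F)).restrict U.1.ι) := by
  obtain ⟨m₁, hm₁⟩ := PnChart.exists_vanish_all (isChart U) (isFinLocFree_restrict U hF)
  obtain ⟨m₂, hm₂⟩ := PnGamma.exists_isFinLocFree_push (isChart U) (isFinLocFree_restrict U hF)
  refine ⟨max m₁ m₂, fun m hm => ⟨fun q => ?_, ?_⟩⟩
  · obtain ⟨e⟩ := restrict_twF U (m : ℤ) F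
    obtain ⟨e₁⟩ : Nonempty (CohB1.tensorMod (Box.Mod (PnBox.gU (n := n) U.1)
        (V (n := n) U ↘ Spec (CommRingCat.of Γ(T, U.1))) (m : ℤ) (Coh.structureModule _))
          (F.restrict (PnBox.PU (n := n) U.1).ι) ≅
        CohB1.tensorMod (PnChart.L n (PnBox.gU (n := n) U.1) (m : ℤ)) (F.restrict (PnBox.PU (n := n) U.1).ι)) :=
      cl_eq_iff.1 ((cl_tensor _ _).trans ((congrArg (· * _) (cl_Mod_structure U (m : ℤ))).trans (cl_tensor _ _).symm))
    exact QCoh.subsingleton_HH_of_iso (e₁ ≪≫ e.symm) _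
      (hm₁ m (by omega) (q + 1) (by omega) (Coh.structureModule _) QCoh.isQCoh_structureModule)
  · let j := (PnBox.PU (n := n) U.1).ι
    let M := (KRR.twF n T (m : ℤ) F).restrict j
    let s := U.2.isoSpec.hom
    obtain ⟨e⟩ := restrict_twF U (m : ℤ) F
    have h1 : FlatMod.IsFinLocFree ((Scheme.Modules.pushforward s).obj
        ((Scheme.Modules.pushforward (KRR.pr n T ∣_ U.1)).obj M)) :=
      H23.PullPush.isFinLocFree_of_iso
        ((Scheme.Modules.pushforward (V (n := n) U ↘ Spec (CommRingCat.of Γ(T, U.1)))).mapIso e.symm ≪≫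
          ((Scheme.Modules.pushforwardComp (KRR.pr n T ∣_ U.1) s).app M).symm) (hm₂ m (by omega))
    have h2 : FlatMod.IsFinLocFree ((Scheme.Modules.pushforward (KRR.pr n T ∣_ U.1)).obj M) :=
      H23.PullPush.isFinLocFree_of_iso (asIso ((Scheme.Modules.restrictAdjunction s).counit.app _))
        (ConsPropLib.isFinLocFree_restrict s h1)
    exact H23.PullPush.isFinLocFree_of_iso
      ((KFlatLib.pushRestrictIso (KRR.pr n T) U.1).app _).symm h2

variable (n T) in
theorem exists_finite_cover [CompactSpace T] : ∃ B : Finset T.affineOpens,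
    ∀ y : T, ∃ W ∈ B, y ∈ (W : T.affineOpens).1 := by
  classical
  obtain ⟨B, hB⟩ := (isCompact_univ (X := T)).elim_finite_subcover (fun W : T.affineOpens => (W.1 : Set T))
    (fun W => W.1.2) fun y _ => by
      obtain ⟨_, ⟨W, hW, rfl⟩, hy, -⟩ := T.isBasis_affineOpens.exists_subset_of_mem_open
        (show y ∈ (⊤ : T.Opens) from trivial) (⊤ : T.Opens).2
      exact Set.mem_iUnion.2 ⟨⟨W, hW⟩, hy⟩
  refine ⟨B, fun y => ?_⟩
  obtain ⟨W, hW, hy⟩ := Set.mem_iUnion₂.1 (hB (Set.mem_univ y))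
  exact ⟨W, hW, hy⟩

/-- High twists of locally free modules are regular and have locally free direct image. -/
theorem exists_twist [CompactSpace T] {F : (KRR.PY n T).Modules} (hF : FlatMod.IsFinLocFree F) :
    ∃ m₀ : ℕ, ∀ m : ℕ, m₀ ≤ m → KRR.IsRegSheaf n T (KRR.twF n T (m : ℤ) F) ∧
      FlatMod.IsFinLocFree ((Scheme.Modules.pushforward (KRR.pr n T)).obj (KRR.twF n T (m : ℤ) F)) := by
  classical
  haveI : IsProper (KRR.pr n T) :=
    MorphismProperty.pullback_snd _ _ (PnCoh.Chow.isProper_toSpec n (ULift.{u} ℤ))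
  obtain ⟨B, hB⟩ := exists_finite_cover T
  choose m₀ hm₀ using fun W : T.affineOpens => exists_local (n := n) W hF
  refine ⟨B.sup m₀ + n, fun m hm => ⟨fun i hi => ?_, ?_⟩⟩
  · refine isZero_R_of_iso ⟨(twF_twF (-(i : ℤ)) (m : ℤ) ((m : ℤ) - i) (by ring) F).some.symm⟩ i ?_
    obtain hin | hin := Nat.lt_or_ge n i
    · exact PnBox.rz_of_lt (isQCoh_twF _ (QCoh.isQCoh_of_isFinLocFree hF)) i hin
    · rw [show (m : ℤ) - i = ((m - i : ℕ) : ℤ) by omega]
      refine RzCover.isZero_RpushAb_of_cover (f := KRR.pr n T) (isQCoh_twF _ (QCoh.isQCoh_of_isFinLocFree hF))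
        (B : Set T.affineOpens) hB (fun W hW q => (hm₀ W (m - i) ?_).1 q) i (by omega)
      have := Finset.le_sup (f := m₀) (Finset.mem_coe.1 hW)
      omega
  · refine ConsPropLib.isFinLocFree_of_cover (fun W : B => (W : T.affineOpens).1.ι) (fun x => ?_) fun W =>
      (hm₀ W m ((Finset.le_sup (f := m₀) W.2).trans (by omega))).2
    obtain ⟨W, hW, hx⟩ := hB x
    exact ⟨⟨W, hW⟩, ⟨x, hx⟩, rfl⟩

end Groth.Agent.H28.GenReg
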