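import Groth.Agent.H28.FacePush
import Groth.Agent.AlgSpDec.LimLfpIff

/-! Attractors and limits of affine schemes. -/

universe u

open CategoryTheory CategoryTheory.Limits MonoidalCategory CartesianMonoidalCategory MonObj AlgebraicGeometry
open Opposite Magnet

namespace Groth.Agent.H28.AttrLfp

open MagnetAff

variable {S : Scheme.{u}} {J : Type u} [SmallCategory J] [IsCofiltered J]

/-- A tensor functor preserves cofiltered limits. -/
theorem isLimit_whisker {W : J ⥤ Over S} {c : Cone W} (hc : IsLimit c) (B : Over S) :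
    Nonempty (IsLimit ((tensorLeft B).mapCone c)) := by
  haveI : IsConnected J := IsCofiltered.isConnected J
  obtain ⟨j₀⟩ := IsCofiltered.nonempty (C := J)
  let sW : ∀ s : Cone (W ⋙ tensorLeft B), Cone W := fun s =>
    { pt := s.pt
      π :=
        { app := fun j => s.π.app j ≫ snd B (W.obj j)
          naturality := fun j k g => by
            show 𝟙 _ ≫ s.π.app k ≫ snd B _ = (s.π.app j ≫ snd B _) ≫ W.map g
            rw [Category.id_comp, ← s.w g, Category.assoc, Category.assoc]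
            exact congrArg (s.π.app j ≫ ·) (whiskerLeft_snd B (W.map g)) } }
  have hfst : ∀ (s : Cone (W ⋙ tensorLeft B)) (j : J), s.π.app j ≫ fst B _ = s.π.app j₀ ≫ fst B _ := fun s j =>
    constant_of_preserves_morphisms (fun j => s.π.app j ≫ fst B (W.obj j)) (fun j k g => by
      rw [← s.w g, Category.assoc]
      exact congrArg (s.π.app j ≫ ·) (whiskerLeft_fst B (W.map g)).symm) j j₀
  refine ⟨{ lift := fun s => lift (s.π.app j₀ ≫ fst B _) (hc.lift (sW s)), fac := fun s j => ?_, uniq := fun s m hm => ?_ }⟩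
  · show lift _ _ ≫ (B ◁ c.π.app j) = s.π.app j
    apply CartesianMonoidalCategory.hom_ext
    · rw [Category.assoc, whiskerLeft_fst, lift_fst]
      exact (hfst s j).symm
    · rw [Category.assoc, whiskerLeft_snd, lift_snd_assoc, hc.fac]
  · apply CartesianMonoidalCategory.hom_ext
    · rw [lift_fst, ← hm j₀, Category.assoc]
      exact congrArg (m ≫ ·) (whiskerLeft_fst B (c.π.app j₀)).symm
    · rw [lift_snd]
      refine hc.hom_ext fun j => ?_
      rw [hc.fac, Category.assoc]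
      show _ = s.π.app j ≫ snd B (W.obj j)
      rw [← hm j, Category.assoc]
      exact congrArg (m ≫ ·) (whiskerLeft_snd B (c.π.app j)).symm

variable {W : J ⥤ Over S} {c : Cone W} {X Z : Over S} (f : X ⟶ Z)

/-- Lifting a map from a limit to a stage. -/
theorem exists_hom_stage (hWA : ∀ j, IsAffine (W.obj j).left) (hc : IsLimit c) [LocallyOfFinitePresentation f.left]
    {i : J} (x : c.pt ⟶ X) (y : W.obj i ⟶ Z) (h : x ≫ f = c.π.app i ≫ y) :
    ∃ (k : J) (φ : k ⟶ i) (x' : W.obj k ⟶ X), c.π.app k ≫ x' = x ∧ x' ≫ f = W.map φ ≫ y := by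
  haveI : LocallyOfFinitePresentation (Limits.pullback.snd f y).left :=
    MorphismProperty.of_isPullback ((IsPullback.of_hasPullback f y).map (Over.forget S)) ‹_›
  obtain ⟨k, φ, g, hg, hg'⟩ := AlgSpDec.exists_section_stage W hWA c hc (Limits.pullback.snd f y)
    (Limits.pullback.lift x (c.π.app i) h) (Limits.pullback.lift_snd _ _ _)
  exact ⟨k, φ, g ≫ Limits.pullback.fst f y, by rw [reassoc_of% hg', Limits.pullback.lift_fst],
    by rw [Category.assoc, Limits.pullback.condition, reassoc_of% hg]⟩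

/-- Two maps from a stage agreeing in the limit agree at a later stage. -/
theorem exists_eq_stage (hWA : ∀ j, IsAffine (W.obj j).left) (hc : IsLimit c) [LocallyOfFiniteType f.left]
    {i : J} (x x' : W.obj i ⟶ X) (hf : x ≫ f = x' ≫ f) (h : c.π.app i ≫ x = c.π.app i ≫ x') :
    ∃ (k : J) (φ : k ⟶ i), W.map φ ≫ x = W.map φ ≫ x' := by
  haveI := IsCofiltered.isConnected (Over i)
  let W' := CategoryTheory.Over.forget i ⋙ W ⋙ Over.forget S
  haveI : ∀ o, IsAffine (W'.obj o) := fun o => hWA o.left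
  haveI : ∀ {o o' : Over i} (f : o ⟶ o'), IsAffineHom (W'.map f) := fun f => inferInstance
  let t : W' ⟶ (Functor.const (Over i)).obj Z.left :=
    { app := fun o => (W.map o.hom ≫ x ≫ f).left
      naturality := fun o o' g => by
        show (W.map g.left).left ≫ (W.map o'.hom ≫ x ≫ f).left = (W.map o.hom ≫ x ≫ f).left ≫ 𝟙 _
        rw [Category.comp_id, ← Over.comp_left, ← W.map_comp_assoc, Over.w g] }
  haveI : IsConnected J := IsCofiltered.isConnected J
  obtain ⟨o, u, v, e⟩ := Scheme.exists_hom_hom_comp_eq_comp_of_locallyOfFiniteType W' t f.left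
    (((Over.forget S).mapCone c).whisker (CategoryTheory.Over.forget i))
    ((Functor.Initial.isLimitWhiskerEquiv (CategoryTheory.Over.forget i) _).symm
      (isLimitOfPreserves (Over.forget S) hc))
    (i := Over.mk (𝟙 i)) x.left
    (by show (W.map (𝟙 i) ≫ x ≫ f).left = _; rw [W.map_id, Category.id_comp]; rfl)
    (j := Over.mk (𝟙 i)) x'.left
    (by show (W.map (𝟙 i) ≫ x ≫ f).left = _; rw [W.map_id, Category.id_comp, hf]; rfl)
    (congrArg Over.Hom.left h)
  have hu : u.left = o.hom := (Category.comp_id _).symm.trans (Over.w u)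
  have hv : v.left = o.hom := (Category.comp_id _).symm.trans (Over.w v)
  refine ⟨o.left, o.hom, Over.OverMorphism.ext ?_⟩
  change (W.map u.left).left ≫ x.left = (W.map v.left).left ≫ x'.left at e
  rw [hu, hv] at e
  exact e

variable {M : Type} [AddCommGroup M] {N : AddSubmonoid M}

/-- An equivariant map from a limit comes from a stage. -/
theorem exists_attr_stage (hWA : ∀ j, IsAffine (W.obj j).left) (hc : IsLimit c) [LocallyOfFinitePresentation f.left]
    {aX : MonAct (AMonS S M) X} {aZ : MonAct (AMonS S M) Z} (hf : MonAct.IsEquivariant aX aZ f) {i : J}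
    (x : (attr aX N).obj (op c.pt)) (y : (attr aZ N).obj (op (W.obj i)))
    (h : x.1 ≫ f = (AMonS S N ◁ c.π.app i) ≫ y.1) :
    ∃ (k : J) (φ : k ⟶ i) (x' : (attr aX N).obj (op (W.obj k))),
      (AMonS S N ◁ c.π.app k) ≫ x'.1 = x.1 ∧ x'.1 ≫ f = (AMonS S N ◁ W.map φ) ≫ y.1 := by
  obtain ⟨hN⟩ := isLimit_whisker hc (AMonS S N)
  have hWN : ∀ j, IsAffine ((W ⋙ tensorLeft (AMonS S N)).obj j).left := fun j => by
    haveI := hWA j
    exact inferInstanceAs (IsAffine (AMonS S N ⊗ W.obj j).left)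
  obtain ⟨k₁, φ₁, x₁, hx₁, hx₁'⟩ := exists_hom_stage f hWN hN x.1 y.1 h
  change (AMonS S N ◁ c.π.app k₁) ≫ x₁ = x.1 at hx₁
  change x₁ ≫ f = (AMonS S N ◁ W.map φ₁) ≫ y.1 at hx₁'
  obtain ⟨hMN⟩ := isLimit_whisker hN (AMonS S M)
  have hWM : ∀ j, IsAffine (((W ⋙ tensorLeft (AMonS S N)) ⋙ tensorLeft (AMonS S M)).obj j).left := fun j => by
    haveI := hWA j
    exact inferInstanceAs (IsAffine (AMonS S M ⊗ (AMonS S N ⊗ W.obj j)).left)
  let E := ((subAct S M N).prod (MonAct.trivial (AMonS S M) (W.obj k₁))).act ≫ x₁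
  let E' := (AMonS S M ◁ x₁) ≫ aX.act
  have hy : MonAct.IsEquivariant ((subAct S M N).prod (MonAct.trivial (AMonS S M) (W.obj k₁))) aZ (x₁ ≫ f) := by
    rw [hx₁']
    exact ((attr aZ N).map (W.map φ₁).op y).2
  have hEf : E ≫ f = E' ≫ f := by
    simp only [E, E', Category.assoc]
    rw [show aX.act ≫ f = (AMonS S M ◁ f) ≫ aZ.act from hf, ← MonoidalCategory.whiskerLeft_comp_assoc]
    exact hy
  have hlim : (AMonS S M ◁ (AMonS S N ◁ c.π.app k₁)) ≫ E = (AMonS S M ◁ (AMonS S N ◁ c.π.app k₁)) ≫ E' := by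
    simp only [E, E']
    rw [← MonAct.prod_trivial_act_whiskerLeft_assoc, ← MonoidalCategory.whiskerLeft_comp_assoc, hx₁]
    exact x.2
  obtain ⟨k, φ, e⟩ := exists_eq_stage f hWM hMN E E' hEf hlim
  change (AMonS S M ◁ (AMonS S N ◁ W.map φ)) ≫ E = (AMonS S M ◁ (AMonS S N ◁ W.map φ)) ≫ E' at e
  refine ⟨k, φ ≫ φ₁, ⟨(AMonS S N ◁ W.map φ) ≫ x₁, ?_⟩, ?_, ?_⟩
  · show _ = _
    rw [MonAct.prod_trivial_act_whiskerLeft_assoc, MonoidalCategory.whiskerLeft_comp, Category.assoc]
    exact e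
  · show (AMonS S N ◁ c.π.app k) ≫ (AMonS S N ◁ W.map φ) ≫ x₁ = x.1
    rw [← MonoidalCategory.whiskerLeft_comp_assoc, c.w, hx₁]
  · show ((AMonS S N ◁ W.map φ) ≫ x₁) ≫ f = _
    rw [Category.assoc, hx₁', ← MonoidalCategory.whiskerLeft_comp_assoc, W.map_comp]

omit [IsCofiltered J] in
/-- Locally of finite presentation, by lifting along limits. -/
theorem lfp_of_surj {U V : Over S} (j : U ⟶ V)
    (H : ∀ ⦃I : Type u⦄ [SmallCategory I] [IsCofiltered I] (D : I ⥤ Over S) (c : Cone D), IsLimit c →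
      (∀ i, IsAffine (D.obj i).left) → IsAffine c.pt.left → ∀ (z : c.pt ⟶ U) (i : I) (y : D.obj i ⟶ V),
      z ≫ j = c.π.app i ≫ y →
      ∃ (k : I) (φ : k ⟶ i) (z' : D.obj k ⟶ U), c.π.app k ≫ z' = z ∧ z' ≫ j = D.map φ ≫ y) :
    LocallyOfFinitePresentation j.left := by
  refine AlgSp.locP_yon_map (AlgSpDec.locP_lfp_of_homSurj (AlgSp.IsAlgSpace.yon_obj U) (AlgSp.IsAlgSpace.yon_obj V)
    (f := (AlgSp.yon S).map j) ?_)
  intro I _ _ D c hc hD hA x i y hxy
  obtain ⟨z, rfl⟩ := (AlgSp.yon S).map_surjective x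
  obtain ⟨w, rfl⟩ := (AlgSp.yon S).map_surjective y
  rw [← Functor.map_comp, ← Functor.map_comp] at hxy
  haveI := IsCofiltered.isConnected I
  obtain ⟨k, φ, z', h₁, h₂⟩ := H D c (isLimitOfReflects (Over.forget S) hc) hD hA z i w
    ((AlgSp.yon S).map_injective hxy)
  exact ⟨k, φ, (AlgSp.yon S).map z', by rw [← Functor.map_comp, h₁],
    by rw [← Functor.map_comp, ← Functor.map_comp, h₂]⟩

end Groth.Agent.H28.AttrLfp
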