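import Groth.Agent.H28.KRRTw
import Groth.Agent.AmpleX.ExtendQS
import Groth.Agent.ProjUPX.Unique
import Groth.Agent.InvX.GenLocus
import Groth.Agent.InvX.GenLocusPull
import Groth.Agent.QCoh.Support
import Groth.Agent.QCoh.Pullback
import Groth.Agent.QCoh.Qcqs
import Groth.Agent.PnCoh.Chow.Proper
import Groth.Agent.PicClLib.Basic

/-!
# A regular quasi-coherent module is generated by its direct image
-/

set_option linter.style.haveILetI false
set_option linter.unusedSectionVars false
set_option backward.isDefEq.respectTransparency false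
set_option backward.isDefEq.respectTransparency.types false

universe u

open CategoryTheory CategoryTheory.Limits AlgebraicGeometry TopologicalSpace Opposite MonoidalCategory
open Groth.Agent.KFlatLib

namespace Groth.Agent.H28.KRREpi

open Groth.Agent

section General

variable {X : Scheme.{u}} {M N : X.Modules}

/-- Tensoring with a frame is injective. -/
theorem eq_zero_of_tmul_frame {U : X.Opens} {a : Γ(M, U)} {b : Γ(N, U)} (hb : InvX.IsFrame b)
    (h : InvX.tmul a b = 0) : a = 0 := by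
  refine TopCat.Presheaf.section_ext (X := X.toPresheafedSpace.carrier)
    ((KFlatLib.toAb X).obj M) _ _ _ fun x hx => ?_
  show M.presheaf.germ U x hx a = M.presheaf.germ U x hx 0
  rw [map_zero]
  let P := CohB1.toPMod M
  let Q := CohB1.toPMod N
  let ga : KFlatLib.stalkMod x P := KFlatLib.germP P U hx a
  let gb : KFlatLib.stalkMod x Q := KFlatLib.germP Q U hx b
  let eb := LinearEquiv.ofBijective (LinearMap.toSpanSingleton (X.presheaf.stalk x) (KFlatLib.stalkMod x Q) gb)
    (hb.germ_bijective hx)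
  let T := ((TensorProduct.rid (X.presheaf.stalk x) (KFlatLib.stalkMod x P)).symm.trans
    (TensorProduct.congr (LinearEquiv.refl _ _) eb)).trans (KFlatLib.tensorStalkEquiv P Q)
  haveI hi := KFlatLib.isIso_stalk_unitShP (x := x) (P ⊗ Q)
  let u := ((KFlatLib.stalkP x).map (KFlatLib.unitShP (P ⊗ Q)))
  have hu : Function.Bijective u.hom := ConcreteCategory.bijective_of_isIso u
  have hT : T ga = KFlatLib.germP (P ⊗ Q) U hx (KFlatLib.tm a b) := by
    show KFlatLib.tensorStalkEquiv P Q (TensorProduct.congr (LinearEquiv.refl _ _) eb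
      ((TensorProduct.rid (X.presheaf.stalk x) (KFlatLib.stalkMod x P)).symm ga)) = _
    rw [TensorProduct.rid_symm_apply, TensorProduct.congr_tmul]
    show KFlatLib.tensorStalkEquiv P Q (ga ⊗ₜ ((1 : X.presheaf.stalk x) • gb)) = _
    rw [one_smul]
    exact KFlatLib.ofTensor_germ U hx a b
  have h2 : u.hom (T ga) = 0 := by
    rw [hT]
    refine (KFlatLib.stalkModMap_germ _ U hx _).trans ?_
    show KFlatLib.germP _ U hx (InvX.tmul a b) = 0
    rw [h]
    exact map_zero _
  have h3 : ga = 0 := T.injective (hu.1 (h2.trans (map_zero u.hom).symm) |>.trans (map_zero T).symm)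
  exact h3

/-- A quasi-coherent module without sections on the members of an affine cover is zero. -/
theorem isZero_of_affine {C : X.Modules} (hC : Coh.IsQCoh C)
    (h : ∀ y : X, ∃ W : X.Opens, IsAffineOpen W ∧ y ∈ W ∧ ∀ t : Γ(C, W), t = 0) : IsZero C := by
  refine KFlatLib.isZero_of_stalk _ fun y => ?_
  obtain ⟨W, hW, hy, hz⟩ := h y
  have hs : ∀ m : ↑(C.presheaf.stalk y), m = 0 := fun m => by
    obtain ⟨V, hV, s, rfl⟩ := TopCat.Presheaf.exists_germ_eq C.presheaf (x := y) m
    obtain ⟨g, hg, hgy⟩ := hW.exists_basicOpen_le (⟨y, hV⟩ : V) hy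
    obtain ⟨k, t, ht⟩ := QCoh.exists_pow_smul_eq_map hC hW g (AModX.res C hg s)
    have h0 : AModX.res C hg s = 0 := by
      rw [hz t, map_zero] at ht
      exact (IsUnit.smul_eq_zero ((AModX.isUnit_resR (X.basicOpen_le g) g le_rfl).pow k)).1 ht.symm
    rw [← InvX.germ_res' hg hgy s, h0, map_zero]
  rw [IsZero.iff_id_eq_zero]
  refine ModuleCat.hom_ext (LinearMap.ext fun m => ?_)
  exact hs m

theorem app_map (c : M ⟶ N) (P : X.Modules) {U : X.Opens} (a : Γ(M, U)) (b : Γ(P, U)) :
    ((DCoh.tensorBi.flip.obj P).map c).app U (InvX.tmul a b) = InvX.tmul (c.app U a) b :=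
  (congrArg (fun ψ : DCoh.toP.obj M ⊗ DCoh.toP.obj P ⟶ DCoh.toP.obj ((DCoh.tensorBi.flip.obj P).obj N) =>
      ψ.app (op U) (tm a b))
    (unitShP_naturality (DCoh.toP.map c ▷ DCoh.toP.obj P))).symm

theorem pullback_tensorPow {Y : Scheme.{u}} (j : Y ⟶ X) (L : X.Modules) (m : ℕ) :
    Nonempty ((Scheme.Modules.pullback j).obj (CohB1.tensorPow L m) ≅
      CohB1.tensorPow ((Scheme.Modules.pullback j).obj L) m) := by
  induction m with
  | zero => exact PicClLib.nonempty_pullback_structureModule j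
  | succ m ih =>
    obtain ⟨e⟩ := ih
    exact ⟨((KFlatLib.pullTensorBiIso j).app (CohB1.tensorPow L m)).app L ≪≫ (DCoh.tensorBi.mapIso e).app _⟩

theorem pullback_map_app_top {V : X.Opens} (φ : M ⟶ N) (h : ∀ z, φ.app V z = 0)
    (z : Γ((Scheme.Modules.pullback V.ι).obj M, ⊤)) :
    ((Scheme.Modules.pullback V.ι).map φ).app ⊤ z = 0 := by
  let R := Scheme.Modules.restrictFunctorIsoPullback V.ι
  have e : (Scheme.Modules.pullback V.ι).map φ =
      R.inv.app M ≫ (Scheme.Modules.restrictFunctor V.ι).map φ ≫ R.hom.app N := by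
    rw [← Category.assoc, ← R.inv.naturality φ, Category.assoc, Iso.inv_hom_id_app, Category.comp_id]
  have h' : ∀ (W : X.Opens), W = V → ∀ z, φ.app W z = 0 := by rintro _ rfl; exact h
  have h0 : ∀ w, ((Scheme.Modules.restrictFunctor V.ι).map φ).app ⊤ w = 0 := fun w =>
    h' (V.ι ''ᵁ ⊤) V.ι_image_top w
  rw [e]
  show (R.hom.app N).app ⊤ (((Scheme.Modules.restrictFunctor V.ι).map φ).app ⊤ _) = 0
  rw [h0, map_zero]

theorem frame_genLocus {L : X.Modules} (s : Coh.structureModule X ⟶ L) :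
    InvX.IsFrame (AModX.res L (le_top : CohB1.genLocus L s ≤ ⊤) (InvX.one s)) := by
  refine InvX.isFrame_of_germ fun y hy => ?_
  obtain ⟨W, hyW, hW⟩ := InvX.mem_genLocus hy
  have := hW.germ_bijective hyW
  rw [InvX.germ_res'] at this ⊢
  exact this

end General

section ProjGen

open HomogeneousLocalization

variable {R A : Type u} [CommRing R] [CommRing A] [Algebra R A]

/-- The generating locus of a coordinate. -/
theorem genLocus_sec {κ : Type*} (𝒜 : ℕ → Submodule R A) [GradedAlgebra 𝒜] (g : κ → A) (hg : ∀ j, g j ∈ 𝒜 1)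
    (hcov : ⨆ j, Proj.basicOpen 𝒜 (g j) = ⊤) {a : A} (ha : a ∈ 𝒜 1) :
    CohB1.genLocus (Twist.twist 𝒜 1) (InvX.ofSect (ProjUPX.sec 𝒜 ha)) = Proj.basicOpen 𝒜 a := by
  refine le_antisymm (fun x hx => ?_) (InvX.le_genLocus _ ?_)
  · obtain ⟨j, hj⟩ := Opens.mem_iSup.1 (hcov.ge (trivial : x ∈ (⊤ : (Proj 𝒜).Opens)))
    let D := Proj.basicOpen 𝒜 (g j)
    let c : Γ(Proj 𝒜, D) := (Proj.awayToSection 𝒜 (g j)).hom
      (Away.mk 𝒜 (hg j) 1 a (by rwa [one_smul]))
    have h1 : AModX.res (Twist.twist 𝒜 1) (le_top : D ≤ ⊤) (InvX.one (InvX.ofSect (ProjUPX.sec 𝒜 ha))) =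
        c • AModX.res (Twist.twist 𝒜 1) (le_top : D ≤ ⊤) (ProjUPX.sec 𝒜 (hg j)) := by
      rw [InvX.one_ofSect]
      exact ProjUPX.sec_eq_smul 𝒜 ha (hg j)
    have h2 := InvX.genLocus_inf (InvX.ofSect (ProjUPX.sec 𝒜 ha)) (ProjUPX.isFrame_sec 𝒜 (hg j)) h1
    have hxc : x ∈ (Proj 𝒜).basicOpen c := h2 ▸ ⟨hx, hj⟩
    have hle : (Proj 𝒜).basicOpen c ≤ (𝟙 (Proj 𝒜)) ⁻¹ᵁ D := (Proj 𝒜).basicOpen_le c
    exact ProjUPX.le_preimage_of_isUnit (𝟙 (Proj 𝒜)) ha (hg j) hle
      (by
        have hu : IsUnit (AModX.resR ((Proj 𝒜).basicOpen_le c) c) := AModX.isUnit_resR _ _ le_rfl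
        convert hu using 1
        unfold ProjUPX.ratioOf
        rw [Scheme.Hom.appLE, Scheme.Hom.id_app, Category.id_comp]
        rfl) hxc
  · rw [InvX.one_ofSect]
    exact ProjUPX.isFrame_sec 𝒜 ha

end ProjGen

open Groth.Agent.H28.KRRTw Groth.Agent.H28.KRRReg

variable {n : ℕ} {T : Scheme.{u}}

theorem isQCoh_counit_obj (F : (KRR.PY n T).Modules) (hF : Coh.IsQCoh F) :
    Coh.IsQCoh ((Scheme.Modules.pullback (KRR.pr n T)).obj
      ((Scheme.Modules.pushforward (KRR.pr n T)).obj F)) := by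
  haveI : IsProper (KRR.pr n T) :=
    MorphismProperty.pullback_snd _ _ (PnCoh.Chow.isProper_toSpec n (ULift.{u} ℤ))
  exact QCoh.isQCoh_pullback _ (QCoh.isQCoh_pushforward _ hF)

/-- An epimorphism of quasi-coherent modules killed by `p_*` of all non-negative twists has zero
target. -/
theorem isZero_of_push_tw_eq_zero {F C : (KRR.PY n T).Modules} (hF : Coh.IsQCoh F) (hC : Coh.IsQCoh C)
    (π : F ⟶ C) [Epi π]
    (h : ∀ e : ℕ, (Scheme.Modules.pushforward (KRR.pr n T)).map ((Tw n T (e : ℤ)).map π) = 0) :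
    IsZero C := by
  haveI hp : IsProper (KRR.pr n T) :=
    MorphismProperty.pullback_snd _ _ (PnCoh.Chow.isProper_toSpec n (ULift.{u} ℤ))
  refine isZero_of_affine hC fun y => ?_
  obtain ⟨_, ⟨U₀, hU, rfl⟩, hyU, -⟩ := T.isBasis_affineOpens.exists_subset_of_mem_open
    (show KRR.pr n T y ∈ (⊤ : T.Opens) from trivial) (⊤ : T.Opens).2
  obtain ⟨j, hj⟩ := Opens.mem_iSup.1 (crd_cover.{u}.ge (trivial : toPn n T y ∈ (⊤ : Opens _)))
  let U : T.Opens := U₀
  change IsAffineOpen U at hU
  let p := KRR.pr n T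
  let V : (KRR.PY n T).Opens := p ⁻¹ᵁ U
  let g : V.toScheme ⟶ CohB1.ProjSpace n (ULift.{u} ℤ) := V.ι ≫ toPn n T
  -- `g` is affine
  haveI : IsAffine U.toScheme := hU
  haveI haffg : IsAffineHom g := by
    have h1 : IsPullback (p ∣_ U) V.ι U.ι p := isPullback_morphismRestrict p U
    have h2 : IsPullback (toPn n T) p (CohB1.ProjSpace.toSpec n (ULift.{u} ℤ))
        (specULiftZIsTerminal.from T) := IsPullback.of_hasPullback _ _
    have h3 := h1.flip.paste_horiz h2
    exact MorphismProperty.of_isPullback h3.flip (isAffineHom_of_isAffine _)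
  haveI : CompactSpace V.toScheme := isCompact_iff_compactSpace.mp
    (QuasiCompact.isCompact_preimage (f := p) _ U.2 hU.isCompact)
  haveI : QuasiSeparatedSpace V.toScheme :=
    (isQuasiSeparated_iff_quasiSeparatedSpace (V : Set (KRR.PY n T)) V.2).mp
      (p.isQuasiSeparated_preimage hU.isQuasiSeparated)
  -- the section
  let L0 := Twist.twist (CohB1.polyGrading n (ULift.{u} ℤ)) 1
  have hL0 : PicF.IsInvertible L0 := PnCoh.Finite.isInvertible_twist (crd n) crd_mem crd_cover 1
  let L := (Scheme.Modules.pullback g).obj L0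
  have hL : PicF.IsInvertible L := PicClLib.isInvertible_pullback g hL0
  obtain ⟨e1⟩ := PicClLib.nonempty_pullback_structureModule g
  let s := e1.symm.hom ≫ (Scheme.Modules.pullback g).map
    (InvX.ofSect (ProjUPX.sec (CohB1.polyGrading n (ULift.{u} ℤ)) (crd_mem j)))
  let G := CohB1.genLocus L s
  have hG : G = g ⁻¹ᵁ Proj.basicOpen (CohB1.polyGrading n (ULift.{u} ℤ)) (crd n j) := by
    refine (InvX.genLocus_pullback g hL0 _ e1.symm).trans ?_
    rw [genLocus_sec _ (crd n) crd_mem crd_cover (crd_mem j)]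
  have hGaff : IsAffineOpen G := by
    rw [hG]
    exact IsAffineHom.isAffine_preimage _
      (Proj.isAffineOpen_basicOpen _ _ (crd_mem j) one_pos)
  let F' := (Scheme.Modules.pullback V.ι).obj F
  let C' := (Scheme.Modules.pullback V.ι).obj C
  let π' : F' ⟶ C' := (Scheme.Modules.pullback V.ι).map π
  haveI : (Scheme.Modules.pullback V.ι).IsLeftAdjoint :=
    (Scheme.Modules.pullbackPushforwardAdjunction V.ι).isLeftAdjoint
  haveI : Epi π' := inferInstanceAs (Epi ((Scheme.Modules.pullback V.ι).map π))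
  have hF' : Coh.IsQCoh F' := QCoh.isQCoh_pullback _ hF
  have hC' : Coh.IsQCoh C' := QCoh.isQCoh_pullback _ hC
  have hzero : ∀ t : Γ(F', G), π'.app G t = 0 := fun t => by
    obtain ⟨m, hm⟩ := AmpleX.exists_extend' hF' hL s t
    obtain ⟨S, hS⟩ := hm m le_rfl
    obtain ⟨a⟩ := PnCoh.Finite.twist_tensorPow_iso (crd n) crd_mem crd_cover m
    obtain ⟨b⟩ := pullback_tensorPow g L0 m
    let P := CohB1.tensorPow L m
    let eP : (Scheme.Modules.pullback V.ι).obj (Twist.twistOver n T (m : ℤ)) ≅ P :=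
      (Scheme.Modules.pullbackComp V.ι (toPn n T)).app _ ≪≫ (Scheme.Modules.pullback g).mapIso a ≪≫ b
    let α : Tw n T (m : ℤ) ⋙ Scheme.Modules.pullback V.ι ≅
        Scheme.Modules.pullback V.ι ⋙ DCoh.tensorBi.flip.obj P :=
      (KFlatLib.pullTensorBiIso V.ι).app (Twist.twistOver n T (m : ℤ)) ≪≫
        Functor.isoWhiskerLeft (Scheme.Modules.pullback V.ι)
          (DCoh.tensorBi.mapIso eP ≪≫ ((KFlatLib.tensorBiFlipIso V.toScheme).app P).symm)
    have hz : ∀ z, ((Tw n T (m : ℤ)).map π).app V z = 0 := fun z => by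
      have := congrArg (fun φ => Scheme.Modules.Hom.app φ U) (h m)
      exact (congrArg (fun ψ => ψ z) this).trans rfl
    have hz' : ((DCoh.tensorBi.flip.obj P).map π').app ⊤ S = 0 := by
      have e : (DCoh.tensorBi.flip.obj P).map π' = α.inv.app F ≫
          (Scheme.Modules.pullback V.ι).map ((Tw n T (m : ℤ)).map π) ≫ α.hom.app C := by
        have := α.hom.naturality π
        rw [Functor.comp_map, Functor.comp_map] at this
        rw [this, Iso.inv_hom_id_app_assoc]
      rw [e]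
      show (α.hom.app C).app ⊤ (((Scheme.Modules.pullback V.ι).map ((Tw n T (m : ℤ)).map π)).app ⊤ _) = 0
      rw [pullback_map_app_top _ hz, map_zero]
    refine eq_zero_of_tmul_frame (AmpleX.isFrame_powElt (e := AModX.res L (le_top : G ≤ ⊤) (InvX.one s)) ?_ m) ?_
    · exact frame_genLocus s
    · rw [← app_map π' P t]
      refine (congrArg (fun z => ((DCoh.tensorBi.flip.obj P).map π').app G z) hS.symm).trans ?_
      exact ((AModX.app_res ((DCoh.tensorBi.flip.obj P).map π') (le_top : G ≤ ⊤) S).trans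
        (congrArg _ hz')).trans (map_zero _)
  refine ⟨V.ι ''ᵁ G, hGaff.image_of_isOpenImmersion V.ι, ⟨⟨y, hyU⟩, ?_, rfl⟩, fun c => ?_⟩
  · rw [hG]; exact hj
  · have hall : ∀ c' : Γ(C', G), c' = 0 := fun c' => by
      obtain ⟨t, rfl⟩ := QCoh.app_surjective_of_epi hF' hC' π' hGaff c'
      exact hzero t
    let R := (Scheme.Modules.restrictFunctorIsoPullback V.ι).app C
    have hb : Function.Bijective (R.hom.app G) := (ConcreteCategory.isIso_iff_bijective _).1
      (Scheme.Modules.Hom.isIso_iff_isIso_app.1 inferInstance G)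
    exact hb.1 ((hall (R.hom.app G c)).trans (hall (R.hom.app G 0)).symm)

/-- A regular quasi-coherent module is generated by its direct image. -/
theorem epi_counit (F : (KRR.PY n T).Modules) (hF : Coh.IsQCoh F) (hR : KRR.IsRegSheaf n T F) :
    Epi ((Scheme.Modules.pullbackPushforwardAdjunction (KRR.pr n T)).counit.app F) := by
  let adj := Scheme.Modules.pullbackPushforwardAdjunction (KRR.pr n T)
  let ε := adj.counit.app F
  have h0 : Epi ((Scheme.Modules.pushforward (KRR.pr n T)).map ε) := by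
    haveI : IsSplitEpi ((Scheme.Modules.pushforward (KRR.pr n T)).map ε) :=
      ⟨⟨⟨adj.unit.app _, adj.right_triangle_components F⟩⟩⟩
    infer_instance
  refine Preadditive.epi_of_isZero_cokernel _
    (isZero_of_push_tw_eq_zero hF (QCoh.isQCoh_cokernel (isQCoh_counit_obj F hF) hF ε) (cokernel.π ε) fun e => ?_)
  haveI := epi_push_tw ε hR h0 e e rfl
  rw [← cancel_epi ((Scheme.Modules.pushforward (KRR.pr n T)).map ((Tw n T (e : ℤ)).map ε)), comp_zero,
    ← Functor.map_comp, ← Functor.map_comp, cokernel.condition]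
  simp

end Groth.Agent.H28.KRREpi
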