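import Groth.Agent.KFlatLib.Perfect.Top
import Groth.Agent.H28.KvbModel
import Groth.Agent.AmpleX.Generated
import Groth.Agent.AmpleX.Separated
import Groth.Agent.InvX.GenEpi
import Groth.Agent.InvX.Tensor

/-!
# Ample line elements
-/

set_option autoImplicit false
set_option linter.style.haveILetI false
set_option linter.unusedSectionVars false
set_option backward.isDefEq.respectTransparency false
set_option backward.isDefEq.respectTransparency.types false

universe v w u

open CategoryTheory CategoryTheory.Limits AlgebraicGeometry TopologicalSpace Opposite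

noncomputable section

namespace Groth.Agent.H28.KvbAmple

open Groth.Agent Groth.Agent.H28.KvbLam Groth.Agent.H28.KvbModel

variable {X : Scheme.{u}}

theorem free_zero : IsZero (FlatMod.freeMod X 0) :=
  (IsZero.iff_id_eq_zero _).2 (Sigma.hom_ext _ _ fun b => b.elim0)

theorem free_succ (n : ℕ) : ∃ (f : FlatMod.freeMod X n ⟶ FlatMod.freeMod X (n + 1))
    (g : FlatMod.freeMod X (n + 1) ⟶ Coh.structureModule X) (w : f ≫ g = 0), (ShortComplex.mk f g w).ShortExact := by
  let f : FlatMod.freeMod X n ⟶ FlatMod.freeMod X (n + 1) :=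
    Sigma.desc fun b => Sigma.ι (fun _ : Fin (n + 1) => Coh.structureModule X) b.castSucc
  let g : FlatMod.freeMod X (n + 1) ⟶ Coh.structureModule X :=
    Sigma.desc fun b => if b = Fin.last n then 𝟙 _ else 0
  have hne : ∀ b : Fin n, b.castSucc ≠ Fin.last n := fun b => (Fin.castSucc_lt_last b).ne
  have w : f ≫ g = 0 := Sigma.hom_ext _ _ fun b => by simp [f, g, hne b]
  let σ : (ShortComplex.mk f g w).Splitting :=
    { r := Sigma.desc fun b : Fin (n + 1) =>
        Fin.lastCases 0 (fun c => Sigma.ι (fun _ : Fin n => Coh.structureModule X) c) b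
      s := Sigma.ι (fun _ : Fin (n + 1) => Coh.structureModule X) (Fin.last n)
      f_r := Sigma.hom_ext _ _ fun b => by simp [f]
      s_g := by simp [g]
      id := Sigma.hom_ext _ _ fun b => by
        refine Fin.lastCases ?_ (fun c => ?_) b
        · simp [f, g]
        · simp [f, g, hne c] }
  exact ⟨f, g, w, σ.shortExact⟩

theorem lf_free (n : ℕ) : FlatMod.IsFinLocFree (FlatMod.freeMod X n) := by
  induction n with
  | zero => exact KFlatLib.isFinLocFree_of_isZero free_zero
  | succ n ih =>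
    obtain ⟨f, g, w, hS⟩ := free_succ (X := X) n
    exact ExtFil.isFinLocFree_mid (S := ShortComplex.mk f g w) hS ih KvbLam.lf_O

theorem cl_free (n : ℕ) : cl (FlatMod.freeMod X n) = n • cl (Coh.structureModule X) := by
  induction n with
  | zero => rw [zero_nsmul]; exact KZ.clSub_isZero _ free_zero
  | succ n ih =>
    obtain ⟨f, g, w, hS⟩ := free_succ (X := X) n
    rw [succ_nsmul, ← ih]
    exact KZ.clSub_ses (P := fun M : X.Modules => FlatMod.IsFinLocFree M) hS (lf_free n) (lf_free (n + 1)) KvbLam.lf_O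

theorem exists_ses_generated {G : X.Modules} (hG : FlatMod.IsFinLocFree G) {ι : Type u} [Finite ι]
    {s : ι → Γ(G, ⊤)} (hs : ProjUP.GeneratedBy G s) :
    ∃ (k : ℕ) (K : X.Modules), FlatMod.IsFinLocFree K ∧ k • cl (Coh.structureModule X) = cl K + cl G := by
  obtain ⟨k, ⟨e⟩⟩ := Finite.exists_equiv_fin ι
  have hs' : ProjUP.GeneratedBy G (s ∘ e.symm) := fun x => by
    have h := hs x
    rw [← h]
    congr 1
    exact (e.symm.surjective.range_comp (fun i => G.presheaf.germ ⊤ x trivial (s i)))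
  obtain ⟨p, hp⟩ := InvX.exists_epi_freeMod hs'
  have hK := KFlatLib.isFinLocFree_kernel p (lf_free k) hG
  refine ⟨k, kernel p, hK, ?_⟩
  rw [← cl_free]
  exact KZ.clSub_ses (P := fun M : X.Modules => FlatMod.IsFinLocFree M) (KZ.kerSeq_shortExact p) hK (lf_free k) hG

theorem isAmpleElt [ConnectedSpace ↥X]
    {K : Type v} [CommRing K] [LambdaRing.LambdaOps K] (P : LambdaRing.PosStructure K) (φ : SGA6.Kvb X →+ K)
    (hK : KRR.IsModel X K P φ) (L : X.Modules) (hL : CohB1.IsAmple L) :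
    KRR.IsAmpleElt P (φ (KRR.cl X L)) := by
  have hL1 : FlatMod.IsFinLocFreeOfRank 1 L := fun x => InvEnd.isFinLocFreeOfRank_one hL.1 x
  refine ⟨⟨(hK.mem_pos_iff _).2 ⟨1, L, le_rfl, hL1, rfl⟩, by rw [hK.aug_cl 1 L hL1, Nat.cast_one]⟩, fun x => ?_⟩
  haveI : CompactSpace X := hL.2.1
  haveI : X.IsSeparated := AmpleX.isSeparated_of_isAmple hL
  obtain ⟨y, rfl⟩ := hK.bijective.2 x
  obtain ⟨A, B, hA, hB, rfl⟩ := KvbModel.exists_sub y
  have hpw : ∀ n, FlatMod.IsFinLocFree (CohB1.tensorPow L n) ∧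
      φ (cl (CohB1.tensorPow L n)) = φ (cl L) ^ n := fun n => by
    induction n with
    | zero => exact ⟨KvbLam.lf_O, by rw [pow_zero]; exact hK.map_one⟩
    | succ n ih =>
      refine ⟨KvbLam.lf_tens ih.1 (lf_of_rank hL1), ?_⟩
      rw [pow_succ, ← ih.2]
      exact (hK.map_mul _ _ ih.1 (lf_of_rank hL1)).symm
  obtain ⟨n₀, hn₀⟩ := AmpleX.eventually_generated_finite (F := B) hL (QCoh.isQCoh_of_isFinLocFree hB)
    (QCoh.isFT_of_isFP (QCoh.isFP_of_isFinLocFree hB))
  refine ⟨n₀, fun n hn => ?_⟩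
  obtain ⟨G, iso, ι, _, s, hs⟩ := hn₀ n hn
  have hBn := KvbLam.lf_tens hB (hpw n).1
  have hAn := KvbLam.lf_tens hA (hpw n).1
  have hG : FlatMod.IsFinLocFree G := H23.PullPush.isFinLocFree_of_iso iso.symm hBn
  obtain ⟨k, K', hK', hk⟩ := exists_ses_generated hG hs
  obtain ⟨a, ha⟩ := exists_rank (KFlatLib.isFinLocFree_biprod (KFlatLib.isFinLocFree_biprod hAn hK') KvbLam.lf_O)
  have hcl : ∀ {E F : X.Modules}, FlatMod.IsFinLocFree E → FlatMod.IsFinLocFree F → cl (E ⊞ F) = cl E + cl F :=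
    fun {E F} hE hF => KZ.clSub_ses (P := fun M : X.Modules => FlatMod.IsFinLocFree M)
      (ShortComplex.Splitting.ofHasBinaryBiproduct E F).shortExact hE (KFlatLib.isFinLocFree_biprod hE hF) hF
  have ha1 : 1 ≤ a := by
    obtain ⟨z⟩ := (inferInstance : Nonempty ↥X)
    obtain ⟨r, hr⟩ := exists_rank (KFlatLib.isFinLocFree_biprod hAn hK')
    have := frameAt_unique (frameAt_of_rank ha z) (frameAt_ses
      (ShortComplex.Splitting.ofHasBinaryBiproduct _ _).shortExact (frameAt_of_rank hr z) (frameAt_O z))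
    omega
  refine ⟨_, k + 1, (hK.mem_pos_iff _).2 ⟨a, _, ha1, ha, rfl⟩, ?_⟩
  have hk' : (k : K) = φ (cl K') + φ (cl (tens B (CohB1.tensorPow L n))) := by
    have h := congrArg φ hk
    have h' : cl G = cl (tens B (CohB1.tensorPow L n)) := cl_iso iso hG
    rw [map_nsmul, map_add, h'] at h
    rw [← h, show φ (cl (Coh.structureModule X)) = 1 from hK.map_one, nsmul_one]
  change φ (cl L) ^ n * φ (cl A - cl B) = φ (cl _) - ((k + 1 : ℕ) : K)
  rw [hcl (KFlatLib.isFinLocFree_biprod hAn hK') KvbLam.lf_O, hcl hAn hK', map_add, map_add, map_sub,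
    show φ (cl (Coh.structureModule X)) = 1 from hK.map_one,
    show φ (cl (tens A (CohB1.tensorPow L n))) = φ (cl A) * φ (cl L) ^ n by
      rw [← (hpw n).2]; exact (hK.map_mul _ _ hA (hpw n).1).symm,
    Nat.cast_add, Nat.cast_one, hk',
    show φ (cl (tens B (CohB1.tensorPow L n))) = φ (cl B) * φ (cl L) ^ n by
      rw [← (hpw n).2]; exact (hK.map_mul _ _ hB (hpw n).1).symm]
  ring

end Groth.Agent.H28.KvbAmple
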