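import Groth.Agent.H28.PBFil
import Groth.Agent.H28.PBAtlas
import Groth.Agent.H28.PBCores
import Groth.Agent.QCoh.RpushExchange2
import Groth.Agent.H28.KvbAmple
import Groth.Agent.H28.KvbPull
import Groth.Agent.H23.SectionFinset
import Groth.Agent.H23.PicInv
import Groth.Agent.InvX.GenLocusPull
import Groth.Agent.VarDim.Top

/-!
# Products of more than `dim Y` classes `[M] - 1` vanish
-/

set_option autoImplicit false
set_option linter.style.haveILetI false
set_option linter.unusedSectionVars false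
set_option backward.isDefEq.respectTransparency false
set_option backward.isDefEq.respectTransparency.types false

universe v u

open CategoryTheory CategoryTheory.Limits AlgebraicGeometry TopologicalSpace Opposite MonoidalCategory

noncomputable section

namespace Groth.Agent.H28.KVanish

open Groth.Agent Groth.Agent.H28.KvbLam

variable {Y : Scheme.{u}}

section Dual

variable {N Ni : Y.Modules} (s : Coh.structureModule Y ⟶ N) (e : CohB1.tensorMod N Ni ≅ Coh.structureModule Y)

/-- A section of `N` as a map to `O` from the inverse of `N`. -/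
def dual : Ni ⟶ Coh.structureModule Y :=
  (Scheme.Modules.fullyFaithfulToPresheafOfModules (X := Y)).preimage
    ((λ_ (CohB1.toPMod Ni)).inv ≫ (DCoh.toP.map s ▷ CohB1.toPMod Ni) ≫
      KFlatLib.unitShP (CohB1.toPMod N ⊗ CohB1.toPMod Ni)) ≫ e.hom

theorem dual_app {U : Y.Opens} (b : Γ(Ni, U)) :
    (dual s e).app U b = e.hom.app U (InvX.tmul (AModX.res N (le_top : U ≤ ⊤) (InvX.one s)) b) := by
  have h : (s.app U (show Γ(Coh.structureModule Y, U) from (1 : Γ(Y, U)))) =
      AModX.res N (le_top : U ≤ ⊤) (InvX.one s) := (InvX.app_eq_smul s (1 : Γ(Y, U))).trans (one_smul _ _)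
  rw [← h]
  rfl

theorem isIso_dual {U : Y.Opens} {b : Γ(Ni, U)} (hb : InvX.IsFrame b)
    (hs : InvX.IsFrame (AModX.res N (le_top : U ≤ ⊤) (InvX.one s))) :
    IsIso ((Scheme.Modules.restrictFunctor U.ι).map (dual s e)) := by
  have hf : InvX.IsFrame ((dual s e).app U b) := by
    rw [dual_app]
    exact InvX.IsFrame.map_iso e (InvX.isFrame_tmul hs hb)
  rw [Scheme.Modules.Hom.isIso_iff_isIso_app]
  intro V'
  refine (ConcreteCategory.isIso_iff_bijective _).2 ?_
  show Function.Bijective ((dual s e).app (U.ι ''ᵁ V'))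
  have h1 := hb (U.ι ''ᵁ V') (U.ι_image_le V')
  have h2 := hf (U.ι ''ᵁ V') (U.ι_image_le V')
  refine (Function.Bijective.of_comp_iff _ h1).1 ?_
  refine (iff_of_eq (congrArg Function.Bijective (funext fun r => ?_))).1 h2
  show r • _ = (dual s e).app _ (r • AModX.res Ni (U.ι_image_le V') b)
  rw [Scheme.Modules.Hom.app_smul, AModX.app_res]

end Dual

variable {K : Type v} [CommRing K] [LambdaRing.LambdaOps K] {P : LambdaRing.PosStructure K}
  {φ : SGA6.Kvb Y →+ K} (hK : KRR.IsModel Y K P φ)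

/-- An invertible module with a section. -/
structure Sec (Y : Scheme.{u}) where
  /-- the module -/
  N : Y.Modules
  inv : PicF.IsInvertible N
  /-- the section -/
  s : Coh.structureModule Y ⟶ N

/-- `[N] - 1`. -/
abbrev m1 (φ : SGA6.Kvb Y →+ K) (N : Y.Modules) : K := φ (cl N) - 1

include hK in
theorem mul_inv {M Mi : Y.Modules} (hM : PicF.IsInvertible M) (hMi : PicF.IsInvertible Mi)
    (e : CohB1.tensorMod M Mi ≅ Coh.structureModule Y) : φ (cl M) * φ (cl Mi) = 1 := by
  rw [hK.map_mul _ _ (LineTwist.lf_invertible hM) (LineTwist.lf_invertible hMi), ← hK.map_one]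
  exact congrArg φ (GenPush.cl_iso e (LineTwist.lf_invertible (InvX.isInvertible_tensorMod hM hMi)) lf_O)

include hK in
theorem gamma_sum {n : ℕ} (Ni : Fin n → Y.Modules) (hNi : ∀ i, PicF.IsInvertible (Ni i)) :
    ∀ s : Finset (Fin n), LambdaRing.gamma s.card (∑ i ∈ s, m1 φ (Ni i)) = ∏ i ∈ s, m1 φ (Ni i) ∧
      ∀ k, s.card < k → LambdaRing.gamma k (∑ i ∈ s, m1 φ (Ni i)) = 0 := by
  classical
  intro s
  induction s using Finset.induction_on with
  | empty => exact ⟨by simp [Lambda.gamma_zero], fun k hk => by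
      rw [Finset.sum_empty]; exact Lambda.gamma_zero_right (by simp at hk; omega)⟩
  | insert a s ha ih =>
    have hser := Lambda.gammaSeries_sub_one (u := φ (cl (Ni a))) (Lambda.lam_one_eq_zero P)
      (Lambda.lam_line (LineTwist.isLine_cl hK (hNi a)))
    have h1 : ∀ k, LambdaRing.gamma (k + 2) (m1 φ (Ni a)) = 0 := fun k => by
      rw [← Lambda.coeff_gammaSeries, m1, hser, map_add, PowerSeries.coeff_one, if_neg (by omega), zero_add,
        PowerSeries.coeff_C_mul, PowerSeries.coeff_X, if_neg (by omega), mul_zero]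
    have hsucc : ∀ k, LambdaRing.gamma (k + 1) (∑ i ∈ insert a s, m1 φ (Ni i)) =
        LambdaRing.gamma (k + 1) (∑ i ∈ s, m1 φ (Ni i)) + LambdaRing.gamma k (∑ i ∈ s, m1 φ (Ni i)) * m1 φ (Ni a) := by
      intro k
      rw [Finset.sum_insert ha, add_comm (m1 φ (Ni a)), Lambda.gamma_add, Finset.sum_range_succ,
        Finset.sum_range_succ, Nat.sub_self, Lambda.gamma_zero, mul_one, Nat.add_sub_cancel_left,
        Lambda.gamma_one, Finset.sum_eq_zero, zero_add, add_comm]
      intro i hi
      rw [Finset.mem_range] at hi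
      rw [show k + 1 - i = (k - i - 1) + 2 by omega, h1, mul_zero]
    rw [Finset.card_insert_of_notMem ha]
    refine ⟨?_, fun k hk => ?_⟩
    · rw [hsucc, ih.1, ih.2 _ (Nat.lt_succ_self _), zero_add, Finset.prod_insert ha, mul_comm]
    · obtain ⟨k, rfl⟩ := Nat.exists_eq_add_of_le' (show 1 ≤ k by omega)
      rw [hsucc, ih.2 _ (by omega), ih.2 _ (by omega), zero_mul, add_zero]

theorem exists_sum {n : ℕ} (Ni : Fin n → Y.Modules) (hNi : ∀ i, FlatMod.IsFinLocFreeOfRank 1 (Ni i))
    (v : ∀ i, Ni i ⟶ Coh.structureModule Y) :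
    ∃ (B : Y.Modules) (u : B ⟶ Coh.structureModule Y), FlatMod.IsFinLocFreeOfRank n B ∧
      cl B = ∑ i, cl (Ni i) ∧ ∀ i, ∃ a : Ni i ⟶ B, a ≫ u = v i := by
  induction n with
  | zero =>
    refine ⟨FlatMod.freeMod Y 0, 0, ?_, ?_, fun i => i.elim0⟩
    · refine KvbModel.rank_of_frameAt fun x => ⟨⊤, Fin.elim0, trivial, fun W h =>
        ⟨fun c c' _ => funext fun i => i.elim0, fun a => ⟨Fin.elim0,
          @Subsingleton.elim _ (QCoh.subsingleton_Γ_of_isZero KvbAmple.free_zero W) _ _⟩⟩⟩
    · rw [Fin.sum_univ_zero]; exact KZ.clSub_isZero _ KvbAmple.free_zero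
  | succ n ih =>
    obtain ⟨B, u, hB, hc, ha⟩ := ih (fun i => Ni i.succ) (fun i => hNi _) fun i => v i.succ
    have hse : (ShortComplex.mk (biprod.inl : Ni 0 ⟶ Ni 0 ⊞ B) biprod.snd biprod.inl_snd).ShortExact :=
      (ShortComplex.Splitting.ofHasBinaryBiproduct (Ni 0) B).shortExact
    have lf := KFlatLib.isFinLocFree_biprod (KvbModel.lf_of_rank (hNi 0)) (KvbModel.lf_of_rank hB)
    refine ⟨Ni 0 ⊞ B, biprod.desc (v 0) u, KvbModel.rank_of_frameAt fun x => ?_, ?_, ?_⟩
    · convert KvbModel.frameAt_ses hse (KvbModel.frameAt_of_rank (hNi 0) x) (KvbModel.frameAt_of_rank hB x) using 1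
      omega
    · rw [Fin.sum_univ_succ, ← hc]
      exact KZ.clSub_ses (P := fun M : Y.Modules => FlatMod.IsFinLocFree M) hse (KvbModel.lf_of_rank (hNi 0)) lf
        (KvbModel.lf_of_rank hB)
    · refine Fin.cases ⟨biprod.inl, biprod.inl_desc _ _⟩ fun i => ?_
      obtain ⟨a, ha⟩ := ha i
      exact ⟨a ≫ biprod.inr, by rw [Category.assoc, biprod.inr_desc, ha]⟩

variable [ConnectedSpace Y]

include hK in
/-- Sections without a common zero. -/
theorem prod_eq_zero (l : List (Sec Y)) (hl : ∀ y : Y, ∃ p ∈ l, y ∈ CohB1.genLocus p.N p.s) :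
    (l.map fun p => m1 φ p.N).prod = 0 := by
  classical
  obtain ⟨n, f, rfl⟩ : ∃ (n : ℕ) (f : Fin n → Sec Y), List.ofFn f = l := ⟨_, l.get, List.ofFn_get l⟩
  choose Ni hNi he using fun i => H23.PicInv.exists_inverse (f i).inv
  let e := fun i => (he i).some
  obtain ⟨B, w, hB, hc, ha⟩ := exists_sum Ni (fun i => PBCores.isInvertible_iff_rank.1 (hNi i))
    fun i => dual (f i).s (e i)
  haveI : Epi w := PBAtlas.epi_of_restrict w fun y => by
    obtain ⟨p, hp, hy⟩ := hl y
    obtain ⟨i, rfl⟩ := List.mem_ofFn.1 hp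
    obtain ⟨U, hyU, hU⟩ := InvX.mem_genLocus hy
    obtain ⟨U', hyU', b, hb⟩ := InvX.exists_frame (hNi i) y
    refine ⟨U ⊓ U', ⟨hyU, hyU'⟩, ?_⟩
    haveI := isIso_dual (f i).s (e i) (hb.res (inf_le_right : U ⊓ U' ≤ U'))
      (by have := hU.res (inf_le_left : U ⊓ U' ≤ U); rwa [AModX.res_res] at this)
    haveI : IsIso ((Scheme.Modules.pullback (U ⊓ U').ι).map (dual (f i).s (e i))) :=
      (NatIso.isIso_map_iff (Scheme.Modules.restrictFunctorIsoPullback (U ⊓ U').ι) _).1 inferInstance
    obtain ⟨a, ha⟩ := ha i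
    haveI : Epi ((Scheme.Modules.pullback (U ⊓ U').ι).map a ≫ (Scheme.Modules.pullback (U ⊓ U').ι).map w) := by
      rw [← Functor.map_comp, ha]; infer_instance
    exact epi_of_epi ((Scheme.Modules.pullback (U ⊓ U').ι).map a) _
  obtain ⟨y₀⟩ := (inferInstance : Nonempty Y)
  obtain ⟨p₀, hp₀, -⟩ := hl y₀
  obtain ⟨i₀, -⟩ := List.mem_ofFn.1 hp₀
  obtain ⟨n, rfl⟩ : ∃ m, n = m + 1 := ⟨n - 1, by have := i₀.2; omega⟩
  let S : ShortComplex Y.Modules := ShortComplex.mk (kernel.ι w) w (kernel.condition w)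
  have hS : S.ShortExact := KZ.kerSeq_shortExact w
  have lB : FlatMod.IsFinLocFree S.X₂ := KvbModel.lf_of_rank hB
  have lK : FlatMod.IsFinLocFree S.X₁ := KFlatLib.isFinLocFree_kernel w lB lf_O
  have hF : FlatMod.IsFinLocFreeOfRank n S.X₁ := KvbModel.rank_of_frameAt fun x => by
    obtain ⟨t, ht⟩ := KvbModel.exists_frameAt lK x
    have := KvbModel.frameAt_unique (KvbModel.frameAt_of_rank hB x)
      (KvbModel.frameAt_ses hS ht (KvbModel.frameAt_O x))
    obtain rfl : t = n := by omega
    exact ht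
  have hsum : ∑ i, m1 φ (Ni i) = φ (cl S.X₁) - (n : K) := by
    have h : cl B = cl S.X₁ + cl (Coh.structureModule Y) :=
      KZ.clSub_ses (P := fun M : Y.Modules => FlatMod.IsFinLocFree M) hS lK lB lf_O
    rw [Finset.sum_sub_distrib, ← map_sum, ← hc, h, map_add, Finset.sum_const, Finset.card_univ,
      Fintype.card_fin, nsmul_eq_mul, mul_one, show φ (cl (Coh.structureModule Y)) = 1 from hK.map_one]
    push_cast
    ring
  have h0 : ∏ i, m1 φ (Ni i) = 0 := by
    have h := (gamma_sum hK Ni hNi Finset.univ).1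
    rw [Finset.card_univ, Fintype.card_fin, hsum] at h
    rw [← h]
    refine PBFil.gamma_sub_eq_zero (P := P) ?_ (Nat.lt_succ_self n)
    rcases Nat.eq_zero_or_pos n with rfl | hn
    · refine Or.inl ⟨?_, rfl⟩
      exact (congrArg φ (KZ.clSub_isZero _
        (PBAtlas.isZero_of_frames fun x => KvbModel.frameAt_of_rank hF x))).trans (map_zero _)
    · exact Or.inr ⟨(hK.mem_pos_iff _).2 ⟨n, _, hn, hF, rfl⟩, hK.aug_cl n _ hF⟩
  have hrel : ∀ i, m1 φ (f i).N = m1 φ (Ni i) * -φ (cl (f i).N) := fun i => by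
    rw [m1, m1, sub_mul, one_mul, mul_neg, mul_comm, mul_inv hK (f i).inv (hNi i) (e i)]
    ring
  rw [List.map_ofFn, List.prod_ofFn]
  simp only [Function.comp_apply]
  rw [Finset.prod_congr rfl fun i _ => hrel i, Finset.prod_mul_distrib, h0, zero_mul]

variable [IsNoetherian Y]

/-- The height of a point for specialisation: the dimension of its closure. -/
abbrev ht (y : Y) : ℕ∞ := @Order.height Y (specializationPreorder Y) y

theorem exists_generic {Z : Set Y} (hZ : IsClosed Z) :
    ∃ F : Set Y, F.Finite ∧ F ⊆ Z ∧ ∀ z ∈ Z, ∃ y ∈ F, y ⤳ z := by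
  obtain ⟨S, hSf, hSc, hSi, hSu⟩ := NoetherianSpace.exists_finite_set_isClosed_irreducible hZ
  haveI := hSf.fintype
  refine ⟨Set.range fun t : S => (hSi t.1 t.2).genericPoint, Set.finite_range _, ?_, fun z hz => ?_⟩
  · rintro _ ⟨t, rfl⟩
    rw [hSu]
    refine Set.mem_sUnion.2 ⟨t.1, t.2, ?_⟩
    have := (hSi t.1 t.2).isGenericPoint_genericPoint_closure.mem
    rwa [(hSc t.1 t.2).closure_eq] at this
  · rw [hSu] at hz
    obtain ⟨t, ht, hzt⟩ := Set.mem_sUnion.1 hz
    refine ⟨_, ⟨⟨t, ht⟩, rfl⟩, (hSi t ht).isGenericPoint_genericPoint_closure.specializes ?_⟩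
    exact subset_closure hzt

theorem ht_lt {y z : Y} (h : y ⤳ z) (hne : y ≠ z) {k : ℕ} (hy : ht y < (k + 1 : ℕ)) : ht z < (k : ℕ) := by
  letI := specializationPreorder Y
  have hlt : z < y := lt_iff_le_not_ge.2 ⟨h, fun h' => hne (h.antisymm (y := z) h').eq⟩
  have h1 : ht z + 1 ≤ ht y := Order.height_add_one_le hlt
  have h2 : ht z + 1 < ((k : ℕ∞) + 1) := h1.trans_lt (by exact_mod_cast hy)
  exact lt_of_add_lt_add_right h2

include hK in
theorem vanish {A : Y.Modules} (hA : CohB1.IsAmple A) : ∀ (k : ℕ) (l : List (Sec Y)),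
    (∀ y : Y, (∀ p ∈ l, y ∉ CohB1.genLocus p.N p.s) → ht y < (k : ℕ)) →
    ∀ M : List Y.Modules, (∀ N ∈ M, PicF.IsInvertible N) → M.length = k →
      (l.map fun p => m1 φ p.N).prod * (M.map (m1 φ)).prod = 0 := by
  intro k
  induction k with
  | zero =>
    intro l hl M _ _
    rw [prod_eq_zero hK l fun y => ?_, zero_mul]
    by_contra hy
    push_neg at hy
    exact absurd (hl y hy) (by simp)
  | succ k ih =>
    intro l hl M hM hlen
    obtain ⟨N, M', rfl⟩ := List.exists_cons_of_length_eq_add_one hlen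
    haveI : CompactSpace Y := hA.2.1
    haveI : Y.IsSeparated := AmpleX.isSeparated_of_isAmple hA
    let Z : Set Y := {y | ∀ p ∈ l, y ∉ CohB1.genLocus p.N p.s}
    have hZ : IsClosed Z := by
      have : Z = ⋂ p ∈ l, ((CohB1.genLocus p.N p.s : Y.Opens) : Set Y)ᶜ := by ext y; simp [Z]
      rw [this]
      exact isClosed_biInter fun p _ => (CohB1.genLocus p.N p.s).2.isClosed_compl
    obtain ⟨F, hFf, hFZ, hFg⟩ := exists_generic hZ
    have hN := hM N List.mem_cons_self
    have hO : PicF.IsInvertible (Coh.structureModule Y) := InvX.isInvertible_structureModule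
    obtain ⟨a, ha⟩ := H23.SectionFinset.eventually_exists_section hA hN hFf
    obtain ⟨b, hb⟩ := H23.SectionFinset.eventually_exists_section hA hO hFf
    obtain ⟨s, hs⟩ := ha (max a b) (le_max_left _ _)
    obtain ⟨t, ht'⟩ := hb (max a b) (le_max_right _ _)
    let An := CohB1.tensorPow A (max a b)
    have hAn : PicF.IsInvertible An := InvX.isInvertible_tensorPow hA.1 _
    have key : ∀ (q : Sec Y), F ⊆ CohB1.genLocus q.N q.s →
        m1 φ q.N * ((l.map fun p => m1 φ p.N).prod * (M'.map (m1 φ)).prod) = 0 := fun q hq => by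
      have h := ih (q :: l) (fun y hy => ?_) M' (fun N' hN' => hM N' (List.mem_cons_of_mem _ hN'))
        (by simpa using hlen)
      · rw [List.map_cons, List.prod_cons, mul_assoc] at h; exact h
      · have hyZ : y ∈ Z := fun p hp => hy p (List.mem_cons_of_mem _ hp)
        obtain ⟨z, hz, hzy⟩ := hFg y hyZ
        refine ht_lt hzy (fun h => hy q List.mem_cons_self ?_) (hl z (hFZ hz))
        exact h ▸ hq hz
    have h1 := key ⟨_, InvX.isInvertible_tensorMod hN hAn, s⟩ hs
    have h2 := key ⟨_, InvX.isInvertible_tensorMod hO hAn, t⟩ ht'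
    obtain ⟨Ai, hAi, hAe⟩ := H23.PicInv.exists_inverse hAn
    obtain ⟨eA⟩ := hAe
    have hu := mul_inv hK hAn hAi eA
    have c1 : φ (cl (CohB1.tensorMod N An)) = φ (cl N) * φ (cl An) :=
      (hK.map_mul _ _ (LineTwist.lf_invertible hN) (LineTwist.lf_invertible hAn)).symm
    have c2 : φ (cl (CohB1.tensorMod (Coh.structureModule Y) An)) = φ (cl An) := by
      rw [show φ (cl (CohB1.tensorMod (Coh.structureModule Y) An)) = φ (cl (Coh.structureModule Y)) * φ (cl An) from
        (hK.map_mul _ _ lf_O (LineTwist.lf_invertible hAn)).symm,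
        show φ (cl (Coh.structureModule Y)) = 1 from hK.map_one, one_mul]
    simp only [m1, c1] at h1
    simp only [m1, c2] at h2
    have hsub := congrArg₂ (fun x y : K => φ (cl Ai) * (x - y)) h1 h2
    simp only [sub_zero, mul_zero] at hsub
    rw [List.map_cons, List.prod_cons]
    simp only [m1]
    refine Eq.trans ?_ hsub
    linear_combination
      (-((φ (cl N) - 1) * ((l.map fun p => φ (cl p.N) - 1).prod * (M'.map fun N => φ (cl N) - 1).prod))) * hu

/-- The ideal of the `[M] - 1`. -/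
def J (φ : SGA6.Kvb Y →+ K) : Ideal K := Ideal.span {z | ∃ M : Y.Modules, PicF.IsInvertible M ∧ z = m1 φ M}

include hK in
theorem J_pow_eq_zero {A : Y.Modules} (hA : CohB1.IsAmple A) {D : ℕ} (hD : ∀ y : Y, ht y < (D : ℕ))
    {z : K} (hz : z ∈ J φ ^ D) : z = 0 := by
  suffices h : ∀ (k : ℕ) (M : List Y.Modules), (∀ N ∈ M, PicF.IsInvertible N) → M.length + k = D →
      ∀ z ∈ J φ ^ k, (M.map (m1 φ)).prod * z = 0 by
    simpa using h D [] (by simp) (by simp) z hz
  intro k
  induction k with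
  | zero =>
    intro M hM hlen z _
    have h := vanish hK hA D [] (fun y _ => hD y) M hM (by simpa using hlen)
    rw [List.map_nil, List.prod_nil, one_mul] at h
    rw [h, zero_mul]
  | succ k ih =>
    intro M hM hlen z hz
    rw [pow_succ] at hz
    induction hz using Submodule.mul_induction_on' with
    | mem_mul_mem x hx w hw =>
      induction hw using Submodule.span_induction with
      | mem w hw =>
        obtain ⟨N, hN, rfl⟩ := hw
        have h := ih (N :: M) (by simpa [hN] using hM) (by simp; omega) x hx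
        rw [List.map_cons, List.prod_cons] at h
        rw [← h]; ring
      | zero => simp
      | add a b _ _ ha hb => rw [mul_add, mul_add, ha, hb, add_zero]
      | smul c a _ ha =>
        rw [smul_eq_mul, show (M.map (m1 φ)).prod * (x * (c * a)) = c * ((M.map (m1 φ)).prod * (x * a)) by ring,
          ha, mul_zero]
    | add x _ y _ hx hy => rw [mul_add, hx, hy, add_zero]

end Groth.Agent.H28.KVanish

end
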