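import Groth.Agent.H28.PBBasis
import Groth.Agent.H28.PnFlat
import Groth.Agent.H28.RegTwist
import Groth.Agent.PnLight.Chart
import Groth.Agent.AmpleX.Comp
import Groth.Agent.S4380
import Groth.Agent.S4381
import Groth.Agent.S5798
import Mathlib.RingTheory.KrullDimension.Polynomial

/-!
# Dimension and ampleness for projective bundles
-/

set_option autoImplicit false
set_option linter.style.haveILetI false
set_option linter.unusedSectionVars false
set_option backward.isDefEq.respectTransparency false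
set_option backward.isDefEq.respectTransparency.types false

universe u

open CategoryTheory CategoryTheory.Limits AlgebraicGeometry TopologicalSpace Opposite

noncomputable section

namespace Groth.Agent.H28.PBDim

open Groth.Agent Groth.Agent.H28.KRRTw Groth.Agent.H28.KRRReg

theorem ringHom_int_ext {A : Type u} [CommRing A] (f g : ULift.{u} ℤ →+* A) : f = g := by
  have h := RingHom.ext_int (f.comp ULift.ringEquiv.symm.toRingHom) (g.comp ULift.ringEquiv.symm.toRingHom)
  exact RingHom.ext fun x => RingHom.congr_fun h x.down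

theorem dim_opens {S : Scheme.{u}} {W : S.Opens} (hW : IsAffineOpen W) :
    topologicalKrullDim W = ringKrullDim Γ(S, W) := by
  rw [← PrimeSpectrum.topologicalKrullDim_eq_ringKrullDim]
  exact IsHomeomorph.topologicalKrullDim_eq _ (Scheme.homeoOfIso hW.isoSpec).isHomeomorph

variable {n : ℕ} {B : Scheme.{u}} [IsAffine B]

/-- The opens of the standard charts. -/
abbrev W (i : Fin (n + 1)) : (PnBox.PU (n := n) (⊤ : B.Opens)).toScheme.Opens :=
  PnBox.gU (n := n) (⊤ : B.Opens) ⁻¹ᵁ PnLight.D n (ULift.{u} ℤ) i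

theorem isAffineOpen_W (i : Fin (n + 1)) : IsAffineOpen (W (n := n) (B := B) i) :=
  haveI := PnBox.isAffineHom_gU (n := n) (⊤ : B.Opens) (isAffineOpen_top B)
  (PnLight.isAffineOpen_D n _ i).preimage _

theorem dim_W [IsNoetherian B] (i : Fin (n + 1)) :
    topologicalKrullDim (W (n := n) (B := B) i) ≤ topologicalKrullDim B + n := by
  rw [dim_opens (isAffineOpen_W i)]
  let R := ULift.{u} ℤ
  let g := PnBox.gU (n := n) (⊤ : B.Opens)
  let q := PnBox.qU (n := n) (⊤ : B.Opens)
  let hle := Box.hle g q ⊤ (PnBox.qU_preimage _) (PnLight.D n R i)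
  let β : Γ(B, ⊤) →+* Γ((PnBox.PU (n := n) (⊤ : B.Opens)).toScheme, W (n := n) (B := B) i) := (q.appLE ⊤ _ hle).hom
  let Ψ : MvPolynomial (Fin n) Γ(B, ⊤) →+* _ :=
    MvPolynomial.eval₂Hom β fun k => (g.app (PnLight.D n R i)).hom (PnLight.a n R i (i.succAbove k))
  let ι : R →+* Γ(B, ⊤) := (Int.castRingHom _).comp ULift.ringEquiv.toRingHom
  haveI : IsNoetherianRing Γ(B, ⊤) := IsLocallyNoetherian.component_noetherian ⟨⊤, isAffineOpen_top B⟩
  haveI : IsIso (Proj.awayToSection (CohB1.polyGrading n R) (MvPolynomial.X i)) :=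
    inferInstanceAs (IsIso (Proj.basicOpenIsoAway (CohB1.polyGrading n R) (MvPolynomial.X i) (ProjPt.X_mem i) Nat.one_pos).hom)
  have hD : ∀ x, ∃ p, Ψ p = (g.app (PnLight.D n R i)).hom x := fun x => by
    obtain ⟨z, rfl⟩ := (ConcreteCategory.bijective_of_isIso
      (Proj.awayToSection (CohB1.polyGrading n R) (MvPolynomial.X i))).2 x
    obtain ⟨p, rfl⟩ := (PnLight.poly_bijective n R i).2 z
    refine ⟨MvPolynomial.map ι p, ?_⟩
    have h : Ψ.comp (MvPolynomial.map ι) = (g.app (PnLight.D n R i)).hom.comp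
        ((Proj.awayToSection (CohB1.polyGrading n R) (MvPolynomial.X i)).hom.comp (PnLight.poly n R i)) := by
      refine MvPolynomial.ringHom_ext (fun c => ?_) fun k => ?_
      · exact RingHom.congr_fun (ringHom_int_ext ((Ψ.comp (MvPolynomial.map ι)).comp MvPolynomial.C)
          (((g.app (PnLight.D n R i)).hom.comp ((Proj.awayToSection (CohB1.polyGrading n R) (MvPolynomial.X i)).hom.comp
            (PnLight.poly n R i))).comp MvPolynomial.C)) c
      · simp only [RingHom.comp_apply, MvPolynomial.map_X, Ψ, MvPolynomial.eval₂Hom_X', PnLight.poly, PnLight.a]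
        exact congrArg (fun z => (g.app (PnLight.D n R i)).hom
          ((Proj.awayToSection (CohB1.polyGrading n R) (MvPolynomial.X i)).hom z))
          (MvPolynomial.eval₂Hom_X' (ProjPt.cst i) (fun k => ProjPt.crd i (i.succAbove k)) k).symm
    exact RingHom.congr_fun h p
  have hsurj : Function.Surjective Ψ := fun x => by
    obtain ⟨z, rfl⟩ := (PnBox.isBox (n := n) (T := B) ⊤ (isAffineOpen_top B) (PnLight.D n R i)
      (PnLight.isAffineOpen_D n R i)).2 x
    induction z using TensorProduct.induction_on with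
    | zero => exact ⟨0, by rw [map_zero]; exact (map_zero _).symm⟩
    | tmul a b =>
      obtain ⟨p, hp⟩ := hD a
      refine ⟨p * MvPolynomial.C b, ?_⟩
      rw [map_mul, hp, Box.pairHom_tmul]
      exact congrArg _ (MvPolynomial.eval₂Hom_C _ _ b)
    | add a b ha hb =>
      obtain ⟨p, hp⟩ := ha
      obtain ⟨p', hp'⟩ := hb
      exact ⟨p + p', by rw [map_add, hp, hp', map_add]⟩
  refine (ringKrullDim_le_of_surjective Ψ hsurj).trans ?_
  rw [MvPolynomial.ringKrullDim_of_isNoetherianRing, Nat.card_eq_fintype_card, Fintype.card_fin]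
  gcongr
  rw [← dim_opens (isAffineOpen_top B)]
  exact Topology.IsInducing.topologicalKrullDim_le Topology.IsEmbedding.subtypeVal.isInducing

theorem exists_mem_W (z : KRR.PY n B) :
    ∃ (i : Fin (n + 1)) (w : W (n := n) (B := B) i), (PnBox.PU (n := n) (⊤ : B.Opens)).ι w.1 = z := by
  obtain ⟨i, hi⟩ := PnLight.exists_mem_D n (ULift.{u} ℤ) (toPn n B z)
  exact ⟨i, ⟨⟨z, trivial⟩, hi⟩, rfl⟩

variable {X P : Scheme.{u}} [IsNoetherian X] {π : P ⟶ X} (D : PBPush.Data π n)

include D in
theorem dim_le : topologicalKrullDim P ≤ topologicalKrullDim X + n := by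
  classical
  let e : ∀ p : D.s × ULift.{u} (Fin (n + 1)),
      (W (n := n) (B := (D.a p.1.1).B) p.2.down).toScheme ⟶ P := fun p =>
    (W (n := n) (B := (D.a p.1.1).B) p.2.down).ι ≫ (PnBox.PU (n := n) (⊤ : (D.a p.1.1).B.Opens)).ι ≫ (D.a p.1.1).j
  haveI hopen : ∀ p, IsOpenImmersion (e p) := fun p => by
    haveI : IsOpenImmersion (D.a p.1.1).j := by unfold PBAtlas.Chart.j; infer_instance
    infer_instance
  rw [Groth.Agent.S5798.result P (D.s × ULift.{u} (Fin (n + 1))) (fun p => (e p).opensRange)]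
  · refine iSup_le fun p => ?_
    haveI : CompactSpace (D.a p.1.1).B := inferInstance
    haveI : IsLocallyNoetherian (D.a p.1.1).B := isLocallyNoetherian_of_isOpenImmersion (D.a p.1.1).U.1.ι
    haveI : IsNoetherian (D.a p.1.1).B := {}
    calc topologicalKrullDim (e p).opensRange
        = topologicalKrullDim (W (n := n) (B := (D.a p.1.1).B) p.2.down) :=
          (IsHomeomorph.topologicalKrullDim_eq _ (Scheme.homeoOfIso (e p).isoOpensRange).isHomeomorph).symm
      _ ≤ topologicalKrullDim (D.a p.1.1).B + n := dim_W _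
      _ ≤ topologicalKrullDim X + n := by
          gcongr
          exact Topology.IsInducing.topologicalKrullDim_le (D.a p.1.1).U.1.ι.isOpenEmbedding.isEmbedding.isInducing
  · refine top_le_iff.1 fun z _ => ?_
    obtain ⟨y, hy, hz⟩ := D.cover (π z)
    obtain ⟨w, hw⟩ : z ∈ Set.range (D.a y).j := by rw [(D.a y).range_j]; exact hz
    obtain ⟨i, v, hv⟩ := exists_mem_W (n := n) (B := (D.a y).B) w
    refine Opens.mem_iSup.2 ⟨(⟨y, hy⟩, ULift.up i), v, ?_⟩
    show (D.a y).j ((PnBox.PU (n := n) (⊤ : (D.a y).B.Opens)).ι v.1) = z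
    rw [hv, hw]

include D in
theorem exists_ample {A : X.Modules} (hA : CohB1.IsAmple A) [QuasiCompact π] :
    ∃ A' : P.Modules, CohB1.IsAmple A' := by
  classical
  have hrel : RelAmple.IsRelAmple π D.O1 := by
    refine (Groth.Agent.S4380.result π D.O1 (fun y : D.s => (D.a y.1).U.1) ?_).2 fun y => ?_
    · exact top_le_iff.1 fun x _ => Opens.mem_iSup.2 (let ⟨y, hy, hx⟩ := D.cover x; ⟨⟨y, hy⟩, hx⟩)
    let c := D.a y.1
    haveI : IsAffine (c.U.1 : Scheme.{u}) := c.U.2
    haveI : QuasiCompact (π ∣_ c.U.1) := inferInstance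
    refine (Groth.Agent.S4381.result (π ∣_ c.U.1) _).2 ?_
    haveI := PnFlat.isProper_pr n c.B
    haveI : CompactSpace (KRR.PY n c.B) := QuasiCompact.compactSpace_of_compactSpace (KRR.pr n c.B)
    haveI : IsAffineHom (toPn n c.B) :=
      MorphismProperty.of_isPullback (IsPullback.of_hasPullback _ _).flip (isAffineHom_of_isAffine _)
    have h1 : CohB1.IsAmple (Twist.twistOver n c.B 1) := RegTwist.isAmple_pull (toPn n c.B) (RegTwist.isAmple_O1 n)
    haveI : CompactSpace (π ⁻¹ᵁ c.U.1 : P.Opens).toScheme := isCompact_iff_compactSpace.mp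
      (QuasiCompact.isCompact_preimage (f := π) _ c.U.1.2 c.U.2.isCompact)
    obtain ⟨tw⟩ := c.twist
    refine AmpleX.isAmple_of_iso (?_ : _ ≅ _) (RegTwist.isAmple_pull (inv c.θ) h1)
    exact (Scheme.Modules.pullback (inv c.θ)).mapIso tw.symm ≪≫
      (Scheme.Modules.pullbackComp (inv c.θ) c.θ).app _ ≪≫
      (Scheme.Modules.pullbackCongr (IsIso.inv_hom_id c.θ)).app _ ≪≫
      (Scheme.Modules.pullbackId _).app _ ≪≫
      ((Scheme.Modules.restrictFunctorIsoPullback (π ⁻¹ᵁ c.U.1).ι).app D.O1).symm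
  let g := specULiftZIsTerminal.{u}.from X
  haveI : CompactSpace X := hA.2.1
  haveI : QuasiCompact g := (quasiCompact_iff_compactSpace g).2 inferInstance
  have hKA : RelAmple.IsRelAmple g A := (Groth.Agent.S4381.result g A).2 hA
  obtain ⟨n₀, -, h⟩ := AmpleX.eventually_isRelAmple_comp π g hrel hKA
  haveI : QuasiCompact (π ≫ g) := (h n₀ le_rfl).1
  exact ⟨_, (Groth.Agent.S4381.result (π ≫ g) _).1 (h n₀ le_rfl)⟩

end Groth.Agent.H28.PBDim

end
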