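import Groth.Agent.H28.PBSplit
import Groth.Agent.H28.KVanish
import Groth.Agent.H28.PBDim

/-!
# `F^{d+1} K(X) = 0` with an ample module and `dim X ≤ d`
-/

set_option autoImplicit false
set_option linter.style.haveILetI false
set_option linter.unusedSectionVars false
set_option backward.isDefEq.respectTransparency false
set_option backward.isDefEq.respectTransparency.types false

universe v u

open CategoryTheory CategoryTheory.Limits AlgebraicGeometry TopologicalSpace Opposite
attribute [local instance] HasDerivedCategory.standard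

noncomputable section

namespace Groth.Agent.H28.KTower

open Groth.Agent Groth.Agent.H28.KvbLam Groth.Agent.H28.KVanish

variable {X Y : Scheme.{u}}

/-- Sums of classes of invertible modules. -/
def Lines {K : Type v} [CommRing K] (φ : SGA6.Kvb Y →+ K) : AddSubgroup K :=
  AddSubgroup.closure {z | ∃ M : Y.Modules, PicF.IsInvertible M ∧ φ (cl M) = z}

section Pull

variable {KX : Type (u + 1)} [CommRing KX] [LambdaRing.LambdaOps KX] {PX : LambdaRing.PosStructure KX}
  {φX : SGA6.Kvb X →+ KX} (hX : KRR.IsModel X KX PX φX)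
  {KY : Type (u + 1)} [CommRing KY] [LambdaRing.LambdaOps KY] {PY : LambdaRing.PosStructure KY}
  {φY : SGA6.Kvb Y →+ KY} (hY : KRR.IsModel Y KY PY φY)
  {f : Y ⟶ X} {g : KX →+ KY} (hg : KRR.IsPull f φX φY g)

include hg in
theorem lines_pull {z : KX} (hz : z ∈ Lines φX) : g z ∈ Lines φY := by
  induction hz using AddSubgroup.closure_induction with
  | mem z hz =>
    obtain ⟨M, hM, rfl⟩ := hz
    exact AddSubgroup.subset_closure ⟨_, PicClLib.isInvertible_pullback f hM, (hg M (LineTwist.lf_invertible hM)).symm⟩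
  | zero => rw [map_zero]; exact zero_mem _
  | add a b _ _ ha hb => rw [map_add]; exact add_mem ha hb
  | neg a _ ha => rw [map_neg]; exact neg_mem ha

include hX hY hg in
theorem map_J {k : ℕ} {z : KX} (hz : z ∈ J φX ^ k) : g z ∈ J φY ^ k := by
  let q := KvbPull.ringHom hY hX hg
  have h : (J φX).map q ≤ J φY := Ideal.map_le_iff_le_comap.2 (Ideal.span_le.2 fun z hz => by
    obtain ⟨M, hM, rfl⟩ := hz
    refine Ideal.subset_span ⟨_, PicClLib.isInvertible_pullback f hM, ?_⟩
    rw [m1, map_sub q, map_one q, m1]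
    exact congrArg (· - 1) (hg M (LineTwist.lf_invertible hM)))
  have h' := Ideal.mem_map_of_mem q hz
  rw [Ideal.map_pow] at h'
  exact Ideal.pow_right_mono h k h'

end Pull

/-- A tower over `X` splitting the bundles of `l`. -/
def Good (X : Scheme.{u}) (K : Type (u + 1)) [CommRing K] (φ : SGA6.Kvb X →+ K) (d : ℕ) (l : List X.Modules) : Prop :=
  ∃ (X' : Scheme.{u}) (_ : IsNoetherian X') (_ : ConnectedSpace X') (f : X' ⟶ X) (K' : Type (u + 1)) (_ : CommRing K')
    (_ : LambdaRing.LambdaOps K') (P' : LambdaRing.PosStructure K') (φ' : SGA6.Kvb X' →+ K')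
    (_ : KRR.IsModel X' K' P' φ') (g : K →+ K') (_ : KRR.IsPull f φ φ' g) (R : ℕ) (ε : K') (A' : X'.Modules),
      CohB1.IsAmple A' ∧ ε ∈ J φ' ^ R ∧ (∀ y, g y * ε = 0 → y = 0) ∧
      topologicalKrullDim X' ≤ ((d + R : ℕ) : WithBot ℕ∞) ∧ ∀ E ∈ l, g (φ (cl E)) ∈ Lines φ'

theorem good_nil [IsNoetherian X] [ConnectedSpace X] {A : X.Modules} (hA : CohB1.IsAmple A) {d : ℕ}
    (hd : topologicalKrullDim X ≤ (d : WithBot ℕ∞)) {K : Type (u + 1)} [CommRing K] [LambdaRing.LambdaOps K]
    {P : LambdaRing.PosStructure K} {φ : SGA6.Kvb X →+ K} (hK : KRR.IsModel X K P φ) (l : List X.Modules)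
    (hl : ∀ E ∈ l, φ (cl E) ∈ Lines φ) : Good X K φ d l :=
  ⟨X, inferInstance, inferInstance, 𝟙 X, K, inferInstance, inferInstance, P, φ, hK, AddMonoidHom.id K,
    fun F hF => congrArg φ (GenPush.cl_iso ((Scheme.Modules.pullbackId X).app F) (KvbPull.lf_pull _ hF) hF).symm,
    0, 1, A, hA, by rw [pow_zero, Ideal.one_eq_top]; trivial, fun y h => by rwa [mul_one] at h, by simpa using hd, hl⟩

theorem good_single : ∀ (m : ℕ) (X : Scheme.{u}) [IsNoetherian X] [ConnectedSpace X] (A : X.Modules),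
    CohB1.IsAmple A → ∀ (d : ℕ), topologicalKrullDim X ≤ (d : WithBot ℕ∞) →
    ∀ (K : Type (u + 1)) [CommRing K] [LambdaRing.LambdaOps K] (P : LambdaRing.PosStructure K) (φ : SGA6.Kvb X →+ K),
      KRR.IsModel X K P φ → ∀ E : X.Modules, FlatMod.IsFinLocFreeOfRank m E → Good X K φ d [E] := by
  intro m
  induction m with
  | zero =>
    intro X _ _ A hA d hd K _ _ P φ hK E hE
    refine good_nil hA hd hK [E] fun F hF => ?_
    rw [List.mem_singleton.1 hF]
    exact ((congrArg φ (KZ.clSub_isZero _ (PBAtlas.isZero_of_frames fun x => KvbModel.frameAt_of_rank hE x))).trans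
      (map_zero φ)).symm ▸ zero_mem _
  | succ r ih =>
    intro X _ _ A hA d hd K _ _ P φ hK E hE
    obtain ⟨B, π, O1, q, hPB⟩ := PBMake.exists_of_rank hE
    haveI := PBSplit.isNoetherian hPB hE
    haveI := PBSplit.connectedSpace hPB hE
    obtain ⟨D⟩ := PBSplit.exists_data' hPB hE
    haveI : QuasiCompact π := quasiCompact_of_noetherianSpace_source π
    obtain ⟨A₁, hA₁⟩ := PBDim.exists_ample D hA
    have hd₁ : topologicalKrullDim B ≤ ((d + r : ℕ) : WithBot ℕ∞) := by
      refine (PBDim.dim_le D).trans ?_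
      push_cast
      gcongr
    obtain ⟨K₁, _, _, P₁, φ₁, hK₁⟩ := KvbModel.exists_isModel (X := B)
    obtain ⟨g, hg, -⟩ := PullVB.existsUnique_isPull π φ₁ φ hK.bijective
    obtain ⟨F, hF, hsum⟩ := PBSplit.exists_kernel hK hK₁ hE hPB hg
    have l1 := PBCores.isInvertible_iff_rank.2 hPB.invertible
    let Dx : PBFil.Ext P P₁ (KvbPull.ringHom hK₁ hK hg) r :=
      { ℓ := φ₁ (cl O1)
        line := LineTwist.isLine_cl hK₁ l1
        lamHom := KvbPull.map_lam hK₁ hK hg
        aug_q := LineTwist.aug_pull hK₁ hK hg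
        twist := fun m z i => by
          rw [← LineTwist.cl_tensorPow hK₁ l1 m]
          exact LineTwist.lam_twist hK₁ (InvX.isInvertible_tensorPow l1 m) z i
        basis := Groth.Agent.S3789.result X B r E hE π O1 q hPB K P φ hK K₁ P₁ φ₁ hK₁ g hg
        e := φ (cl E)
        aug_e := by rw [hK.aug_cl _ E hE]; push_cast; ring
        kernel := fun n hn => by
          rw [show (KvbPull.ringHom hK₁ hK hg) (φ (cl E)) = φ₁ (cl F) + φ₁ (cl O1) from hsum.symm, add_sub_cancel_right]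
          refine PBFil.gamma_sub_eq_zero (P := P₁) ?_ hn
          rcases Nat.eq_zero_or_pos r with rfl | hr
          · refine Or.inl ⟨?_, rfl⟩
            exact (congrArg φ₁ (KZ.clSub_isZero _ (PBAtlas.isZero_of_frames fun x => KvbModel.frameAt_of_rank hF x))).trans (map_zero _)
          · exact Or.inr ⟨(hK₁.mem_pos_iff _).2 ⟨r, F, hr, hF, rfl⟩, hK₁.aug_cl r F hF⟩ }
    obtain ⟨X', hN, hC, f, K', _, _, P', φ', hK', g', hg', R, ε, A', hA', hε, hinj, hdim, hl⟩ :=
      ih B A₁ hA₁ (d + r) hd₁ K₁ P₁ φ₁ hK₁ F hF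
    have hη : (φ₁ (cl O1) - 1) ^ r ∈ J φ₁ ^ r := Ideal.pow_mem_pow (show φ₁ (cl O1) - 1 ∈ J φ₁ from Ideal.subset_span ⟨O1, l1, rfl⟩) r
    refine ⟨X', hN, hC, f ≫ π, K', inferInstance, inferInstance, P', φ', hK', g'.comp g, PBSplit.isPull_comp hg hg',
      r + R, g' ((φ₁ (cl O1) - 1) ^ r) * ε, A', hA', ?_, fun y hy => ?_, ?_, fun F' hF' => ?_⟩
    · rw [pow_add]
      exact Ideal.mul_mem_mul (map_J hK₁ hK' hg' hη) hε
    · rw [AddMonoidHom.comp_apply, ← mul_assoc, ← KvbPull.map_mul hK' hK₁ hg'] at hy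
      have h0 := hinj _ hy
      have hc := congrFun (PBFil.expansion_injective Dx (c := Pi.single (Fin.last r) y) (by
        rw [Finset.sum_eq_single (Fin.last r)]
        · rw [Pi.single_eq_same, Fin.val_last]; exact h0
        · intro i _ h; rw [Pi.single_eq_of_ne h, map_zero, zero_mul]
        · exact fun h => absurd (Finset.mem_univ _) h)) (Fin.last r)
      rwa [Pi.single_eq_same] at hc
    · rw [← add_assoc]; exact hdim
    · rw [List.mem_singleton.1 hF', AddMonoidHom.comp_apply, ← hsum, map_add]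
      refine add_mem (hl F (List.mem_singleton_self _)) (lines_pull hg' ?_)
      exact AddSubgroup.subset_closure ⟨O1, l1, rfl⟩

theorem good_list : ∀ (n : ℕ) (X : Scheme.{u}) [IsNoetherian X] [ConnectedSpace X] (A : X.Modules),
    CohB1.IsAmple A → ∀ (d : ℕ), topologicalKrullDim X ≤ (d : WithBot ℕ∞) →
    ∀ (K : Type (u + 1)) [CommRing K] [LambdaRing.LambdaOps K] (P : LambdaRing.PosStructure K) (φ : SGA6.Kvb X →+ K),
      KRR.IsModel X K P φ → ∀ l : List X.Modules, l.length = n → (∀ E ∈ l, FlatMod.IsFinLocFree E) →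
        Good X K φ d l := by
  intro n
  induction n with
  | zero =>
    intro X _ _ A hA d hd K _ _ P φ hK l hl _
    exact good_nil hA hd hK l (by simp [List.length_eq_zero_iff.1 hl])
  | succ n ih =>
    intro X _ _ A hA d hd K _ _ P φ hK l hl hlf
    obtain ⟨E, l', rfl⟩ := List.exists_cons_of_length_eq_add_one hl
    obtain ⟨N, hN⟩ := KvbModel.exists_rank (hlf E List.mem_cons_self)
    obtain ⟨X₁, hN₁, hC₁, f₁, K₁, _, _, P₁, φ₁, hK₁, g₁, hg₁, R₁, ε₁, A₁, hA₁, hε₁, hinj₁, hd₁, h₁⟩ :=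
      good_single N X A hA d hd K P φ hK E hN
    obtain ⟨X₂, hN₂, hC₂, f₂, K₂, _, _, P₂, φ₂, hK₂, g₂, hg₂, R₂, ε₂, A₂, hA₂, hε₂, hinj₂, hd₂, h₂⟩ :=
      ih X₁ A₁ hA₁ (d + R₁) hd₁ K₁ P₁ φ₁ hK₁ (l'.map fun F => (Scheme.Modules.pullback f₁).obj F) (by simpa using hl) (by
        intro F hF
        obtain ⟨F', hF', rfl⟩ := List.mem_map.1 hF
        exact KvbPull.lf_pull f₁ (hlf F' (List.mem_cons_of_mem _ hF')))
    refine ⟨X₂, hN₂, hC₂, f₂ ≫ f₁, K₂, inferInstance, inferInstance, P₂, φ₂, hK₂, g₂.comp g₁,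
      PBSplit.isPull_comp hg₁ hg₂, R₁ + R₂, g₂ ε₁ * ε₂, A₂, hA₂, ?_, fun y hy => ?_, ?_, fun F hF => ?_⟩
    · rw [pow_add]; exact Ideal.mul_mem_mul (map_J hK₁ hK₂ hg₂ hε₁) hε₂
    · rw [AddMonoidHom.comp_apply, ← mul_assoc, ← KvbPull.map_mul hK₂ hK₁ hg₂] at hy
      exact hinj₁ y (hinj₂ _ hy)
    · rw [← add_assoc]; exact hd₂
    · rw [AddMonoidHom.comp_apply]
      rcases List.mem_cons.1 hF with rfl | hF'
      · exact lines_pull hg₂ (h₁ F (List.mem_singleton_self _))
      · rw [hg₁ F (hlf F hF)]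
        exact h₂ _ (List.mem_map.2 ⟨F, hF', rfl⟩)

theorem isMulFiltration_pow {K : Type v} [CommRing K] (I : Ideal K) : Lambda.IsMulFiltration fun k => I ^ k where
  zero := by rw [pow_zero, Ideal.one_eq_top]
  anti := fun _ _ h => Ideal.pow_le_pow_right h
  mul_mem := fun hx hy => by rw [pow_add]; exact Ideal.mul_mem_mul hx hy

theorem gammaFiltration_eq_bot' [IsNoetherian X] [ConnectedSpace X] {A : X.Modules} (hA : CohB1.IsAmple A) {d : ℕ}
    (hd : topologicalKrullDim X ≤ (d : WithBot ℕ∞)) {K : Type (u + 1)} [CommRing K] [LambdaRing.LambdaOps K]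
    {P : LambdaRing.PosStructure K} {φ : SGA6.Kvb X →+ K} (hK : KRR.IsModel X K P φ) {y : K}
    (hy : y ∈ LambdaRing.gammaFiltration P (d + 1)) : y = 0 := by
  rw [Lambda.gammaFiltration_of_ne_zero P (Nat.succ_ne_zero d)] at hy
  induction hy using AddSubgroup.closure_induction with
  | zero => rfl
  | add a b _ _ ha hb => rw [ha, hb, add_zero]
  | neg a _ ha => rw [ha, neg_zero]
  | mem y hy =>
    obtain ⟨l, hl, hsum, rfl⟩ := hy
    choose Ap Bp hAp hBp hp using fun p : ℕ × K => KvbPull.exists_cl hK p.2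
    obtain ⟨X', hN, hC, f, K', _, _, P', φ', hK', g, hg, R, ε, A', hA', hε, hinj, hdim, hlines⟩ :=
      good_list _ X A hA d hd K P φ hK (l.flatMap fun p => [Ap p, Bp p]) rfl (by
        intro E hE
        obtain ⟨p, -, hEp⟩ := List.mem_flatMap.1 hE
        simp only [List.mem_cons, List.not_mem_nil, or_false] at hEp
        rcases hEp with rfl | rfl
        · exact hAp p
        · exact hBp p)
    refine hinj _ ?_
    let q := KvbPull.ringHom hK' hK hg
    have hT := isMulFiltration_pow (J φ')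
    have hW : ∀ z ∈ Lines φ', z - (P'.aug z : K') ∈ hT.gammaSubgroup := fun z hz => by
      induction hz using AddSubgroup.closure_induction with
      | mem z hz =>
        obtain ⟨M, hM, rfl⟩ := hz
        rw [(LineTwist.isLine_cl hK' hM).2, Int.cast_one, hT.mem_gammaSubgroup]
        intro k
        rw [← Lambda.coeff_gammaSeries, Lambda.gammaSeries_sub_one (Lambda.lam_one_eq_zero P')
          (Lambda.lam_line (LineTwist.isLine_cl hK' hM)), map_add, PowerSeries.coeff_one, PowerSeries.coeff_C_mul,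
          PowerSeries.coeff_X]
        rcases k with _ | _ | k
        · rw [hT.zero]; trivial
        · rw [if_neg (by omega), if_pos rfl, mul_one, zero_add, pow_one, zero_add]; exact Ideal.subset_span ⟨M, hM, rfl⟩
        · rw [if_neg (by omega), if_neg (by omega), mul_zero, add_zero]; exact zero_mem _
      | zero => rw [map_zero, Int.cast_zero, sub_zero]; exact zero_mem _
      | add a b _ _ ha hb => convert add_mem ha hb using 1; rw [map_add, Int.cast_add]; ring
      | neg a _ ha => convert neg_mem ha using 1; rw [map_neg, Int.cast_neg]; ring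
    have hmem : ∀ p ∈ l, q (LambdaRing.gamma p.1 p.2) ∈ J φ' ^ p.1 := fun p hpl => by
      have h1 : q p.2 ∈ Lines φ' := by
        show g p.2 ∈ _
        rw [hp p, map_sub g]
        exact sub_mem (hlines _ (List.mem_flatMap.2 ⟨p, hpl, by simp⟩)) (hlines _ (List.mem_flatMap.2 ⟨p, hpl, by simp⟩))
      have h2 := hW _ h1
      rw [show P'.aug (q p.2) = P.aug p.2 from LineTwist.aug_pull hK' hK hg p.2, hl p hpl, Int.cast_zero, sub_zero] at h2
      rw [PBFil.map_gamma (KvbPull.map_lam hK' hK hg) (f := q)]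
      exact hT.mem_gammaSubgroup.1 h2 p.1
    have hprod : q ((l.map fun p => LambdaRing.gamma p.1 p.2).prod) ∈ J φ' ^ (l.map Prod.fst).sum := by
      clear hsum hlines
      induction l with
      | nil => simp
      | cons p l ih =>
        simp only [List.map_cons, List.prod_cons, List.sum_cons, map_mul, pow_add]
        exact Ideal.mul_mem_mul (hmem p List.mem_cons_self)
          (ih (fun p hp => hl p (List.mem_cons_of_mem _ hp)) fun p hp => hmem p (List.mem_cons_of_mem _ hp))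
    refine J_pow_eq_zero hK' hA' (D := d + 1 + R) (fun z => ?_)
      (show g _ * ε ∈ J φ' ^ (d + 1 + R) by
        rw [pow_add]; exact Ideal.mul_mem_mul (Ideal.pow_le_pow_right hsum hprod) hε)
    have h : ((ht z : ℕ∞) : WithBot ℕ∞) ≤ ((d + R : ℕ) : WithBot ℕ∞) := by
      rw [VarDim.topologicalKrullDim_eq_iSup_height] at hdim
      exact (le_iSup (fun x : X' => ((ht x : ℕ∞) : WithBot ℕ∞)) z).trans hdim
    have h' : ht z ≤ ((d + R : ℕ) : ℕ∞) := WithBot.coe_le_coe.1 h
    exact h'.trans_lt (by exact_mod_cast (show d + R < d + 1 + R by omega))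

/-- `F^{d+1} K(X) = 0`. -/
theorem gammaFiltration_eq_bot [IsNoetherian X] [ConnectedSpace X] {A : X.Modules} (hA : CohB1.IsAmple A) {d : ℕ}
    (hd : topologicalKrullDim X ≤ (d : WithBot ℕ∞)) {K : Type v} [CommRing K] [LambdaRing.LambdaOps K]
    {P : LambdaRing.PosStructure K} {φ : SGA6.Kvb X →+ K} (hK : KRR.IsModel X K P φ) :
    LambdaRing.gammaFiltration P (d + 1) = ⊥ := by
  obtain ⟨K₀, _, _, P₀, φ₀, hK₀⟩ := KvbModel.exists_isModel (X := X)
  obtain ⟨g₀, hg₀, -⟩ := PullVB.existsUnique_isPull (𝟙 X) φ₀ φ hK.bijective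
  obtain ⟨g₁, hg₁, -⟩ := PullVB.existsUnique_isPull (𝟙 X) φ φ₀ hK₀.bijective
  have hinv : ∀ y, g₁ (g₀ y) = y := fun y => by
    obtain ⟨A, B, hA, hB, rfl⟩ := KvbPull.exists_cl hK y
    have hid : ∀ {F : X.Modules}, FlatMod.IsFinLocFree F → g₀ (φ (cl F)) = φ₀ (cl F) ∧ g₁ (φ₀ (cl F)) = φ (cl F) :=
      fun {F} hF => by
        have h := GenPush.cl_iso ((Scheme.Modules.pullbackId X).app F) (KvbPull.lf_pull (𝟙 X) hF) hF
        exact ⟨(hg₀ F hF).trans (congrArg φ₀ h), (hg₁ F hF).trans (congrArg φ h)⟩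
    rw [map_sub g₀, (hid hA).1, (hid hB).1, map_sub g₁, (hid hA).2, (hid hB).2]
  refine eq_bot_iff.2 fun y hy => ?_
  have h := gammaFiltration_eq_bot' hA hd hK₀ (PBFil.map_mem_gammaFiltration (f := KvbPull.ringHom hK₀ hK hg₀)
    (KvbPull.map_lam hK₀ hK hg₀) (LineTwist.aug_pull hK₀ hK hg₀) hy)
  have h2 : y = 0 := by rw [← hinv y, show g₀ y = 0 from h, map_zero]
  simp [h2]

end Groth.Agent.H28.KTower

end
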