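import Groth.Agent.H28.LineTwist
import Groth.Agent.Lambda.GammaPoly
import Groth.Agent.Lambda.GammaFil
import Mathlib.RingTheory.OrzechProperty

/-!
# The γ-filtration of a λ-ring with a basis of powers of a line element
-/

set_option autoImplicit false
set_option linter.unusedSectionVars false

universe v w

open Finset LambdaRing

noncomputable section

namespace Groth.Agent.H28.PBFil

open Groth.Agent

/-- `γ^i` of a positive element minus its rank vanishes above the rank. -/
theorem gamma_sub_eq_zero {K : Type v} [CommRing K] [LambdaOps K] {P : PosStructure K} {x : K} {r : ℕ}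
    (h0 : x = 0 ∧ r = 0 ∨ x ∈ P.pos ∧ P.aug x = r) {n : ℕ} (hn : r < n) : gamma n (x - (r : K)) = 0 := by
  rcases h0 with ⟨rfl, rfl⟩ | ⟨hx, hr⟩
  · rw [Nat.cast_zero, sub_zero]; exact Lambda.gamma_zero_right (by omega)
  have hN : (P.aug x).toNat = r := by omega
  rw [← Lambda.coeff_gammaSeries, ← hN, Lambda.gamma_sub_natCast hx n, map_sum]
  refine sum_eq_zero fun k hk => ?_
  rw [mem_range] at hk
  rw [PowerSeries.coeff_C_mul, PowerSeries.coeff_X_pow_mul']
  split_ifs with h
  · rw [Lambda.one_sub_X_pow_coeff, Nat.choose_eq_zero_of_lt (by omega), Nat.cast_zero, mul_zero, mul_zero]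
  · exact mul_zero _

variable {KX : Type v} {KP : Type w} [CommRing KX] [LambdaOps KX] [CommRing KP] [LambdaOps KP]
  {PX : PosStructure KX} {PP : PosStructure KP}

theorem map_gamma {f : KX →+* KP} (hf : ∀ i x, f (LambdaOps.lam i x) = LambdaOps.lam i (f x)) (n : ℕ) (x : KX) :
    f (gamma n x) = gamma n (f x) := by
  simp only [LambdaRing.gamma]
  split_ifs with h
  · exact map_one f
  · rw [map_sum]
    refine sum_congr rfl fun j _ => ?_
    rw [map_mul, map_natCast]
    split_ifs
    · rw [map_zero]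
    · rw [hf]

theorem map_mem_gammaFiltration {f : KX →+* KP} (hf : ∀ i x, f (LambdaOps.lam i x) = LambdaOps.lam i (f x))
    (haug : ∀ x, PP.aug (f x) = PX.aug x) {n : ℕ} {x : KX} (hx : x ∈ gammaFiltration PX n) :
    f x ∈ gammaFiltration PP n := by
  rcases eq_or_ne n 0 with rfl | hn
  · rw [Lambda.gammaFiltration_zero]; trivial
  rw [Lambda.gammaFiltration_of_ne_zero PX hn] at hx
  induction hx using AddSubgroup.closure_induction with
  | mem y hy =>
    obtain ⟨l, hl, hsum, rfl⟩ := hy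
    rw [Lambda.gammaFiltration_of_ne_zero PP hn]
    refine AddSubgroup.subset_closure ⟨l.map fun p => (p.1, f p.2), ?_, ?_, ?_⟩
    · intro p hp
      obtain ⟨p', hp', rfl⟩ := List.mem_map.1 hp
      show PP.aug (f p'.2) = 0
      rw [haug, hl p' hp']
    · rw [List.map_map]; exact hsum
    · rw [map_list_prod, List.map_map, List.map_map]
      exact congrArg List.prod (List.map_congr_left fun p _ => map_gamma hf p.1 p.2)
  | zero => rw [map_zero]; exact zero_mem _
  | add a b _ _ ha hb => rw [map_add]; exact add_mem ha hb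
  | neg a _ ha => rw [map_neg]; exact neg_mem ha

/-- A basis of powers of a line element over a λ-subring, with the expected relation. -/
structure Ext (PX : PosStructure KX) (PP : PosStructure KP) (q : KX →+* KP) (r : ℕ) where
  /-- the line -/
  ℓ : KP
  line : PP.IsLine ℓ
  lamHom : ∀ i x, q (LambdaOps.lam i x) = LambdaOps.lam i (q x)
  aug_q : ∀ x, PP.aug (q x) = PX.aug x
  twist : ∀ (m : ℕ) (z : KP) (i : ℕ), LambdaOps.lam i (ℓ ^ m * z) = (ℓ ^ m) ^ i * LambdaOps.lam i z
  basis : Function.Bijective fun a : Fin (r + 1) → KX => ∑ i : Fin (r + 1), q (a i) * ℓ ^ (i : ℕ)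
  /-- the positive element split by `ℓ` -/
  e : KX
  aug_e : PX.aug e = r + 1
  kernel : ∀ n, r < n → gamma n (q e - ℓ - (r : KP)) = 0

variable {q : KX →+* KP} {r : ℕ} (D : Ext PX PP q r)

/-- `ℓ - 1`. -/
abbrev η : KP := D.ℓ - 1

theorem gamma_eta (n : ℕ) : gamma (n + 2) (η D) = 0 ∧ gamma 1 (η D) = η D := by
  have h := Lambda.gammaSeries_sub_one (u := D.ℓ) (Lambda.lam_one_eq_zero PP) (Lambda.lam_line D.line)
  refine ⟨?_, Lambda.gamma_one _⟩
  rw [← Lambda.coeff_gammaSeries, η, h, map_add, PowerSeries.coeff_one, if_neg (by omega), zero_add,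
    PowerSeries.coeff_C_mul, PowerSeries.coeff_X, if_neg (by omega), mul_zero]

theorem gamma_succ_add_eta (x : KP) (n : ℕ) :
    gamma (n + 1) (x + η D) = gamma (n + 1) x + gamma n x * η D := by
  rw [Lambda.gamma_add, sum_range_succ, sum_range_succ, Nat.sub_self, Lambda.gamma_zero, mul_one,
    Nat.add_sub_cancel_left, (gamma_eta D 0).2, sum_eq_zero, zero_add, add_comm]
  intro i hi
  rw [mem_range] at hi
  rw [show n + 1 - i = (n - i - 1) + 2 by omega, (gamma_eta D _).1, mul_zero]

/-- The element `q(e) - (r + 1)`. -/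
abbrev z₀ : KX := D.e - ((r + 1 : ℕ) : KX)

theorem aug_z₀ : PX.aug (z₀ D) = 0 := by
  rw [map_sub, map_natCast, D.aug_e]; push_cast; ring

theorem gamma_kernel (p : ℕ) : gamma p (q D.e - D.ℓ - (r : KP)) =
    ∑ i ∈ range (p + 1), (-η D) ^ (p - i) * q (gamma i (z₀ D)) := by
  induction p with
  | zero => simp [Lambda.gamma_zero]
  | succ p ih =>
    have hq : q (z₀ D) = (q D.e - D.ℓ - (r : KP)) + η D := by
      rw [map_sub, map_natCast]; push_cast; ring
    have h := gamma_succ_add_eta D (q D.e - D.ℓ - (r : KP)) p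
    rw [← hq, ← map_gamma D.lamHom] at h
    rw [eq_sub_of_add_eq h.symm, sum_range_succ, Nat.sub_self, pow_zero, one_mul, sub_eq_add_neg, add_comm, ih,
      ← mul_neg, sum_mul]
    refine congrArg (· + _) (sum_congr rfl fun i hi => ?_)
    rw [mem_range] at hi
    rw [show p + 1 - i = (p - i) + 1 by omega, pow_succ]
    ring

/-- The sums `Σ_{i ≤ r} q(c_i) η^i` with `c_i ∈ F^{k-i}`. -/
def S (k : ℕ) : AddSubgroup KP where
  carrier := {z | ∃ c : Fin (r + 1) → KX, (∀ i : Fin (r + 1), c i ∈ gammaFiltration PX (k - (i : ℕ))) ∧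
    ∑ i : Fin (r + 1), q (c i) * η D ^ (i : ℕ) = z}
  zero_mem' := ⟨0, fun i => zero_mem _, by simp⟩
  add_mem' := by
    rintro _ _ ⟨c, hc, rfl⟩ ⟨d, hd, rfl⟩
    exact ⟨c + d, fun i => add_mem (hc i) (hd i), by simp [add_mul, sum_add_distrib]⟩
  neg_mem' := by
    rintro _ ⟨c, hc, rfl⟩
    exact ⟨-c, fun i => neg_mem (hc i), by simp [sum_neg_distrib]⟩

theorem mem_S (k m : ℕ) (a : KX) (ha : a ∈ gammaFiltration PX (k - m)) : q a * η D ^ m ∈ S D k := by
  induction m using Nat.strong_induction_on generalizing a with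
  | _ m ih =>
    rcases le_or_gt m r with hm | hm
    · refine ⟨Pi.single ⟨m, by omega⟩ a, fun i => ?_, ?_⟩
      · rcases eq_or_ne i ⟨m, by omega⟩ with rfl | h
        · rwa [Pi.single_eq_same]
        · rw [Pi.single_eq_of_ne h]; exact zero_mem _
      · rw [Finset.sum_eq_single (⟨m, by omega⟩ : Fin (r + 1))]
        · rw [Pi.single_eq_same]
        · intro i _ h; rw [Pi.single_eq_of_ne h, map_zero, zero_mul]
        · exact fun h => absurd (mem_univ _) h
    obtain ⟨c, rfl⟩ : ∃ c, m = (r + 1) + c := ⟨m - (r + 1), by omega⟩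
    have h := gamma_kernel D (r + 1)
    rw [D.kernel (r + 1) (by omega), sum_range_succ', Nat.sub_zero, Lambda.gamma_zero, map_one, mul_one] at h
    have h' := eq_neg_of_add_eq_zero_right h.symm
    rw [neg_pow] at h'
    have hu : ((-1 : KP) ^ (r + 1)) * (-1) ^ (r + 1) = 1 := by rw [← mul_pow]; simp
    have hη : η D ^ (r + 1) = ∑ i ∈ range (r + 1),
        q ((-1) ^ (r + 1) * (-1) ^ (r + 1 - (i + 1) + 1) * gamma (i + 1) (z₀ D)) * η D ^ (r + 1 - (i + 1)) := by
      rw [← one_mul (η D ^ (r + 1)), ← hu, mul_assoc, h', mul_neg, mul_sum, ← sum_neg_distrib]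
      refine sum_congr rfl fun i _ => ?_
      simp only [map_mul, map_pow, map_neg, map_one, neg_pow (η D), pow_succ]
      ring
    rw [pow_add, hη, sum_mul, mul_sum]
    refine sum_mem fun i hi => ?_
    rw [mem_range] at hi
    have ha' : a * ((-1) ^ (r + 1) * (-1) ^ (r + 1 - (i + 1) + 1) * gamma (i + 1) (z₀ D)) ∈
        gammaFiltration PX (k - (r + 1 - (i + 1) + c)) := by
      refine Lambda.gammaFiltration_anti (m := k - (r + 1 - (i + 1) + c))
        (n := (k - (r + 1 + c)) + (i + 1)) (by omega) ?_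
      exact Lambda.mul_mem_add ha (Lambda.mul_mem_left _ (Lambda.gamma_mem (aug_z₀ D) (i + 1)))
    convert ih (r + 1 - (i + 1) + c) (by omega) _ ha' using 1
    simp only [map_mul, pow_add]
    ring

theorem exists_expansion (z : KP) : z ∈ S D 0 := by
  obtain ⟨a, rfl⟩ := D.basis.2 z
  refine sum_mem fun i _ => ?_
  rw [show D.ℓ = η D + 1 by simp [η], add_pow, mul_sum]
  refine sum_mem fun j _ => ?_
  convert mem_S D 0 j (((i : ℕ).choose j : KX) * a i) (by rw [Nat.zero_sub, Lambda.gammaFiltration_zero]; trivial) using 1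
  simp only [map_mul, map_natCast, one_pow]
  ring

theorem mul_mem_S (k : ℕ) (c : KP) {z : KP} (hz : z ∈ S D k) : c * z ∈ S D k := by
  obtain ⟨d, -, rfl⟩ := exists_expansion D c
  obtain ⟨b, hb, rfl⟩ := hz
  rw [sum_mul]
  refine sum_mem fun i _ => ?_
  rw [mul_sum]
  refine sum_mem fun j _ => ?_
  convert mem_S D k ((i : ℕ) + (j : ℕ)) (d i * b j) (Lambda.gammaFiltration_anti (by omega)
    (Lambda.mul_mem_left (d i) (hb j))) using 1
  rw [map_mul, pow_add]
  ring

theorem expansion_injective {c : Fin (r + 1) → KX}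
    (h : ∑ i : Fin (r + 1), q (c i) * η D ^ (i : ℕ) = 0) : c = 0 := by
  letI : Algebra KX KP := q.toAlgebra
  let Tη : (Fin (r + 1) → KX) →ₗ[KX] KP :=
    ∑ i : Fin (r + 1), (LinearMap.proj (R := KX) (φ := fun _ => KX) i).smulRight (η D ^ (i : ℕ))
  let Tℓ : (Fin (r + 1) → KX) →ₗ[KX] KP :=
    ∑ i : Fin (r + 1), (LinearMap.proj (R := KX) (φ := fun _ => KX) i).smulRight (D.ℓ ^ (i : ℕ))
  have hη : ∀ a, Tη a = ∑ i : Fin (r + 1), q (a i) * η D ^ (i : ℕ) := fun a => by
    simp [Tη, Algebra.smul_def, RingHom.algebraMap_toAlgebra]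
  have hℓ : ∀ a, Tℓ a = ∑ i : Fin (r + 1), q (a i) * D.ℓ ^ (i : ℕ) := fun a => by
    simp [Tℓ, Algebra.smul_def, RingHom.algebraMap_toAlgebra]
  have hb : Function.Bijective Tℓ := by
    rw [show (Tℓ : (Fin (r + 1) → KX) → KP) = fun a => ∑ i : Fin (r + 1), q (a i) * D.ℓ ^ (i : ℕ) from funext hℓ]
    exact D.basis
  let e := LinearEquiv.ofBijective Tℓ hb
  let f : (Fin (r + 1) → KX) →ₗ[KX] (Fin (r + 1) → KX) := e.symm.toLinearMap ∘ₗ Tη
  have hs : Function.Surjective f := fun a => by
    obtain ⟨d, -, hd⟩ := exists_expansion D (e a)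
    exact ⟨d, e.injective (by rw [show f d = e.symm (Tη d) from rfl, e.apply_symm_apply, hη, hd])⟩
  refine OrzechProperty.injective_of_surjective_endomorphism f hs ?_
  show e.symm (Tη c) = e.symm (Tη 0)
  rw [hη, h, map_zero Tη]

/-- The ideals `Σ_m q(F^{k-m}) η^m`. -/
def G (k : ℕ) : Ideal KP :=
  Ideal.span {z | ∃ (m : ℕ) (a : KX), a ∈ gammaFiltration PX (k - m) ∧ z = q a * η D ^ m}

theorem mem_S_of_mem_G {k : ℕ} {z : KP} (hz : z ∈ G D k) : z ∈ S D k := by
  induction hz using Submodule.span_induction with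
  | mem z hz => obtain ⟨m, a, ha, rfl⟩ := hz; exact mem_S D k m a ha
  | zero => exact zero_mem _
  | add u v _ _ hu hv => exact add_mem hu hv
  | smul c u _ hu => exact mul_mem_S D k c hu

theorem isMulFiltration_G : Lambda.IsMulFiltration (G D) where
  zero := (Ideal.eq_top_iff_one _).2 (Ideal.subset_span
    ⟨0, 1, by rw [Lambda.gammaFiltration_zero]; trivial, by rw [map_one, pow_zero, mul_one]⟩)
  anti := fun a b hab => Ideal.span_mono fun z ⟨m, x, hx, hz⟩ =>
    ⟨m, x, Lambda.gammaFiltration_anti (by omega) hx, hz⟩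
  mul_mem := fun {a b x y} hx hy => by
    induction hx using Submodule.span_induction with
    | mem x hx =>
      induction hy using Submodule.span_induction with
      | mem y hy =>
        obtain ⟨m, c, hc, rfl⟩ := hx
        obtain ⟨m', c', hc', rfl⟩ := hy
        refine Ideal.subset_span ⟨m + m', c * c', Lambda.gammaFiltration_anti (by omega)
          (Lambda.mul_mem_add hc hc'), ?_⟩
        rw [map_mul, pow_add]
        ring
      | zero => rw [mul_zero]; exact zero_mem _
      | add u v _ _ hu hv => rw [mul_add]; exact add_mem hu hv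
      | smul c u _ hu => rw [smul_eq_mul, mul_left_comm]; exact Ideal.mul_mem_left _ _ hu
    | zero => rw [zero_mul]; exact zero_mem _
    | add u v _ _ hu hv => rw [add_mul]; exact add_mem hu hv
    | smul c u _ hu => rw [smul_eq_mul, mul_assoc]; exact Ideal.mul_mem_left _ _ hu

theorem pow_sub_one_mem (m : ℕ) : D.ℓ ^ m - 1 ∈ G D 1 := by
  rw [← geom_sum_mul]
  refine Ideal.mul_mem_left _ _ (Ideal.subset_span ⟨1, 1, ?_, ?_⟩)
  · rw [Nat.sub_self, Lambda.gammaFiltration_zero]; trivial
  · rw [map_one, pow_one, one_mul]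

theorem twist_mem {y : KX} (hy : PX.aug y = 0) (m : ℕ) :
    D.ℓ ^ m * q y ∈ (isMulFiltration_G D).gammaSubgroup := by
  have hT := isMulFiltration_G D
  rw [hT.mem_gammaSubgroup]
  rintro (_ | s)
  · rw [hT.zero]; trivial
  rw [LineTwist.gamma_mul_of_twist (D.twist m (q y))]
  refine sum_mem fun i hi => ?_
  rw [mem_range] at hi
  have h1 : 1 - D.ℓ ^ m ∈ G D 1 := by rw [← neg_sub]; exact neg_mem (pow_sub_one_mem D m)
  have h2 : gamma (i + 1) (q y) ∈ G D (i + 1) := by
    refine Ideal.subset_span ⟨0, gamma (i + 1) y, Lambda.gamma_mem hy _, ?_⟩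
    rw [pow_zero, mul_one]
    exact (map_gamma D.lamHom _ y).symm
  have h3 := hT.mul_mem (hT.pow_mem h1 (s - i)) h2
  rw [show (s - i) * 1 + (i + 1) = s + 1 by omega] at h3
  rw [mul_assoc]
  exact Ideal.mul_mem_left _ _ h3

theorem pow_sub_one_gamma (m : ℕ) : D.ℓ ^ m - 1 ∈ (isMulFiltration_G D).gammaSubgroup := by
  have hT := isMulFiltration_G D
  rw [hT.mem_gammaSubgroup]
  intro n
  rw [← Lambda.coeff_gammaSeries, Lambda.gammaSeries_sub_one (Lambda.lam_one_eq_zero PP)
    (Lambda.lam_line (Lambda.isLine_pow D.line m)), map_add, PowerSeries.coeff_one, PowerSeries.coeff_C_mul,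
    PowerSeries.coeff_X]
  rcases n with _ | _ | n
  · rw [hT.zero]; trivial
  · rw [if_neg (by omega), if_pos rfl, mul_one]; simpa using pow_sub_one_mem D m
  · rw [if_neg (by omega), if_neg (by omega), mul_zero, add_zero]; exact zero_mem _

theorem sub_aug_mem (z : KP) : z - (PP.aug z : KP) ∈ (isMulFiltration_G D).gammaSubgroup := by
  obtain ⟨a, rfl⟩ := D.basis.2 z
  let W := (isMulFiltration_G D).gammaSubgroup
  show (∑ i : Fin (r + 1), q (a i) * D.ℓ ^ (i : ℕ)) - _ ∈ W
  rw [map_sum PP.aug, Int.cast_sum, ← sum_sub_distrib]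
  refine sum_mem fun i _ => ?_
  rw [map_mul, D.aug_q, map_pow, D.line.2, one_pow, mul_one]
  have h1 := twist_mem D (y := a i - (PX.aug (a i) : KX)) (by rw [map_sub, map_intCast, Int.cast_id, sub_self]) i
  have h2 := W.zsmul_mem (pow_sub_one_gamma D i) (PX.aug (a i))
  convert add_mem h1 h2 using 1
  rw [map_sub, map_intCast, zsmul_eq_mul]
  ring

theorem gammaFiltration_le {k : ℕ} {z : KP} (hz : z ∈ gammaFiltration PP k) : z ∈ G D k := by
  have hT := isMulFiltration_G D
  rcases eq_or_ne k 0 with rfl | hk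
  · rw [hT.zero]; trivial
  rw [Lambda.gammaFiltration_of_ne_zero PP hk] at hz
  refine (AddSubgroup.closure_le (K := (G D k).toAddSubgroup)).2 ?_ hz
  rintro _ ⟨l, hl, hsum, rfl⟩
  refine hT.anti hsum ?_
  clear hsum
  induction l with
  | nil => simp [hT.zero]
  | cons p l ih =>
    simp only [List.map_cons, List.prod_cons, List.sum_cons]
    refine hT.mul_mem ?_ (ih fun p hp => hl p (List.mem_cons_of_mem _ hp))
    have h := sub_aug_mem D p.2
    rw [hl p List.mem_cons_self, Int.cast_zero, sub_zero] at h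
    exact hT.mem_gammaSubgroup.1 h p.1

include D in
/-- The γ-filtration restricts to that of the subring. -/
theorem mem_of_map_mem {k : ℕ} {y : KX} (hy : q y ∈ gammaFiltration PP k) : y ∈ gammaFiltration PX k := by
  obtain ⟨c, hc, he⟩ := mem_S_of_mem_G D (gammaFiltration_le D hy)
  have h := expansion_injective D (c := c - Pi.single 0 y) (by
    simp only [Pi.sub_apply, map_sub, sub_mul, sum_sub_distrib, he]
    rw [Finset.sum_eq_single (0 : Fin (r + 1))]
    · simp
    · intro i _ h; rw [Pi.single_eq_of_ne h, map_zero, zero_mul]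
    · exact fun h => absurd (mem_univ _) h)
  have h0 := congrFun h 0
  rw [Pi.sub_apply, Pi.single_eq_same, Pi.zero_apply, sub_eq_zero] at h0
  rw [← h0]
  exact hc 0

include D in
theorem q_injective : Function.Injective q := by
  refine (injective_iff_map_eq_zero q).2 fun y hy => ?_
  have h := congrFun (expansion_injective D (c := Pi.single (0 : Fin (r + 1)) y) (by
    rw [Finset.sum_eq_single (0 : Fin (r + 1))]
    · simp [hy]
    · intro i _ h; rw [Pi.single_eq_of_ne h, map_zero, zero_mul]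
    · exact fun h => absurd (mem_univ _) h)) 0
  rwa [Pi.single_eq_same] at h

end Groth.Agent.H28.PBFil

end
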