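import Groth.Agent.H28.DefCalc
import Groth.Agent.H28.ModelIso

/-!
# Adams–Riemann–Roch for regular immersions
-/

set_option autoImplicit false
set_option linter.style.haveILetI false
set_option linter.unusedSectionVars false
set_option backward.isDefEq.respectTransparency false
set_option backward.isDefEq.respectTransparency.types false
set_option maxHeartbeats 1000000

universe v w u

open CategoryTheory CategoryTheory.Limits AlgebraicGeometry TopologicalSpace Opposite
attribute [local instance] HasDerivedCategory.standard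

noncomputable section

namespace Groth.Agent.H28.AdamsCl

open Groth.Agent

/-- `ψ^j (f_K x) = f_K (θ^j(C) ψ^j x)`. -/
theorem adams_pushCl {X Y : Scheme.{u}} [AlgebraicGeometry.IsNoetherian Y] [ConnectedSpace ↥Y]
    (hYe : KRR.HasEnoughLocFree Y) (f : X ⟶ Y) (hf : Mor2.IsRegularClosedImmersion f) [ConnectedSpace ↥X] {d : ℕ}
    (hC : FlatMod.IsFinLocFreeOfRank d (Omega.conormal f))
    {KX : Type v} [CommRing KX] [LambdaRing.LambdaOps KX] {PX : LambdaRing.PosStructure KX}
    {φX : SGA6.Kvb X →+ KX} (hX : KRR.IsModel X KX PX φX)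
    {KY : Type w} [CommRing KY] [LambdaRing.LambdaOps KY] {PY : LambdaRing.PosStructure KY}
    {φY : SGA6.Kvb Y →+ KY} (hY : KRR.IsModel Y KY PY φY)
    (h : KX →+ KY) (hh : KRR.IsPushCl f φX φY h) (j : ℕ) (hj : 1 ≤ j) (x : KX) :
    LambdaRing.adams PY j (h x) =
      h (KRR.bott PX j (φX (KRR.cl X (Omega.conormal f))) * LambdaRing.adams PX j x) := by
  obtain ⟨KX', _, _, PX', φX', hX'⟩ := KvbModel.exists_isModel (X := X)
  obtain ⟨KY', _, _, PY', φY', hY'⟩ := KvbModel.exists_isModel (X := Y)
  obtain ⟨eX, heX, hlX, haX⟩ := ModelIso.exists_iso hX hX'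
  obtain ⟨eY, heY, hlY, haY⟩ := ModelIso.exists_iso hY hY'
  have key := DefCalc.main hYe f hf hC hX' hY' _ (ModelIso.isPushCl_conj eX heX eY heY hh) j hj (eX x)
  apply eY.injective
  have e1 : eY (LambdaRing.adams PY j (h x)) = LambdaRing.adams PY' j (eY (h x)) :=
    ModelIso.map_adams (f := eY.toRingHom) hlY haY j (h x)
  have e2 : eX (KRR.bott PX j (φX (KRR.cl X (Omega.conormal f))) * LambdaRing.adams PX j x) =
      KRR.bott PX' j (φX' (KRR.cl X (Omega.conormal f))) * LambdaRing.adams PX' j (eX x) := by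
    rw [map_mul, ← heX]
    exact congrArg₂ (· * ·) (DefCalc.map_bott eX.toRingHom hlX haX j _)
      (ModelIso.map_adams (f := eX.toRingHom) hlX haX j x)
  rw [e1]
  change LambdaRing.adams PY' j (eY (h (eX.symm (eX x)))) = eY (h (eX.symm _)) at key
  rw [RingEquiv.symm_apply_apply, ← e2, RingEquiv.symm_apply_apply] at key
  exact key

end Groth.Agent.H28.AdamsCl
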