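import Groth.Agent.H28.PBSplit
import Groth.Agent.H28.AdamsCl
import Groth.Agent.Lambda.Gr
import Groth.Agent.Lambda.Elem
import Groth.Agent.H23.Chern.DualPull

/-!
# The Chern character of the dual
-/

set_option autoImplicit false
set_option linter.style.haveILetI false
set_option linter.unusedSectionVars false
set_option backward.isDefEq.respectTransparency false
set_option backward.isDefEq.respectTransparency.types false
set_option maxHeartbeats 1000000

universe v u

open CategoryTheory CategoryTheory.Limits AlgebraicGeometry TopologicalSpace Opposite Finset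
attribute [local instance] HasDerivedCategory.standard

noncomputable section

namespace Groth.Agent.H28.DualCh

open Groth.Agent Groth.Agent.H28.KvbLam

section Algebra

open LambdaRing Groth.Agent.Lambda MvPolynomial

variable {K : Type v} [CommRing K] [LambdaOps K] {P : PosStructure K}

theorem neg_mul_aux {R : Type*} [CommRing R] (a b : R) : -(a * b) = -1 * a * b := by ring

theorem psG_lines {L : PosLambdaRing.{v}} {f : K →+* L.carrier} (hf : IsExtension P L.posStr f) {n : ℕ}
    {w : Fin n → L.carrier} (hw : ∀ a, L.posStr.IsLine (w a)) {z : K} (hz : ∑ a, w a = f z) {k : ℕ} (hk : k ≠ 0) :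
    f (psG P z k) = ∑ a, (w a - 1) ^ k := by
  have h1 : f (psG P z k) = psiS (gammaSeries (f (z - (P.aug z : K)))) k := by
    rw [psG, map_psiS f (constantCoeff_gammaSeries _)]
    congr 1
    ext i
    rw [PowerSeries.coeff_map, coeff_gammaSeries, coeff_gammaSeries, Lambda.map_gamma hf.isLambdaHom]
  rw [h1, map_sub, map_intCast, ← hf.aug_comp z, ← hz, map_sum]
  simp only [(hw _).2, sum_const, card_univ, Fintype.card_fin, nsmul_eq_mul, mul_one, Int.cast_natCast]
  have h2 : gammaSeries ((∑ a, w a) - (n : L.carrier)) =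
      PowerSeries.mk fun i => ((Finset.univ : Finset (Fin n)).val.map fun a => w a - 1).esymm i := by
    ext i
    rw [coeff_gammaSeries, PowerSeries.coeff_mk]
    have h := gamma_lines_sum_sub_card (P := L.posStr) (s := (Finset.univ : Finset (Fin n)).val.map w)
      (fun x hx => by obtain ⟨a, -, rfl⟩ := Multiset.mem_map.1 hx; exact hw a) i
    rw [Multiset.map_map, Multiset.card_map, Finset.card_val, Finset.card_univ, Fintype.card_fin] at h
    exact h
  rw [h2, psiS_mk_esymm _ hk, Multiset.map_map]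
  rfl

theorem grK_neg_one_pow {m : ℕ} {x : K} (hx : x ∈ gammaFiltration P m) (i : ℕ) :
    KGr.grK P (m : ℤ) ((-1 : K) ^ i * x) = algebraMap ℚ (KGr.Gr P) ((-1) ^ i) * KGr.grK P (m : ℤ) x := by
  induction i with
  | zero => rw [pow_zero, one_mul, pow_zero, map_one, one_mul]
  | succ i ih =>
    rw [pow_succ', mul_assoc, neg_one_mul, grK_neg (mul_mem_left _ hx), ih, pow_succ', map_mul,
      RingHom.map_neg, map_one]
    exact neg_mul_aux (R := KGr.Gr P) _ _

theorem chC_dual {L : PosLambdaRing.{v}} {f : K →+* L.carrier} (hf : IsExtension P L.posStr f) {n : ℕ}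
    {v v' : Fin n → L.carrier} (hv : ∀ a, L.posStr.IsLine (v a)) (hv' : ∀ a, L.posStr.IsLine (v' a))
    (hinv : ∀ a, v' a * v a = 1) {e e' : K} (he : ∑ a, v a = f e) (he' : ∑ a, v' a = f e') (k : ℕ) :
    chC P e' k = algebraMap ℚ (KGr.Gr P) ((-1) ^ k) * chC P e k := by
  classical
  have haug : ∀ {w : Fin n → L.carrier} {z : K}, (∀ a, L.posStr.IsLine (w a)) → ∑ a, w a = f z → P.aug z = n :=
    fun {w z} hw hz => by
      rw [← hf.aug_comp z, ← hz, map_sum]
      simp only [(hw _).2, sum_const, card_univ, Fintype.card_fin, nsmul_eq_mul, mul_one]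
  rcases k with _ | q
  · simp only [chC, haug hv he, haug hv' he', pow_zero, map_one, one_mul]
  obtain ⟨k, hk⟩ : ∃ k, k = q + 1 := ⟨_, rfl⟩
  rw [← hk]
  have hk0 : k ≠ 0 := by omega
  set z := psG P e' k - (-1 : K) ^ k * psG P e k with hz
  have hzF : z ∈ gammaFiltration P k := sub_mem (psG_mem P e' k) (mul_mem_left _ (psG_mem P e k))
  set D := LambdaOps.lam n e
  have hD : f D = ∏ a, v a := by
    rw [hf.isLambdaHom, ← he]
    exact (lam_finset_sum_eq_esymm _ (fun a _ => lam_line (hv a)) n).trans (sum_powersetCard_top v)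
  have hD1 : 1 - D ^ k ∈ gammaFiltration P 1 := by
    refine mem_one_of_aug_eq_zero ?_
    rw [map_sub, map_one, map_pow, ← hf.aug_comp D, hD, map_prod]
    simp [(hv _).2]
  have hDz : D ^ k * z ∈ gammaFiltration P (k + 1) := by
    refine mem_of_eq_symmetric hf hv he
      (p := ∑ a : Fin n, (-1) ^ k * (∏ b ∈ univ.erase a, (1 + X b) ^ k) *
        (X a ^ k * (1 - (1 + X a) ^ k))) ?_ ?_ ?_
    · intro g
      simp only [map_sum, map_mul, map_pow, map_neg, map_one, map_sub, map_add, map_prod, rename_X]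
      refine Fintype.sum_equiv g _ _ fun a => ?_
      congr 2
      refine Finset.prod_equiv g (fun b => ?_) fun b _ => rfl
      simp
    · refine sum_mem fun a _ => Ideal.mul_mem_left _ _ ?_
      have hX : (X a : MvPolynomial (Fin n) ℤ) ∈ idealOfVars (Fin n) ℤ := Ideal.subset_span ⟨a, rfl⟩
      rw [pow_succ]
      refine Ideal.mul_mem_mul (Ideal.pow_mem_pow hX k) ?_
      have h := (sub_dvd_pow_sub_pow (1 : MvPolynomial (Fin n) ℤ) (1 + X a) k)
      rw [one_pow] at h
      obtain ⟨c, hc⟩ := h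
      rw [hc, show (1 : MvPolynomial (Fin n) ℤ) - (1 + X a) = -X a by ring]
      exact Ideal.mul_mem_right _ _ (neg_mem hX)
    · rw [hz, map_mul, map_pow, hD, map_sub, map_mul, map_pow, map_neg, map_one, psG_lines hf hv' he' hk0,
        psG_lines hf hv he hk0, mul_sum, ← sum_sub_distrib, ← prod_pow, mul_sum, map_sum]
      refine sum_congr rfl fun a _ => ?_
      simp only [map_mul, map_pow, map_neg, map_one, map_sub, map_add, map_prod, aeval_X, add_sub_cancel]
      rw [← mul_prod_erase univ (fun b => v b ^ k) (mem_univ a)]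
      have h1 : v a ^ k * (v' a - 1) ^ k = (1 - v a) ^ k := by
        rw [← mul_pow, mul_sub, mul_comm (v a) (v' a), hinv, mul_one]
      have h2 : (1 - v a) ^ k = (-1 : L.carrier) ^ k * (v a - 1) ^ k := by rw [← mul_pow]; congr 1; ring
      rw [h2] at h1
      linear_combination (∏ b ∈ univ.erase a, v b ^ k) * h1
  have hzero : z ∈ gammaFiltration P (k + 1) := by
    have := add_mem hDz (gammaFiltration_anti (show k + 1 ≤ 1 + k by omega) (mul_mem_add hD1 hzF))
    rwa [← add_mul, add_sub_cancel, one_mul] at this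
  have h := grK_eq_zero hzero
  rw [hz, grK_sub (psG_mem P e' k) (mul_mem_left _ (psG_mem P e k)), sub_eq_zero] at h
  subst hk
  simp only [chC]
  rw [h]
  rw [grK_neg_one_pow (psG_mem P e (q + 1))]
  ring

end Algebra

section Geometry

variable {X : Scheme.{u}}

theorem exists_dualHom (X : Scheme.{u}) : ∃ D : SGA6.Kvb X →+ SGA6.Kvb X,
    ∀ F : X.Modules, FlatMod.IsFinLocFree F → D (KRR.cl X F) = KRR.cl X (H23.Chern.dual F) :=
  KZ.exists_liftSub (KRR.vbP X) (fun F => KRR.cl X (H23.Chern.dual F)) fun _ hS h₁ h₂ h₃ => by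
    obtain ⟨a, b, w, hex⟩ := H23.Chern.shortExact_dual hS (QCoh.isQCoh_of_isFinLocFree h₂) h₃
    rw [add_comm]
    exact KZ.clSub_ses (KRR.vbP X) hex (SheafHomX.isFinLocFree_hom h₃ KvbLam.lf_O)
      (SheafHomX.isFinLocFree_hom h₂ KvbLam.lf_O) (SheafHomX.isFinLocFree_hom h₁ KvbLam.lf_O)

theorem lf_dual {F : X.Modules} (hF : FlatMod.IsFinLocFree F) : FlatMod.IsFinLocFree (H23.Chern.dual F) :=
  SheafHomX.isFinLocFree_hom hF KvbLam.lf_O

variable [IsNoetherian X] [ConnectedSpace ↥X] {K : Type (u + 1)} [CommRing K] [LambdaRing.LambdaOps K]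
  {P : LambdaRing.PosStructure K} {φ : SGA6.Kvb X →+ K}

/-- `ch_k(C^∨) = (-1)^k ch_k(C)`. -/
theorem main (hK : KRR.IsModel X K P φ) {E : X.Modules} {n : ℕ} (hE : FlatMod.IsFinLocFreeOfRank n E) (k : ℕ) :
    Lambda.chC P (φ (KRR.cl X (H23.Chern.dual E))) k =
      algebraMap ℚ (KGr.Gr P) ((-1) ^ k) * Lambda.chC P (φ (KRR.cl X E)) k := by
  obtain ⟨X', hN, hC, π, K', _, _, P', φ', hK', g, hg, hinj, -, Ls, hLs, hsplit⟩ := PBSplit.split' hK hE
  obtain ⟨D', hD'⟩ := exists_dualHom X'
  let R := KvbPull.ringHom hK' hK hg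
  have hext : LambdaRing.IsExtension P P' R := ⟨KvbPull.map_lam hK' hK hg, hinj, LineTwist.aug_pull hK' hK hg,
    fun x hx => by
      obtain ⟨d, F, hd, hF, rfl⟩ := (hK.mem_pos_iff x).1 hx
      exact (hK'.mem_pos_iff _).2 ⟨d, _, hd, LineTwist.rank_pull π hF, (hg F (KvbModel.lf_of_rank hF)).symm⟩⟩
  have hinv : ∀ a, PicF.IsInvertible (Ls a) := fun a => PBCores.isInvertible_iff_rank.2 (hLs a)
  have hdl : ∀ a, FlatMod.IsFinLocFreeOfRank 1 (H23.Chern.dual (Ls a)) := fun a =>
    H23.Chern.Filt.exists_dual.rank_dual_line (hinv a)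
  refine chC_dual (L := ⟨K', P'⟩) (f := R) hext (v := fun a => φ' (KRR.cl X' (Ls a)))
    (v' := fun a => φ' (KRR.cl X' (H23.Chern.dual (Ls a))))
    (fun a => LineTwist.isLine_cl hK' (hinv a))
    (fun a => LineTwist.isLine_cl hK' (PBCores.isInvertible_iff_rank.2 (hdl a))) (fun a => ?_) hsplit.symm ?_ k
  · obtain ⟨e⟩ := H23.Chern.exists_dual_inverse (hinv a)
    rw [mul_comm]
    refine ((hK'.map_mul _ _ (KvbModel.lf_of_rank (hLs a)) (KvbModel.lf_of_rank (hdl a))).trans ?_)
    refine Eq.trans ?_ hK'.map_one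
    exact congrArg φ' (GenPush.cl_iso e (KvbLam.lf_tens (KvbModel.lf_of_rank (hLs a)) (KvbModel.lf_of_rank (hdl a)))
      KvbLam.lf_O)
  · haveI := H23.Chern.isIso_pullDual hE π
    show (∑ a, φ' (KRR.cl X' (H23.Chern.dual (Ls a)))) = g (φ (KRR.cl X (H23.Chern.dual E)))
    rw [hg _ (lf_dual (KvbModel.lf_of_rank hE))]
    have hiso : KRR.cl X' ((Scheme.Modules.pullback π).obj (H23.Chern.dual E)) =
        KRR.cl X' (H23.Chern.dual ((Scheme.Modules.pullback π).obj E)) :=
      GenPush.cl_iso (asIso (H23.Chern.pullDual E π))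
        (KvbPull.lf_pull π (lf_dual (KvbModel.lf_of_rank hE)))
        (lf_dual (KvbPull.lf_pull π (KvbModel.lf_of_rank hE)))
    rw [hiso, ← hD' _ (KvbPull.lf_pull π (KvbModel.lf_of_rank hE))]
    have hsum : KRR.cl X' ((Scheme.Modules.pullback π).obj E) = ∑ a, KRR.cl X' (Ls a) := by
      apply hK'.bijective.1
      rw [map_sum φ', ← hg E (KvbModel.lf_of_rank hE), hsplit]
    rw [hsum, map_sum D', map_sum φ']
    exact sum_congr rfl fun a _ => congrArg φ' (hD' _ (KvbModel.lf_of_rank (hLs a))).symm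

end Geometry

end Groth.Agent.H28.DualCh

end
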