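import Groth.Agent.H23.Chern.DualStalk
import Groth.Agent.H23.Chern.TopPull
import Groth.Agent.QCoh.LocFree
import Groth.Agent.RefX.Reflexive
import Groth.Agent.ZClosLib.CohDescent
import Mathlib.Algebra.Module.FinitePresentation
import Mathlib.AlgebraicGeometry.Morphisms.Flat

/-!
# Duals of coherent modules commute with flat pull-back
-/

set_option autoImplicit false
set_option linter.style.haveILetI false
set_option linter.unusedSectionVars false
set_option backward.isDefEq.respectTransparency false
set_option backward.isDefEq.respectTransparency.types false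
set_option maxHeartbeats 1000000

universe u

open CategoryTheory CategoryTheory.Limits AlgebraicGeometry TopologicalSpace Opposite
open scoped TensorProduct

noncomputable section

namespace Groth.Agent.H28.DualFlatPull

open Groth.Agent Groth.Agent.H23 Groth.Agent.H23.Chern Groth.Agent.SheafHomX C1Pull

variable {X P : Scheme.{u}} [IsLocallyNoetherian X] [IsLocallyNoetherian P] (π : P ⟶ X) [Flat π]

/-- The dual commutes with flat inverse image. -/
theorem isIso_pullDual {E : X.Modules} (hE : Coh.IsCoh E) : IsIso (Chern.pullDual E π) := by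
  refine KFlatLib.isIso_of_stalk _ fun y => ?_
  rw [ConcreteCategory.isIso_iff_bijective]
  have hE' : Coh.IsCoh ((Scheme.Modules.pullback π).obj E) := ZClosLib.isCoh_pullback π hE
  have hfp : CohB1.IsFP E := QCoh.isCoh_iff_isFP.1 hE
  have hfp' : CohB1.IsFP ((Scheme.Modules.pullback π).obj E) := QCoh.isCoh_iff_isFP.1 hE'
  haveI : Module.Finite (X.presheaf.stalk (π y)) (E.presheaf.stalk (π y)) :=
    QCoh.finite_stalk_of_isFT hE.1 hE.2 (π y)
  haveI : Module.FinitePresentation (X.presheaf.stalk (π y)) (E.presheaf.stalk (π y)) :=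
    Module.finitePresentation_of_finite _ _
  have hflat : (π.stalkMap y).hom.Flat := AlgebraicGeometry.Flat.stalkMap π y
  algebraize [(π.stalkMap y).hom]
  let R := X.presheaf.stalk (π y)
  let S := P.presheaf.stalk y
  let M := E.presheaf.stalk (π y)
  let N := (Coh.structureModule X).presheaf.stalk (π y)
  let eD : ((Scheme.Modules.pullback π).obj (Chern.dual E)).presheaf.stalk y ≃ₗ[S]
      S ⊗[R] (Chern.dual E).presheaf.stalk (π y) := ((KFlatLib.stalkPullbackIso π y).app (Chern.dual E)).toLinearEquiv
  let eE : ((Scheme.Modules.pullback π).obj E).presheaf.stalk y ≃ₗ[S] S ⊗[R] M := ((KFlatLib.stalkPullbackIso π y).app E).toLinearEquiv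
  let eO : ((Scheme.Modules.pullback π).obj (Coh.structureModule X)).presheaf.stalk y ≃ₗ[S] S ⊗[R] N := ((KFlatLib.stalkPullbackIso π y).app (Coh.structureModule X)).toLinearEquiv
  let α : (Chern.dual E).presheaf.stalk (π y) ≃ₗ[R] (M →ₗ[R] N) :=
    LinearEquiv.ofBijective (pairAt E (π y)) ⟨pairAt_injective E hfp _, pairAt_surjective E hfp _⟩
  let β := LinearEquiv.ofBijective (pairAt ((Scheme.Modules.pullback π).obj E) y)
    ⟨pairAt_injective _ hfp' _, pairAt_surjective _ hfp' _⟩
  let u := ((DerSch.stalkFunctor P y).mapIso (pullUnit π)).toLinearEquiv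
  have hbc := Module.FinitePresentation.isBaseChange_map R M N S
  let Θ : (S ⊗[R] (Chern.dual E).presheaf.stalk (π y)) ≃ₗ[S]
      (((Scheme.Modules.pullback π).obj E).presheaf.stalk y →ₗ[S] (Coh.structureModule P).presheaf.stalk y) :=
    (LinearEquiv.baseChange R S _ _ α) ≪≫ₗ hbc.equiv ≪≫ₗ LinearEquiv.arrowCongr eE.symm (eO.symm ≪≫ₗ u)
  let Ψ : (S ⊗[R] (Chern.dual E).presheaf.stalk (π y)) →ₗ[S]
      (((Scheme.Modules.pullback π).obj E).presheaf.stalk y →ₗ[S] (Coh.structureModule P).presheaf.stalk y) :=
    β.toLinearMap ∘ₗ Algz.stalkMapₗ (Chern.pullDual E π) y ∘ₗ eD.symm.toLinearMap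
  have h : Ψ = Θ.toLinearMap := by
    have hgen : ∀ d, Ψ (1 ⊗ₜ d) = Θ (1 ⊗ₜ d) := fun d => by
     refine LinearMap.ext fun v => ?_
     obtain ⟨t, rfl⟩ := eE.symm.surjective v
     induction t using TensorProduct.induction_on with
     | zero => simp
     | add a b ha hb => rw [map_add, map_add, map_add, ha, hb]
     | tmul s m =>
       rw [show eE.symm (s ⊗ₜ m) = s • eE.symm (1 ⊗ₜ m) by rw [← map_smul, TensorProduct.smul_tmul', smul_eq_mul, mul_one],
         map_smul, map_smul]
       congr 1
       refine (pairAt_pullDual E π y d m).trans ?_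
       show u (eO.symm (1 ⊗ₜ pairAt E (π y) d m)) =
         (LinearEquiv.arrowCongr eE.symm (eO.symm ≪≫ₗ u)) (hbc.equiv ((LinearEquiv.baseChange R S _ _ α) (1 ⊗ₜ d)))
           (eE.symm (1 ⊗ₜ m))
       rw [LinearEquiv.arrowCongr_apply, LinearEquiv.symm_symm, LinearEquiv.apply_symm_apply,
         LinearEquiv.baseChange_tmul, IsBaseChange.equiv_tmul, one_smul]
       rfl
    refine LinearMap.ext fun z => ?_
    induction z using TensorProduct.induction_on with
    | zero => simp
    | add a b ha hb => rw [map_add, map_add, ha, hb]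
    | tmul c d =>
      rw [show c ⊗ₜ[R] d = c • ((1 : S) ⊗ₜ[R] d) by rw [TensorProduct.smul_tmul', smul_eq_mul, mul_one],
        map_smul, map_smul]
      exact congrArg (c • ·) (hgen d)
  show Function.Bijective (Algz.stalkMapₗ (Chern.pullDual E π) y)
  have h2 : Function.Bijective (β ∘ Algz.stalkMapₗ (Chern.pullDual E π) y ∘ eD.symm) := by
    show Function.Bijective Ψ
    rw [h]
    exact Θ.bijective
  exact (Function.Bijective.of_comp_iff _ eD.symm.bijective).1
    ((Function.Bijective.of_comp_iff' β.bijective _).1 h2)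

/-- The concrete dual is the dual. -/
theorem isIso_toHull {E : X.Modules} (hE : Coh.IsCoh E) : IsIso (toHull E) := by
  refine KFlatLib.isIso_of_stalk _ fun x => ?_
  rw [ConcreteCategory.isIso_iff_bijective]
  have hfp : CohB1.IsFP E := QCoh.isCoh_iff_isFP.1 hE
  have h2 : Function.Bijective (RefHull.evalStalk E (Coh.structureModule X) x ∘ Algz.stalkMapₗ (toHull E) x) := by
    have e : (RefHull.evalStalk E (Coh.structureModule X) x ∘ Algz.stalkMapₗ (toHull E) x : _ → _) = pairAt E x :=
      funext (evalStalk_toHull E x)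
    rw [e]
    exact ⟨pairAt_injective E hfp x, pairAt_surjective E hfp x⟩
  exact (Function.Bijective.of_comp_iff' (RefX.evalStalk_bijective hfp x) _).1 h2

/-- Pull-back of the concrete dual along a flat morphism. -/
theorem nonempty_pullback_dual {E : X.Modules} (hE : Coh.IsCoh E) :
    Nonempty ((Scheme.Modules.pullback π).obj (RefHull.dual E) ≅ RefHull.dual ((Scheme.Modules.pullback π).obj E)) := by
  haveI := isIso_toHull hE
  haveI := isIso_toHull (X := P) (ZClosLib.isCoh_pullback π hE)
  haveI := isIso_pullDual π hE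
  exact ⟨(Scheme.Modules.pullback π).mapIso (asIso (toHull E)).symm ≪≫ asIso (Chern.pullDual E π) ≪≫
    asIso (toHull ((Scheme.Modules.pullback π).obj E))⟩

/-- The dual is functorial in isomorphisms. -/
theorem nonempty_dual_congr {A B : X.Modules} (hA : Coh.IsCoh A) (e : A ≅ B) :
    Nonempty (RefHull.dual A ≅ RefHull.dual B) := by
  haveI := isIso_toHull hA
  haveI := isIso_toHull (RefX.isCoh_of_iso e hA)
  let H := adj A
  let e' : DCoh.tensorBi.flip.obj B ≅ DCoh.tensorBi.flip.obj A := DCoh.tensorBi.flip.mapIso e.symm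
  exact ⟨(asIso (toHull A)).symm ≪≫
    (((adj A).ofNatIsoLeft e'.symm).rightAdjointUniq (adj B)).app (Coh.structureModule X) ≪≫ asIso (toHull B)⟩

/-- Pull-back of the reflexive hull along a flat morphism. -/
theorem nonempty_pullback_ddual {E : X.Modules} (hE : Coh.IsCoh E) :
    Nonempty ((Scheme.Modules.pullback π).obj (RefHull.ddual E) ≅ RefHull.ddual ((Scheme.Modules.pullback π).obj E)) := by
  obtain ⟨a⟩ := nonempty_pullback_dual π (RefX.isCoh_dual hE)
  obtain ⟨b⟩ := nonempty_pullback_dual π hE
  obtain ⟨c⟩ := nonempty_dual_congr (X := P) (ZClosLib.isCoh_pullback π (RefX.isCoh_dual hE)) b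
  exact ⟨a ≪≫ c⟩

end Groth.Agent.H28.DualFlatPull

end
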