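import Groth.Agent.H28.PBSpecialAlg
import Groth.Agent.H28.PBMake
import Groth.Agent.H28.PBFreeK
import Groth.Agent.H28.PullVB
import Groth.Agent.H28.PnFlat
import Groth.Agent.H28.LineTwist

/-!
# `K` of a compact scheme is special
-/

set_option autoImplicit false
set_option linter.style.haveILetI false
set_option linter.unusedSectionVars false
set_option backward.isDefEq.respectTransparency false
set_option backward.isDefEq.respectTransparency.types false

universe v w u

open CategoryTheory CategoryTheory.Limits AlgebraicGeometry TopologicalSpace Opposite ZeroObject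

noncomputable section

namespace Groth.Agent.H28.PBSpecial

open Groth.Agent Groth.Agent.H28.KvbLam
open Groth.Agent.H28.KvbModel (FrameAt)

variable {X Y : Scheme.{u}}

/-- A model without positive structure. -/
structure Mdl (X : Scheme.{u}) (K : Type v) [CommRing K] [LambdaRing.LambdaOps K] (φ : SGA6.Kvb X →+ K) : Prop where
  bijective : Function.Bijective φ
  map_one : φ (cl (Coh.structureModule X)) = 1
  map_mul : ∀ E F : X.Modules, FlatMod.IsFinLocFree E → FlatMod.IsFinLocFree F →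
    φ (cl E) * φ (cl F) = φ (cl (tens E F))
  map_lam : ∀ (i : ℕ) (E L : X.Modules), FlatMod.IsFinLocFree E → FlatMod.IsFinLocFree L →
    ExtPow.IsExtPow i E L → LambdaRing.LambdaOps.lam i (φ (cl E)) = φ (cl L)

theorem exists_mdl (X : Scheme.{u}) :
    ∃ (K : Type (u + 1)) (_ : CommRing K) (_ : LambdaRing.LambdaOps K) (φ : SGA6.Kvb X →+ K), Mdl X K φ := by
  obtain ⟨mul, lam, hcomm, hassoc, hone, hmul, hlam, hl0, hl1, hadd⟩ := KvbLam.exists_lambdaStructure X
  let R : CommRing (SGA6.Kvb X) :=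
    { (inferInstance : AddCommGroup (SGA6.Kvb X)) with
      mul := fun x y => mul x y
      one := cl (Coh.structureModule X)
      left_distrib := fun x y z => (mul x).map_add y z
      right_distrib := fun x y z => DFunLike.congr_fun (mul.map_add x y) z
      zero_mul := fun x => DFunLike.congr_fun mul.map_zero x
      mul_zero := fun x => (mul x).map_zero
      mul_assoc := hassoc
      one_mul := hone
      mul_one := fun x => (hcomm x _).trans (hone x)
      mul_comm := hcomm }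
  letI := R
  let Λ : LambdaRing.LambdaOps (SGA6.Kvb X) := { lam := lam, lam_zero := hl0, lam_one := hl1, lam_add := hadd }
  exact ⟨SGA6.Kvb X, R, Λ, AddMonoidHom.id _, Function.bijective_id, rfl, hmul, fun i E L hE _ hL => hlam i E L hE hL⟩

section Pull

variable {f : X ⟶ Y}
variable {KX : Type v} [CommRing KX] [LambdaRing.LambdaOps KX] {φX : SGA6.Kvb X →+ KX} (hX : Mdl X KX φX)
  {KY : Type w} [CommRing KY] [LambdaRing.LambdaOps KY] {φY : SGA6.Kvb Y →+ KY} (hY : Mdl Y KY φY)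
  {g : KY →+ KX} (hg : KRR.IsPull f φY φX g)

include hY in
theorem exists_cl (x : KY) : ∃ A B : Y.Modules, FlatMod.IsFinLocFree A ∧ FlatMod.IsFinLocFree B ∧
    x = φY (cl A) - φY (cl B) := by
  obtain ⟨y, rfl⟩ := hY.bijective.2 x
  obtain ⟨A, B, hA, hB, rfl⟩ := KvbModel.exists_sub y
  exact ⟨A, B, hA, hB, map_sub φY _ _⟩

include hX hY hg in
theorem map_one : g 1 = 1 := by
  rw [← hY.map_one, hg _ lf_O, ← hX.map_one]
  exact congrArg φX (cl_iso (KvbPull.unitIso f) (KvbPull.lf_pull f lf_O))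

include hX hY hg in
theorem map_mul (x y : KY) : g (x * y) = g x * g y := by
  have h : ∀ E F, FlatMod.IsFinLocFree E → FlatMod.IsFinLocFree F →
      g (φY (cl E) * φY (cl F)) = g (φY (cl E)) * g (φY (cl F)) := fun E F hE hF => by
    rw [hY.map_mul E F hE hF, hg _ (lf_tens hE hF), hg E hE, hg F hF,
      hX.map_mul _ _ (KvbPull.lf_pull f hE) (KvbPull.lf_pull f hF)]
    exact congrArg φX (cl_iso (KvbPull.tensIso f E F) (KvbPull.lf_pull f (lf_tens hE hF)))
  obtain ⟨A, B, hA, hB, rfl⟩ := exists_cl hY x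
  obtain ⟨C, D, hC, hD, rfl⟩ := exists_cl hY y
  simp only [sub_mul, mul_sub, map_sub, h A C hA hC, h A D hA hD, h B C hB hC, h B D hB hD]

/-- Pull-back as a ring homomorphism. -/
def ringHom : KY →+* KX where
  toFun := g
  map_one' := map_one hX hY hg
  map_mul' := map_mul hX hY hg
  map_zero' := g.map_zero
  map_add' := g.map_add

include hX hY hg in
theorem map_lam_cl {E : Y.Modules} (hE : FlatMod.IsFinLocFree E) (i : ℕ) :
    g (LambdaRing.LambdaOps.lam i (φY (cl E))) = LambdaRing.LambdaOps.lam i (g (φY (cl E))) := by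
  rw [hY.map_lam i E _ hE (ExtSh.isFinLocFree_L i hE) (ExtSh.isExtPow_L i hE), hg _ (ExtSh.isFinLocFree_L i hE),
    hg E hE, hX.map_lam i _ _ (KvbPull.lf_pull f hE) (ExtSh.isFinLocFree_L i (KvbPull.lf_pull f hE))
      (ExtSh.isExtPow_L i (KvbPull.lf_pull f hE))]
  exact congrArg φX (KvbPull.cl_pull_extPow f hE (ExtSh.isExtPow_L i hE))

include hX hY hg in
theorem map_lam (i : ℕ) (x : KY) : g (LambdaRing.LambdaOps.lam i x) = LambdaRing.LambdaOps.lam i (g x) := by
  obtain ⟨A, B, hA, hB, hx⟩ := exists_cl hY x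
  have hAB : φY (cl A) = x + φY (cl B) := by rw [hx, sub_add_cancel]
  induction i using Nat.strong_induction_on with
  | _ i ih =>
    have h1 := LambdaRing.LambdaOps.lam_add i x (φY (cl B))
    have h2 := LambdaRing.LambdaOps.lam_add i (g x) (g (φY (cl B)))
    rw [← hAB] at h1
    rw [← map_add, ← hAB] at h2
    rw [Finset.sum_range_succ, Nat.sub_self, LambdaRing.LambdaOps.lam_zero, mul_one] at h1 h2
    have h3 := congrArg g h1
    rw [map_add, map_lam_cl hX hY hg hA, map_sum, h2] at h3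
    have h4 : ∑ k ∈ Finset.range i, g (LambdaRing.LambdaOps.lam k x * LambdaRing.LambdaOps.lam (i - k) (φY (cl B))) =
        ∑ k ∈ Finset.range i, LambdaRing.LambdaOps.lam k (g x) * LambdaRing.LambdaOps.lam (i - k) (g (φY (cl B))) :=
      Finset.sum_congr rfl fun k hk => by
        rw [map_mul hX hY hg, ih k (Finset.mem_range.1 hk), map_lam_cl hX hY hg hB]
    rw [h4] at h3
    exact (add_left_cancel h3).symm

end Pull

section Small

theorem frameAt_pull (f : X ⟶ Y) {E : Y.Modules} {r : ℕ} {x : X} (h : FrameAt E r (f x)) :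
    FrameAt ((Scheme.Modules.pullback f).obj E) r x := by
  obtain ⟨U, s, hxU, hs⟩ := h
  obtain ⟨e⟩ := H23.Frame.exists_iso_of_frame s hs
  obtain ⟨t, -, ht⟩ := PinchPO7.exists_frame_pull e
  exact ⟨f ⁻¹ᵁ U, _, hxU, ht f⟩

theorem exists_basis {E : X.Modules} (hEf : FlatMod.IsFinLocFree E) {r : ℕ} {x : X} (h : FrameAt E r x) :
    Nonempty (Module.Basis (Fin r) (X.presheaf.stalk x) (E.presheaf.stalk x)) := by
  have hq := QCoh.isQCoh_of_isFinLocFree hEf
  haveI := QCoh.free_stalk_of_isFinLocFree hEf x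
  haveI := QCoh.finite_stalk_of_isFT hq (QCoh.isFT_of_isFP (QCoh.isFP_of_isFinLocFree hEf)) x
  obtain ⟨U, s, hxU, hs⟩ := h
  obtain ⟨e⟩ := H23.Frame.exists_iso_of_frame s hs
  obtain ⟨_, ⟨V, hV, rfl⟩, hxV, hle⟩ := X.isBasis_affineOpens.exists_subset_of_mem_open hxU U.2
  obtain ⟨l⟩ := QCoh.free_sections hV hle e
  exact ⟨Module.finBasisOfFinrankEq _ _ (QCoh.finrank_stalk_of_freeChart hV hq l hxV)⟩

/-- Rank at most one everywhere. -/
def Small (E : X.Modules) : Prop := FlatMod.IsFinLocFree E ∧ ∀ x, ∃ r ≤ 1, FrameAt E r x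

theorem small_O : Small (Coh.structureModule X) := ⟨lf_O, fun x => ⟨1, le_rfl, KvbModel.frameAt_O x⟩⟩

theorem small_tens {E F : X.Modules} (hE : Small E) (hF : Small F) : Small (tens E F) := by
  have hl := lf_tens hE.1 hF.1
  refine ⟨hl, fun x => ?_⟩
  obtain ⟨n, hn, hnE⟩ := hE.2 x
  obtain ⟨m, hm, hmF⟩ := hF.2 x
  obtain ⟨k, hk⟩ := KvbModel.exists_frameAt hl x
  obtain ⟨b⟩ := exists_basis hE.1 hnE
  obtain ⟨b'⟩ := exists_basis hF.1 hmF
  obtain ⟨b''⟩ := exists_basis hl hk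
  let φ := (KFlatLib.stalkTensorIso x E F).symm.toLinearEquiv
  have h : k = n * m := by
    simpa using Fintype.card_congr (b''.indexEquiv ((b.tensorProduct b').map φ.symm))
  exact ⟨k, h ▸ (Nat.mul_le_mul hn hm), hk⟩

theorem small_pull (f : X ⟶ Y) {E : Y.Modules} (hE : Small E) : Small ((Scheme.Modules.pullback f).obj E) :=
  ⟨KvbPull.lf_pull f hE.1, fun x => let ⟨r, hr, h⟩ := hE.2 (f x); ⟨r, hr, frameAt_pull f h⟩⟩

theorem isZero_L {E : X.Modules} (hE : Small E) {i : ℕ} (hi : 2 ≤ i) : IsZero (ExtBase.L E i) := by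
  refine (IsZero.iff_id_eq_zero _).2 ?_
  refine Scheme.Modules.hom_ext _ _ fun V => AddCommGrpCat.hom_ext (AddMonoidHom.ext fun t => ?_)
  refine AModX.eq_of_locally _ _ fun y hy => ?_
  obtain ⟨r, hr, U, s, hyU, hs⟩ := hE.2 y
  refine ⟨V ⊓ U, inf_le_left, ⟨hy, hyU⟩, ?_⟩
  haveI : IsEmpty (Set.powersetCard (Fin r) i) := ⟨fun S => by
    have h1 := Set.powersetCard.card_eq S
    have h2 := Finset.card_le_univ (S : Finset (Fin r))
    rw [Fintype.card_fin] at h2
    omega⟩
  haveI : Subsingleton Γ(ExtBase.L E i, V ⊓ U) :=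
    ((ExtSh.bijective_eta hs (inf_le_right : V ⊓ U ≤ U)).comp
      (ExtSh.bijective_wComb (m := i) hs (inf_le_right : V ⊓ U ≤ U))).2.subsingleton
  exact Subsingleton.elim _ _

variable {K : Type v} [CommRing K] [LambdaRing.LambdaOps K] {φ : SGA6.Kvb X →+ K} (hK : Mdl X K φ)

/-- The monoid of the small classes. -/
def M : Submonoid K where
  carrier := {z | ∃ E : X.Modules, Small E ∧ φ (cl E) = z}
  one_mem' := ⟨_, small_O, hK.map_one⟩
  mul_mem' := by
    rintro _ _ ⟨E, hE, rfl⟩ ⟨F, hF, rfl⟩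
    exact ⟨_, small_tens hE hF, (hK.map_mul E F hE.1 hF.1).symm⟩

include hK in
theorem lam_M {v : K} (hv : v ∈ M hK) (i : ℕ) (hi : 2 ≤ i) : LambdaRing.LambdaOps.lam i v = 0 := by
  obtain ⟨E, hE, rfl⟩ := hv
  rw [hK.map_lam i E _ hE.1 (ExtSh.isFinLocFree_L i hE.1) (ExtSh.isExtPow_L i hE.1)]
  exact (congrArg φ (KZ.clSub_isZero _ (isZero_L hE hi))).trans (map_zero φ)

/-- The sums of small classes. -/
abbrev Span : AddSubgroup K := AddSubgroup.closure (M hK : Set K)

end Small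

section Pad

/-- A clopen piece of the structure sheaf. -/
abbrev CU (U : X.Opens) : X.Modules := (Scheme.Modules.pushforward U.ι).obj (Coh.structureModule (U : Scheme.{u}))

theorem frameAt_CU_mem {U : X.Opens} {x : X} (hx : x ∈ U) : FrameAt (CU U) 1 x := by
  refine ⟨U, fun _ => (show Γ(CU U, U) from (1 : Γ((U : Scheme.{u}), U.ι ⁻¹ᵁ U))), hx, fun W h => ?_⟩
  have e : H23.Frame.comb (CU U) (fun _ : Fin 1 => (show Γ(CU U, U) from (1 : Γ((U : Scheme.{u}), U.ι ⁻¹ᵁ U)))) W h =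
      (U.ι.app W : Γ(X, W) → Γ((U : Scheme.{u}), U.ι ⁻¹ᵁ W)) ∘ fun c => c 0 := by
    funext c
    rw [H23.Frame.comb, Fin.sum_univ_one]
    refine (congrArg (fun z : Γ(CU U, W) => c 0 • z)
      (_root_.map_one ((U : Scheme.{u}).presheaf.map (homOfLE (U.ι.preimage_mono h)).op).hom)).trans ?_
    exact mul_one (U.ι.app W (c 0))
  rw [e]
  refine Function.Bijective.comp ?_ ⟨fun c c' h => funext fun i => by rw [Fin.eq_zero i]; exact h,
    fun a => ⟨fun _ => a, rfl⟩⟩
  have : IsIso (U.ι.app W) := Scheme.Hom.isIso_app U.ι W (by rw [Scheme.Opens.opensRange_ι]; exact h)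
  exact ConcreteCategory.bijective_of_isIso (U.ι.app W)

theorem frameAt_CU_notMem {U : X.Opens} (hU : IsClopen (U : Set X)) {x : X} (hx : x ∉ U) : FrameAt (CU U) 0 x := by
  refine ⟨⟨(U : Set X)ᶜ, hU.compl.isOpen⟩, Fin.elim0, hx, fun W h => ?_⟩
  have he : U.ι ⁻¹ᵁ W = ⊥ := by
    ext z
    simp only [Opens.coe_bot, Set.mem_empty_iff_false, iff_false]
    exact fun hz => h hz z.2
  haveI : Subsingleton Γ(CU U, W) := by
    show Subsingleton Γ((U : Scheme.{u}), U.ι ⁻¹ᵁ W)
    rw [he]; infer_instance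
  exact ⟨fun c c' _ => funext fun i => i.elim0, fun a => ⟨Fin.elim0, Subsingleton.elim _ _⟩⟩

theorem small_CU {U : X.Opens} (hU : IsClopen (U : Set X)) : Small (CU U) := by
  refine ⟨fun x => ?_, fun x => ?_⟩
  · by_cases hx : x ∈ U
    · obtain ⟨V, s, hxV, hs⟩ := frameAt_CU_mem hx
      exact ⟨V, 1, hxV, H23.Frame.exists_iso_of_frame s hs⟩
    · obtain ⟨V, s, hxV, hs⟩ := frameAt_CU_notMem hU hx
      exact ⟨V, 0, hxV, H23.Frame.exists_iso_of_frame s hs⟩
  · by_cases hx : x ∈ U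
    · exact ⟨1, le_rfl, frameAt_CU_mem hx⟩
    · exact ⟨0, zero_le_one, frameAt_CU_notMem hU hx⟩

theorem biprod_frame {A B : X.Modules} (hA : FlatMod.IsFinLocFree A) (hB : FlatMod.IsFinLocFree B) :
    FlatMod.IsFinLocFree (A ⊞ B) ∧ cl (A ⊞ B) = cl A + cl B ∧
      ∀ {a b : ℕ} {x : X}, FrameAt A a x → FrameAt B b x → FrameAt (A ⊞ B) (a + b) x := by
  have hse : (ShortComplex.mk (biprod.inl : A ⟶ A ⊞ B) biprod.snd biprod.inl_snd).ShortExact :=
    (ShortComplex.Splitting.ofHasBinaryBiproduct A B).shortExact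
  exact ⟨KFlatLib.isFinLocFree_biprod hA hB,
    KZ.clSub_ses (P := fun M : X.Modules => FlatMod.IsFinLocFree M) hse hA (KFlatLib.isFinLocFree_biprod hA hB) hB,
    fun ha hb => KvbModel.frameAt_ses hse ha hb⟩

variable [CompactSpace X] {K : Type v} [CommRing K] [LambdaRing.LambdaOps K] {φ : SGA6.Kvb X →+ K} (hK : Mdl X K φ)

include hK in
/-- Every bundle is a bundle of constant rank up to small classes. -/
theorem exists_pad {E : X.Modules} (hE : FlatMod.IsFinLocFree E) :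
    ∃ (N : ℕ) (E' : X.Modules), FlatMod.IsFinLocFreeOfRank N E' ∧ φ (cl E) - φ (cl E') ∈ Span hK := by
  classical
  let f : X → ℕ := fun x => (KvbModel.exists_frameAt hE x).choose
  have hf : ∀ x, FrameAt E (f x) x := fun x => (KvbModel.exists_frameAt hE x).choose_spec
  have hloc : IsLocallyConstant f := (IsLocallyConstant.iff_exists_open f).2 fun x => by
    obtain ⟨U, s, hx, hs⟩ := hf x
    exact ⟨U, U.2, hx, fun y hy => KvbModel.frameAt_unique (hf y) ⟨U, s, hy, hs⟩⟩
  obtain ⟨N, hN⟩ := hloc.range_finite.bddAbove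
  have hN' : ∀ x, f x ≤ N := fun x => hN ⟨x, rfl⟩
  have key : ∀ k ≤ N, ∃ G : X.Modules, FlatMod.IsFinLocFree G ∧ φ (cl G) ∈ Span hK ∧
      ∀ x, FrameAt G (min k (N - f x)) x := by
    intro k
    induction k with
    | zero =>
      intro _
      refine ⟨0, KFlatLib.isFinLocFree_of_isZero (isZero_zero _), ?_, fun x => ?_⟩
      · rw [show cl (0 : X.Modules) = 0 from KZ.clSub_isZero _ (isZero_zero _), map_zero]
        exact zero_mem _
      · rw [Nat.zero_min]
        refine ⟨⊤, Fin.elim0, trivial, fun W h => ⟨fun c c' _ => funext fun i => i.elim0, fun a => ⟨Fin.elim0, ?_⟩⟩⟩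
        exact @Subsingleton.elim _ (QCoh.subsingleton_Γ_of_isZero (isZero_zero X.Modules) W) _ _
    | succ k ih =>
      intro hk
      obtain ⟨G, hG, hGs, hGf⟩ := ih (by omega)
      let U : X.Opens := ⟨f ⁻¹' {m | m + (k + 1) ≤ N}, hloc _⟩
      have hU : IsClopen (U : Set X) :=
        ⟨isOpen_compl_iff.1 (hloc {m | m + (k + 1) ≤ N}ᶜ), U.2⟩
      obtain ⟨hl, hc, hfr⟩ := biprod_frame hG (small_CU hU).1
      refine ⟨G ⊞ CU U, hl, ?_, fun x => ?_⟩
      · rw [hc, map_add]
        exact add_mem hGs (AddSubgroup.subset_closure ⟨_, small_CU hU, rfl⟩)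
      · by_cases hx : x ∈ U
        · have h' : f x + (k + 1) ≤ N := hx
          convert hfr (hGf x) (frameAt_CU_mem hx) using 1
          omega
        · have h' : ¬ f x + (k + 1) ≤ N := hx
          convert hfr (hGf x) (frameAt_CU_notMem hU hx) using 1
          omega
  obtain ⟨G, hG, hGs, hGf⟩ := key N le_rfl
  obtain ⟨hl, hc, hfr⟩ := biprod_frame hE hG
  refine ⟨N, E ⊞ G, KvbModel.rank_of_frameAt fun x => ?_, ?_⟩
  · convert hfr (hf x) (hGf x) using 1
    have := hN' x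
    omega
  · rw [hc, map_add, sub_add_cancel_left]
    exact neg_mem hGs

end Pad

section Split

theorem isProper [CompactSpace X] {P : Scheme.{u}} {π : P ⟶ X} {n : ℕ} (D : PBPush.Data π n) : IsProper π := by
  refine IsZariskiLocalAtTarget.of_iSup_eq_top (P := @IsProper) (fun y : D.s => (D.a y.1).U.1) ?_ fun y => ?_
  · exact top_le_iff.1 fun x _ => Opens.mem_iSup.2 (let ⟨y, hy, hx⟩ := D.cover x; ⟨⟨y, hy⟩, hx⟩)
  · have h : (D.a y.1).θ ≫ (π ∣_ (D.a y.1).U.1) = KRR.pr n (D.a y.1).B := (D.a y.1).hθ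
    haveI : IsProper (KRR.pr n (D.a y.1).B) := PnFlat.isProper_pr n (D.a y.1).B
    rw [show π ∣_ (D.a y.1).U.1 = inv (D.a y.1).θ ≫ KRR.pr n (D.a y.1).B by rw [← h, IsIso.inv_hom_id_assoc]]
    infer_instance

/-- The goal of splitting. -/
def Good (X : Scheme.{u}) (K : Type (u + 1)) [CommRing K] [LambdaRing.LambdaOps K] (φ : SGA6.Kvb X →+ K)
    (l : List X.Modules) : Prop :=
  ∃ (X' : Scheme.{u}) (_ : CompactSpace X') (f : X' ⟶ X) (K' : Type (u + 1)) (_ : CommRing K')
    (_ : LambdaRing.LambdaOps K') (φ' : SGA6.Kvb X' →+ K') (hK' : Mdl X' K' φ') (g : K →+ K'),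
    KRR.IsPull f φ φ' g ∧ Function.Injective g ∧ ∀ E ∈ l, φ' (cl ((Scheme.Modules.pullback f).obj E)) ∈ Span hK'

theorem isPull_comp {Z : Scheme.{u}} {KX : Type v} [CommRing KX] {KY : Type (u + 1)} [CommRing KY]
    {KZ : Type (u + 1)} [CommRing KZ] {f : Y ⟶ X} {f' : Z ⟶ Y} {φX : SGA6.Kvb X →+ KX} {φY : SGA6.Kvb Y →+ KY}
    {φZ : SGA6.Kvb Z →+ KZ} {g : KX →+ KY} {g' : KY →+ KZ} (hg : KRR.IsPull f φX φY g)
    (hg' : KRR.IsPull f' φY φZ g') : KRR.IsPull (f' ≫ f) φX φZ (g'.comp g) := fun E hE => by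
  rw [AddMonoidHom.comp_apply, hg E hE, hg' _ (KvbPull.lf_pull f hE)]
  exact congrArg φZ (GenPush.cl_iso ((Scheme.Modules.pullbackComp f' f).app E)
    (KvbPull.lf_pull f' (KvbPull.lf_pull f hE)) (KvbPull.lf_pull _ hE))

theorem good_single : ∀ (m : ℕ) (X : Scheme.{u}) [CompactSpace X] (K : Type (u + 1)) [CommRing K]
    [LambdaRing.LambdaOps K] (φ : SGA6.Kvb X →+ K), Mdl X K φ →
    ∀ E : X.Modules, FlatMod.IsFinLocFreeOfRank m E → Good X K φ [E] := by
  intro m
  induction m with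
  | zero =>
    intro X _ K _ _ φ hK E hE
    refine ⟨X, inferInstance, 𝟙 X, K, inferInstance, inferInstance, φ, hK, AddMonoidHom.id K,
      fun F hF => congrArg φ (GenPush.cl_iso ((Scheme.Modules.pullbackId X).app F) (KvbPull.lf_pull _ hF) hF).symm,
      fun a b h => h, fun F hF => ?_⟩
    rw [List.mem_singleton.1 hF, show cl ((Scheme.Modules.pullback (𝟙 X)).obj E) = 0 from
      KZ.clSub_isZero _ ((PBAtlas.isZero_of_frames fun x => KvbModel.frameAt_of_rank hE x).of_iso
        ((Scheme.Modules.pullbackId X).app E)), _root_.map_zero φ]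
    exact zero_mem _
  | succ m ih =>
    intro X _ K _ _ φ hK E hE
    obtain ⟨P, π, O1, q, hPB⟩ := PBMake.exists_of_rank hE
    obtain ⟨Oinv, hO, hOO⟩ := H23.PicInv.exists_inverse (PBCores.isInvertible_iff_rank.2 hPB.invertible)
    obtain ⟨eO⟩ := hOO
    obtain ⟨eO'⟩ := H23.PicMul.comm Oinv O1
    have hinv : ClSub.IsInverseOf Oinv O1 := ⟨eO' ≪≫ eO⟩
    have hli := PBFreeK.lf_inv hPB hinv
    obtain ⟨D, -, -⟩ := PBBasis.exists_data hPB hE Oinv hinv hli
    haveI := isProper D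
    haveI : CompactSpace P := QuasiCompact.compactSpace_of_compactSpace π
    obtain ⟨K₁, _, _, φ₁, hK₁⟩ := exists_mdl P
    obtain ⟨g, hg, -⟩ := PullVB.existsUnique_isPull π φ₁ φ hK.bijective
    have hinj : Function.Injective g := by
      let e₁ := AddEquiv.ofBijective φ₁ hK₁.bijective
      let G : Fin (m + 1) → (SGA6.Kvb X →+ SGA6.Kvb P) := fun i =>
        e₁.symm.toAddMonoidHom.comp ((AddMonoidHom.mulLeft (φ₁ (cl (CohB1.tensorPow Oinv (i : ℕ))))).comp (g.comp φ))
      have hG : ∀ (i : Fin (m + 1)) (N : X.Modules), FlatMod.IsFinLocFree N →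
          G i (KRR.cl X N) = KRR.cl P (CohB1.tensorMod (CohB1.tensorPow Oinv (i : ℕ)) ((Scheme.Modules.pullback π).obj N)) :=
        fun i N hN => by
        show e₁.symm (φ₁ (cl (CohB1.tensorPow Oinv (i : ℕ))) * g (φ (KRR.cl X N))) = _
        rw [AddEquiv.symm_apply_eq, hg N hN, hK₁.map_mul _ _ (LineTwist.lf_invertible
          (InvX.isInvertible_tensorPow hO _)) (KvbPull.lf_pull π hN)]
        rfl
      have hb := PBFreeK.bijective (m + 1) hE hPB Oinv hinv G hG
      refine (injective_iff_map_eq_zero g).2 fun y hy => ?_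
      obtain ⟨y, rfl⟩ := hK.bijective.2 y
      have h := hb.1 (a₁ := Pi.single 0 y) (a₂ := 0) (by
        show ∑ i, G i (Pi.single (M := fun _ => SGA6.Kvb X) 0 y i) = ∑ i, G i ((0 : Fin (m + 1) → SGA6.Kvb X) i)
        simp only [Pi.zero_apply, _root_.map_zero, Finset.sum_const_zero]
        rw [Finset.sum_eq_single (0 : Fin (m + 1))]
        · rw [Pi.single_eq_same]
          show e₁.symm (_ * g (φ y)) = 0
          rw [hy, mul_zero, _root_.map_zero]
        · intro i _ h; rw [Pi.single_eq_of_ne h, _root_.map_zero]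
        · exact fun h => absurd (Finset.mem_univ _) h)
      have h0 := congrFun h 0
      rw [Pi.single_eq_same] at h0
      rw [h0, Pi.zero_apply, _root_.map_zero]
    haveI := hPB.epi
    let S : ShortComplex P.Modules := ShortComplex.mk (kernel.ι q) q (kernel.condition q)
    have hS : S.ShortExact := KZ.kerSeq_shortExact q
    have lπ : FlatMod.IsFinLocFree S.X₂ := KvbPull.lf_pull π (KvbModel.lf_of_rank hE)
    have l1 := KvbModel.lf_of_rank hPB.invertible
    have lK : FlatMod.IsFinLocFree S.X₁ := KFlatLib.isFinLocFree_kernel q lπ l1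
    have hK' : FlatMod.IsFinLocFreeOfRank m S.X₁ := KvbModel.rank_of_frameAt fun x => by
      obtain ⟨s, hs⟩ := KvbModel.exists_frameAt lK x
      have := KvbModel.frameAt_unique (KvbModel.frameAt_of_rank (LineTwist.rank_pull π hE) x)
        (KvbModel.frameAt_ses hS hs (KvbModel.frameAt_of_rank hPB.invertible x))
      obtain rfl : s = m := by omega
      exact hs
    obtain ⟨X', hC, f, K', _, _, φ', hK'', g', hg', hinj', hl⟩ := ih P K₁ φ₁ hK₁ S.X₁ hK'
    refine ⟨X', hC, f ≫ π, K', inferInstance, inferInstance, φ', hK'', g'.comp g, isPull_comp hg hg',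
      hinj'.comp hinj, fun F hF => ?_⟩
    rw [List.mem_singleton.1 hF, ← isPull_comp hg hg' E (KvbModel.lf_of_rank hE), AddMonoidHom.comp_apply,
      hg E (KvbModel.lf_of_rank hE), show KRR.cl P ((Scheme.Modules.pullback π).obj E) = cl S.X₁ + cl O1 from
        KZ.clSub_ses (P := fun M : P.Modules => FlatMod.IsFinLocFree M) hS lK lπ l1, map_add φ₁, map_add g',
      hg' _ lK, hg' _ l1]
    refine add_mem (hl _ (List.mem_singleton_self _)) (AddSubgroup.subset_closure ⟨_, ?_, rfl⟩)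
    exact small_pull f ⟨l1, fun x => ⟨1, le_rfl, KvbModel.frameAt_of_rank hPB.invertible x⟩⟩

theorem span_pull {X' : Scheme.{u}} {f : X' ⟶ X} {KX : Type v} [CommRing KX] [LambdaRing.LambdaOps KX]
    {φX : SGA6.Kvb X →+ KX} (hX : Mdl X KX φX) {K' : Type w} [CommRing K'] [LambdaRing.LambdaOps K']
    {φ' : SGA6.Kvb X' →+ K'} (hK' : Mdl X' K' φ') {g : KX →+ K'} (hg : KRR.IsPull f φX φ' g) {z : KX}
    (hz : z ∈ Span hX) : g z ∈ Span hK' := by
  induction hz using AddSubgroup.closure_induction with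
  | mem v hv =>
    obtain ⟨E, hE, rfl⟩ := hv
    rw [hg E hE.1]
    exact AddSubgroup.subset_closure ⟨_, small_pull f hE, rfl⟩
  | zero => rw [_root_.map_zero]; exact zero_mem _
  | add a b _ _ ha hb => rw [map_add]; exact add_mem ha hb
  | neg a _ ha => rw [map_neg]; exact neg_mem ha

theorem good_list : ∀ (n : ℕ) (X : Scheme.{u}) [CompactSpace X] (K : Type (u + 1)) [CommRing K]
    [LambdaRing.LambdaOps K] (φ : SGA6.Kvb X →+ K), Mdl X K φ →
    ∀ l : List X.Modules, l.length = n → (∀ E ∈ l, FlatMod.IsFinLocFree E) → Good X K φ l := by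
  intro n
  induction n with
  | zero =>
    intro X _ K _ _ φ hK l hl _
    rw [List.length_eq_zero_iff.1 hl]
    exact ⟨X, inferInstance, 𝟙 X, K, inferInstance, inferInstance, φ, hK, AddMonoidHom.id K,
      fun F hF => congrArg φ (GenPush.cl_iso ((Scheme.Modules.pullbackId X).app F) (KvbPull.lf_pull _ hF) hF).symm,
      fun a b h => h, fun F hF => absurd hF List.not_mem_nil⟩
  | succ n ih =>
    intro X _ K _ _ φ hK l hl hlf
    obtain ⟨E, l', rfl⟩ := List.exists_cons_of_length_eq_add_one hl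
    have hEl := hlf E List.mem_cons_self
    obtain ⟨N, E', hE', hd⟩ := exists_pad hK hEl
    obtain ⟨X₁, hC₁, f₁, K₁, _, _, φ₁, hK₁, g₁, hg₁, hinj₁, h₁⟩ := good_single N X K φ hK E' hE'
    obtain ⟨X₂, hC₂, f₂, K₂, _, _, φ₂, hK₂, g₂, hg₂, hinj₂, h₂⟩ :=
      ih X₁ K₁ φ₁ hK₁ (l'.map fun F => (Scheme.Modules.pullback f₁).obj F) (by simpa using hl) (by
        intro F hF
        obtain ⟨F', hF', rfl⟩ := List.mem_map.1 hF
        exact KvbPull.lf_pull f₁ (hlf F' (List.mem_cons_of_mem _ hF')))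
    refine ⟨X₂, hC₂, f₂ ≫ f₁, K₂, inferInstance, inferInstance, φ₂, hK₂, g₂.comp g₁, isPull_comp hg₁ hg₂,
      hinj₂.comp hinj₁, fun F hF => ?_⟩
    rw [← isPull_comp hg₁ hg₂ F (hlf F hF), AddMonoidHom.comp_apply]
    rcases List.mem_cons.1 hF with rfl | hF'
    · refine span_pull hK₁ hK₂ hg₂ ?_
      rw [← sub_add_cancel (φ (cl F)) (φ (cl E')), map_add g₁]
      refine add_mem (span_pull hK hK₁ hg₁ hd) ?_
      rw [hg₁ E' (KvbModel.lf_of_rank hE')]
      exact h₁ E' (List.mem_singleton_self _)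
    · rw [hg₁ F (hlf F hF), hg₂ _ (KvbPull.lf_pull f₁ (hlf F hF))]
      exact h₂ _ (List.mem_map.2 ⟨F, hF', rfl⟩)

/-- `K` of a compact scheme is special. -/
theorem isSpecial [CompactSpace X] {K : Type v} [CommRing K] [LambdaRing.LambdaOps K] {φ : SGA6.Kvb X →+ K}
    (hK : Mdl X K φ) : LambdaRing.IsSpecial K := by
  refine PBSpecialAlg.isSpecial_of_split.{v, u + 1} (fun n hn => lam_M hK (M hK).one_mem n hn) fun x y => ?_
  obtain ⟨A, B, hA, hB, rfl⟩ := exists_cl hK x
  obtain ⟨C, D, hC, hD, rfl⟩ := exists_cl hK y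
  obtain ⟨K₀, _, _, φ₀, hK₀⟩ := exists_mdl X
  obtain ⟨g₀, hg₀, -⟩ := PullVB.existsUnique_isPull (𝟙 X) φ₀ φ hK.bijective
  have hid : ∀ {F : X.Modules}, FlatMod.IsFinLocFree F → g₀ (φ (cl F)) = φ₀ (cl F) := fun {F} hF =>
    (hg₀ F hF).trans (congrArg φ₀ (GenPush.cl_iso ((Scheme.Modules.pullbackId X).app F) (KvbPull.lf_pull (𝟙 X) hF) hF))
  have hg₀inj : Function.Injective g₀ := by
    refine (injective_iff_map_eq_zero g₀).2 fun z hz => ?_
    obtain ⟨P, Q, hP, hQ, rfl⟩ := exists_cl hK z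
    rw [map_sub g₀, hid hP, hid hQ, ← map_sub φ₀] at hz
    have := hK₀.bijective.1 (hz.trans (_root_.map_zero φ₀).symm)
    rw [← map_sub φ, this, _root_.map_zero]
  obtain ⟨X', hC', f, K', _, _, φ', hK', g, hg, hinj, hl⟩ :=
    good_list _ X K₀ φ₀ hK₀ [A, B, C, D] rfl (by simp [hA, hB, hC, hD])
  refine ⟨K', inferInstance, inferInstance, (ringHom hK' hK₀ hg).comp (ringHom hK₀ hK hg₀), M hK',
    hinj.comp hg₀inj, fun i z => ?_, fun v hv i hi => lam_M hK' hv i hi, ?_, ?_⟩
  · show g (g₀ (LambdaRing.LambdaOps.lam i z)) = _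
    rw [map_lam hK₀ hK hg₀, map_lam hK' hK₀ hg]
    rfl
  all_goals
    show g (g₀ (_ - _)) ∈ Span hK'
    rw [map_sub g₀, map_sub g]
    refine sub_mem ?_ ?_
  · rw [hid hA, hg A hA]; exact hl A (by simp)
  · rw [hid hB, hg B hB]; exact hl B (by simp)
  · rw [hid hC, hg C hC]; exact hl C (by simp)
  · rw [hid hD, hg D hD]; exact hl D (by simp)

end Split

end Groth.Agent.H28.PBSpecial

end
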