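import Groth.Agent.H28.PBCores

/-!
# The determinant as a homomorphism from `K₀`
-/

set_option autoImplicit false
set_option linter.style.haveILetI false
set_option linter.unusedSectionVars false
set_option backward.isDefEq.respectTransparency false
set_option backward.isDefEq.respectTransparency.types false

universe u

open CategoryTheory CategoryTheory.Limits AlgebraicGeometry TopologicalSpace Opposite
open scoped Groth.Agent.H23.PicMul

noncomputable section

namespace Groth.Agent.H28.DetExt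

open Groth.Agent Groth.Agent.H23.PicMul

variable {X : Scheme.{u}}

theorem det_mul {S : ShortComplex X.Modules} (hS : S.ShortExact) {n m : ℕ}
    (h₁ : FlatMod.IsFinLocFreeOfRank n S.X₁) (h₃ : FlatMod.IsFinLocFreeOfRank m S.X₃) :
    Nonempty (CohB1.tensorMod (ExtBase.L S.X₁ n) (ExtBase.L S.X₃ m) ≅ ExtBase.L S.X₂ (n + m)) := by
  have hg := ExtFil.exists_good hS (KvbModel.lf_of_rank h₁) (KvbModel.lf_of_rank h₃)
  have hT₃ : ∀ i j, m < j → IsZero (DCoh.shP.obj (ExtFil.TP S i j)) := fun i j hj => by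
    obtain ⟨e⟩ := ExtFil.nonempty_tensor_iso (S := S) i j
    exact ((DCoh.tensorBi.obj (ExtBase.L S.X₁ i)).map_isZero (KvbModel.isZero_L h₃ hj)).of_iso e
  have hT₁ : ∀ i j, n < i → IsZero (DCoh.shP.obj (ExtFil.TP S i j)) := fun i j hi => by
    obtain ⟨e⟩ := ExtFil.nonempty_tensor_iso (S := S) i j
    exact ((DCoh.tensorBi.map_isZero (KvbModel.isZero_L h₁ hi)).obj _).of_iso e
  have hC : ∀ (i j : ℕ) (h : i + j = n + m), i ≤ n → IsZero (ExtFil.C (S := S) (n + m) i j h) := by
    intro i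
    induction i with
    | zero =>
      intro j h _
      obtain rfl : j = n + m := by omega
      haveI := ExtFil.epi_a_zero (S := S) (n + m)
      exact isZero_cokernel_of_epi (ExtFil.a S (Nat.zero_add (n + m)))
    | succ i ih =>
      intro j h' hi
      have h : i + (j + 1) = n + m := by omega
      obtain ⟨θ, q, w, hse⟩ := ExtFil.step hg h h'
      haveI := hse.epi_g
      haveI : Mono q := hse.exact.mono_g ((hT₃ i (j + 1) (by omega)).eq_of_src _ _)
      exact (ih (j + 1) h (by omega)).of_iso (@asIso _ _ _ _ q (isIso_of_mono_of_epi q))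
  obtain ⟨θl, wl, hsel⟩ := ExtFil.last hg (n := n + m) rfl
  obtain ⟨e⟩ := ExtFil.nonempty_tensor_iso (S := S) n m
  rcases m with _ | m
  · haveI := hsel.mono_f
    haveI : Epi θl := hsel.exact.epi_f ((hC n 0 rfl le_rfl).eq_of_tgt _ _)
    haveI := isIso_of_mono_of_epi θl
    exact ⟨e.symm ≪≫ asIso θl⟩
  · obtain ⟨θ, q, w, hse⟩ := ExtFil.step (i := n) (j := m) hg (n := n + (m + 1)) rfl (by omega)
    haveI := hse.mono_f
    haveI : Epi θ := hse.exact.epi_f ((hC n (m + 1) rfl le_rfl).eq_of_tgt _ _)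
    haveI := isIso_of_mono_of_epi θ
    have up : ∀ (i j : ℕ) (h : n + 1 + i + j = n + (m + 1)),
        Nonempty (DCoh.shP.obj (ExtFil.TP S n (m + 1)) ≅ ExtFil.C (S := S) (n + (m + 1)) (n + 1 + i) j h) := by
      intro i
      induction i with
      | zero =>
        intro j h
        obtain rfl : j = m := by omega
        exact ⟨asIso θ⟩
      | succ i ih =>
        intro j h'
        have h : n + 1 + i + (j + 1) = n + (m + 1) := by omega
        obtain ⟨θ', q', w', hse'⟩ := ExtFil.step hg h h'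
        haveI := hse'.epi_g
        haveI : Mono q' := hse'.exact.mono_g ((hT₁ (n + 1 + i) (j + 1) (by omega)).eq_of_src _ _)
        haveI : IsIso q' := isIso_of_mono_of_epi q'
        obtain ⟨e'⟩ := ih (j + 1) h
        exact ⟨e' ≪≫ (asIso q').symm⟩
    haveI := hsel.epi_g
    haveI : Mono (cokernel.π (ExtFil.a S (show n + (m + 1) + 0 = n + (m + 1) from rfl))) :=
      hsel.exact.mono_g ((hT₁ (n + (m + 1)) 0 (by omega)).eq_of_src _ _)
    haveI : IsIso (cokernel.π (ExtFil.a S (show n + (m + 1) + 0 = n + (m + 1) from rfl))) := isIso_of_mono_of_epi _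
    have hup : ∀ (i' : ℕ) (h : i' + 0 = n + (m + 1)), n + 1 ≤ i' →
        Nonempty (DCoh.shP.obj (ExtFil.TP S n (m + 1)) ≅ ExtFil.C (S := S) (n + (m + 1)) i' 0 h) := fun i' h hi => by
      obtain ⟨i, rfl⟩ := Nat.exists_eq_add_of_le hi
      exact up i 0 h
    obtain ⟨e'⟩ := hup (n + (m + 1)) rfl (by omega)
    exact ⟨e.symm ≪≫ e' ≪≫
      (asIso (cokernel.π (ExtFil.a S (show n + (m + 1) + 0 = n + (m + 1) from rfl)))).symm⟩

variable [ConnectedSpace X]

open Classical in
/-- The determinant of a bundle. -/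
def det (E : X.Modules) : Additive (PicF.Cl X)ˣ :=
  if h : ∃ r, FlatMod.IsFinLocFreeOfRank r E then
    Additive.ofMul (isUnit_cl (PBCores.isInvertible_iff_rank.2 (PBCores.rank_top h.choose_spec))).unit
  else 0

theorem det_eq {E : X.Modules} {r : ℕ} (hE : FlatMod.IsFinLocFreeOfRank r E) :
    ((Additive.toMul (det E) : (PicF.Cl X)ˣ) : PicF.Cl X) = PicF.cl (ExtBase.L E r) := by
  have h : ∃ r, FlatMod.IsFinLocFreeOfRank r E := ⟨r, hE⟩
  obtain ⟨x⟩ := (inferInstance : Nonempty X)
  have hr : h.choose = r := KvbModel.frameAt_unique (KvbModel.frameAt_of_rank h.choose_spec x)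
    (KvbModel.frameAt_of_rank hE x)
  rw [det, dif_pos h, toMul_ofMul, IsUnit.unit_spec, hr]

theorem det_ses {S : ShortComplex X.Modules} (hS : S.ShortExact) (h₁ : FlatMod.IsFinLocFree S.X₁)
    (h₂ : FlatMod.IsFinLocFree S.X₂) (h₃ : FlatMod.IsFinLocFree S.X₃) : det S.X₂ = det S.X₁ + det S.X₃ := by
  obtain ⟨n, hn⟩ := KvbModel.exists_rank h₁
  obtain ⟨m, hm⟩ := KvbModel.exists_rank h₃
  have hnm : FlatMod.IsFinLocFreeOfRank (n + m) S.X₂ := KvbModel.rank_of_frameAt fun x =>
    KvbModel.frameAt_ses hS (KvbModel.frameAt_of_rank hn x) (KvbModel.frameAt_of_rank hm x)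
  obtain ⟨e⟩ := det_mul hS hn hm
  apply Additive.toMul.injective
  rw [toMul_add]
  refine Units.ext ?_
  rw [Units.val_mul, det_eq hnm, det_eq hn, det_eq hm, ← cl_tensor, cl_eq_iff]
  exact ⟨e.symm⟩

/-- The determinant on `K₀`. -/
theorem exists_detHom : ∃ d : SGA6.Kvb X →+ Additive (PicF.Cl X)ˣ,
    ∀ E : X.Modules, FlatMod.IsFinLocFree E → d (KRR.cl X E) = det E :=
  KZ.exists_liftSub _ det fun S hS h₁ h₂ h₃ => det_ses hS h₁ h₂ h₃

theorem det_invertible {L : X.Modules} (hL : PicF.IsInvertible L) :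
    ((Additive.toMul (det L) : (PicF.Cl X)ˣ) : PicF.Cl X) = PicF.cl L := by
  have h1 := PBCores.isInvertible_iff_rank.1 hL
  rw [det_eq h1, cl_eq_iff]
  exact ExtSh.nonempty_iso_L (KvbModel.lf_of_rank h1) (KvbLam.isExtPow_one L)

end Groth.Agent.H28.DetExt

end
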