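import Groth.Agent.H28.PBCohBasis
import Groth.Agent.H28.PBFreeK

/-!
# `K_•` of a projective bundle
-/

set_option autoImplicit false
set_option linter.style.haveILetI false
set_option linter.unusedSectionVars false
set_option backward.isDefEq.respectTransparency false
set_option backward.isDefEq.respectTransparency.types false

universe u

open CategoryTheory CategoryTheory.Limits AlgebraicGeometry TopologicalSpace Opposite

noncomputable section

namespace Groth.Agent.H28.PBCohFree

open Groth.Agent Groth.Agent.H23.PicMul Groth.Agent.H28.PBCohPush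

variable {S P : Scheme.{u}} [AlgebraicGeometry.IsNoetherian S] [AlgebraicGeometry.IsNoetherian P]

theorem subsingleton_Kcoh [IsEmpty P] : Subsingleton (SGA6.Kcoh P) := by
  suffices h : ∀ x : SGA6.Kcoh P, x = 0 from ⟨fun a b => by rw [h a, h b]⟩
  intro x
  refine DFunLike.congr_fun (f := AddMonoidHom.id _) (g := 0) (KZ.K0sub_hom_ext _ fun N _ => ?_) x
  exact KZ.clSub_isZero _ (PBAtlas.isZero_of_frames fun y => isEmptyElim y)

/-- `K_•` is free on the positive twists. -/
theorem bijective (n : ℕ) {E : S.Modules} (hE : FlatMod.IsFinLocFreeOfRank n E)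
    {f : P ⟶ S} {O1 : P.Modules} {q : (Scheme.Modules.pullback f).obj E ⟶ O1} (hP : KRR.IsProjBundle f E O1 q)
    (F : SGA6.Kcoh S →+ SGA6.Kcoh P) (hF : ∀ N : S.Modules, Coh.IsCoh N → F (clc S N) = clc P ((Scheme.Modules.pullback f).obj N))
    (ξ : SGA6.Kcoh P →+ SGA6.Kcoh P) (hξ : ∀ M : P.Modules, Coh.IsCoh M → ξ (clc P M) = clc P ((DCoh.tensorBi.obj O1).obj M)) :
    Function.Bijective (fun x : Fin n → SGA6.Kcoh S => ∑ i : Fin n, (⇑ξ)^[(i : ℕ)] (F (x i))) := by
  cases n with
  | zero =>
    haveI := PBFreeK.isEmpty_of_rank_zero hP hE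
    haveI := subsingleton_Kcoh (P := P)
    exact ⟨fun a b _ => funext fun i => i.elim0, fun y => ⟨fun i => i.elim0, Subsingleton.elim _ _⟩⟩
  | succ m =>
    obtain ⟨Oinv, hO, ⟨e⟩⟩ := H23.PicInv.exists_inverse (PBCores.isInvertible_iff_rank.2 hP.invertible)
    obtain ⟨e'⟩ := H23.PicMul.comm Oinv O1
    obtain ⟨D, h1, h2⟩ := PBBasis.exists_data hP hE Oinv ⟨e' ≪≫ e⟩
      (KvbModel.lf_of_rank (PBCores.isInvertible_iff_rank.1 hO))
    obtain ⟨ti, hti⟩ := KZ.exists_liftSub (fun M : P.Modules => Coh.IsCoh M)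
      (fun M => clc P ((DCoh.tensorBi.obj D.Oinv).obj M)) fun _ hS h₁ h₂ h₃ =>
        KZ.clSub_ses (fun M : P.Modules => Coh.IsCoh M) (PBPush.shortExact_tens D.lfi hS)
          (CurveTensor.isCoh_tensor D.lfi h₁) (CurveTensor.isCoh_tensor D.lfi h₂) (CurveTensor.isCoh_tensor D.lfi h₃)
    have hcancel : ∀ {A B : P.Modules}, FlatMod.IsFinLocFree A → FlatMod.IsFinLocFree B →
        PicF.cl A * PicF.cl B = 1 → ∀ M, Coh.IsCoh M →
        clc P ((DCoh.tensorBi.obj A).obj ((DCoh.tensorBi.obj B).obj M)) = clc P M := fun {A B} hA hB h M hM => by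
      refine clc_iso (cl_eq_iff.1 ?_).some (CurveTensor.isCoh_tensor hA (CurveTensor.isCoh_tensor hB hM)) hM
      change PicF.cl A * (PicF.cl B * PicF.cl M) = PicF.cl M
      rw [← mul_assoc, h, one_mul]
    have hinv := PBBasis.cl_inv D
    subst h1
    have hleft : ∀ y, ti (ξ y) = y := DFunLike.congr_fun (f := ti.comp ξ) (g := AddMonoidHom.id _)
      (KZ.K0sub_hom_ext _ fun M hM => by
        show ti (ξ (clc P M)) = clc P M
        rw [hξ M hM, hti _ (CurveTensor.isCoh_tensor D.lf1 hM)]
        exact hcancel D.lfi D.lf1 (by rw [mul_comm]; exact hinv) M hM)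
    have hright : ∀ y, ξ (ti y) = y := DFunLike.congr_fun (f := ξ.comp ti) (g := AddMonoidHom.id _)
      (KZ.K0sub_hom_ext _ fun M hM => by
        show ξ (ti (clc P M)) = clc P M
        rw [hti M hM, hξ _ (CurveTensor.isCoh_tensor D.lfi hM)]
        exact hcancel D.lf1 D.lfi hinv M hM)
    let T : ℕ → SGA6.Kcoh P →+ SGA6.Kcoh P := fun j => Nat.rec (AddMonoidHom.id _) (fun _ f => ti.comp f) j
    have hval : ∀ (j : ℕ) (N : S.Modules), Coh.IsCoh N → T j (F (clc S N)) = clc P (PBBasis.gN D j N) := by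
      intro j
      induction j with
      | zero =>
        intro N hN
        refine (hF N hN).trans (clc_iso (PBBasis.gN_zero D N).some.symm (ZClosLib.isCoh_pullback f hN) ?_)
        exact PBCohBasis.lf_tp D 0 (ZClosLib.isCoh_pullback f hN)
      | succ j ih =>
        intro N hN
        show ti (T j (F (clc S N))) = _
        have hc := PBCohBasis.lf_tp D j (ZClosLib.isCoh_pullback f hN)
        rw [ih N hN, hti _ hc]
        refine clc_iso (cl_eq_iff.1 ?_).some (CurveTensor.isCoh_tensor D.lfi hc)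
          (PBCohBasis.lf_tp D (j + 1) (ZClosLib.isCoh_pullback f hN))
        show PicF.cl D.Oinv * (PicF.cl (CohB1.tensorPow D.Oinv j) * PicF.cl ((Scheme.Modules.pullback f).obj N)) =
          PicF.cl (CohB1.tensorPow D.Oinv (j + 1)) * PicF.cl ((Scheme.Modules.pullback f).obj N)
        rw [cl_tensorPow, cl_tensorPow, pow_succ', ← mul_assoc]
    have hb := PBCohBasis.bijective_basis D (fun i : Fin (m + 1) => (T (i : ℕ)).comp F) fun i N hN => hval _ N hN
    have hTi : ∀ (a b : ℕ) (y), (⇑ξ)^[a + b] (T b y) = (⇑ξ)^[a] y := by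
      intro a b
      induction b with
      | zero => intro y; rfl
      | succ b ih =>
        intro y
        rw [← add_assoc, Function.iterate_succ_apply, show ξ (T (b + 1) y) = T b y from hright _]
        exact ih y
    have hξb : Function.Bijective ξ := ⟨Function.LeftInverse.injective hleft, Function.RightInverse.surjective hright⟩
    have key : (fun x : Fin (m + 1) → SGA6.Kcoh S => ∑ i : Fin (m + 1), (⇑ξ)^[(i : ℕ)] (F (x i))) =
        (⇑ξ)^[m] ∘ (fun x : Fin (m + 1) → SGA6.Kcoh S => ∑ i : Fin (m + 1), ((T (i : ℕ)).comp F) (x i)) ∘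
          (fun x => x ∘ Fin.revPerm) := by
      funext x
      simp only [Function.comp_apply, AddMonoidHom.comp_apply]
      have hsum : ∀ (k : ℕ) (g : Fin (m + 1) → SGA6.Kcoh P), (⇑ξ)^[k] (∑ i, g i) = ∑ i, (⇑ξ)^[k] (g i) := by
        intro k
        induction k with
        | zero => intro g; rfl
        | succ k ih => intro g; simp only [Function.iterate_succ_apply, map_sum]; exact ih _
      rw [hsum, ← Equiv.sum_comp Fin.revPerm]
      refine Finset.sum_congr rfl fun i _ => ?_
      have hi : (i : ℕ) ≤ m := Nat.le_of_lt_succ i.isLt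
      have hv : ((Fin.revPerm i : Fin (m + 1)) : ℕ) = m - (i : ℕ) := by simp [Fin.revPerm, Fin.rev]
      rw [hv]
      refine Eq.trans ?_ (congrArg (fun k => (⇑ξ)^[k] (T (i : ℕ) (F (x (Fin.revPerm i))))) (Nat.sub_add_cancel hi))
      exact (hTi _ _ _).symm
    rw [key]
    exact (hξb.iterate m).comp (hb.comp
      ⟨fun a b h => funext fun i => by simpa using congrFun h (Fin.revPerm i),
        fun y => ⟨y ∘ Fin.revPerm, funext fun i => by simp⟩⟩)

end Groth.Agent.H28.PBCohFree
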