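import Groth.Agent.H28.AffChart
import Groth.Agent.H28.PBCohFree
import Groth.Agent.H28.PBFree
import Groth.Agent.H28.KRRTw
import Groth.Agent.H28.PushComp
import Groth.Agent.H28.FlatPr
import Groth.Agent.H28.PnFlat
import Groth.Agent.H28.QProjEnough
import Groth.Agent.KZ.Localization
import Groth.Agent.KFlatLib.Scheme.Exact
import Groth.Agent.Lib.ClosedShriek
import Groth.Agent.PPSheaf.Colim
import Groth.Agent.H23.RedSub
import Mathlib.Data.Nat.Choose.Sum

/-!
# Homotopy invariance of `K₀` of coherent modules: affine space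
-/

set_option autoImplicit false
set_option linter.style.haveILetI false
set_option linter.unusedSectionVars false
set_option backward.isDefEq.respectTransparency false
set_option backward.isDefEq.respectTransparency.types false
set_option maxHeartbeats 1000000

universe u

open CategoryTheory CategoryTheory.Limits AlgebraicGeometry TopologicalSpace Opposite

noncomputable section

namespace Groth.Agent.H28.A1Hom

open Groth.Agent Groth.Agent.KFlatLib Groth.Agent.H28.KRRTw Groth.Agent.H28.KRRReg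

section Sup

variable {X : Scheme.{u}}

/-- The class of a coherent module. -/
abbrev cc (M : X.Modules) : SGA6.Kcoh X := KZero.clSub (fun M : X.Modules => Coh.IsCoh M) M

/-- Classes of coherent modules supported in a set. -/
def Sup (W : Set X) : AddSubgroup (SGA6.Kcoh X) :=
  AddSubgroup.closure {c | ∃ M : X.Modules, Coh.IsCoh M ∧ CohB1.support M ⊆ W ∧ c = cc M}

theorem subsingleton_stalkAb {M : X.Modules} {y : X} (h : y ∉ CohB1.support M) :
    IsZero ((stalkAb y).obj M) :=
  haveI : Subsingleton ((stalkAb y).obj M) := not_not.1 h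
  AddCommGrpCat.isZero_of_subsingleton _

theorem not_mem_support {M : X.Modules} {y : X} (h : IsZero ((stalkAb y).obj M)) :
    y ∉ CohB1.support M :=
  fun hy => hy (AddCommGrpCat.subsingleton_of_isZero h)

variable [AlgebraicGeometry.IsNoetherian X]

theorem mem_of_map {W : Set X} {G F : X.Modules} (hG : Coh.IsCoh G) (hF : Coh.IsCoh F) (p : G ⟶ F)
    (h : ∀ y, y ∉ W → IsIso ((stalkAb y).map p)) : cc G - cc F ∈ Sup W := by
  have hk := QCoh.isCoh_kernel hG hF p
  have hc := QCoh.isCoh_cokernel hG.1 hF p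
  have hI : Coh.IsCoh (cokernel (kernel.ι p)) := QCoh.isCoh_cokernel hk.1 hG _
  let m : cokernel (kernel.ι p) ⟶ F := cokernel.desc _ p (kernel.condition p)
  haveI : Mono m := inferInstanceAs (Mono (Abelian.factorThruCoimage p))
  have h1 := KZ.clSub_ses (fun M : X.Modules => Coh.IsCoh M) (KZ.shortExact_of_mono (kernel.ι p)) hk hG hI
  have hS2 : (ShortComplex.mk m (cokernel.π p) (by
      rw [← cancel_epi (cokernel.π (kernel.ι p))]; simp [m])).ShortExact := by
    refine .mk' ?_ inferInstance inferInstance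
    refine ShortComplex.exact_of_g_is_cokernel _ (CokernelCofork.IsColimit.ofπ _ _
      (fun g hg => cokernel.desc p g (by
        rw [show p = cokernel.π (kernel.ι p) ≫ m by simp [m], Category.assoc]
        exact (congrArg _ hg).trans comp_zero))
      (fun g hg => cokernel.π_desc _ _ _) (fun g hg b hb => ?_))
    rw [← cancel_epi (cokernel.π p), cokernel.π_desc]
    exact hb
  have h2 := KZ.clSub_ses (fun M : X.Modules => Coh.IsCoh M) hS2 hI hF hc
  have e : cc G - cc F = cc (kernel p) - cc (cokernel p) := by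
    rw [show cc G = _ from h1, show cc F = _ from h2]
    simp only [ShortComplex.mk]
    abel
  rw [e]
  refine (Sup W).sub_mem (AddSubgroup.subset_closure ⟨_, hk, fun y hy => ?_, rfl⟩)
    (AddSubgroup.subset_closure ⟨_, hc, fun y hy => ?_, rfl⟩)
  all_goals by_contra hyW; haveI := h y hyW; refine not_mem_support ?_ hy
  · exact (isZero_kernel_of_mono ((stalkAb y).map p)).of_iso (PreservesKernel.iso (stalkAb y) p)
  · exact (isZero_cokernel_of_epi ((stalkAb y).map p)).of_iso (PreservesCokernel.iso (stalkAb y) p)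

theorem sup_empty {c : SGA6.Kcoh X} (h : c ∈ Sup (∅ : Set X)) : c = 0 := by
  induction h using AddSubgroup.closure_induction with
  | mem c hc =>
    obtain ⟨M, _, hs, rfl⟩ := hc
    refine KZ.clSub_isZero _ ?_
    haveI : IsIso (0 : M ⟶ M) := isIso_of_stalk _ fun y => by
      have hz : IsZero ((stalkAb y).obj M) := subsingleton_stalkAb fun hy => hs hy
      haveI : Subsingleton ((DerSch.stalkFunctor X y).obj M) := AddCommGrpCat.subsingleton_of_isZero hz
      exact ⟨0, (ModuleCat.isZero_of_subsingleton _).eq_of_src _ _, (ModuleCat.isZero_of_subsingleton _).eq_of_src _ _⟩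
    refine (IsZero.iff_id_eq_zero _).2 ?_
    rw [← IsIso.hom_inv_id (0 : M ⟶ M), zero_comp]
  | zero => rfl
  | add _ _ _ _ ha hb => rw [ha, hb, add_zero]
  | neg _ _ ha => rw [ha, neg_zero]

end Sup

variable (r : ℕ) (S : Scheme.{u}) [AlgebraicGeometry.IsNoetherian S]

local instance : AlgebraicGeometry.IsNoetherian (KRR.PY r S) := PushComp.isNoetherian_PY r S

/-- The open where a coordinate is invertible. -/
def inD (y : KRR.PY r S) (j : ULift.{u} (Fin (r + 1))) : Prop :=
  toPn r S y ∈ PnCoh.Finite.D (CohB1.polyGrading r (ULift.{u} ℤ)) (crd r j)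

/-- The points where the first `k + 1` coordinates vanish. -/
def W (k : ℕ) : Set (KRR.PY r S) := {y | ∀ j : ULift.{u} (Fin (r + 1)), (j.down : ℕ) ≤ k → ¬ inD r S y j}

theorem W_top : W r S r = ∅ := by
  refine Set.eq_empty_of_forall_notMem fun y hy => ?_
  obtain ⟨j, hj⟩ := Opens.mem_iSup.1 (crd_cover.{u}.ge (trivial : toPn r S y ∈ (⊤ : Opens _)))
  exact hy j (Nat.le_of_lt_succ j.down.isLt) hj

theorem isCoh_twF (d : ℤ) {M : (KRR.PY r S).Modules} (hM : Coh.IsCoh M) : Coh.IsCoh (KRR.twF r S d M) :=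
  CurveTensor.isCoh_tensor (PnFlat.lf_twistOver d) hM

/-- The difference between twisting and the identity. -/
theorem exists_delta : ∃ ξ : SGA6.Kcoh (KRR.PY r S) →+ SGA6.Kcoh (KRR.PY r S),
    ∀ M, Coh.IsCoh M → ξ (cc M) = cc (KRR.twF r S 1 M) :=
  KZ.exists_liftSub (fun M : (KRR.PY r S).Modules => Coh.IsCoh M) (fun M => cc (KRR.twF r S 1 M))
    fun _ hS h₁ h₂ h₃ => KZ.clSub_ses (fun M : (KRR.PY r S).Modules => Coh.IsCoh M)
      (PBPush.shortExact_tens (PnFlat.lf_twistOver 1) hS) (isCoh_twF r S 1 h₁) (isCoh_twF r S 1 h₂) (isCoh_twF r S 1 h₃)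

/-- The twisting operator. -/
def ξ : SGA6.Kcoh (KRR.PY r S) →+ SGA6.Kcoh (KRR.PY r S) := (exists_delta r S).choose

theorem ξ_cc {M : (KRR.PY r S).Modules} (hM : Coh.IsCoh M) : ξ r S (cc M) = cc (KRR.twF r S 1 M) :=
  (exists_delta r S).choose_spec M hM

theorem delta_mem {W₁ W₂ : Set (KRR.PY r S)} (j : ULift.{u} (Fin (r + 1)))
    (hW : ∀ y, y ∈ W₁ → y ∉ W₂ → inD r S y j) {c : SGA6.Kcoh (KRR.PY r S)} (hc : c ∈ Sup W₁) :
    ξ r S c - c ∈ Sup W₂ := by
  induction hc using AddSubgroup.closure_induction with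
  | mem c hc =>
    obtain ⟨M, hM, hs, rfl⟩ := hc
    obtain ⟨e⟩ := twF_zero (n := r) (T := S) M
    let e' : (Tw r S (1 - 1)).obj M ≅ M := eqToIso (by simp [Tw, KRR.twF]) ≪≫ e
    have h0 : Coh.IsCoh ((Tw r S (1 - 1)).obj M) := isCoh_twF r S _ hM
    have hcl : cc ((Tw r S (1 - 1)).obj M) = cc M :=
      PBCohPush.clc_iso e' h0 hM
    rw [ξ_cc r S hM, ← hcl, ← neg_sub]
    refine (Sup W₂).neg_mem (mem_of_map h0 (isCoh_twF r S 1 hM) ((mul j 1).app M) fun y hy => ?_)
    by_cases hy1 : y ∈ CohB1.support M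
    · exact (ConcreteCategory.isIso_iff_bijective _).2 (bijective_mul M (hW y (hs hy1) hy) 1)
    · obtain ⟨i, -, hi⟩ := covered (n := r) (T := S) M y
      haveI : IsIso ((stalkAb y).map ((mul i 1).app M)) := (ConcreteCategory.isIso_iff_bijective _).2 (hi 1)
      have hz : IsZero ((stalkAb y).obj ((Tw r S (1 - 1)).obj M)) :=
        (subsingleton_stalkAb hy1).of_iso ((stalkAb y).mapIso e')
      have hz1 : IsZero ((stalkAb y).obj ((Tw r S 1).obj M)) :=
        hz.of_iso (asIso ((stalkAb y).map ((mul i 1).app M))).symm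
      exact ⟨0, hz.eq_of_src _ _, hz1.eq_of_src _ _⟩
  | zero => simp
  | add a b _ _ ha hb =>
    rw [map_add, add_sub_add_comm]; exact (Sup W₂).add_mem ha hb
  | neg a _ ha =>
    rw [map_neg, show -ξ r S a - -a = -(ξ r S a - a) by abel]
    exact (Sup W₂).neg_mem ha

theorem mem_univ_sup (c : SGA6.Kcoh (KRR.PY r S)) : c ∈ Sup (Set.univ : Set (KRR.PY r S)) := by
  refine QuotientAddGroup.induction_on c fun z => ?_
  induction z using FreeAbelianGroup.induction_on with
  | zero => exact (Sup _).zero_mem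
  | of M =>
    refine AddSubgroup.subset_closure ⟨M.1, M.2, Set.subset_univ _, ?_⟩
    exact (KZ.clSub_of_prop _ M.2).symm
  | neg M h => exact (Sup _).neg_mem h
  | add a b ha hb => exact (Sup _).add_mem ha hb

/-- Twisting, in the ring of endomorphisms. -/
def ξE : AddMonoid.End (SGA6.Kcoh (KRR.PY r S)) := ξ r S

/-- The difference operator. -/
def δ : AddMonoid.End (SGA6.Kcoh (KRR.PY r S)) := ξE r S + (-1)

theorem δ_apply (c : SGA6.Kcoh (KRR.PY r S)) : δ r S c = ξ r S c - c := (sub_eq_add_neg _ _).symm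

theorem δ_pow_apply (k : ℕ) (c : SGA6.Kcoh (KRR.PY r S)) :
    (δ r S ^ k) c = ∑ m : Fin (k + 1), (⇑(ξ r S))^[(m : ℕ)] (((-1 : ℤ) ^ (k - (m : ℕ)) * (k.choose m : ℤ)) • c) := by
  have hk : ∀ (e : ℕ) (c : SGA6.Kcoh (KRR.PY r S)),
      (((-1 : AddMonoid.End (SGA6.Kcoh (KRR.PY r S))) ^ e)) c = ((-1 : ℤ) ^ e) • c := by
    intro e
    induction e with
    | zero => intro c; simp
    | succ e ih =>
      intro c
      rw [pow_succ, pow_succ, mul_smul]
      show ((-1 : AddMonoid.End _) ^ e) (-c) = _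
      rw [ih, neg_smul, one_smul, smul_neg]
  rw [δ, (Commute.neg_one_right (ξE r S)).add_pow, AddMonoidHom.finsetSum_apply]
  refine (Finset.sum_range _).trans ?_
  refine Finset.sum_congr rfl fun m _ => ?_
  show ((ξE r S) ^ (m : ℕ)) (((-1 : AddMonoid.End _) ^ (k - (m : ℕ))) ((k.choose (m : ℕ)) • c)) = _
  rw [hk, mul_smul, natCast_zsmul, AddMonoid.End.coe_pow]
  rfl

theorem δ_pow_mem {c : SGA6.Kcoh (KRR.PY r S)} (hc : c ∈ Sup (W r S 0)) :
    ∀ k, k ≤ r → (δ r S ^ k) c ∈ Sup (W r S k) := by
  intro k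
  induction k with
  | zero => exact fun _ => hc
  | succ k ih =>
    intro hk
    rw [pow_succ']
    show δ r S ((δ r S ^ k) c) ∈ _
    rw [δ_apply]
    refine delta_mem r S ⟨⟨k + 1, by omega⟩⟩ (fun y hy hy' => ?_) (ih (by omega))
    by_contra h
    refine hy' fun j hj hj' => ?_
    rcases Nat.lt_or_ge (j.down : ℕ) (k + 1) with hlt | hge
    · exact hy j (Nat.le_of_lt_succ hlt) hj'
    · exact h ((show j = ⟨⟨k + 1, by omega⟩⟩ from ULift.ext _ _ (Fin.ext (le_antisymm hj hge))) ▸ hj')

theorem range_chart : Set.range (AffChart.chart r S) = (W r S 0)ᶜ := by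
  rw [AffChart.range_chart]
  ext y
  refine ⟨fun h hy => hy ⟨0⟩ le_rfl h, fun h => ?_⟩
  by_contra hn
  refine h fun j hj => ?_
  rw [show j = ⟨0⟩ from ULift.ext _ _ (Fin.ext (Nat.le_zero.1 hj))]
  exact hn

local notation "A" => AffChart.AS r S

theorem bijective (hfl : PreservesFiniteLimits (Scheme.Modules.restrictFunctor (AffChart.chart r S)))
    (F : SGA6.Kcoh S →+ SGA6.Kcoh A)
    (hF : ∀ N : S.Modules, Coh.IsCoh N → F (cc N) = cc ((Scheme.Modules.pullback (A ↘ S)).obj N)) :
    Function.Bijective F := by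
  let j := AffChart.chart r S
  let J := Scheme.Modules.restrictFunctor j
  haveI : IsOpenImmersion j := AffChart.isOpenImmersion_chart r S
  haveI : PreservesFiniteLimits J := hfl
  haveI : AlgebraicGeometry.IsNoetherian (KRR.PY r S) := PushComp.isNoetherian_PY r S
  let Z : Closeds (KRR.PY r S) := ⟨(Set.range j)ᶜ, j.opensRange.isOpen.isClosed_compl⟩
  let I : (KRR.PY r S).IdealSheafData := Scheme.IdealSheafData.vanishingIdeal Z
  let i := I.subschemeι
  have hri : Set.range i = (Set.range j)ᶜ := H23.RedSub.range_vanishingIdeal Z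
  have hRj : Set.range j = (Set.range i)ᶜ := by rw [hri, compl_compl]
  haveI := ClosedShriek.preservesFiniteColimits_push i
  haveI := (Scheme.Modules.pullbackPushforwardAdjunction i).isRightAdjoint
  haveI : PreservesFiniteLimits (Scheme.Modules.pushforward i) := inferInstance
  haveI : (Scheme.Modules.pushforward i).Additive :=
    (Scheme.Modules.pullbackPushforwardAdjunction i).right_adjoint_additive
  have hi : ∀ M : I.subscheme.Modules, Coh.IsCoh M → Coh.IsCoh ((Scheme.Modules.pushforward i).obj M) :=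
    fun M hM => QCoh.isCoh_push i hM
  have hj : ∀ M : (KRR.PY r S).Modules, Coh.IsCoh M → Coh.IsCoh (J.obj M) :=
    fun M hM => KZ.Localization.isCoh_restrict j hM
  haveI : IsLocallyNoetherian A := isLocallyNoetherian_of_isOpenImmersion j
  obtain ⟨hsurj, hker⟩ := KZ.Localization.sequence i j hRj hi hj
  let R := SGA6.mapSub J (fun M => Coh.IsCoh M) (fun M => Coh.IsCoh M) hj
  have hR : ∀ M, Coh.IsCoh M → R (cc M) = cc (J.obj M) := fun M hM => GenBasis.mapSub_clSub J _ _ hj hM
  haveI := PPSheaf.preservesFiniteLimits_pullback_of_stalk (KRR.pr r S) (fun y => Flat.stalkMap (KRR.pr r S) y)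
  haveI := (Scheme.Modules.pullbackPushforwardAdjunction (KRR.pr r S)).left_adjoint_additive
  haveI := (Scheme.Modules.pullbackPushforwardAdjunction (KRR.pr r S)).leftAdjoint_preservesColimits.{0, 0}
  obtain ⟨P, hP⟩ := KZ.exists_liftSub (fun M : S.Modules => Coh.IsCoh M)
    (fun N => cc ((Scheme.Modules.pullback (KRR.pr r S)).obj N)) fun _ hS h₁ h₂ h₃ =>
      KZ.clSub_ses (fun M : (KRR.PY r S).Modules => Coh.IsCoh M)
        (hS.map_of_exact (Scheme.Modules.pullback (KRR.pr r S)))
        (ZClosLib.isCoh_pullback _ h₁) (ZClosLib.isCoh_pullback _ h₂) (ZClosLib.isCoh_pullback _ h₃)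
  obtain ⟨q, hq⟩ := PBFree.exists_isProjBundle r S
  have hb := PBCohFree.bijective (r + 1) (QProjEnough.rank_freeMod S (r + 1)) hq P hP (ξ r S) fun M hM => ξ_cc r S hM
  have hRP : ∀ x, R (P x) = F x := DFunLike.congr_fun (f := R.comp P) (g := F) (KZ.K0sub_hom_ext _ fun N hN => by
    show R (P (cc N)) = F (cc N)
    have hc := ZClosLib.isCoh_pullback (KRR.pr r S) hN
    rw [hP N hN, hR _ hc, hF N hN]
    exact PBCohPush.clc_iso ((Scheme.Modules.restrictFunctorIsoPullback j).app _ ≪≫
      (Scheme.Modules.pullbackComp j (KRR.pr r S)).app N ≪≫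
      (Scheme.Modules.pullbackCongr (AffChart.chart_pr r S)).app N)
      (hj _ hc) (ZClosLib.isCoh_pullback _ hN))
  have hkill : ∀ c ∈ Sup (W r S 0), R c = 0 := by
    intro c hc
    induction hc using AddSubgroup.closure_induction with
    | mem c hc =>
      obtain ⟨M, hM, hs, rfl⟩ := hc
      have hm : cc M ∈ KZ.Localization.Im i := KZ.Localization.clSub_mem_Im i hM (by
        rw [hri, range_chart r S, compl_compl]; exact hs)
      generalize cc M = c at hm
      induction hm using AddSubgroup.closure_induction with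
      | mem c hc =>
        obtain ⟨N, hN, rfl⟩ := hc
        rw [hR _ (hi N hN)]
        exact KZ.clSub_isZero _ (KZ.Localization.isZero_restrict_push i j hRj.le N)
      | zero => exact map_zero R
      | add _ _ _ _ ha hb => rw [map_add, ha, hb, add_zero]
      | neg _ _ ha => rw [map_neg, ha, neg_zero]
    | zero => exact map_zero R
    | add _ _ _ _ ha hb => rw [map_add, ha, hb, add_zero]
    | neg _ _ ha => rw [map_neg, ha, neg_zero]
  have hRξ : ∀ (m : ℕ) (c : SGA6.Kcoh (KRR.PY r S)), R ((⇑(ξ r S))^[m] c) = R c := by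
    intro m
    induction m with
    | zero => exact fun c => rfl
    | succ m ih =>
      intro c
      rw [Function.iterate_succ_apply, ih]
      have := hkill _ (delta_mem r S (W₂ := W r S 0) ⟨0⟩ (fun y _ hy => by
        by_contra h
        exact hy fun j hj => (show j = ⟨0⟩ from ULift.ext _ _ (Fin.ext (Nat.le_zero.1 hj))) ▸ h)
        (mem_univ_sup r S c))
      rwa [map_sub, sub_eq_zero] at this
  refine ⟨(injective_iff_map_eq_zero F).2 fun x hx => ?_, fun a => ?_⟩
  · have hm : P x ∈ Sup (W r S 0) := by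
      have : P x ∈ R.ker := (hRP x).trans hx
      rw [show R.ker = _ from hker] at this
      obtain ⟨z, hz⟩ := this
      rw [← hz]
      clear hz
      refine QuotientAddGroup.induction_on z fun w => ?_
      induction w using FreeAbelianGroup.induction_on with
      | zero => simp
      | of N =>
        refine AddSubgroup.subset_closure ⟨_, hi N.1 N.2, fun y hy => ?_, ?_⟩
        · have hz := KZ.Localization.isZero_restrict_push i j.opensRange.ι (by
            rw [Scheme.Opens.range_ι]; exact hRj.le) N.1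
          have := KZ.Localization.isZero_restrict_iff (hi N.1 N.2) hz hy
          by_contra h
          exact this ((range_chart r S).ge h)
        · rw [show (QuotientAddGroup.mk (FreeAbelianGroup.of N) : SGA6.Kcoh I.subscheme) = cc N.1
            from (KZ.clSub_of_prop _ N.2).symm]
          exact GenBasis.mapSub_clSub _ _ _ hi N.2
      | neg N h => rw [QuotientAddGroup.mk_neg, map_neg]; exact (Sup _).neg_mem h
      | add a b ha hb => rw [QuotientAddGroup.mk_add, map_add]; exact (Sup _).add_mem ha hb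
    have h0 : (δ r S ^ r) (P x) = 0 := sup_empty (W_top r S ▸ δ_pow_mem r S hm r le_rfl)
    rw [δ_pow_apply] at h0
    let v : Fin (r + 1) → SGA6.Kcoh S := fun m => ((-1 : ℤ) ^ (r - (m : ℕ)) * (r.choose m : ℤ)) • x
    have hv : (∑ m : Fin (r + 1), (⇑(ξ r S))^[(m : ℕ)] (P (v m))) = 0 :=
      (Finset.sum_congr rfl fun m _ => congrArg _ (map_zsmul P _ x)).trans h0
    have := congrFun (hb.1 (a₁ := v) (a₂ := 0) (hv.trans (by simp [iterate_map_zero]))) (Fin.last r)
    simpa [v] using this
  · obtain ⟨c, rfl⟩ := hsurj a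
    obtain ⟨x, rfl⟩ := hb.2 c
    refine ⟨∑ m, x m, ?_⟩
    show _ = R _
    rw [map_sum, map_sum]
    exact Finset.sum_congr rfl fun m _ => ((hRξ m _).trans (hRP _)).symm

end Groth.Agent.H28.A1Hom
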