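import Groth.Agent.H28.A1Stable
import Mathlib.AlgebraicGeometry.Morphisms.Flat
import Mathlib.AlgebraicGeometry.Morphisms.IsIso

/-! An equivariant morphism which is an isomorphism on fixed points and flat there is an isomorphism. -/

universe u

open CategoryTheory CategoryTheory.Limits MonoidalCategory CartesianMonoidalCategory MonObj AlgebraicGeometry
open Opposite Magnet

namespace Groth.Agent.H28.A1Iso

open H23.CharPts MonA1 A1Stable

variable {S : Scheme.{u}}

theorem fixed_comp {U X : Over S} {aU : MonAct (AMonS S ℕ) U} {a : MonAct (AMonS S ℕ) X} {i : U ⟶ X} [Mono i]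
    (he : MonAct.IsEquivariant aU a i) {T : Over S} (x : T ⟶ U) : Fixed a (x ≫ i) ↔ Fixed aU x := by
  refine ⟨fun h T' t g => ?_, fun h T' t g => ?_⟩
  · rw [← cancel_mono i, Category.assoc, (MonAct.isEquivariant_iff _ _ _).mp he T' g (t ≫ x)]
    simp only [Category.assoc]
    exact h T' t g
  · rw [← Category.assoc, ← (MonAct.isEquivariant_iff _ _ _).mp he T' g (t ≫ x), ← Category.assoc (lift _ _), h T' t g]

theorem Fixed.comp {X : Over S} {a : MonAct (AMonS S ℕ) X} {T T' : Over S} {x : T ⟶ X} (h : Fixed a x) (u : T' ⟶ T) :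
    Fixed a (u ≫ x) := fun T'' t g => by rw [← Category.assoc]; exact h T'' (t ≫ u) g

theorem Fixed.map {X Y : Over S} {a : MonAct (AMonS S ℕ) X} {b : MonAct (AMonS S ℕ) Y} {f : X ⟶ Y}
    (hf : MonAct.IsEquivariant a b f) {T : Over S} {x : T ⟶ X} (h : Fixed a x) : Fixed b (x ≫ f) := fun T' t g => by
  rw [← Category.assoc, ← (MonAct.isEquivariant_iff _ _ _).mp hf T' g (t ≫ x), ← Category.assoc (lift _ _), h T' t g]

section Aff

variable {U : Over S} [IsAffine U.left] (aU : MonAct (AMonS S ℕ) U)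

/-- The quotient by the ideal of positive degrees. -/
noncomputable abbrev fixMap : CommRingCat.of (Fun U) ⟶ CommRingCat.of (Fun U ⧸ RingHom.ker (zeroHom aU)) :=
  CommRingCat.ofHom (Ideal.Quotient.mk (RingHom.ker (zeroHom aU)))

theorem fixPt_eq_zero (b : Fun U) : (specPt (fixMap aU)).left.appTop b = 0 ↔ b ∈ RingHom.ker (zeroHom aU) := by
  rw [specPt_appTop, map_eq_zero_iff _ (ConcreteCategory.bijective_of_isIso (Scheme.ΓSpecIso _).inv).1]
  exact Ideal.Quotient.eq_zero_iff_mem

theorem fixPt_surjective : Function.Surjective (specPt (fixMap aU)).left.appTop := fun r => by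
  obtain ⟨q, rfl⟩ := (ConcreteCategory.bijective_of_isIso
    (Scheme.ΓSpecIso (CommRingCat.of (Fun U ⧸ RingHom.ker (zeroHom aU)))).inv).2 r
  obtain ⟨b, rfl⟩ := Ideal.Quotient.mk_surjective q
  exact ⟨b, specPt_appTop _ _⟩

theorem fixPt_zeroHom (b : Fun U) :
    (specPt (fixMap aU)).left.appTop (zeroHom aU b) = (specPt (fixMap aU)).left.appTop b := by
  rw [← sub_eq_zero, ← map_sub, fixPt_eq_zero, RingHom.mem_ker, map_sub, zeroHom_idem, sub_self]

theorem fixed_fixPt : Fixed aU (specPt (fixMap aU)) := (fixed_iff aU _).mpr (fixPt_zeroHom aU)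

theorem exists_factor {T : Over S} (q : T ⟶ U) (h : Fixed aU q) :
    ∃ z : T ⟶ specOver (fixMap aU), z ≫ specPt (fixMap aU) = q := by
  let ψ : Fun U ⧸ RingHom.ker (zeroHom aU) →+* Γ(T.left, ⊤) := Ideal.Quotient.lift _ q.left.appTop.hom fun b hb => by
    show q.left.appTop b = 0
    rw [← (fixed_iff aU q).mp h b, RingHom.mem_ker.mp hb, map_zero]
  let zl : T.left ⟶ (specOver (fixMap aU)).left := T.left.toSpecΓ ≫ Spec.map (CommRingCat.ofHom ψ)
  have hz : zl ≫ (specPt (fixMap aU)).left = q.left := by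
    show (_ ≫ Spec.map _) ≫ Spec.map _ ≫ U.left.isoSpec.inv = _
    rw [Category.assoc, ← Category.assoc (Spec.map _), ← Spec.map_comp,
      show fixMap aU ≫ CommRingCat.ofHom ψ = q.left.appTop from rfl, ← Scheme.toSpecΓ_naturality_assoc]
    exact (congrArg (q.left ≫ ·) U.left.isoSpec.hom_inv_id).trans (Category.comp_id _)
  exact ⟨Over.homMk zl (by rw [← Over.w q, ← hz, Category.assoc]; rfl), Over.OverMorphism.ext hz⟩

theorem lim_appTop {T : Over S} (q : T ⟶ U) (c : Fun U) :
    (lift (zeroPt T) q ≫ aU.act).left.appTop c = q.left.appTop (zeroHom aU c) := by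
  rw [act_appTop, rr_zeroPt, Polynomial.eval₂_at_zero]
  rfl

end Aff

variable {X Y : Over S} (a : MonAct (AMonS S ℕ) X) (b : MonAct (AMonS S ℕ) Y) {f : X ⟶ Y}
  (hf : MonAct.IsEquivariant a b f)
  (hinj : ∀ (T : Over S) (x x' : T ⟶ X), Fixed a x → Fixed a x' → x ≫ f = x' ≫ f → x = x')
  (hlift : ∀ (T : Over S) (y : T ⟶ Y), Fixed b y → ∃ x, Fixed a x ∧ x ≫ f = y)
  (hcart : ∀ (T : Over S) (x : T ⟶ X), Fixed b (x ≫ f) → Fixed a x)
  (V : X.left.Opens) [Flat (V.ι ≫ f.left)]
  (hV : ∀ (T : Over S) (x : T ⟶ X), Fixed a x → ∀ t, x.left t ∈ V)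

include hf hinj hlift hcart hV in
theorem isIso_restrict (W : Y.left.Opens) [IsAffine (sub W).left] (hW : Stable b W)
    [IsAffine (sub (f.left ⁻¹ᵁ W)).left] : IsIso (f.left ∣_ W) := by
  let UA := sub (f.left ⁻¹ᵁ W)
  obtain ⟨aA, heA⟩ := exists_act a (stable_preimage hf hW)
  obtain ⟨aB, heB⟩ := exists_act b hW
  obtain ⟨g, hg⟩ := A1Stable.exists_lift (W := W) (inc (f.left ⁻¹ᵁ W) ≫ f) (fun t => t.2)
  have hge : MonAct.IsEquivariant aA aB g := by
    unfold MonAct.IsEquivariant
    rw [← cancel_mono (inc W), Category.assoc, Category.assoc, hg, heB, ← MonoidalCategory.whiskerLeft_comp_assoc, hg,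
      MonoidalCategory.whiskerLeft_comp, Category.assoc, ← hf, ← Category.assoc, heA, Category.assoc]
  obtain ⟨s, hs, hsf⟩ := hlift _ (specPt (fixMap aB) ≫ inc W) ((fixed_comp heB _).mpr (fixed_fixPt aB))
  obtain ⟨sA, hsA⟩ := A1Stable.exists_lift (W := f.left ⁻¹ᵁ W) s (fun t => by
    show f.left (s.left t) ∈ W
    rw [← Scheme.Hom.comp_apply, ← Over.comp_left, hsf]
    exact inc_mem _ t)
  have hsAg : sA ≫ g = specPt (fixMap aB) := by
    rw [← cancel_mono (inc W), Category.assoc, hg, reassoc_of% hsA, hsf]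
  have hbij : Function.Bijective g.left.appTop := by
    refine bijective_appTop hge (fun c hc => ?_) (fun c => ?_) ?_ ?_
    · have h : (specPt (fixMap aB)).left.appTop (zeroHom aB c) = 0 := by
        rw [← hsAg]
        show sA.left.appTop (g.left.appTop _) = 0
        rw [hc, map_zero]
      rw [fixPt_eq_zero, RingHom.mem_ker, zeroHom_idem] at h
      exact h
    · obtain ⟨z, hz⟩ := exists_factor aB (specPt (fixMap aA) ≫ g) (Fixed.map hge (fixed_fixPt aA))
      have hzs : z ≫ sA = specPt (fixMap aA) := by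
        rw [← cancel_mono (inc (f.left ⁻¹ᵁ W))]
        refine hinj _ _ _ ?_ ((fixed_comp heA _).mpr (fixed_fixPt aA)) ?_
        · rw [Category.assoc, hsA]
          exact Fixed.comp hs z
        · rw [Category.assoc, Category.assoc, Category.assoc, ← hg, reassoc_of% hsAg, reassoc_of% hz]
      obtain ⟨d, hd⟩ := fixPt_surjective aB (sA.left.appTop c)
      refine ⟨d, ?_⟩
      have h : (specPt (fixMap aA)).left.appTop (g.left.appTop d - c) = 0 := by
        rw [← hzs]
        show z.left.appTop (sA.left.appTop _) = 0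
        rw [map_sub, show sA.left.appTop (g.left.appTop d) = (specPt (fixMap aB)).left.appTop d from by rw [← hsAg]; rfl,
          hd, sub_self, map_zero]
      rw [fixPt_eq_zero, RingHom.mem_ker, map_sub, sub_eq_zero] at h
      exact h
    · intro c hc
      let J := (RingHom.ker (zeroHom aB)).map g.left.appTop.hom
      let χ : CommRingCat.of (Fun UA) ⟶ CommRingCat.of (Fun UA ⧸ J) := CommRingCat.ofHom (Ideal.Quotient.mk J)
      have h0 : ∀ d ∈ RingHom.ker (zeroHom aB), (specPt χ ≫ g).left.appTop d = 0 := fun d hd => by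
        show (specPt χ).left.appTop (g.left.appTop d) = 0
        rw [specPt_appTop]
        show (Scheme.ΓSpecIso (CommRingCat.of (Fun UA ⧸ J))).inv (Ideal.Quotient.mk J (g.left.appTop.hom d)) = 0
        rw [Ideal.Quotient.eq_zero_iff_mem.mpr (Ideal.mem_map_of_mem _ hd), map_zero]
      have hfix : Fixed aB (specPt χ ≫ g) := (fixed_iff aB _).mpr fun d => by
        rw [← sub_eq_zero, ← map_sub]
        exact h0 _ (by rw [RingHom.mem_ker, map_sub, zeroHom_idem, sub_self])
      have hx : Fixed aA (specPt χ) := (fixed_comp heA _).mp (hcart _ _ (by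
        rw [Category.assoc, ← hg, ← Category.assoc]
        exact (fixed_comp heB _).mpr hfix))
      have h := (fixed_iff aA _).mp hx c
      rw [RingHom.mem_ker.mp hc, map_zero, specPt_appTop] at h
      exact Ideal.Quotient.eq_zero_iff_mem.mp
        ((ConcreteCategory.bijective_of_isIso (Scheme.ΓSpecIso (CommRingCat.of (Fun UA ⧸ J))).inv).1
          (h.symm.trans (map_zero _).symm))
    · intro P hP hle
      let pt : ↥UA.left := UA.left.isoSpec.inv (⟨P, hP⟩ : PrimeSpectrum (Fun UA))
      have hmem : (inc (f.left ⁻¹ᵁ W)).left pt ∈ V := by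
        let τ : PrimeSpectrum (Fun UA ⧸ RingHom.ker (zeroHom aA)) :=
          ⟨P.map (Ideal.Quotient.mk _), Ideal.map_isPrime_of_surjective Ideal.Quotient.mk_surjective
            (by rw [Ideal.mk_ker]; exact hle)⟩
        have hτ : PrimeSpectrum.comap (Ideal.Quotient.mk _) τ = (⟨P, hP⟩ : PrimeSpectrum (Fun UA)) := by
          apply PrimeSpectrum.ext
          show (P.map (Ideal.Quotient.mk _)).comap (Ideal.Quotient.mk _) = P
          rw [Ideal.comap_map_of_surjective _ Ideal.Quotient.mk_surjective, sup_eq_left,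
            ← RingHom.ker_eq_comap_bot, Ideal.mk_ker]
          exact hle
        have h := hV _ (specPt (fixMap aA) ≫ inc (f.left ⁻¹ᵁ W)) ((fixed_comp heA _).mpr (fixed_fixPt aA)) τ
        change (inc (f.left ⁻¹ᵁ W)).left (UA.left.isoSpec.inv (PrimeSpectrum.comap (Ideal.Quotient.mk _) τ)) ∈ V at h
        rwa [hτ] at h
      obtain ⟨c, hcV, hcp⟩ := (isAffineOpen_top UA.left).exists_basicOpen_le
        (V := (inc (f.left ⁻¹ᵁ W)).left ⁻¹ᵁ V) ⟨pt, hmem⟩ trivial
      have hpre : UA.left.isoSpec.inv ⁻¹ᵁ UA.left.basicOpen c = PrimeSpectrum.basicOpen c := by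
        rw [Scheme.preimage_basicOpen_top, isoSpec_inv_appTop]
        exact basicOpen_eq_of_affine c
      refine ⟨c, ?_, ?_⟩
      · have : (⟨P, hP⟩ : PrimeSpectrum (Fun UA)) ∈ UA.left.isoSpec.inv ⁻¹ᵁ UA.left.basicOpen c := hcp
        rw [hpre] at this
        exact this
      let χ : CommRingCat.of (Fun UA) ⟶ CommRingCat.of (Localization.Away c) :=
        CommRingCat.ofHom (algebraMap (Fun UA) (Localization.Away c))
      haveI : IsOpenImmersion (Spec.map χ) := IsOpenImmersion.of_isLocalization c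
      haveI : IsOpenImmersion (specPt χ).left := inferInstanceAs (IsOpenImmersion (_ ≫ _))
      obtain ⟨l, hl⟩ := A1Stable.exists_lift (W := V) (specPt χ ≫ inc (f.left ⁻¹ᵁ W)) (fun t => by
        refine hcV (show (specPt χ).left t ∈ UA.left.basicOpen c from ?_)
        have : Spec.map χ t ∈ PrimeSpectrum.basicOpen c :=
          (PrimeSpectrum.localization_away_comap_range (Localization.Away c) c).le ⟨t, rfl⟩
        rw [← hpre] at this
        exact this)
      haveI : IsOpenImmersion (l.left ≫ V.ι) := by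
        rw [show l.left ≫ V.ι = (specPt χ ≫ inc (f.left ⁻¹ᵁ W)).left from congrArg Over.Hom.left hl]
        exact inferInstanceAs (IsOpenImmersion ((specPt χ).left ≫ (f.left ⁻¹ᵁ W).ι))
      haveI : IsOpenImmersion l.left := IsOpenImmersion.of_comp l.left V.ι
      let e := (specPt χ).left ≫ g.left
      haveI : Flat (e ≫ W.ι) := by
        rw [show e ≫ W.ι = l.left ≫ V.ι ≫ f.left from by
          have := congrArg (fun q => (q ≫ f).left) hl
          simp only [Category.assoc, ← hg] at this
          exact (this.trans rfl).symm]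
        infer_instance
      haveI : Flat e := MorphismProperty.of_isPullback (P := @Flat)
        (IsOpenImmersion.isPullback e (𝟙 _) W.ι (e ≫ W.ι) (Category.id_comp _) (by
          rw [Scheme.Opens.opensRange_ι, Scheme.Hom.opensRange_of_isIso]
          exact top_le_iff.mp fun t _ => (e t).2)).flip ‹_›
      have hfl : Flat (Spec.map (CommRingCat.ofHom ((algebraMap (Fun UA) (Localization.Away c)).comp g.left.appTop.hom))) := by
        rw [CommRingCat.ofHom_comp, Spec.map_comp,
          show Spec.map (CommRingCat.ofHom g.left.appTop.hom) = UA.left.isoSpec.inv ≫ g.left ≫ (sub W).left.isoSpec.hom by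
            rw [← Scheme.isoSpec_hom_naturality, Iso.inv_hom_id_assoc]; rfl]
        show Flat (Spec.map χ ≫ _)
        rw [← Category.assoc, ← Category.assoc]
        exact inferInstanceAs (Flat (e ≫ (sub W).left.isoSpec.hom))
      exact (Flat.SpecMap_iff).mp hfl
  haveI : IsIso g.left.appTop := (ConcreteCategory.isIso_iff_bijective _).mpr hbij
  have he : g.left = UA.left.isoSpec.hom ≫ Spec.map g.left.appTop ≫ (sub W).left.isoSpec.inv := by
    rw [Scheme.isoSpec_hom, ← Scheme.toSpecΓ_naturality_assoc]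
    exact ((congrArg (g.left ≫ ·) (sub W).left.isoSpec.hom_inv_id).trans (Category.comp_id _)).symm
  have : f.left ∣_ W = g.left := by
    rw [← cancel_mono W.ι, (isPullback_morphismRestrict f.left W).w]
    exact (congrArg Over.Hom.left hg).symm
  rw [this, he]
  infer_instance

include hf hinj hlift hcart hV in
theorem isIso (hX : ∀ x : X.left, ∃ U : X.left.Opens, x ∈ U ∧ IsAffineOpen U ∧ Stable a U)
    (hY : ∀ y : Y.left, ∃ U : Y.left.Opens, y ∈ U ∧ IsAffineOpen U ∧ Stable b U) : IsIso f := by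
  have key : ∀ y : Y.left, ∃ W : Y.left.Opens, y ∈ W ∧ IsAffine (sub W).left ∧ Stable b W ∧
      IsAffine (sub (f.left ⁻¹ᵁ W)).left := by
    intro y
    let PT : Over S := Over.mk (Y.left.fromSpecResidueField y ≫ Y.hom)
    let py : PT ⟶ Y := Over.homMk (Y.left.fromSpecResidueField y) rfl
    haveI : Subsingleton ↥PT.left := inferInstanceAs (Subsingleton (PrimeSpectrum (Y.left.residueField y)))
    let cK : ↥PT.left := IsLocalRing.closedPoint (Y.left.residueField y)
    let yl := lim0 b py
    obtain ⟨UY, hy0, hUYa, hUYs⟩ := hY (yl.left cK)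
    haveI : IsAffine (sub UY).left := hUYa
    obtain ⟨bU, heU⟩ := exists_act b hUYs
    obtain ⟨qy, hqy⟩ := A1Stable.exists_lift (W := UY) yl (fun t => by rw [Subsingleton.elim t cK]; exact hy0)
    have hqyf : Fixed bU qy := (fixed_comp heU qy).mp (hqy ▸ fixed_lim0 b py)
    obtain ⟨x0, hx0, hx0f⟩ := hlift _ yl (fixed_lim0 b py)
    obtain ⟨U1, hx1, hU1a, hU1s⟩ := hX (x0.left cK)
    haveI : IsAffine (sub U1).left := hU1a
    obtain ⟨a1, he1⟩ := exists_act a hU1s
    obtain ⟨q1, hq1⟩ := A1Stable.exists_lift (W := U1) x0 (fun t => by rw [Subsingleton.elim t cK]; exact hx1)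
    have hq1f : Fixed a1 q1 := (fixed_comp he1 q1).mp (hq1 ▸ hx0)
    have hfx0 : (q1 ≫ inc U1).left cK ∈ f.left ⁻¹ᵁ UY := by
      rw [hq1]
      show f.left (x0.left cK) ∈ UY
      rw [← Scheme.Hom.comp_apply, ← Over.comp_left, hx0f]
      exact hy0
    obtain ⟨c, hcle, hcmem⟩ := (isAffineOpen_top (sub U1).left).exists_basicOpen_le
      (V := (inc U1).left ⁻¹ᵁ (f.left ⁻¹ᵁ UY)) ⟨q1.left cK, hfx0⟩ trivial
    let W2 := D U1 (zeroHom a1 c)
    haveI : IsAffine (sub W2).left := isAffine_D _
    have hW2s : Stable a W2 := stable_D a a1 he1 c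
    obtain ⟨a2, he2⟩ := exists_act a hW2s
    have hx0W2 : x0.left cK ∈ W2 := by
      rw [← hq1, mem_D, (fixed_iff a1 q1).mp hq1f, ← Scheme.preimage_basicOpen_top]
      exact hcmem
    have hW2le : W2 ≤ f.left ⁻¹ᵁ UY := by
      intro x hx
      let PX : Over S := Over.mk (X.left.fromSpecResidueField x ≫ X.hom)
      let px : PX ⟶ X := Over.homMk (X.left.fromSpecResidueField x) rfl
      have hpx : ∀ t, px.left t = x := fun t => X.left.fromSpecResidueField_apply x t
      obtain ⟨q, hq⟩ := A1Stable.exists_lift (W := U1) px (fun t => by rw [hpx]; exact D_le _ _ hx)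
      let t0 : ↥PX.left := IsLocalRing.closedPoint (X.left.residueField x)
      rw [← hpx t0]
      refine mem_of_lim0 a (stable_preimage hf hUYs) px t0 ?_
      have hl : lim0 a px = (lift (zeroPt PX) q ≫ a1.act) ≫ inc U1 := by
        rw [lim0, ← hq, Category.assoc, (MonAct.isEquivariant_iff _ _ _).mp he1]
      rw [hl]
      refine hcle (show (lift (zeroPt PX) q ≫ a1.act).left t0 ∈ (sub U1).left.basicOpen c from ?_)
      show t0 ∈ (lift (zeroPt PX) q ≫ a1.act).left ⁻¹ᵁ (sub U1).left.basicOpen c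
      rw [Scheme.preimage_basicOpen_top, lim_appTop]
      rw [← hpx t0, ← hq, mem_D] at hx
      exact hx
    obtain ⟨f2, hf2⟩ := A1Stable.exists_lift (W := UY) (inc W2 ≫ f) (fun t => hW2le t.2)
    obtain ⟨s, hs, hsf⟩ := hlift _ (specPt (fixMap bU) ≫ inc UY) ((fixed_comp heU _).mpr (fixed_fixPt bU))
    obtain ⟨z, hz⟩ := exists_factor bU qy hqyf
    have hzs : z ≫ s = x0 := hinj _ _ _ (Fixed.comp hs z) hx0 (by rw [Category.assoc, hsf, reassoc_of% hz, hqy, hx0f])
    obtain ⟨r, hrle, hrmem⟩ := (isAffineOpen_top (specOver (fixMap bU)).left).exists_basicOpen_le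
      (V := s.left ⁻¹ᵁ W2) ⟨z.left cK, by
        show s.left (z.left cK) ∈ W2
        rw [← Scheme.Hom.comp_apply, ← Over.comp_left, hzs]
        exact hx0W2⟩ trivial
    obtain ⟨d, hd⟩ := fixPt_surjective bU r
    let W := D UY (zeroHom bU d)
    have hWs : Stable b W := stable_D b bU heU d
    have hpre : ∀ {T : Over S} (q : T ⟶ sub UY) (w : T ⟶ specOver (fixMap bU)) (_ : w ≫ specPt (fixMap bU) = q) (t : T.left),
        (q ≫ inc UY).left t ∈ W ↔ w.left t ∈ (specOver (fixMap bU)).left.basicOpen r := by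
      intro T q w hw t
      rw [mem_D, ← hw]
      show t ∈ T.left.basicOpen (w.left.appTop ((specPt (fixMap bU)).left.appTop (zeroHom bU d))) ↔ _
      rw [fixPt_zeroHom, hd, ← Scheme.preimage_basicOpen_top]
      rfl
    have hyW : y ∈ W := by
      have := mem_of_lim0 b hWs py cK (by
        show yl.left cK ∈ W
        rw [← hqy, hpre qy z hz]
        exact hrmem)
      rwa [show py.left cK = y from Y.left.fromSpecResidueField_apply y cK] at this
    have hWle : f.left ⁻¹ᵁ W ≤ W2 := by
      intro x hx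
      let PX : Over S := Over.mk (X.left.fromSpecResidueField x ≫ X.hom)
      let px : PX ⟶ X := Over.homMk (X.left.fromSpecResidueField x) rfl
      have hpx : ∀ t, px.left t = x := fun t => X.left.fromSpecResidueField_apply x t
      let t0 : ↥PX.left := IsLocalRing.closedPoint (X.left.residueField x)
      have hxl : ∀ t, (lim0 a px ≫ f).left t ∈ W := by
        rw [lim0, Category.assoc, (MonAct.isEquivariant_iff _ _ _).mp hf]
        exact hWs PX _ (px ≫ f) (fun t => by
          show f.left (px.left t) ∈ W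
          rw [hpx]; exact hx)
      obtain ⟨q, hq⟩ := A1Stable.exists_lift (W := UY) (lim0 a px ≫ f) (fun t => D_le _ _ (hxl t))
      have hqf : Fixed bU q := (fixed_comp heU q).mp (hq ▸ Fixed.map hf (fixed_lim0 a px))
      obtain ⟨w, hw⟩ := exists_factor bU q hqf
      have hws : w ≫ s = lim0 a px :=
        hinj _ _ _ (Fixed.comp hs w) (fixed_lim0 a px) (by rw [Category.assoc, hsf, reassoc_of% hw, hq])
      rw [← hpx t0]
      refine mem_of_lim0 a hW2s px t0 ?_
      rw [← hws]
      have h1 := hxl t0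
      rw [← hq, hpre q w hw] at h1
      exact hrle h1
    have heq : f.left ⁻¹ᵁ W = D W2 (f2.left.appTop (zeroHom bU d)) := by
      ext x
      let PX : Over S := Over.mk (X.left.fromSpecResidueField x ≫ X.hom)
      let px : PX ⟶ X := Over.homMk (X.left.fromSpecResidueField x) rfl
      have hpx : ∀ t, px.left t = x := fun t => X.left.fromSpecResidueField_apply x t
      let t0 : ↥PX.left := IsLocalRing.closedPoint (X.left.residueField x)
      by_cases hx : x ∈ W2
      · obtain ⟨q, hq⟩ := A1Stable.exists_lift (W := W2) px (fun t => by rw [hpx]; exact hx)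
        rw [← hpx t0]
        show (px ≫ f).left t0 ∈ W ↔ px.left t0 ∈ D W2 _
        rw [← hq, Category.assoc, ← hf2, ← Category.assoc, mem_D, mem_D]
        rfl
      · exact iff_of_false (fun h => hx (hWle h)) (fun h => hx (D_le _ _ h))
    refine ⟨W, hyW, isAffine_D _, hWs, ?_⟩
    rw [heq]
    exact isAffine_D _
  choose W hmem hA hs hA' using key
  haveI : IsIso f.left := by
    show MorphismProperty.isomorphisms Scheme.{u} f.left
    refine (IsZariskiLocalAtTarget.iff_of_iSup_eq_top (P := MorphismProperty.isomorphisms Scheme.{u}) W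
      (top_le_iff.mp fun y _ => TopologicalSpace.Opens.mem_iSup.mpr ⟨y, hmem y⟩)).mpr fun y => ?_
    haveI := hA y
    haveI := hA' y
    exact isIso_restrict a b hf hinj hlift hcart V hV (W y) (hs y)
  haveI : IsIso ((Over.forget S).map f) := ‹IsIso f.left›
  exact isIso_of_reflects_iso f (Over.forget S)

end Groth.Agent.H28.A1Iso
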