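import Groth.Agent.H28.MonA1
import Mathlib.AlgebraicGeometry.ResidueField
import Mathlib.RingTheory.Localization.FractionRing

/-! Stable opens for actions of the multiplicative monoid of the affine line. -/

universe u

open CategoryTheory CategoryTheory.Limits MonoidalCategory CartesianMonoidalCategory MonObj AlgebraicGeometry
open Opposite Magnet

namespace Groth.Agent.H28.A1Stable

open H23.CharPts MonA1

variable {S : Scheme.{u}} {X : Over S} (a : MonAct (AMonS S ℕ) X)

/-- Stability of an open subscheme, on points. -/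
def Stable (W : X.left.Opens) : Prop :=
  ∀ (T : Over S) (g : T ⟶ AMonS S ℕ) (x : T ⟶ X), (∀ t, x.left t ∈ W) → ∀ t, (lift g x ≫ a.act).left t ∈ W

theorem stable_of_le {W : X.left.Opens} (h : (snd (AMonS S ℕ) X).left ⁻¹ᵁ W ≤ a.act.left ⁻¹ᵁ W) : Stable a W := by
  intro T g x hx t
  refine h (show (lift g x).left t ∈ (snd (AMonS S ℕ) X).left ⁻¹ᵁ W from ?_)
  show (snd (AMonS S ℕ) X).left ((lift g x).left t) ∈ W
  rw [← Scheme.Hom.comp_apply, ← Over.comp_left, lift_snd]
  exact hx t

/-- An open subscheme. -/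
noncomputable abbrev sub (W : X.left.Opens) : Over S := Over.mk (W.ι ≫ X.hom)

/-- Its inclusion. -/
noncomputable abbrev inc (W : X.left.Opens) : sub W ⟶ X := Over.homMk W.ι rfl

instance mono_inc (W : X.left.Opens) : Mono (inc W) := (Over.forget S).mono_of_mono_map (inferInstanceAs (Mono W.ι))

theorem exists_lift {W : X.left.Opens} {T : Over S} (p : T ⟶ X) (h : ∀ t, p.left t ∈ W) :
    ∃ q : T ⟶ sub W, q ≫ inc W = p := by
  have hr : Set.range p.left ⊆ Set.range W.ι := by
    rintro _ ⟨t, rfl⟩
    rw [W.range_ι]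
    exact h t
  exact ⟨Over.homMk (IsOpenImmersion.lift W.ι p.left hr)
    (by show _ ≫ W.ι ≫ X.hom = _; rw [← Category.assoc, IsOpenImmersion.lift_fac, Over.w p]),
    Over.OverMorphism.ext (IsOpenImmersion.lift_fac _ _ _)⟩

theorem inc_mem {W : X.left.Opens} {T : Over S} (q : T ⟶ sub W) (t : T.left) : (q ≫ inc W).left t ∈ W :=
  (q.left t).2

theorem exists_act {W : X.left.Opens} (h : Stable a W) :
    ∃ aW : MonAct (AMonS S ℕ) (sub W), MonAct.IsEquivariant aW a (inc W) := by
  obtain ⟨act, hact⟩ := exists_lift ((AMonS S ℕ ◁ inc W) ≫ a.act) (by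
    intro t
    rw [show AMonS S ℕ ◁ inc W = lift (fst _ _) (snd _ _ ≫ inc W) from
      CartesianMonoidalCategory.hom_ext _ _ (by simp) (by simp)]
    exact h _ _ _ (fun z => inc_mem _ z) t)
  refine ⟨MonAct.mk' act (fun T x => ?_) (fun T g g' x => ?_), hact⟩
  · rw [← cancel_mono (inc W), Category.assoc, hact, lift_whiskerLeft_assoc, MonAct.lift_one_act]
  · simp only [← cancel_mono (inc W), Category.assoc, hact, lift_whiskerLeft_assoc]
    rw [MonAct.lift_mul_act]

/-- The zero point. -/
noncomputable def zeroPt (T : Over S) : T ⟶ AMonS S ℕ := (exists_rr (T := T) 0).choose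

theorem rr_zeroPt (T : Over S) : rr (zeroPt T) = 0 := (exists_rr (T := T) 0).choose_spec

theorem comp_zeroPt {T T' : Over S} (u : T' ⟶ T) : u ≫ zeroPt T = zeroPt T' :=
  rr_injective (by rw [rr_comp, rr_zeroPt, rr_zeroPt, map_zero])

theorem mul_zeroPt {T : Over S} (g : T ⟶ AMonS S ℕ) : g * zeroPt T = zeroPt T :=
  rr_injective (by rw [rr_mul, rr_zeroPt, mul_zero])

/-- The limit at zero. -/
noncomputable def lim0 {T : Over S} (x : T ⟶ X) : T ⟶ X := lift (zeroPt T) x ≫ a.act

theorem comp_lim0 {T T' : Over S} (u : T' ⟶ T) (x : T ⟶ X) : u ≫ lim0 a x = lim0 a (u ≫ x) := by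
  rw [lim0, lim0, comp_lift_assoc, comp_zeroPt]

theorem fixed_lim0 {T : Over S} (x : T ⟶ X) : Fixed a (lim0 a x) := by
  intro T' t g
  rw [comp_lim0, lim0, ← MonAct.lift_mul_act, mul_zeroPt]

/-- A stable open containing the limit of a point contains the point. -/
theorem mem_of_lim0 {W : X.left.Opens} (hW : Stable a W) {T : Over S} (x : T ⟶ X) (t : T.left)
    (h : (lim0 a x).left t ∈ W) : x.left t ∈ W := by
  let K := T.left.residueField t
  let P := CommRingCat.of (Polynomial K)
  let L := CommRingCat.of (FractionRing (Polynomial K))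
  let s0 : Spec K ⟶ Spec P := Spec.map (CommRingCat.ofHom (Polynomial.evalRingHom 0))
  let pr : Spec P ⟶ Spec K := Spec.map (CommRingCat.ofHom Polynomial.C)
  let gen : Spec L ⟶ Spec P := Spec.map (CommRingCat.ofHom (algebraMap (Polynomial K) (FractionRing (Polynomial K))))
  let TK : Over S := Over.mk (T.left.fromSpecResidueField t ≫ T.hom)
  let u : TK ⟶ T := Over.homMk (T.left.fromSpecResidueField t) rfl
  let TP : Over S := Over.mk (pr ≫ TK.hom)
  let p : TP ⟶ TK := Over.homMk pr rfl
  let TL : Over S := Over.mk (gen ≫ TP.hom)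
  let e : TL ⟶ TP := Over.homMk gen rfl
  have hs0 : s0 ≫ pr = 𝟙 _ := by
    rw [← Spec.map_comp, ← Spec.map_id]
    congr 1
    ext r
    exact Polynomial.eval_C
  let s : TK ⟶ TP := Over.homMk s0 (by show s0 ≫ pr ≫ TK.hom = _; rw [← Category.assoc, hs0, Category.id_comp])
  obtain ⟨m, hm⟩ := exists_rr (T := TP) ((Scheme.ΓSpecIso P).inv Polynomial.X)
  let q : TP ⟶ X := lift m (p ≫ u ≫ x) ≫ a.act
  have hsm : s ≫ m = zeroPt TK := rr_injective (by
    rw [rr_comp, hm, rr_zeroPt]
    refine (ConcreteCategory.congr_hom (Scheme.ΓSpecIso_inv_naturality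
      (CommRingCat.ofHom (Polynomial.evalRingHom (0 : K)))) Polynomial.X).symm.trans ?_
    show (Scheme.ΓSpecIso K).inv (Polynomial.eval 0 Polynomial.X) = 0
    rw [Polynomial.eval_X, map_zero])
  have hsq : s ≫ q = u ≫ lim0 a x := by
    rw [comp_lim0]
    simp only [q, lim0, comp_lift_assoc, hsm]
    congr 2
    rw [← Category.assoc, show s ≫ p = 𝟙 _ from Over.OverMorphism.ext hs0, Category.id_comp]
  let cK : ↥(Spec K) := IsLocalRing.closedPoint K
  have hu : u.left cK = t := T.left.fromSpecResidueField_apply t cK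
  have h0 : q.left (s.left cK) ∈ W := by
    rw [← Scheme.Hom.comp_apply, ← Over.comp_left, hsq, Over.comp_left, Scheme.Hom.comp_apply, hu]
    exact h
  let gp : ↥(Spec L) := IsLocalRing.closedPoint (FractionRing (Polynomial K))
  have hgp : ∀ z, (e ≫ q).left z ∈ W := fun z => by
    suffices h : e.left z ⤳ s.left cK from by
      have h2 : q.left (e.left z) ⤳ q.left (s.left cK) := Specializes.map (f := fun w => q.left w) h q.left.continuous
      exact h2.mem_open W.2 h0
    refine (PrimeSpectrum.le_iff_specializes (gen z) (s0 cK)).mp ?_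
    intro r hr
    have hz : (z : PrimeSpectrum (FractionRing (Polynomial K))).asIdeal = ⊥ :=
      (Ideal.eq_bot_or_top _).resolve_right (Ideal.IsPrime.ne_top inferInstance)
    change algebraMap _ _ r ∈ (z : PrimeSpectrum (FractionRing (Polynomial K))).asIdeal at hr
    rw [hz, Ideal.mem_bot, map_eq_zero_iff _ (IsFractionRing.injective _ _)] at hr
    rw [hr]
    exact Ideal.zero_mem _
  let eL := Scheme.ΓSpecIso L
  obtain ⟨g', hg'⟩ := exists_rr (T := TL) (eL.inv ((algebraMap (Polynomial K) (FractionRing (Polynomial K)) Polynomial.X)⁻¹))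
  have hgm : g' * (e ≫ m) = 1 := rr_injective (by
    rw [rr_mul, rr_comp, hg', hm, rr_one]
    have h1 : e.left.appTop ((Scheme.ΓSpecIso P).inv Polynomial.X) =
        eL.inv (algebraMap (Polynomial K) (FractionRing (Polynomial K)) Polynomial.X) :=
      (ConcreteCategory.congr_hom (Scheme.ΓSpecIso_inv_naturality
        (CommRingCat.ofHom (algebraMap (Polynomial K) (FractionRing (Polynomial K))))) Polynomial.X).symm
    rw [h1]
    refine (map_mul eL.inv.hom _ _).symm.trans ?_
    rw [inv_mul_cancel₀ (fun h => Polynomial.X_ne_zero ((map_eq_zero_iff _ (IsFractionRing.injective _ _)).mp h))]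
    exact map_one eL.inv.hom)
  have h1 := hW TL g' (e ≫ q) hgp gp
  rw [show lift g' (e ≫ q) ≫ a.act = e ≫ p ≫ u ≫ x from by
    simp only [q, comp_lift_assoc]
    rw [← MonAct.lift_mul_act, hgm, MonAct.lift_one_act]] at h1
  change x.left (u.left (p.left (e.left gp))) ∈ W at h1
  rwa [show p.left (e.left gp) = cK from Subsingleton.elim (α := PrimeSpectrum K) _ _, hu] at h1

variable {a}

/-- Preimages of stable opens are stable. -/
theorem stable_preimage {Y : Over S} {b : MonAct (AMonS S ℕ) Y} {f : X ⟶ Y} (hf : MonAct.IsEquivariant a b f)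
    {W : Y.left.Opens} (hW : Stable b W) : Stable a (f.left ⁻¹ᵁ W) := by
  intro T g x hx t
  show f.left ((lift g x ≫ a.act).left t) ∈ W
  rw [← Scheme.Hom.comp_apply, ← Over.comp_left, Category.assoc, (MonAct.isEquivariant_iff _ _ _).mp hf T g x]
  exact hW T g (x ≫ f) hx t

variable (a)

/-- The open where a function on an affine open does not vanish. -/
noncomputable abbrev D (W : X.left.Opens) (c : Fun (sub W)) : X.left.Opens := W.ι ''ᵁ ((sub W).left.basicOpen c)

theorem isAffine_D {W : X.left.Opens} [IsAffine (sub W).left] (c : Fun (sub W)) : IsAffineOpen (D W c) :=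
  ((isAffineOpen_top (sub W).left).basicOpen c).image_of_isOpenImmersion W.ι

theorem mem_D {W : X.left.Opens} {c : Fun (sub W)} {T : Over S} (q : T ⟶ sub W) (t : T.left) :
    (q ≫ inc W).left t ∈ D W c ↔ t ∈ T.left.basicOpen (q.left.appTop c) := by
  rw [show T.left.basicOpen (q.left.appTop c) = q.left ⁻¹ᵁ (sub W).left.basicOpen c from
    (Scheme.preimage_basicOpen_top q.left c).symm]
  show W.ι (q.left t) ∈ D W c ↔ q.left t ∈ (sub W).left.basicOpen c
  exact W.ι.isOpenEmbedding.injective.mem_set_image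

theorem D_le (W : X.left.Opens) (c : Fun (sub W)) : D W c ≤ W := by
  rintro _ ⟨z, -, rfl⟩
  exact z.2

theorem stable_D {W : X.left.Opens} [IsAffine (sub W).left] (aW : MonAct (AMonS S ℕ) (sub W))
    (he : MonAct.IsEquivariant aW a (inc W)) (c : Fun (sub W)) : Stable a (D W (zeroHom aW c)) := by
  intro T g x hx t
  obtain ⟨q, rfl⟩ := exists_lift x (fun t => D_le W _ (hx t))
  rw [← (MonAct.isEquivariant_iff _ _ _).mp he T g q, ← Category.assoc, mem_D, act_fixedPart, ← mem_D]
  exact hx t

end Groth.Agent.H28.A1Stable
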