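import Groth.Agent.H28.A1Hom

/-!
# Restriction from the affine line to the torus on `K₀` of coherent modules
-/

set_option autoImplicit false
set_option linter.style.haveILetI false
set_option linter.unusedSectionVars false
set_option backward.isDefEq.respectTransparency false
set_option backward.isDefEq.respectTransparency.types false
set_option maxHeartbeats 1000000

universe u

open CategoryTheory CategoryTheory.Limits AlgebraicGeometry TopologicalSpace Opposite

noncomputable section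

namespace Groth.Agent.H28.A1Torus

open Groth.Agent Groth.Agent.H28.A1Hom Groth.Agent.H28.KRRTw Groth.Agent.H28.KRRReg

variable (S : Scheme.{u})

local notation "A" => AffChart.AS 1 S

/-- The points of `P^1_S` where the second coordinate vanishes. -/
def Z₁ : Set (KRR.PY 1 S) := {y | ¬ inD 1 S y ⟨1⟩}

theorem preimage_D1 :
    AffineSpace.toSpecMvPoly (ULift.{u} (Fin 1)) S ⁻¹ᵁ ((AffChart.chartZ 1) ⁻¹ᵁ
      Proj.basicOpen (CohB1.polyGrading 1 (ULift.{u} ℤ)) (MvPolynomial.X 1)) =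
      (A).basicOpen (AffineSpace.coord S (ULift.up (0 : Fin 1))) := by
  let 𝒢 := CohB1.polyGrading 1 (ULift.{u} ℤ)
  let P := MvPolynomial (ULift.{u} (Fin 1)) (ULift.{u} ℤ)
  let e := (RingEquiv.ofBijective (AffChart.φ.{u} 1) (AffChart.φ_bijective 1))
  have h1 : (AffChart.chartZ.{u} 1) ⁻¹ᵁ Proj.basicOpen 𝒢 (MvPolynomial.X 1) =
      PrimeSpectrum.basicOpen (MvPolynomial.X (ULift.up (0 : Fin 1)) : P) := by
    rw [AffChart.chartZ, Scheme.Hom.comp_preimage,
      Proj.awayι_preimage_basicOpen 𝒢 (ProjPt.X_mem (0 : Fin 2)) Nat.one_pos (ProjPt.X_mem (1 : Fin 2)) Nat.one_pos]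
    show (PrimeSpectrum.basicOpen (e.symm (HomogeneousLocalization.Away.isLocalizationElem _ _)) :
      TopologicalSpace.Opens (PrimeSpectrum P)) = _
    congr 1
    rw [RingEquiv.symm_apply_eq]
    refine HomogeneousLocalization.val_injective _ ?_
    show _ = (AffChart.φ 1 (MvPolynomial.X (ULift.up (0 : Fin 1)))).val
    simp only [AffChart.φ, PnChart.poly, RingHom.comp_apply, RingEquiv.toRingHom_eq_coe,
      RingEquiv.coe_toRingHom, AlgEquiv.toRingEquiv_eq_coe, AlgEquiv.coe_ringEquiv,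
      MvPolynomial.renameEquiv_apply, MvPolynomial.rename_X, MvPolynomial.eval₂Hom_X']
    simp [ProjPt.crd, HomogeneousLocalization.Away.isLocalizationElem]

  rw [h1]
  have h2 : (PrimeSpectrum.basicOpen (MvPolynomial.X (ULift.up (0 : Fin 1)) : P) :
      (Spec (CommRingCat.of P)).Opens) = (Spec (CommRingCat.of P)).basicOpen
        ((Scheme.ΓSpecIso (CommRingCat.of P)).inv (MvPolynomial.X (ULift.up (0 : Fin 1)))) := by
    rw [basicOpen_eq_of_affine]
  rw [h2, Scheme.preimage_basicOpen_top]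
  rfl

theorem mem_Z₁_iff (a : A) : AffChart.chart 1 S a ∈ Z₁ S ↔
    a ∉ (A).basicOpen (AffineSpace.coord S (ULift.up (0 : Fin 1))) := by
  rw [← preimage_D1 S]
  show ¬ (pullback.fst (CohB1.ProjSpace.toSpec 1 (ULift.{u} ℤ)) (specULiftZIsTerminal.from S) (AffChart.chart 1 S a) ∈
    Proj.basicOpen (CohB1.polyGrading 1 (ULift.{u} ℤ)) (MvPolynomial.X 1)) ↔ _
  have h : pullback.fst (CohB1.ProjSpace.toSpec 1 (ULift.{u} ℤ)) (specULiftZIsTerminal.from S) (AffChart.chart 1 S a) =
      (AffineSpace.toSpecMvPoly (ULift.{u} (Fin 1)) S ≫ AffChart.chartZ 1) a := by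
    rw [← AffChart.chart_fst 1 S]; rfl
  exact not_congr (Iff.of_eq (congrArg (· ∈ Proj.basicOpen (CohB1.polyGrading 1 (ULift.{u} ℤ)) (MvPolynomial.X 1)) h))

theorem Z₁_subset [AlgebraicGeometry.IsNoetherian S] : Z₁ S ⊆ Set.range (AffChart.chart 1 S) := by
  intro y hy
  rw [range_chart 1 S]
  intro hy0
  obtain ⟨⟨j⟩, hj⟩ := Opens.mem_iSup.1 ((crd_cover.{u} (n := 1)).ge (trivial : toPn 1 S y ∈ (⊤ : Opens _)))
  fin_cases j
  · exact hy0 ⟨0⟩ le_rfl hj
  · exact hy hj

variable [AlgebraicGeometry.IsNoetherian S]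

local instance : AlgebraicGeometry.IsNoetherian (KRR.PY 1 S) := PushComp.isNoetherian_PY 1 S

theorem delta_sq (z : SGA6.Kcoh (KRR.PY 1 S)) : δ 1 S (δ 1 S z) = 0 := by
  have h0 : δ 1 S z ∈ Sup (W 1 S 0) := by
    rw [δ_apply]
    exact delta_mem 1 S ⟨0⟩ (fun y _ hy => by
      by_contra h
      exact hy fun j hj => (show j = ⟨0⟩ from ULift.ext _ _ (Fin.ext (Nat.le_zero.1 hj))) ▸ h) (mem_univ_sup 1 S z)
  have h := δ_pow_mem 1 S h0 1 le_rfl
  rw [W_top, pow_one] at h
  exact sup_empty h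

/-- Classes supported on the zero section die on the affine line. -/
theorem Sup_Z₁_le {c : SGA6.Kcoh (KRR.PY 1 S)} (hc : c ∈ Sup (Z₁ S)) : c ∈ Sup (W 1 S 0) := by
  haveI := PPSheaf.preservesFiniteLimits_pullback_of_stalk (KRR.pr 1 S) (fun y => Flat.stalkMap (KRR.pr 1 S) y)
  haveI := (Scheme.Modules.pullbackPushforwardAdjunction (KRR.pr 1 S)).left_adjoint_additive
  haveI := (Scheme.Modules.pullbackPushforwardAdjunction (KRR.pr 1 S)).leftAdjoint_preservesColimits.{0, 0}
  obtain ⟨P, hP⟩ := KZ.exists_liftSub (fun M : S.Modules => Coh.IsCoh M)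
    (fun N => cc ((Scheme.Modules.pullback (KRR.pr 1 S)).obj N)) fun _ hS h₁ h₂ h₃ =>
      KZ.clSub_ses (fun M : (KRR.PY 1 S).Modules => Coh.IsCoh M)
        (hS.map_of_exact (Scheme.Modules.pullback (KRR.pr 1 S)))
        (ZClosLib.isCoh_pullback _ h₁) (ZClosLib.isCoh_pullback _ h₂) (ZClosLib.isCoh_pullback _ h₃)
  obtain ⟨q, hq⟩ := PBFree.exists_isProjBundle 1 S
  have hb := PBCohFree.bijective 2 (QProjEnough.rank_freeMod S 2) hq P hP (ξ 1 S) fun M hM => ξ_cc 1 S hM
  obtain ⟨x, hx⟩ := hb.2 c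
  have hx' : P (x 0) + ξ 1 S (P (x 1)) = c := by rw [← hx]; exact (Fin.sum_univ_two (f := fun i : Fin 2 => (⇑(ξ 1 S))^[(i : ℕ)] (P (x i)))).symm
  have hd : ξ 1 S c - c ∈ Sup (∅ : Set (KRR.PY 1 S)) := delta_mem 1 S ⟨0⟩ (fun y hy _ => by
    obtain ⟨⟨j⟩, hj⟩ := Opens.mem_iSup.1 ((crd_cover.{u} (n := 1)).ge (trivial : toPn 1 S y ∈ (⊤ : Opens _)))
    fin_cases j
    · exact hj
    · exact (hy hj).elim) hc
  have hsq := delta_sq S (P (x 1))
  simp only [δ_apply, map_sub, sub_eq_zero] at hsq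
  have hs : ξ 1 S (P (x 0 + x 1)) = P (x 0 + x 1) := by
    have h := sub_eq_zero.1 (sup_empty hd)
    rw [← hx'] at h
    simp only [map_add] at h ⊢
    have h2 : ξ 1 S (ξ 1 S (P (x 1))) = ξ 1 S (P (x 1)) + (ξ 1 S (P (x 1)) - P (x 1)) :=
      (eq_add_of_sub_eq hsq).trans (add_comm _ _)
    rw [h2] at h
    linear_combination (norm := abel) h
  have h0 : x 0 + x 1 = 0 := by
    have := congrFun (hb.1 (a₁ := ![-(x 0 + x 1), x 0 + x 1]) (a₂ := 0) (by
      show ∑ i : Fin 2, _ = ∑ i : Fin 2, _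
      rw [Fin.sum_univ_two, Fin.sum_univ_two]
      show P (-(x 0 + x 1)) + ξ 1 S (P (x 0 + x 1)) = P 0 + ξ 1 S (P 0)
      rw [hs, ← map_add, neg_add_cancel, map_zero, map_zero, add_zero])) 1
    simpa using this
  rw [← hx', eq_neg_of_add_eq_zero_left h0, map_neg, neg_add_eq_sub]
  exact delta_mem 1 S ⟨0⟩ (fun y _ hy => by
      by_contra h
      exact hy fun j hj => (show j = ⟨0⟩ from ULift.ext _ _ (Fin.ext (Nat.le_zero.1 hj))) ▸ h) (mem_univ_sup 1 S _)

theorem bijective {U : Scheme.{u}} (j : U ⟶ A) [IsOpenImmersion j]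
    (hU : Set.range j = ((A).basicOpen (AffineSpace.coord S (ULift.up (0 : Fin 1))) : Set A))
    [PreservesFiniteLimits (Scheme.Modules.restrictFunctor j)]
    (hj : ∀ M : (A).Modules, Coh.IsCoh M → Coh.IsCoh ((Scheme.Modules.restrictFunctor j).obj M)) :
    Function.Bijective (SGA6.mapSub (Scheme.Modules.restrictFunctor j) (fun M : (A).Modules => Coh.IsCoh M)
      (fun M : U.Modules => Coh.IsCoh M) hj) := by
  let g := AffChart.chart 1 S
  haveI : IsOpenImmersion g := AffChart.isOpenImmersion_chart 1 S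
  haveI : IsLocallyNoetherian A := isLocallyNoetherian_of_isOpenImmersion g
  haveI : CompactSpace A := (quasiCompact_iff_compactSpace (A ↘ S)).1 inferInstance
  haveI : AlgebraicGeometry.IsNoetherian A := ⟨⟩
  let Z : Closeds A := ⟨(Set.range j)ᶜ, j.opensRange.isOpen.isClosed_compl⟩
  let I : (A).IdealSheafData := Scheme.IdealSheafData.vanishingIdeal Z
  let i := I.subschemeι
  have hri : Set.range i = (Set.range j)ᶜ := H23.RedSub.range_vanishingIdeal Z
  have hRj : Set.range j = (Set.range i)ᶜ := by rw [hri, compl_compl]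
  haveI := ClosedShriek.preservesFiniteColimits_push i
  haveI := (Scheme.Modules.pullbackPushforwardAdjunction i).isRightAdjoint
  haveI : PreservesFiniteLimits (Scheme.Modules.pushforward i) := inferInstance
  haveI : (Scheme.Modules.pushforward i).Additive :=
    (Scheme.Modules.pullbackPushforwardAdjunction i).right_adjoint_additive
  have hi : ∀ M : I.subscheme.Modules, Coh.IsCoh M → Coh.IsCoh ((Scheme.Modules.pushforward i).obj M) :=
    fun M hM => QCoh.isCoh_push i hM
  obtain ⟨hsurj, hker⟩ := KZ.Localization.sequence i j hRj hi hj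
  refine ⟨(injective_iff_map_eq_zero _).2 fun c hc => ?_, hsurj⟩
  have hc' : c ∈ (SGA6.mapSub (Scheme.Modules.pushforward i) (fun M : I.subscheme.Modules => Coh.IsCoh M)
    (fun M : (A).Modules => Coh.IsCoh M) hi).range := hker ▸ hc
  obtain ⟨z, rfl⟩ := hc'
  refine DFunLike.congr_fun (f := SGA6.mapSub (Scheme.Modules.pushforward i) _ _ hi) (g := 0)
    (KZ.K0sub_hom_ext _ fun N hN => ?_) z
  have hrange : Set.range (i ≫ g) = Z₁ S := by
    rw [Scheme.Hom.comp_base, TopCat.coe_comp, Set.range_comp]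
    erw [hri]
    rw [hU]
    ext y
    refine ⟨?_, fun hy => ?_⟩
    · rintro ⟨a, ha, rfl⟩
      exact (mem_Z₁_iff S a).2 ha
    · obtain ⟨a, rfl⟩ := Z₁_subset S hy
      exact ⟨a, (mem_Z₁_iff S a).1 hy, rfl⟩
  haveI : IsClosedImmersion (i ≫ g) := IsClosedImmersion.of_isPreimmersion _ (by
    rw [hrange]
    exact ((pullback.fst (CohB1.ProjSpace.toSpec 1 (ULift.{u} ℤ)) (specULiftZIsTerminal.from S)) ⁻¹ᵁ
      Proj.basicOpen (CohB1.polyGrading 1 (ULift.{u} ℤ)) (MvPolynomial.X 1)).isOpen.isClosed_compl)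
  haveI := PPSheaf.preservesFiniteLimits_pullback_of_stalk g (fun y => Flat.stalkMap g y)
  haveI : PreservesFiniteLimits (Scheme.Modules.restrictFunctor g) :=
    preservesFiniteLimits_of_natIso (Scheme.Modules.restrictFunctorIsoPullback g).symm
  have hg : ∀ M : (KRR.PY 1 S).Modules, Coh.IsCoh M → Coh.IsCoh ((Scheme.Modules.restrictFunctor g).obj M) :=
    fun M hM => KZ.Localization.isCoh_restrict g hM
  let R := SGA6.mapSub (Scheme.Modules.restrictFunctor g) (fun M => Coh.IsCoh M) (fun M => Coh.IsCoh M) hg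
  let F := (Scheme.Modules.pushforward (i ≫ g)).obj N
  have hF : Coh.IsCoh F := QCoh.isCoh_push (i ≫ g) hN
  have hs : CohB1.support F ⊆ Z₁ S := by
    rw [← hrange]
    let V : (KRR.PY 1 S).Opens := ⟨(Set.range (i ≫ g))ᶜ, (i ≫ g).isClosedEmbedding.isClosed_range.isOpen_compl⟩
    have hz := KZ.Localization.isZero_restrict_push (i ≫ g) V.ι (by rw [Scheme.Opens.range_ι]; rfl) N
    exact (KZ.Localization.isZero_restrict_iff hF hz).trans (compl_compl _).subset
  have hk : R (cc F) = 0 := by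
    have hm := Sup_Z₁_le S (AddSubgroup.subset_closure ⟨F, hF, hs, rfl⟩)
    generalize cc F = c at hm
    induction hm using AddSubgroup.closure_induction with
    | mem c hc =>
      obtain ⟨M, hM, hsM, rfl⟩ := hc
      rw [GenBasis.mapSub_clSub _ _ _ hg hM]
      refine sup_empty (AddSubgroup.subset_closure ⟨_, hg M hM, fun a ha => ?_, rfl⟩)
      exfalso
      refine ha ?_
      have : g a ∉ CohB1.support M := fun h => ((range_chart 1 S).le ⟨a, rfl⟩) (hsM h)
      haveI : Subsingleton ((Scheme.Modules.toPresheaf (KRR.PY 1 S) ⋙ TopCat.Presheaf.stalkFunctor AddCommGrpCat.{u} (g a)).obj M) := not_not.1 this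
      exact ((Scheme.Modules.restrictStalkNatIso g a).app M).addCommGroupIsoToAddEquiv.toEquiv.subsingleton
    | zero => exact map_zero R
    | add _ _ _ _ ha hb => rw [map_add, ha, hb, add_zero]
    | neg _ _ ha => rw [map_neg, ha, neg_zero]
  rw [GenBasis.mapSub_clSub _ _ _ hi hN, AddMonoidHom.zero_apply, ← hk, GenBasis.mapSub_clSub _ _ _ hg hF]
  exact PBCohPush.clc_iso (((asIso (Scheme.Modules.restrictAdjunction g).counit).app _).symm ≪≫
    (Scheme.Modules.restrictFunctor g).mapIso ((Scheme.Modules.pushforwardComp i g).app N)) (hi N hN) (hg F hF)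

end Groth.Agent.H28.A1Torus
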