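import Groth.Agent.H28.AdamsRRLib
import Groth.Agent.Lambda.Theta

/-!
# Adams–Riemann–Roch for the model elementary projection
-/

set_option autoImplicit false
set_option linter.unusedSectionVars false
set_option linter.style.haveILetI false
set_option backward.isDefEq.respectTransparency false
set_option backward.isDefEq.respectTransparency.types false

universe v

open Polynomial Finset LambdaRing
open scoped TensorProduct

noncomputable section

namespace Groth.Agent.H28.AdamsRRExt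

open Groth.Agent Groth.Agent.H28.Residue Groth.Agent.H28.AdamsRR

attribute [local instance 2000] Ring.toIntAlgebra

variable {K : Type v} [CommRing K] [LambdaOps K] {P : PosStructure K} {e : K} {r : ℕ}
  (he : e ∈ P.pos) (hr : P.aug e = r + 1)
  {L : PosLambdaRing.{v}} {f₀ : K →+* L.carrier} (hf₀ : IsExtension P L.posStr f₀)
  {u : Fin (r + 1) → L.carrier} (hu : ∀ a, L.posStr.IsLine (u a)) (hsum : ∑ a, u a = f₀ e)

/-- `ℤ[1/j] ⊗ L`. -/
abbrev D (L : PosLambdaRing.{v}) (j : ℕ) : Type v := Localization.Away (j : ℤ) ⊗[ℤ] L.carrier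

/-- `x ↦ 1 ⊗ x`. -/
def incl (L : PosLambdaRing.{v}) (j : ℕ) : L.carrier →+* D L j :=
  (Algebra.TensorProduct.includeRight (R := ℤ) (A := Localization.Away (j : ℤ)) (B := L.carrier)).toRingHom

theorem incl_apply (j : ℕ) (x : L.carrier) : incl L j x = (1 : Localization.Away (j : ℤ)) ⊗ₜ[ℤ] x := rfl

include hf₀ hu hsum in
theorem lam_eq_esymm (i : ℕ) : f₀ (LambdaOps.lam i e) = (Finset.univ.val.map u).esymm i := by
  rw [hf₀.isLambdaHom, ← hsum, Lambda.lam_finset_sum_eq_esymm _ (fun a _ => Lambda.lam_line (hu a)),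
    Finset.esymm_map_val]

include hf₀ hu hsum hr in
theorem map_extPoly : (KRR.extPoly P e).map f₀ = pP u := by
  have hm : (P.aug e).toNat = r + 1 := by omega
  have h1 : pP u = ((Finset.univ.val.map u).map fun t => X - C t).prod := by
    rw [pP, Multiset.map_map]
    rfl
  rw [h1, Multiset.prod_X_sub_X_eq_sum_esymm, Multiset.card_map, Finset.card_val, Finset.card_univ,
    Fintype.card_fin, KRR.extPoly, Polynomial.map_sum, hm]
  refine sum_congr rfl fun i _ => ?_
  rw [Polynomial.map_mul, Polynomial.map_pow, map_X, map_C, map_mul, map_pow, map_neg, map_one,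
    lam_eq_esymm hf₀ hu hsum, C_mul, C_pow, C_neg, C_1, mul_assoc]

include he hr hf₀ hu hsum in
theorem map_sigma (s : ℕ) : f₀ (KRR.sigma s e) = res u (X ^ s) := by
  induction s using Nat.strong_induction_on with
  | _ s ih =>
    have h1 := congrArg f₀ (Lambda.sum_lam_mul_sigma e s)
    have h2 := res_pow_rec u s
    rw [map_sum] at h1
    simp only [map_mul, map_pow, map_neg, map_one, lam_eq_esymm hf₀ hu hsum] at h1
    rw [sum_range_succ'] at h1 h2
    simp only [pow_zero, one_mul, Nat.sub_zero, Multiset.esymm, Multiset.powersetCard_zero_left,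
      Multiset.map_singleton, Multiset.prod_zero, Multiset.sum_singleton] at h1 h2
    rw [apply_ite f₀, map_one, map_zero, ← h2] at h1
    refine add_left_cancel (Eq.trans ?_ h1)
    refine congrArg (· + f₀ (KRR.sigma s e)) (sum_congr rfl fun k hk => ?_)
    rw [ih (s - (k + 1)) (by rw [mem_range] at hk; omega)]

variable {f : AdjoinRoot (KRR.extPoly P e) →ₗ[K] K}
  (hf : ∀ i : ℕ, i ≤ r → f (AdjoinRoot.root (KRR.extPoly P e) ^ i) = KRR.sigma i e)

include he hr hf₀ hu hsum hf in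
theorem map_functional (g : K[X]) : f₀ (f (AdjoinRoot.mk (KRR.extPoly P e) g)) = res u (g.map f₀) := by
  induction g using Polynomial.induction_on' with
  | add p q hp hq => rw [map_add, map_add, map_add, Polynomial.map_add, map_add, hp, hq]
  | monomial s a =>
    rw [← C_mul_X_pow_eq_monomial, map_mul, map_pow, AdjoinRoot.mk_C, AdjoinRoot.mk_X, Lambda.functional_of_mul,
      map_mul, Lambda.functional_root_pow he hr hf, map_sigma he hr hf₀ hu hsum, Polynomial.map_mul,
      Polynomial.map_pow, map_X, map_C, ← smul_eq_C_mul, map_smul, smul_eq_mul]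

variable (j : ℕ)

/-- The image of the roots in `ℤ[1/j] ⊗ L`. -/
abbrev uD (u : Fin (r + 1) → L.carrier) (j : ℕ) : Fin (r + 1) → D L j := fun a => incl L j (u a)

include hr hf₀ hu hsum in
theorem eval₂_extPoly :
    (KRR.extPoly P e).eval₂ ((AdjoinRoot.of (pP (uD u j))).comp ((incl L j).comp f₀))
      (AdjoinRoot.root (pP (uD u j))) = 0 := by
  rw [← eval₂_map, ← Polynomial.map_map, map_extPoly hr hf₀ hu hsum, map_pP (D' := D L j) (incl L j) u]
  exact AdjoinRoot.eval₂_root _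

/-- `K_e → (ℤ[1/j] ⊗ L)[T]/p`. -/
def psi₀ : AdjoinRoot (KRR.extPoly P e) →+* AdjoinRoot (pP (uD u j)) :=
  AdjoinRoot.lift ((AdjoinRoot.of (pP (uD u j))).comp ((incl L j).comp f₀)) (AdjoinRoot.root (pP (uD u j)))
    (eval₂_extPoly hr hf₀ hu hsum j)

theorem psi₀_mk (g : K[X]) :
    psi₀ hr hf₀ hu hsum j (AdjoinRoot.mk (KRR.extPoly P e) g) =
      AdjoinRoot.mk (pP (uD u j)) ((g.map f₀).map (incl L j)) := by
  rw [psi₀, AdjoinRoot.lift_mk, Polynomial.map_map]
  induction g using Polynomial.induction_on' with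
  | add p q hp hq => rw [eval₂_add, Polynomial.map_add, map_add, hp, hq]
  | monomial s a =>
    rw [eval₂_monomial, Polynomial.map_monomial, ← C_mul_X_pow_eq_monomial, map_mul, map_pow, AdjoinRoot.mk_C,
      AdjoinRoot.mk_X]
    rfl

/-- `ℤ[1/j] ⊗ K_e → (ℤ[1/j] ⊗ L)[T]/p`. -/
def psiT : Localization.Away (j : ℤ) ⊗[ℤ] AdjoinRoot (KRR.extPoly P e) →+* AdjoinRoot (pP (uD u j)) :=
  (Algebra.TensorProduct.lift
    (((AdjoinRoot.of (pP (uD u j))).comp
      (Algebra.TensorProduct.includeLeftRingHom (R := ℤ) (A := Localization.Away (j : ℤ)) (B := L.carrier))).toIntAlgHom)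
    (psi₀ hr hf₀ hu hsum j).toIntAlgHom (fun _ _ => Commute.all _ _)).toRingHom

theorem psiT_tmul (a : Localization.Away (j : ℤ)) (g : K[X]) :
    psiT hr hf₀ hu hsum j (a ⊗ₜ[ℤ] AdjoinRoot.mk (KRR.extPoly P e) g) =
      AdjoinRoot.mk (pP (uD u j)) (C (a ⊗ₜ[ℤ] (1 : L.carrier)) * (g.map f₀).map (incl L j)) := by
  rw [map_mul, AdjoinRoot.mk_C, ← psi₀_mk hr hf₀ hu hsum j]
  exact Algebra.TensorProduct.lift_tmul _ _ _ _ _

/-- `ℤ[1/j] ⊗ K → ℤ[1/j] ⊗ L`. -/
abbrev jmap (f₀ : K →+* L.carrier) (j : ℕ) : Localization.Away (j : ℤ) ⊗[ℤ] K →ₗ[ℤ] D L j :=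
  LinearMap.lTensor (Localization.Away (j : ℤ)) f₀.toAddMonoidHom.toIntLinearMap

include hf₀ in
theorem jmap_injective : Function.Injective (jmap f₀ j) :=
  haveI := flat_away j
  Module.Flat.lTensor_preserves_injective_linearMap _ hf₀.injective

include he hf in
theorem key (z : Localization.Away (j : ℤ) ⊗[ℤ] AdjoinRoot (KRR.extPoly P e)) : ∀ G : (D L j)[X],
    psiT hr hf₀ hu hsum j z = AdjoinRoot.mk (pP (uD u j)) G →
      jmap f₀ j (LinearMap.lTensor (Localization.Away (j : ℤ)) f.toAddMonoidHom.toIntLinearMap z) =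
        res (uD u j) G := by
  induction z using TensorProduct.induction_on with
  | zero =>
    intro G hG
    rw [map_zero] at hG
    rw [map_zero, map_zero, res_of_dvd _ (AdjoinRoot.mk_eq_zero.1 hG.symm)]
  | tmul a y =>
    intro G hG
    obtain ⟨g, rfl⟩ := AdjoinRoot.mk_surjective y
    rw [psiT_tmul, AdjoinRoot.mk_eq_mk] at hG
    rw [← res_congr _ hG, ← smul_eq_C_mul, map_smul, ← map_res (D' := D L j) (incl L j) u, smul_eq_mul, incl_apply,
      ← map_functional he hr hf₀ hu hsum hf, Algebra.TensorProduct.tmul_mul_tmul, mul_one, one_mul]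
    rfl
  | add z₁ z₂ h₁ h₂ =>
    intro G hG
    obtain ⟨G₁, hG₁⟩ := AdjoinRoot.mk_surjective (psiT hr hf₀ hu hsum j z₁)
    obtain ⟨G₂, hG₂⟩ := AdjoinRoot.mk_surjective (psiT hr hf₀ hu hsum j z₂)
    rw [map_add, map_add, h₁ G₁ hG₁.symm, h₂ G₂ hG₂.symm, ← map_add]
    refine res_congr _ (AdjoinRoot.mk_eq_mk.1 ?_)
    rw [map_add, hG₁, hG₂, ← map_add, hG]

section Ext

variable {inst : LambdaOps (AdjoinRoot (KRR.extPoly P e))}
  {Pe : @PosStructure (AdjoinRoot (KRR.extPoly P e)) _ inst}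
  (hext : @IsExtension K _ _ _ _ inst P Pe (AdjoinRoot.of (KRR.extPoly P e)))
  (hline : @PosStructure.IsLine _ _ inst Pe (AdjoinRoot.root (KRR.extPoly P e)))
  (hsplit : @HasSplitting _ _ inst Pe)
  {linv : AdjoinRoot (KRR.extPoly P e)} (hlinv : linv * AdjoinRoot.root (KRR.extPoly P e) = 1)

include hext hline hsplit hlinv in
theorem lam_q (i : ℕ) :
    @LambdaOps.lam _ _ inst i (AdjoinRoot.of (KRR.extPoly P e) e * linv) =
      AdjoinRoot.of (KRR.extPoly P e) (LambdaOps.lam i e) * linv ^ i := by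
  letI := inst
  have h := lam_line_mul hsplit hline (AdjoinRoot.of (KRR.extPoly P e) e * linv) i
  rw [mul_left_comm, mul_comm (AdjoinRoot.root (KRR.extPoly P e)) linv, hlinv, mul_one,
    ← hext.isLambdaHom i e] at h
  rw [h, mul_comm (AdjoinRoot.root (KRR.extPoly P e) ^ i), mul_assoc, ← mul_pow,
    mul_comm (AdjoinRoot.root (KRR.extPoly P e)) linv, hlinv, one_pow, mul_one]

include hext hline hlinv hr in
theorem aug_q : (@PosStructure.aug _ _ inst Pe (AdjoinRoot.of (KRR.extPoly P e) e * linv)).toNat = r + 1 := by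
  letI := inst
  have h := congrArg Pe.aug hlinv
  rw [map_mul, hline.2, mul_one, map_one] at h
  rw [map_mul, hext.aug_comp, h, mul_one]
  omega

theorem bottPoly_cast (j : ℕ) {m : ℕ} (h : m = r + 1) {A : Type v} [CommRing A] (c : ℕ → A) :
    MvPolynomial.aeval (fun i : Fin m => c (i.1 + 1)) (KRR.bottPoly j m) =
      MvPolynomial.aeval (fun i : Fin (r + 1) => c (i.1 + 1)) (KRR.bottPoly j (r + 1)) := by
  subst h; rfl

include hext hline hsplit hlinv hr in
theorem bott_eq : @KRR.bott _ _ inst Pe j (AdjoinRoot.of (KRR.extPoly P e) e * linv) =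
    MvPolynomial.aeval (fun i : Fin (r + 1) => AdjoinRoot.of (KRR.extPoly P e) (LambdaOps.lam (i.1 + 1) e) *
      linv ^ (i.1 + 1)) (KRR.bottPoly j (r + 1)) := by
  letI := inst
  rw [KRR.bott, bottPoly_cast j (aug_q hr hext hline hlinv)
    (fun i => LambdaOps.lam i (AdjoinRoot.of (KRR.extPoly P e) e * linv))]
  simp only [lam_q hext hline hsplit hlinv]

include hext hline hsplit hlinv hr hf₀ hu hsum in
theorem aug_bott : @PosStructure.aug _ _ inst Pe
    (@KRR.bott _ _ inst Pe j (AdjoinRoot.of (KRR.extPoly P e) e * linv)) = (j : ℤ) ^ (r + 1) := by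
  letI := inst
  rw [bott_eq hr j hext hline hsplit hlinv, Lambda.ringHom_aeval_int]
  have h := congrArg Pe.aug hlinv
  rw [map_mul, hline.2, mul_one, map_one] at h
  refine (aeval_bottPoly j (r + 1) (fun _ => (1 : ℤ)) _ fun i => ?_).trans (by simp)
  rw [map_mul, map_pow, h, one_pow, mul_one, hext.aug_comp, ← hf₀.aug_comp, lam_eq_esymm hf₀ hu hsum,
    map_esymm_fin]
  congr 2
  funext a
  exact (hu a).2

include hext hline hsplit hlinv hr hf₀ hu hsum in
theorem exists_w (N : ℕ) (hN : @gammaFiltration _ _ inst Pe N = ⊥) :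
    ∃ w : Localization.Away (j : ℤ) ⊗[ℤ] AdjoinRoot (KRR.extPoly P e), w * ((1 : Localization.Away (j : ℤ))
      ⊗ₜ[ℤ] @KRR.bott _ _ inst Pe j (AdjoinRoot.of (KRR.extPoly P e) e * linv)) = 1 := by
  letI := inst
  refine exists_inv_tmul j (r + 1) _ ⟨N, ?_⟩
  have h1 := Lambda.pow_mem (Lambda.mem_one_of_aug_eq_zero (P := Pe)
    (x := KRR.bott Pe j (AdjoinRoot.of (KRR.extPoly P e) e * linv) - (j : AdjoinRoot (KRR.extPoly P e)) ^ (r + 1))
    (by rw [map_sub, aug_bott hr hf₀ hu hsum j hext hline hsplit hlinv, map_pow, map_natCast, sub_self])) N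
  rwa [Nat.mul_one, hN, AddSubgroup.mem_bot] at h1

include hext hline hsplit hlinv in
theorem psiT_bott :
    psiT hr hf₀ hu hsum j ((1 : Localization.Away (j : ℤ)) ⊗ₜ[ℤ]
        @KRR.bott _ _ inst Pe j (AdjoinRoot.of (KRR.extPoly P e) e * linv)) *
      AdjoinRoot.root (pP (uD u j)) ^ ((j - 1) * (r + 1)) = AdjoinRoot.mk (pP (uD u j)) (phi j (uD u j)) := by
  letI := inst
  obtain ⟨l, hl⟩ := AdjoinRoot.mk_surjective linv
  let Y := psi₀ hr hf₀ hu hsum j linv
  have hY : AdjoinRoot.root (pP (uD u j)) * Y = 1 := by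
    have h := congrArg (psi₀ hr hf₀ hu hsum j) hlinv
    rw [map_mul, map_one, psi₀, AdjoinRoot.lift_root] at h
    exact (mul_comm _ _).trans h
  have hof : ∀ b : K, psi₀ hr hf₀ hu hsum j (AdjoinRoot.of (KRR.extPoly P e) b) =
      AdjoinRoot.of (pP (uD u j)) (incl L j (f₀ b)) := fun b => AdjoinRoot.lift_of _
  have hT : ∀ y, psiT hr hf₀ hu hsum j ((1 : Localization.Away (j : ℤ)) ⊗ₜ[ℤ] y) = psi₀ hr hf₀ hu hsum j y := by
    intro y
    refine (Algebra.TensorProduct.lift_tmul _ _ _ _ _).trans ?_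
    show AdjoinRoot.of (pP (uD u j)) (1 : D L j) * _ = _
    rw [map_one, one_mul]
    rfl
  rw [hT, bott_eq hr j hext hline hsplit hlinv, Lambda.ringHom_aeval_int,
    aeval_bottPoly j (r + 1) (fun a => AdjoinRoot.of (pP (uD u j)) (uD u j a) * Y) _ fun i => by
      rw [map_mul, map_pow, hof, lam_eq_esymm hf₀ hu hsum, map_esymm_fin (B := D L j) (incl L j) u, map_esymm_fin (AdjoinRoot.of (pP (uD u j))) (uD u j),
        esymm_mul_const (fun a => AdjoinRoot.of (pP (uD u j)) (uD u j a)) Y],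
    mul_comm, ← phi_eq j (fun a => AdjoinRoot.of (pP (uD u j)) (uD u j a)) _ Y hY, ← map_phi, eval_map,
    ← AdjoinRoot.aeval_eq]
  rfl

variable (hK : HasSplitting K P) (hL : HasSplitting L.carrier L.posStr)

include hext hline hsplit in
theorem adams_mk (hK : HasSplitting K P) (g : K[X]) :
    @adams _ _ inst Pe j (AdjoinRoot.mk (KRR.extPoly P e) g) =
      AdjoinRoot.mk (KRR.extPoly P e) ((g.map (Lambda.adamsRingHom hK j)).comp (X ^ j)) := by
  letI := inst
  induction g using Polynomial.induction_on' with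
  | add p q hp hq => rw [map_add, Lambda.adams_add, Polynomial.map_add, add_comp, map_add, hp, hq]
  | monomial s a =>
    have hm : ∀ x y, adams Pe j (x * y) = adams Pe j x * adams Pe j y := Lambda.adams_mul hsplit j
    rw [Polynomial.map_monomial, monomial_comp, ← C_mul_X_pow_eq_monomial, map_mul, map_mul, map_pow, map_pow,
      AdjoinRoot.mk_C, AdjoinRoot.mk_C, map_pow, AdjoinRoot.mk_X, hm,
      ← Lambda.map_adams hext.isLambdaHom hext.aug_comp,
      Lambda.adams_line (Lambda.isLine_pow hline s) j, ← pow_mul, ← pow_mul, mul_comm s j]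
    rfl

include he hr hf₀ hu hsum hf hext hline hsplit hlinv hK hL in
theorem main (hj : 1 ≤ j) (w : Localization.Away (j : ℤ) ⊗[ℤ] AdjoinRoot (KRR.extPoly P e))
    (hw : w * ((1 : Localization.Away (j : ℤ))
      ⊗ₜ[ℤ] @KRR.bott _ _ inst Pe j (AdjoinRoot.of (KRR.extPoly P e) e * linv)) = 1)
    (x : AdjoinRoot (KRR.extPoly P e)) :
    (1 : Localization.Away (j : ℤ)) ⊗ₜ[ℤ] adams P j (f x) =
      LinearMap.lTensor (Localization.Away (j : ℤ)) f.toAddMonoidHom.toIntLinearMap
        ((j : Localization.Away (j : ℤ) ⊗[ℤ] AdjoinRoot (KRR.extPoly P e)) * w *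
          ((1 : Localization.Away (j : ℤ)) ⊗ₜ[ℤ] @adams _ _ inst Pe j x)) := by
  letI := inst
  obtain ⟨g, rfl⟩ := AdjoinRoot.mk_surjective x
  apply jmap_injective hf₀ j
  let h : (D L j)[X] := ((g.map f₀).map (Lambda.adamsRingHom hL j)).map (incl L j)
  have hcomm : (g.map (Lambda.adamsRingHom hK j)).map f₀ = (g.map f₀).map (Lambda.adamsRingHom hL j) := by
    rw [Polynomial.map_map, Polynomial.map_map]
    congr 1
    ext b
    exact Lambda.map_adams hf₀.isLambdaHom hf₀.aug_comp j b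
  have hpu : ∀ a, incl L j (Lambda.adamsRingHom hL j (u a)) = uD u j a ^ j := fun a => by
    rw [show Lambda.adamsRingHom hL j (u a) = u a ^ j from Lambda.adams_line (hu a) j, map_pow]
  have hlhs : jmap f₀ j ((1 : Localization.Away (j : ℤ)) ⊗ₜ[ℤ] adams P j (f (AdjoinRoot.mk (KRR.extPoly P e) g))) =
      res (fun a => uD u j a ^ j) h := by
    rw [← funext hpu, ← map_res (D' := D L j) (incl L j), ← map_res (Lambda.adamsRingHom hL j),
      ← map_functional he hr hf₀ hu hsum hf]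
    refine Eq.trans ?_ (congrArg (incl L j) (Lambda.map_adams hf₀.isLambdaHom hf₀.aug_comp j _))
    exact LinearMap.lTensor_tmul _ _ _ _
  obtain ⟨G, hG⟩ := AdjoinRoot.mk_surjective (psiT hr hf₀ hu hsum j w)
  obtain ⟨l, hl⟩ := AdjoinRoot.mk_surjective (psi₀ hr hf₀ hu hsum j linv)
  have hl1 : AdjoinRoot.mk (pP (uD u j)) l * AdjoinRoot.root (pP (uD u j)) = 1 := by
    have h := congrArg (psi₀ hr hf₀ hu hsum j) hlinv
    rw [map_mul, map_one, psi₀, AdjoinRoot.lift_root] at h
    rw [hl]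
    exact h
  have hW : pP (uD u j) ∣ G * l ^ ((j - 1) * (r + 1)) * phi j (uD u j) - 1 := by
    refine AdjoinRoot.mk_eq_mk.1 ?_
    rw [map_mul, map_mul, map_one, map_pow, hG, ← psiT_bott hr hf₀ hu hsum j hext hline hsplit hlinv]
    calc _ = psiT hr hf₀ hu hsum j (w * ((1 : Localization.Away (j : ℤ)) ⊗ₜ[ℤ]
          KRR.bott Pe j (AdjoinRoot.of (KRR.extPoly P e) e * linv))) *
        (AdjoinRoot.mk (pP (uD u j)) l * AdjoinRoot.root (pP (uD u j))) ^ ((j - 1) * (r + 1)) := by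
          rw [map_mul, mul_pow]; ring
      _ = 1 := by rw [hw, map_one, hl1, one_pow, one_mul]
  rw [hlhs, ← res_key_poly (uD u j) hj hW h]
  refine (key he hr hf₀ hu hsum hf j _ _ ?_).symm
  have hnat : psiT hr hf₀ hu hsum j (j : Localization.Away (j : ℤ) ⊗[ℤ] AdjoinRoot (KRR.extPoly P e)) =
      (j : AdjoinRoot (pP (uD u j))) := map_natCast (psiT hr hf₀ hu hsum j) j
  rw [map_mul, map_mul, hnat, adams_mk j hext hline hsplit hK, psiT_tmul, ← map_natCast (AdjoinRoot.mk _) j,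
    map_comp, map_comp, hcomm, Polynomial.map_pow, map_X, Polynomial.map_pow, map_X, map_mul, map_mul, map_mul,
    map_mul, map_mul, map_pow, map_pow, hG, AdjoinRoot.mk_X, ← C_eq_natCast]
  rw [show ((1 : Localization.Away (j : ℤ)) ⊗ₜ[ℤ] (1 : L.carrier)) = (1 : D L j) from rfl, C_1, map_one, one_mul]
  calc _ = AdjoinRoot.mk (pP (uD u j)) (C (j : D L j)) * psiT hr hf₀ hu hsum j w *
        (AdjoinRoot.mk (pP (uD u j)) l * AdjoinRoot.root (pP (uD u j))) ^ ((j - 1) * (r + 1)) *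
        AdjoinRoot.mk (pP (uD u j)) (h.comp (X ^ j)) := by rw [hl1, one_pow, mul_one]
    _ = _ := by rw [mul_pow]; ring

end Ext

include he in
theorem result (hK : HasSplitting K P) (hr : P.aug e = r + 1)
    (inst : LambdaOps (AdjoinRoot (KRR.extPoly P e))) (Pe : @PosStructure _ _ inst)
    (hext : @IsExtension K _ _ _ _ inst P Pe (AdjoinRoot.of (KRR.extPoly P e)))
    (hline : @PosStructure.IsLine _ _ inst Pe (AdjoinRoot.root (KRR.extPoly P e)))
    (hsplit : @HasSplitting _ _ inst Pe) (N : ℕ) (hN : @gammaFiltration _ _ inst Pe N = ⊥)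
    (f : AdjoinRoot (KRR.extPoly P e) →ₗ[K] K)
    (hf : ∀ i : ℕ, i ≤ r → f (AdjoinRoot.root (KRR.extPoly P e) ^ i) = KRR.sigma i e)
    (linv : AdjoinRoot (KRR.extPoly P e)) (hlinv : linv * AdjoinRoot.root (KRR.extPoly P e) = 1)
    (hj : 1 ≤ j) :
    (∃ w : Localization.Away (j : ℤ) ⊗[ℤ] AdjoinRoot (KRR.extPoly P e), w * ((1 : Localization.Away (j : ℤ))
      ⊗ₜ[ℤ] @KRR.bott _ _ inst Pe j (AdjoinRoot.of (KRR.extPoly P e) e * linv)) = 1) ∧
    ∀ w : Localization.Away (j : ℤ) ⊗[ℤ] AdjoinRoot (KRR.extPoly P e), w * ((1 : Localization.Away (j : ℤ))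
      ⊗ₜ[ℤ] @KRR.bott _ _ inst Pe j (AdjoinRoot.of (KRR.extPoly P e) e * linv)) = 1 →
      ∀ x : AdjoinRoot (KRR.extPoly P e),
        (1 : Localization.Away (j : ℤ)) ⊗ₜ[ℤ] adams P j (f x) =
          LinearMap.lTensor (Localization.Away (j : ℤ)) f.toAddMonoidHom.toIntLinearMap
            ((j : Localization.Away (j : ℤ) ⊗[ℤ] AdjoinRoot (KRR.extPoly P e)) * w *
              ((1 : Localization.Away (j : ℤ)) ⊗ₜ[ℤ] @adams _ _ inst Pe j x)) := by
  obtain ⟨L, f₀, hf₀, hL, s, hs, hse, hcard⟩ := Lambda.exists_split hK he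
  obtain ⟨m, u, hm, hu⟩ := Lambda.exists_enum s
  obtain rfl : m = r + 1 := by omega
  have hul : ∀ a, L.posStr.IsLine (u a) := fun a =>
    hs _ (by rw [← hu]; exact Multiset.mem_map_of_mem u (Finset.mem_univ_val a))
  have hsum : ∑ a, u a = f₀ e := by rw [← hse, Finset.sum_eq_multiset_sum, hu]
  exact ⟨exists_w hr hf₀ hul hsum j hext hline hsplit hlinv N hN,
    fun w hw x => main he hr hf₀ hul hsum hf j hext hline hsplit hlinv hK hL hj w hw x⟩

end Groth.Agent.H28.AdamsRRExt
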