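import Groth.Agent.H28.Residue
import Groth.Agent.Lambda.Elem
import Mathlib.RingTheory.TensorProduct.Maps
import Mathlib.RingTheory.Localization.BaseChange

/-!
# Algebraic lemmas for Adams–Riemann–Roch of elementary projections
-/

set_option autoImplicit false
set_option linter.unusedSectionVars false

universe v w

open Polynomial Finset LambdaRing
open scoped TensorProduct

noncomputable section

namespace Groth.Agent.H28.AdamsRR

open Groth.Agent Groth.Agent.H28.Residue

/-- `B_{j,m}` at the elementary symmetric functions of `v`. -/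
theorem aeval_bottPoly {A : Type v} [CommRing A] (j m : ℕ) (v : Fin m → A) (c : Fin m → A)
    (hc : ∀ i : Fin m, c i = (Finset.univ.val.map v).esymm ((i : ℕ) + 1)) :
    MvPolynomial.aeval c (KRR.bottPoly j m) = ∏ a, ∑ k ∈ range j, v a ^ k := by
  have h : MvPolynomial.esymmAlgHom (Fin m) ℤ m (KRR.bottPoly j m) = ⟨KRR.bottSym j m, KRR.bottSym_isSymmetric j _⟩ :=
    AlgEquiv.apply_symm_apply (MvPolynomial.esymmAlgEquiv (Fin m) ℤ (Fintype.card_fin _)) _
  have h' := congrArg Subtype.val h
  rw [MvPolynomial.esymmAlgHom_apply] at h'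
  have h'' := congrArg (MvPolynomial.aeval v) h'
  rw [← AlgHom.comp_apply, MvPolynomial.comp_aeval] at h''
  have hfun : c = fun i : Fin m => MvPolynomial.aeval v (MvPolynomial.esymm (Fin m) ℤ ((i : ℕ) + 1)) := by
    funext i
    rw [hc, MvPolynomial.aeval_esymm_eq_multiset_esymm]
  rw [hfun]
  refine h''.trans ?_
  simp [KRR.bottSym]

/-- A ring homomorphism commutes with `esymm`. -/
theorem map_esymm_fin {A : Type v} {B : Type w} [CommRing A] [CommRing B] (φ : A →+* B) {m : ℕ} (v : Fin m → A) (k : ℕ) :
    φ ((Finset.univ.val.map v).esymm k) = (Finset.univ.val.map fun a => φ (v a)).esymm k := by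
  rw [Finset.esymm_map_val, Finset.esymm_map_val, map_sum]
  simp only [map_prod]

theorem esymm_const {A : Type v} [CommRing A] (m k : ℕ) (a : A) :
    (((Finset.univ : Finset (Fin m)).val.map fun _ => a).esymm k) = (m.choose k : A) * a ^ k := by
  rw [Finset.esymm_map_val, sum_congr rfl fun s hs => by rw [prod_const, (mem_powersetCard.1 hs).2],
    sum_const, card_powersetCard, card_univ, Fintype.card_fin, nsmul_eq_mul]

theorem esymm_mul_const {A : Type v} [CommRing A] {m : ℕ} (v : Fin m → A) (a : A) (k : ℕ) :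
    ((Finset.univ.val.map fun i => v i * a).esymm k) = (Finset.univ.val.map v).esymm k * a ^ k := by
  rw [Finset.esymm_map_val, Finset.esymm_map_val, sum_mul]
  exact sum_congr rfl fun s hs => by rw [prod_mul_distrib, prod_const, (mem_powersetCard.1 hs).2]

theorem phi_eq {A : Type v} [CommRing A] {r : ℕ} (j : ℕ) (v : Fin (r + 1) → A) (x y : A) (h : x * y = 1) :
    (phi j v).eval x = x ^ ((j - 1) * (r + 1)) * ∏ a, ∑ k ∈ range j, (v a * y) ^ k := by
  rw [eval_phi, show x ^ ((j - 1) * (r + 1)) = ∏ _a : Fin (r + 1), x ^ (j - 1) by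
    rw [prod_const, card_univ, Fintype.card_fin, pow_mul], ← prod_mul_distrib]
  refine prod_congr rfl fun a _ => ?_
  rw [mul_sum, ← sum_range_reflect]
  refine sum_congr rfl fun k hk => ?_
  rw [mem_range] at hk
  obtain ⟨c, hc⟩ : ∃ c, j - 1 = c + k := ⟨j - 1 - k, by omega⟩
  rw [hc, show c + k - (c + k - k) = k by omega, Nat.add_sub_cancel, pow_add, mul_pow]
  have hxy : x ^ k * y ^ k = 1 := by rw [← mul_pow, h, one_pow]
  linear_combination -(x ^ c * v a ^ k) * hxy

theorem res_key_poly {D : Type v} [CommRing D] {r : ℕ} (u : Fin (r + 1) → D) {j : ℕ} (hj : 1 ≤ j) {W : D[X]}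
    (hW : pP u ∣ W * phi j u - 1) (h : D[X]) :
    res u (C (j : D) * W * X ^ ((j - 1) * (r + 1)) * h.comp (X ^ j)) = res (fun a => u a ^ j) h := by
  induction h using Polynomial.induction_on' with
  | add p q hp hq => rw [add_comp, mul_add, map_add, map_add, hp, hq]
  | monomial i c =>
    rw [monomial_comp, ← smul_X_eq_monomial, map_smul, ← Residue.res_key u hj i hW, ← map_smul, ← pow_mul]
    congr 1
    rw [smul_eq_C_mul, show i * j + (j - 1) * (r + 1) = (j - 1) * (r + 1) + j * i by ring, pow_add]
    ring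

theorem esymm_map_mul {A : Type v} [CommRing A] (s : Multiset A) (a : A) (k : ℕ) :
    (s.map fun x => a * x).esymm k = a ^ k * s.esymm k := by
  rw [Multiset.esymm, Multiset.esymm, Multiset.powersetCard_map, Multiset.map_map, ← Multiset.sum_map_mul_left]
  refine congrArg Multiset.sum (Multiset.map_congr rfl fun t ht => ?_)
  rw [Function.comp_apply, Multiset.prod_map_mul, Multiset.map_id', Multiset.map_const', Multiset.prod_replicate,
    (Multiset.mem_powersetCard.1 ht).2]

variable {K : Type v} [CommRing K] [LambdaOps K]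

theorem lamSeries_twist {L z : K} (h : ∀ i, LambdaOps.lam i (L * z) = L ^ i * LambdaOps.lam i z) :
    lamSeries (L * z) = PowerSeries.rescale L (lamSeries z) := by
  ext i
  rw [PowerSeries.coeff_rescale, Lambda.coeff_lamSeries, Lambda.coeff_lamSeries, h]

/-- `ψ^j (L z) = L^j ψ^j z` when `L` twists the `λ^i z`. -/
theorem adams_twist (P : PosStructure K) {L z : K} (h : ∀ i, LambdaOps.lam i (L * z) = L ^ i * LambdaOps.lam i z)
    (hL : P.aug L = 1) {j : ℕ} : adams P j (L * z) = L ^ j * adams P j z := by
  have hneg : Lambda.negLamSeries (L * z) = PowerSeries.rescale L (Lambda.negLamSeries z) := by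
    simp only [Lambda.negLamSeries, lamSeries_twist h, PowerSeries.rescale_rescale, mul_comm]
  rcases j with _ | j
  · rw [Lambda.adams_zero_left, Lambda.adams_zero_left, pow_zero, one_mul, map_mul, hL, one_mul]
  have h1 := congrArg (PowerSeries.rescale L) (Lambda.negLamSeries_mul_invOfUnit z)
  rw [map_mul, map_one, ← hneg] at h1
  have hinv : (Lambda.negLamSeries (L * z)).invOfUnit 1 = PowerSeries.rescale L ((Lambda.negLamSeries z).invOfUnit 1) :=
    left_inv_eq_right_inv ((mul_comm _ _).trans (Lambda.negLamSeries_mul_invOfUnit _)) h1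
  have hder : PowerSeries.derivative K (PowerSeries.rescale L (Lambda.negLamSeries z)) =
      PowerSeries.C L * PowerSeries.rescale L (PowerSeries.derivative K (Lambda.negLamSeries z)) := by
    ext i
    simp only [PowerSeries.coeff_derivative, PowerSeries.coeff_rescale, PowerSeries.coeff_C_mul]
    ring
  simp only [adams, adamsSeries]
  rw [show PowerSeries.rescale (-1 : K) (lamSeries (L * z)) = Lambda.negLamSeries (L * z) from rfl,
    show PowerSeries.rescale (-1 : K) (lamSeries z) = Lambda.negLamSeries z from rfl, hinv, hneg, hder]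
  simp only [map_sub, PowerSeries.coeff_C, if_neg (Nat.succ_ne_zero j), zero_sub, mul_assoc,
    PowerSeries.coeff_succ_X_mul, PowerSeries.coeff_C_mul]
  rw [← map_mul, PowerSeries.coeff_rescale]
  ring

/-- Positive elements: `λ^i` is twisted by line elements. -/
theorem lam_line_mul {P : PosStructure K} (hK : HasSplitting K P) {L : K} (hL : P.IsLine L) (z : K) (i : ℕ) :
    LambdaOps.lam i (L * z) = L ^ i * LambdaOps.lam i z := by
  have hp : ∀ e ∈ P.pos, ∀ k, LambdaOps.lam k (L * e) = L ^ k * LambdaOps.lam k e := by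
    intro e he k
    obtain ⟨M, f, hf, -, s, hs, hse, -⟩ := Lambda.exists_split hK he
    apply hf.injective
    rw [hf.isLambdaHom, map_mul, map_mul, map_pow, hf.isLambdaHom, ← hse,
      show f L * s.sum = (s.map fun x => f L * x).sum by rw [Multiset.sum_map_mul_left, Multiset.map_id'],
      Lambda.lam_lines_sum hs]
    rw [Lambda.lam_lines_sum (P := M.posStr) (fun x hx => by
      obtain ⟨y, hy, rfl⟩ := Multiset.mem_map.1 hx
      exact Lambda.isLine_mul (Lambda.map_isLine hf hL) (hs y hy))]
    exact (esymm_map_mul s (f L) k)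
  induction i using Nat.strong_induction_on generalizing z with
  | _ i ih =>
    obtain ⟨e, g, he, hg, rfl⟩ := P.exists_sub z
    have e1 := hp e he i
    conv at e1 => lhs; rw [show L * e = L * (e - g) + L * g by ring]
    conv at e1 => rhs; rw [show e = (e - g) + g by ring]
    rw [LambdaOps.lam_add, LambdaOps.lam_add, mul_sum, sum_range_succ, sum_range_succ, Nat.sub_self,
      LambdaOps.lam_zero, LambdaOps.lam_zero, mul_one, mul_one] at e1
    have e2 : ∑ k ∈ range i, LambdaOps.lam k (L * (e - g)) * LambdaOps.lam (i - k) (L * g) =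
        ∑ k ∈ range i, L ^ i * (LambdaOps.lam k (e - g) * LambdaOps.lam (i - k) g) :=
      sum_congr rfl fun k hk => by
        have hki : L ^ k * L ^ (i - k) = L ^ i := by rw [← pow_add, Nat.add_sub_cancel' (mem_range.1 hk).le]
        rw [ih k (mem_range.1 hk), hp g hg, ← hki]
        ring
    rw [e2] at e1
    exact add_left_cancel e1

theorem isUnit_natCast (j : ℕ) : IsUnit ((j : Localization.Away (j : ℤ))) := by
  simpa using IsLocalization.Away.algebraMap_isUnit (S := Localization.Away (j : ℤ)) (j : ℤ)

theorem flat_away (j : ℕ) : Module.Flat ℤ (Localization.Away (j : ℤ)) := by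
  have h := IsLocalization.flat (Localization.Away (j : ℤ)) (Submonoid.powers (j : ℤ))
  convert h using 1
  · rfl
  apply Module.ext'
  intro c x
  letI := AddCommGroup.toIntModule (Localization.Away (j : ℤ))
  exact (zsmul_eq_mul x c).trans (by rw [Algebra.smul_def, eq_intCast])

attribute [local instance 2000] Ring.toIntAlgebra

/-- `1 ⊗ θ` is invertible when `θ - j^m` is nilpotent. -/
theorem exists_inv_tmul {A : Type v} [CommRing A] (j m : ℕ) (θ : A) (h : IsNilpotent (θ - (j : A) ^ m)) :
    ∃ w : Localization.Away (j : ℤ) ⊗[ℤ] A, w * ((1 : Localization.Away (j : ℤ)) ⊗ₜ[ℤ] θ) = 1 := by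
  suffices hu : IsUnit ((1 : Localization.Away (j : ℤ)) ⊗ₜ[ℤ] θ) from hu.exists_left_inv
  let ι : A →+* Localization.Away (j : ℤ) ⊗[ℤ] A :=
    (Algebra.TensorProduct.includeRight (R := ℤ) (A := Localization.Away (j : ℤ)) (B := A)).toRingHom
  show IsUnit (ι θ)
  rw [show θ = (j : A) ^ m + (θ - (j : A) ^ m) by ring, map_add, map_pow, map_natCast]
  refine IsNilpotent.isUnit_add_left_of_commute (h.map ι) ?_ ?_
  rotate_left
  · exact mul_comm (ι (θ - (j : A) ^ m)) _
  have h2 := (isUnit_natCast j).map (Algebra.TensorProduct.includeLeftRingHom (R := ℤ) (A := Localization.Away (j : ℤ)) (B := A))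
  rw [map_natCast] at h2
  exact h2.pow m

end Groth.Agent.H28.AdamsRR
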