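import Groth.Agent.H28.GenBasis

/-!
# Projection formula for `p_K`
-/

set_option linter.style.haveILetI false
set_option linter.unusedSectionVars false
set_option backward.isDefEq.respectTransparency false
set_option backward.isDefEq.respectTransparency.types false

universe v w u

open CategoryTheory CategoryTheory.Limits AlgebraicGeometry TopologicalSpace
open Groth.Agent.H23.PicMul

namespace Groth.Agent.H28.GenProj

open Groth.Agent Groth.Agent.H28.KRRTw Groth.Agent.H28.KRRReg Groth.Agent.H28.KRegK0 Groth.Agent.H28.GenPsi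

variable {n : ℕ} {T : Scheme.{u}} [CompactSpace T]

theorem lf_tensorMod {X : Scheme.{u}} {A B : X.Modules} (hA : FlatMod.IsFinLocFree A) (hB : FlatMod.IsFinLocFree B) :
    FlatMod.IsFinLocFree (CohB1.tensorMod A B) := KFlatLib.isFinLocFree_tensor hA hB

theorem cl_assoc' {X : Scheme.{u}} (L A B C : X.Modules) (e : CohB1.tensorMod A B ≅ C)
    (h1 : FlatMod.IsFinLocFree (CohB1.tensorMod ((DCoh.tensorBi.obj L).obj A) B))
    (h2 : FlatMod.IsFinLocFree ((DCoh.tensorBi.obj L).obj C)) :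
    KRR.cl X (CohB1.tensorMod ((DCoh.tensorBi.obj L).obj A) B) = KRR.cl X ((DCoh.tensorBi.obj L).obj C) := by
  obtain ⟨a⟩ := H23.PicMul.assoc L A B
  exact GenPush.cl_iso (a ≪≫ PicGrp.tensorModIso (Iso.refl L) e) h1 h2

theorem cl_tensor_twist {G H : T.Modules} (hG : FlatMod.IsFinLocFree G) (hH : FlatMod.IsFinLocFree H) (k : ℕ) :
    KRR.cl (KRR.PY n T) (CohB1.tensorMod (M (P n G) (k : ℤ)) (P n H)) =
      KRR.cl (KRR.PY n T) (M (P n (CohB1.tensorMod G H)) (k : ℤ)) := by
  have hP := fun G (hG : FlatMod.IsFinLocFree G) => (rp_pullback (n := n) (T := T) hG).1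
  exact cl_assoc' (Twist.twistOver n T (k : ℤ)) (P n G) (P n H) (P n (CohB1.tensorMod G H))
    (pull (KRR.pr n T) G H).some.symm
    (lf_tensorMod (A := M (P n G) (k : ℤ)) (B := P n H) (vp_twF (k : ℤ) (hP G hG)) (hP H hH))
    (vp_twF (k : ℤ) (hP _ (lf_tensorMod hG hH)))

/-- `p_K (x · p^K y) = p_K x · y`, for any products and maps with the defining values. -/
theorem push_mul_pull {KP : Type v} [CommRing KP] {KY : Type w} [CommRing KY]
    (φP : SGA6.Kvb (KRR.PY n T) →+ KP) (hsP : Function.Surjective φP)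
    (φY : SGA6.Kvb T →+ KY) (hsY : Function.Surjective φY)
    (hmP : ∀ E F : (KRR.PY n T).Modules, FlatMod.IsFinLocFree E → FlatMod.IsFinLocFree F →
      φP (KRR.cl _ E) * φP (KRR.cl _ F) = φP (KRR.cl _ (CohB1.tensorMod E F)))
    (hmY : ∀ E F : T.Modules, FlatMod.IsFinLocFree E → FlatMod.IsFinLocFree F →
      φY (KRR.cl _ E) * φY (KRR.cl _ F) = φY (KRR.cl _ (CohB1.tensorMod E F)))
    (g : KP →+ KY) (hg : KRR.IsPushPr n T φP φY g) (q : KY →+ KP)
    (hq : KRR.IsPull (KRR.pr n T) φY φP q) (x : KP) (y : KY) : g (x * q y) = g x * y := by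
  obtain ⟨x', rfl⟩ := hsP x
  obtain ⟨y', rfl⟩ := hsY y
  let S : AddSubgroup (SGA6.Kvb (KRR.PY n T)) :=
    { carrier := {z | ∀ w, g (φP z * q (φY w)) = g (φP z) * φY w}
      zero_mem' := fun w => by simp
      add_mem' := fun {a b} ha hb w => by rw [map_add, add_mul, map_add, ha, hb, map_add, add_mul]
      neg_mem' := fun {a} ha w => by rw [map_neg, neg_mul, map_neg, ha, map_neg, neg_mul] }
  suffices h : S = ⊤ from (h ▸ AddSubgroup.mem_top x' : x' ∈ S) y'
  refine GenBasis.eq_top_of_mem S fun k G _ hG w => ?_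
  have hval : ∀ G : T.Modules, FlatMod.IsFinLocFree G →
      g (φP (KRR.cl _ (M (P n G) (k : ℤ)))) = ((n + k).choose n : ℤ) • φY (KRR.cl T G) := fun G hG => by
    have h := GenPsi.push_twist (n := n) hG (g.comp φP) φY (fun F hF => hg F hF.1 hF.2) (n + k)
    rw [show ((n + k : ℕ) : ℤ) - n = (k : ℤ) by omega] at h
    exact h
  refine DFunLike.congr_fun (f := g.comp ((AddMonoidHom.mulLeft (φP (KRR.cl _ (M (P n G) (k : ℤ))))).comp (q.comp φY)))
    (g := (AddMonoidHom.mulLeft (g (φP (KRR.cl _ (M (P n G) (k : ℤ)))))).comp φY)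
    (KZ.K0sub_hom_ext _ fun H hH => ?_) w
  show g (φP (KRR.cl _ (M (P n G) (k : ℤ))) * q (φY (KRR.cl T H))) = g (φP _) * φY (KRR.cl T H)
  have hP := fun G (hG : FlatMod.IsFinLocFree G) => (rp_pullback (n := n) (T := T) hG).1
  have hGH : FlatMod.IsFinLocFree (CohB1.tensorMod G H) := lf_tensorMod hG hH
  have hM : φP (KRR.cl _ (M (P n G) (k : ℤ))) * φP (KRR.cl _ (P n H)) =
      φP (KRR.cl _ (M (P n (CohB1.tensorMod G H)) (k : ℤ))) :=
    (hmP (M (P n G) (k : ℤ)) (P n H) (vp_twF (k : ℤ) (hP G hG)) (hP H hH)).trans (congrArg φP (cl_tensor_twist hG hH k))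
  rw [hq H hH, hM, hval G hG, hval _ hGH, smul_mul_assoc, hmY G H hG hH]

end Groth.Agent.H28.GenProj
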