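import Groth.Agent.H28.KRegK0
import Groth.Agent.H28.PushLocFree
import Groth.Agent.H28.RegTwist
import Groth.Agent.H28.RegRes
import Groth.Agent.H28.ChooseRec
import Groth.Agent.PicClLib.Basic

/-!
# The push-forward `p_K` of `P^n_Y` and its values on the twists
-/

set_option linter.style.haveILetI false
set_option linter.unusedSectionVars false
set_option backward.isDefEq.respectTransparency false
set_option backward.isDefEq.respectTransparency.types false

universe v w u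

open CategoryTheory CategoryTheory.Limits AlgebraicGeometry TopologicalSpace

namespace Groth.Agent.H28.PushK

open Groth.Agent Groth.Agent.H28.KRRTw Groth.Agent.H28.KRRReg Groth.Agent.H28.KRegK0

/-- Direct image is exact on sequences with acyclic kernel. -/
theorem shortExact_push {X Y : Scheme.{u}} (f : X ⟶ Y) {S : ShortComplex X.Modules} (hS : S.ShortExact)
    (h₁ : RKoszul.RZ f S.X₁ 1) : (S.map (Scheme.Modules.pushforward f)).ShortExact := by
  haveI := (Scheme.Modules.pullbackPushforwardAdjunction f).isRightAdjoint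
  haveI : PreservesFiniteLimits (Scheme.Modules.pushforward f) := inferInstance
  haveI := hS.mono_f
  exact ShortComplex.ShortExact.mk'
    (ShortComplex.exact_of_f_is_kernel _ (KernelFork.mapIsLimit _ hS.fIsKernel (Scheme.Modules.pushforward f)))
    (inferInstanceAs (Mono ((Scheme.Modules.pushforward f).map S.f)))
    (RKoszul.epi_push_map f hS h₁)

theorem isFinLocFree_structure (X : Scheme.{u}) : FlatMod.IsFinLocFree (Coh.structureModule X) := fun _ => by
  obtain ⟨e⟩ := PicClLib.nonempty_pullback_structureModule (⊤ : X.Opens).ι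
  exact ⟨⊤, 1, trivial, ⟨(Scheme.Modules.restrictFunctorIsoPullback _).app _ ≪≫ e ≪≫
    (coproductUniqueIso fun _ : Fin 1 => Coh.structureModule ((⊤ : X.Opens) : Scheme.{u})).symm⟩⟩

theorem cl_iso {X : Scheme.{u}} {A B : X.Modules} (e : A ≅ B) (hA : FlatMod.IsFinLocFree A)
    (hB : FlatMod.IsFinLocFree B) : KRR.cl X A = KRR.cl X B :=
  KZ.clSub_iso _ e hA hB (isZero_zero _) (KFlatLib.isFinLocFree_of_isZero (isZero_zero _))

variable {n : ℕ} {Y : Scheme.{u}} [AlgebraicGeometry.IsNoetherian Y]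

theorem isProper_pr : IsProper (KRR.pr n Y) :=
  MorphismProperty.pullback_snd _ _ (PnCoh.Chow.isProper_toSpec n (ULift.{u} ℤ))

theorem exists_R (E : (KRR.PY n Y).Modules) (hE : VP n Y E) : ∃ j : ℕ, R n Y j E := by
  obtain ⟨m₀, hm⟩ := RegTwist.exists_isReg (PushLocFree.isCoh_of_isFinLocFree hE)
  exact ⟨m₀, hE, hm m₀ le_rfl⟩

/-- The push-forward on regular bundles. -/
theorem exists_piReg : ∃ π : KZero.K0sub (RP n Y) →+ SGA6.Kvb Y,
    ∀ F, RP n Y F → π (KZero.clSub (RP n Y) F) = KRR.cl Y ((Scheme.Modules.pushforward (KRR.pr n Y)).obj F) :=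
  KZ.exists_liftSub (RP n Y) _ fun S hS h₁ h₂ h₃ =>
    KZ.clSub_ses (KRR.vbP Y) (shortExact_push _ hS (rz_self _ h₁.2 1 le_rfl))
      (PushLocFree.isFinLocFree_push_of_isReg n Y _ h₁.1 h₁.2)
      (PushLocFree.isFinLocFree_push_of_isReg n Y _ h₂.1 h₂.2)
      (PushLocFree.isFinLocFree_push_of_isReg n Y _ h₃.1 h₃.2)

/-- The push-forward exists and is unique. -/
theorem existsUnique_push {KP : Type v} [CommRing KP] (φP : SGA6.Kvb (KRR.PY n Y) →+ KP)
    (hφ : Function.Bijective φP) {KY : Type w} [CommRing KY] (φY : SGA6.Kvb Y →+ KY) :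
    ∃! g : KP →+ KY, KRR.IsPushPr n Y φP φY g := by
  obtain ⟨π, hπ⟩ := exists_piReg (n := n) (Y := Y)
  obtain ⟨ι, hι⟩ := KZ.exists_liftSub (RP n Y) (fun E => KRR.cl (KRR.PY n Y) E) fun S hS h₁ h₂ h₃ =>
    KZ.clSub_ses (KRR.vbP (KRR.PY n Y)) hS h₁.1 h₂.1 h₃.1
  have hb : Function.Bijective (φP.comp ι) := hφ.comp (bijective_of_exists_reg exists_R ι hι)
  let e := AddEquiv.ofBijective (φP.comp ι) hb
  refine ⟨(φY.comp π).comp e.symm.toAddMonoidHom, fun F hF hR => ?_, fun g' hg' => ?_⟩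
  · have h : e.symm (φP (KRR.cl _ F)) = KZero.clSub (RP n Y) F := by
      rw [AddEquiv.symm_apply_eq, ← hι F ⟨hF, hR⟩]
      rfl
    show φY (π (e.symm _)) = _
    rw [h, hπ F ⟨hF, hR⟩]
  · have h : g'.comp (φP.comp ι) = φY.comp π := KZ.K0sub_hom_ext _ fun F hF => by
      show g' (φP (ι _)) = φY (π _)
      rw [hι F hF, hπ F hF, hg' F hF.1 hF.2]
    refine AddMonoidHom.ext fun x => ?_
    obtain ⟨y, rfl⟩ := e.surjective x
    refine (DFunLike.congr_fun h y).trans ?_
    exact congrArg (fun z => φY (π z)) (e.symm_apply_apply y).symm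

/-- Bundles without higher direct images. -/
abbrev AP (n : ℕ) (Y : Scheme.{u}) : ObjectProperty (KRR.PY n Y).Modules :=
  fun M => FlatMod.IsFinLocFree M ∧ ∀ i : ℕ, 1 ≤ i → RKoszul.RZ (KRR.pr n Y) M i

theorem ap_push {M : (KRR.PY n Y).Modules} (h : AP n Y M) :
    FlatMod.IsFinLocFree ((Scheme.Modules.pushforward (KRR.pr n Y)).obj M) :=
  haveI := isProper_pr (n := n) (Y := Y)
  PushLocFree.isFinLocFree_push _ (PushLocFree.isCoh_of_isFinLocFree h.1)
    (FlatPr.isFlatOver_of_isFinLocFree _ h.1) h.2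

theorem exists_piAP : ∃ π : KZero.K0sub (AP n Y) →+ SGA6.Kvb Y,
    ∀ F, AP n Y F → π (KZero.clSub (AP n Y) F) = KRR.cl Y ((Scheme.Modules.pushforward (KRR.pr n Y)).obj F) :=
  KZ.exists_liftSub (AP n Y) _ fun S hS h₁ h₂ h₃ =>
    KZ.clSub_ses (KRR.vbP Y) (shortExact_push _ hS (h₁.2 1 le_rfl)) (ap_push h₁) (ap_push h₂) (ap_push h₃)

/-- `O`. -/
noncomputable abbrev O (n : ℕ) (Y : Scheme.{u}) : (KRR.PY n Y).Modules := Coh.structureModule (KRR.PY n Y)

theorem isQCoh_structure' (X : Scheme.{u}) : Coh.IsQCoh (Coh.structureModule X) :=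
  QCoh.isQCoh_of_isFinLocFree (isFinLocFree_structure X)

theorem isReg_O : KRR.IsRegSheaf n Y (O n Y) :=
  KRegK0.isReg_of_iso (PicClLib.nonempty_pullback_structureModule (KRR.pr n Y)).some
    (PnBox.isReg_pullback _ (isQCoh_structure' Y))

theorem ap_twist {b : ℤ} (hb : -(n : ℤ) ≤ b) : AP n Y (M (O n Y) b) := by
  refine ⟨vp_twF _ (isFinLocFree_structure _), fun i hi => ?_⟩
  exact RKoszul.rz_of_iso _ ((Tw n Y b).mapIso (PicClLib.nonempty_pullback_structureModule (KRR.pr n Y)).some) i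
    (PnBox.rz_tw_pullback _ (isQCoh_structure' Y) b i hi (Or.inl (by omega)))

theorem ap_zero {Z : (KRR.PY n Y).Modules} (h : IsZero Z) : AP n Y Z :=
  ⟨KFlatLib.isFinLocFree_of_isZero h, fun i _ => RKoszul.rz_of_isZero _ h i⟩

theorem ap_biprod {A B : (KRR.PY n Y).Modules} (hA : AP n Y A) (hB : AP n Y B) : AP n Y (A ⊞ B) :=
  ⟨KFlatLib.isFinLocFree_biprod hA.1 hB.1, fun i hi => RKoszul.rz_biprod _ i (hA.2 i hi) (hB.2 i hi)⟩

theorem ap_kernel {a : ℤ} (ha : -(n : ℤ) ≤ a) (m : ℕ) :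
    ∀ p : ℕ, n + 1 ≤ p + m →
      AP n Y (kernel (KoszulCone.dd (M (O n Y)) (xs (O n Y)) (ls.{u} n) (a + ((n + 1 : ℕ) : ℤ)) p)) := by
  induction m with
  | zero =>
    intro p hp
    exact ap_zero (IsZero.of_mono (kernel.ι _)
      (KoszulCone.isZero_obj (M (O n Y)) (ls.{u} n) _ (p + 1) (by rw [length_ls]; omega)))
  | succ m ih =>
    intro p hp
    refine ⟨vp_kernel (O n Y) (isFinLocFree_structure _) _ p, fun i hi => ?_⟩
    have hobj : RKoszul.RZ (KRR.pr n Y) (KoszulCone.obj (M (O n Y)) (ls.{u} n) (a + ((n + 1 : ℕ) : ℤ)) (p + 2)) i := by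
      by_cases h : p + 2 ≤ n + 1
      · exact RKoszul.rz_obj _ (M (O n Y)) i _ _ _ ((ap_twist (by omega)).2 i hi)
      · exact RKoszul.rz_of_isZero _ (KoszulCone.isZero_obj (M (O n Y)) (ls.{u} n) _ _ (by rw [length_ls]; omega)) i
    exact RKoszul.rz_quot (KRR.pr n Y) (S := KoszulK.piece (M (O n Y)) (xs (O n Y)) (mul_comm' (O n Y)) (ls.{u} n) _ p)
      (shortExact_piece (O n Y) _ p) i hobj ((ih (p + 1) (by omega)).2 (i + 1) (by omega))

/-- The relation between the classes, in any of the `K₀`. -/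
theorem relationO {P : ObjectProperty (KRR.PY n Y).Modules} (hzero : ∀ Z, IsZero Z → P Z)
    (hbi : ∀ A B, P A → P B → P (A ⊞ B)) (a : ℤ)
    (hk : ∀ p, P (kernel (KoszulCone.dd (M (O n Y)) (xs (O n Y)) (ls.{u} n) (a + ((n + 1 : ℕ) : ℤ)) p)))
    (hM : ∀ q : ℕ, P (M (O n Y) (a + (q : ℤ)))) :
    KZero.clSub P (M (O n Y) (a + ((n + 1 : ℕ) : ℤ))) = ∑ p ∈ Finset.range (n + 1),
      (-1 : ℤ) ^ p • ((n + 1).choose (p + 1) • KZero.clSub P (M (O n Y) (a + ((n - p : ℕ) : ℤ)))) := by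
  haveI := epi_dd (O n Y) (a + ((n + 1 : ℕ) : ℤ))
  have h := KoszulK.relation (M (O n Y)) (xs (O n Y)) (P := P) hzero hbi (mul_comm' (O n Y)) (ls.{u} n)
    (a + ((n + 1 : ℕ) : ℤ)) hk
    (fun p hp => by
      rw [length_ls] at hp
      rw [show a + ((n + 1 : ℕ) : ℤ) - (p : ℤ) = a + ((n + 1 - p : ℕ) : ℤ) by omega]
      exact hM _) (shortExact_piece (O n Y) _)
  rw [h, length_ls]
  refine Finset.sum_congr rfl fun p hp => ?_
  have : p < n + 1 := Finset.mem_range.1 hp
  rw [show a + ((n + 1 : ℕ) : ℤ) - ((p + 1 : ℕ) : ℤ) = a + ((n - p : ℕ) : ℤ) by omega]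

/-- The class of `p_* O(b)`. -/
noncomputable abbrev psi (n : ℕ) (Y : Scheme.{u}) (b : ℤ) : SGA6.Kvb Y :=
  KRR.cl Y ((Scheme.Modules.pushforward (KRR.pr n Y)).obj (M (O n Y) b))

theorem psi_rec {a : ℤ} (ha : -(n : ℤ) ≤ a) :
    psi n Y (a + ((n + 1 : ℕ) : ℤ)) = ∑ p ∈ Finset.range (n + 1),
      (-1 : ℤ) ^ p • ((n + 1).choose (p + 1) • psi n Y (a + ((n - p : ℕ) : ℤ))) := by
  obtain ⟨π, hπ⟩ := exists_piAP (n := n) (Y := Y)
  have h := congrArg π (relationO (P := AP n Y) (fun _ => ap_zero) (fun _ _ => ap_biprod) a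
    (fun p => ap_kernel ha (n + 1) p (by omega)) (fun q => ap_twist (by omega)))
  rw [hπ _ (ap_twist (by omega)), map_sum] at h
  refine h.trans (Finset.sum_congr rfl fun p _ => ?_)
  rw [map_zsmul, map_nsmul, hπ _ (ap_twist (by omega))]

theorem psi_zero : psi n Y 0 = KRR.cl Y (Coh.structureModule Y) := by
  haveI := PnH0.isIso_unit (n := n) (Coh.structureModule Y) (isQCoh_structure' Y)
  let e : (Scheme.Modules.pushforward (KRR.pr n Y)).obj (M (O n Y) 0) ≅ Coh.structureModule Y :=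
    (Scheme.Modules.pushforward (KRR.pr n Y)).mapIso
      ((twF_zero (O n Y)).some ≪≫ (PicClLib.nonempty_pullback_structureModule (KRR.pr n Y)).some.symm) ≪≫
      (asIso ((Scheme.Modules.pullbackPushforwardAdjunction (KRR.pr n Y)).unit.app (Coh.structureModule Y))).symm
  exact cl_iso e (ap_push (ap_twist (by omega))) (isFinLocFree_structure Y)

theorem psi_neg {i : ℕ} (hi : 1 ≤ i) (hin : i ≤ n) : psi n Y (-(i : ℤ)) = 0 := by
  refine KZ.clSub_isZero _ ((RegRes.isZero_push_iff _).1 ?_)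
  exact RKoszul.rz_of_iso _ ((Tw n Y (-(i : ℤ))).mapIso (PicClLib.nonempty_pullback_structureModule (KRR.pr n Y)).some) 0
    (RegRes.rz_zero_tw_pullback _ (isQCoh_structure' Y) i hi hin)

/-- `[p_* O(b)] = C(n+b, n)`. -/
theorem psi_eq : ∀ q : ℕ, psi n Y ((q : ℤ) - n) = (q.choose n : ℤ) • KRR.cl Y (Coh.structureModule Y) := by
  intro q
  induction q using Nat.strong_induction_on with
  | _ q ih =>
    rcases Nat.lt_trichotomy q n with h | h | h
    · rw [Nat.choose_eq_zero_of_lt h, Nat.cast_zero, zero_smul,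
        show (q : ℤ) - n = -((n - q : ℕ) : ℤ) by omega]
      exact psi_neg (by omega) (by omega)
    · subst h
      rw [Nat.choose_self, Nat.cast_one, one_smul, sub_self]
      exact psi_zero
    · obtain ⟨r, rfl⟩ : ∃ r, q = r + (n + 1) := ⟨q - (n + 1), by omega⟩
      have h1 := psi_rec (n := n) (Y := Y) (a := (r : ℤ) - n) (by omega)
      rw [show ((r + (n + 1) : ℕ) : ℤ) - n = (r : ℤ) - n + ((n + 1 : ℕ) : ℤ) by omega, h1,
        ChooseRec.choose_rec n r, Finset.sum_smul]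
      refine Finset.sum_congr rfl fun p hp => ?_
      have : p < n + 1 := Finset.mem_range.1 hp
      rw [show (r : ℤ) - n + ((n - p : ℕ) : ℤ) = ((r + (n - p) : ℕ) : ℤ) - n by omega, ih _ (by omega),
        smul_assoc, smul_assoc]

variable {KP : Type v} [CommRing KP] {KY : Type w} [CommRing KY]
  {φP : SGA6.Kvb (KRR.PY n Y) →+ KP} {φY : SGA6.Kvb Y →+ KY} {g : KP →+ KY}
  (hg : KRR.IsPushPr n Y φP φY g) (h1 : φY (KRR.cl Y (Coh.structureModule Y)) = 1)

include hg h1 in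
theorem push_twist (m : ℕ) :
    g (φP (KRR.cl (KRR.PY n Y) (KRR.twF n Y (m : ℤ) (O n Y)))) = ((n + m).choose n : KY) := by
  rw [hg _ (vp_twF _ (isFinLocFree_structure _)) (isReg_twF _ isReg_O m)]
  show φY (psi n Y (m : ℤ)) = _
  rw [show (m : ℤ) = ((n + m : ℕ) : ℤ) - n by omega, psi_eq, map_zsmul, h1]
  simp

include hg h1 in
theorem push_twist_neg : ∀ i : ℕ, 1 ≤ i → i ≤ n →
    g (φP (KRR.cl (KRR.PY n Y) (KRR.twF n Y (-(i : ℤ)) (O n Y)))) = 0 := by
  intro i
  induction i using Nat.strong_induction_on with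
  | _ i ih =>
    intro hi hin
    let F : SGA6.Kvb (KRR.PY n Y) →+ KY := g.comp φP
    let φ : ℕ → KY := fun q => F (KRR.cl (KRR.PY n Y) (M (O n Y) (-(i : ℤ) + (q : ℤ))))
    let χ : ℕ → KY := fun q => (((n - i + q).choose n : ℤ) : KY)
    have hval : ∀ q, 1 ≤ q → φ q = χ q := fun q hq => by
      by_cases h : i ≤ q
      · obtain ⟨m, rfl⟩ := Nat.exists_eq_add_of_le h
        show g (φP (KRR.cl _ (M (O n Y) _))) = _
        rw [show -(i : ℤ) + ((i + m : ℕ) : ℤ) = (m : ℤ) by omega]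
        refine (push_twist hg h1 m).trans ?_
        simp [χ, show n - i + (i + m) = n + m by omega]
      · show g (φP (KRR.cl _ (M (O n Y) _))) = _
        rw [show -(i : ℤ) + (q : ℤ) = -((i - q : ℕ) : ℤ) by omega]
        refine (ih (i - q) (by omega) (by omega) (by omega)).trans ?_
        simp [χ, Nat.choose_eq_zero_of_lt (show n - i + q < n by omega)]
    have hφ : φ 0 = sol n φ := eq_sol n φ (by
      have h := congrArg F (relationO (P := KRR.vbP (KRR.PY n Y)) (fun _ => KFlatLib.isFinLocFree_of_isZero)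
        (fun _ _ => KFlatLib.isFinLocFree_biprod) (-(i : ℤ))
        (vp_kernel (O n Y) (isFinLocFree_structure _) _) (fun q => vp_twF _ (isFinLocFree_structure _)))
      rw [map_sum] at h
      refine h.trans (Finset.sum_congr rfl fun p _ => ?_)
      rw [map_zsmul, map_nsmul])
    have hχ : χ 0 = sol n χ := eq_sol n χ (by
      show (((n - i + (n + 1)).choose n : ℤ) : KY) = _
      rw [ChooseRec.choose_rec n (n - i), Int.cast_sum]
      refine Finset.sum_congr rfl fun p _ => ?_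
      simp [χ])
    have h0 : φ 0 = χ 0 := hφ.trans ((sol_congr n hval).trans hχ.symm)
    have hz : χ 0 = 0 := by simp [χ, Nat.choose_eq_zero_of_lt (show n - i < n by omega)]
    rw [hz] at h0
    show g (φP (KRR.cl _ (M (O n Y) _))) = 0
    rw [show -(i : ℤ) = -(i : ℤ) + ((0 : ℕ) : ℤ) by omega]
    exact h0

end Groth.Agent.H28.PushK
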