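import Groth.Agent.H28.LineTwist
import Groth.Agent.H28.GenProj
import Groth.Agent.H28.PushK

/-!
# The γ-filtration of `K(P^n_Y)`
-/

set_option autoImplicit false
set_option linter.style.haveILetI false
set_option linter.unusedSectionVars false
set_option backward.isDefEq.respectTransparency false
set_option backward.isDefEq.respectTransparency.types false

universe v u

open CategoryTheory CategoryTheory.Limits AlgebraicGeometry TopologicalSpace Finset

noncomputable section

namespace Groth.Agent.H28.PnFil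

open Groth.Agent Groth.Agent.H28.KvbLam Groth.Agent.H28.KRegK0

variable {n : ℕ} {Y : Scheme.{u}} {KP : Type v} [CommRing KP] [LambdaRing.LambdaOps KP]
  {PP : LambdaRing.PosStructure KP} {φP : SGA6.Kvb (KRR.PY n Y) →+ KP}

/-- The class of `O(d)`. -/
abbrev lc (φP : SGA6.Kvb (KRR.PY n Y) →+ KP) (d : ℤ) : KP := φP (cl (Twist.twistOver n Y d))

theorem lf_tw (d : ℤ) : FlatMod.IsFinLocFree (Twist.twistOver n Y d) :=
  LineTwist.lf_invertible (KRRReg.isInvertible_twistOver d)

variable (hP : KRR.IsModel (KRR.PY n Y) KP PP φP)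

include hP in
theorem lc_add (a b : ℤ) : lc φP (a + b) = lc φP a * lc φP b := by
  obtain ⟨e⟩ := KRRReg.twistOver_add (n := n) (T := Y) a b
  rw [LineTwist.tm_eq] at e
  refine Eq.trans ?_ (hP.map_mul _ _ (lf_tw a) (lf_tw b)).symm
  exact congrArg φP (cl_iso e (lf_tens (lf_tw a) (lf_tw b))).symm

include hP in
theorem lc_zero : lc φP 0 = 1 := by
  obtain ⟨e⟩ := KRRReg.twistOver_zero (n := n) (T := Y)
  exact (congrArg φP (cl_iso e (lf_tw 0))).trans hP.map_one

include hP in
theorem lc_nat : ∀ j : ℕ, lc φP (j : ℤ) = lc φP 1 ^ j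
  | 0 => by rw [pow_zero, Nat.cast_zero, lc_zero hP]
  | j + 1 => by rw [pow_succ, Nat.cast_succ, lc_add hP, lc_nat j]

include hP in
theorem cl_twF (d : ℤ) {E : (KRR.PY n Y).Modules} (hE : FlatMod.IsFinLocFree E) :
    φP (cl (KRR.twF n Y d E)) = lc φP d * φP (cl E) :=
  (hP.map_mul _ _ (lf_tw d) hE).symm

/-- `ℓ - 1`. -/
abbrev eta (φP : SGA6.Kvb (KRR.PY n Y) →+ KP) : KP := lc φP 1 - 1

include hP in
theorem eta_pow_eq_zero [CompactSpace ↥Y] : eta φP ^ (n + 1) = 0 := by
  have hO : FlatMod.IsFinLocFree (Coh.structureModule (KRR.PY n Y)) := KvbLam.lf_O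
  have h := GenPsi.relationE (Coh.structureModule (KRR.PY n Y)) (P := KRR.vbP (KRR.PY n Y))
    (fun _ hZ => KFlatLib.isFinLocFree_of_isZero hZ) (fun _ _ => KFlatLib.isFinLocFree_biprod) 0
    (fun p => KRegK0.vp_kernel _ hO _ p) (fun q => vp_twF _ hO)
  have hM : ∀ d : ℤ, φP (KZero.clSub (KRR.vbP (KRR.PY n Y)) (M (Coh.structureModule (KRR.PY n Y)) d)) =
      lc φP d := fun d => (cl_twF hP d hO).trans (by
    rw [show φP (cl (Coh.structureModule (KRR.PY n Y))) = 1 from hP.map_one, mul_one])
  have h' := congrArg φP h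
  rw [map_sum, hM, zero_add, lc_nat hP] at h'
  rw [show eta φP = -1 + lc φP 1 by rw [neg_add_eq_sub], add_pow, sum_range_succ']
  simp only [pow_zero, one_mul, Nat.choose_zero_right, Nat.cast_one, mul_one, Nat.sub_zero]
  rw [h', ← sum_add_distrib]
  refine sum_eq_zero fun p hp => ?_
  rw [map_zsmul, map_nsmul, hM, zero_add, lc_nat hP, show n + 1 - (p + 1) = n - p by omega, zsmul_eq_mul,
    nsmul_eq_mul, Int.cast_pow, Int.cast_neg, Int.cast_one, pow_succ]
  ring

variable {KY : Type v} [CommRing KY] [LambdaRing.LambdaOps KY] {PY : LambdaRing.PosStructure KY}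
  {φY : SGA6.Kvb Y →+ KY} (hY : KRR.IsModel Y KY PY φY)
  {q : KY →+ KP} (hq : KRR.IsPull (KRR.pr n Y) φY φP q)

/-- The ideals `Σ_m q (F^{k-m}) η^m`. -/
def G (φP : SGA6.Kvb (KRR.PY n Y) →+ KP) (PY : LambdaRing.PosStructure KY) (q : KY →+ KP) (k : ℕ) : Ideal KP :=
  Ideal.span {z | ∃ (m : ℕ) (a : KY), a ∈ LambdaRing.gammaFiltration PY (k - m) ∧ z = q a * eta φP ^ m}

include hP hY hq in
theorem isMulFiltration_G : Lambda.IsMulFiltration (G φP PY q) where
  zero := (Ideal.eq_top_iff_one _).2 (Ideal.subset_span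
    ⟨0, 1, by rw [Lambda.gammaFiltration_zero]; trivial, by rw [KvbPull.map_one hP hY hq, pow_zero, mul_one]⟩)
  anti := fun a b hab => Ideal.span_mono fun z ⟨m, x, hx, hz⟩ =>
    ⟨m, x, Lambda.gammaFiltration_anti (by omega) hx, hz⟩
  mul_mem := fun {a b x y} hx hy => by
    induction hx using Submodule.span_induction with
    | mem x hx =>
      induction hy using Submodule.span_induction with
      | mem y hy =>
        obtain ⟨m, c, hc, rfl⟩ := hx
        obtain ⟨m', c', hc', rfl⟩ := hy
        refine Ideal.subset_span ⟨m + m', c * c', Lambda.gammaFiltration_anti (by omega)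
          (Lambda.mul_mem_add hc hc'), ?_⟩
        rw [KvbPull.map_mul hP hY hq, pow_add]
        ring
      | zero => rw [mul_zero]; exact zero_mem _
      | add u v _ _ hu hv => rw [mul_add]; exact add_mem hu hv
      | smul c u _ hu => rw [smul_eq_mul, mul_left_comm]; exact Ideal.mul_mem_left _ _ hu
    | zero => rw [zero_mul]; exact zero_mem _
    | add u v _ _ hu hv => rw [add_mul]; exact add_mem hu hv
    | smul c u _ hu => rw [smul_eq_mul, mul_assoc]; exact Ideal.mul_mem_left _ _ hu

include hP in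
theorem isLine_lc (d : ℤ) : PP.IsLine (lc φP d) :=
  LineTwist.isLine_cl hP (KRRReg.isInvertible_twistOver d)

include hP hY hq in
theorem twist_mem {y : KY} (hy : PY.aug y = 0) (d : ℕ) :
    lc φP (d : ℤ) * q y ∈ (isMulFiltration_G hP hY hq).gammaSubgroup := by
  have hT := isMulFiltration_G hP hY hq
  rw [hT.mem_gammaSubgroup]
  rintro (_ | s)
  · rw [hT.zero]; trivial
  rw [LineTwist.gamma_mul_of_twist (LineTwist.lam_twist hP (KRRReg.isInvertible_twistOver (d : ℤ)) (q y))]
  refine sum_mem fun i hi => ?_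
  rw [mem_range] at hi
  have h1 : 1 - lc φP (d : ℤ) ∈ G φP PY q 1 := by
    rw [lc_nat hP, ← neg_sub, ← geom_sum_mul]
    refine neg_mem (Ideal.mul_mem_left _ _ (Ideal.subset_span ⟨1, 1, ?_, ?_⟩))
    · rw [Nat.sub_self, Lambda.gammaFiltration_zero]; trivial
    · rw [KvbPull.map_one hP hY hq, pow_one, one_mul]
  have h2 : LambdaRing.gamma (i + 1) (q y) ∈ G φP PY q (i + 1) := by
    refine Ideal.subset_span ⟨0, LambdaRing.gamma (i + 1) y, Lambda.gamma_mem hy _, ?_⟩
    rw [pow_zero, mul_one]
    exact (Lambda.map_gamma (f := KvbPull.ringHom hP hY hq) (fun i x => KvbPull.map_lam hP hY hq i x) _ y).symm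
  have h3 := hT.mul_mem (hT.pow_mem h1 (s - i)) h2
  rw [show (s - i) * 1 + (i + 1) = s + 1 by omega] at h3
  rw [mul_assoc]
  exact Ideal.mul_mem_left _ _ h3

include hP hY hq in
theorem lc_sub_one_mem (d : ℕ) : lc φP (d : ℤ) - 1 ∈ (isMulFiltration_G hP hY hq).gammaSubgroup := by
  have hT := isMulFiltration_G hP hY hq
  rw [hT.mem_gammaSubgroup]
  intro r
  have h := Lambda.gamma_lines_sum_sub_card (P := PP) (s := {lc φP (d : ℤ)})
    (fun u hu => by rw [Multiset.mem_singleton.1 hu]; exact isLine_lc hP _) r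
  rw [Multiset.sum_singleton, Multiset.card_singleton, Nat.cast_one, Multiset.map_singleton] at h
  rw [h]
  rcases r with _ | _ | r
  · rw [hT.zero]; trivial
  · simp only [zero_add, Multiset.esymm, Multiset.powersetCard_one, Multiset.map_singleton,
      Multiset.prod_singleton, Multiset.sum_singleton]
    rw [lc_nat hP, ← geom_sum_mul]
    refine Ideal.mul_mem_left _ _ (Ideal.subset_span ⟨1, 1, ?_, ?_⟩)
    · rw [Nat.sub_self, Lambda.gammaFiltration_zero]; trivial
    · rw [KvbPull.map_one hP hY hq, pow_one, one_mul]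
  · rw [Multiset.esymm, Multiset.powersetCard_eq_empty _ (by simp)]
    simp

variable [CompactSpace ↥Y] [ConnectedSpace ↥Y]

include hP hY hq in
theorem sub_aug_mem (z : KP) : z - (PP.aug z : KP) ∈ (isMulFiltration_G hP hY hq).gammaSubgroup := by
  let W := (isMulFiltration_G hP hY hq).gammaSubgroup
  obtain ⟨w, rfl⟩ := hP.bijective.2 z
  let S : AddSubgroup (SGA6.Kvb (KRR.PY n Y)) :=
    { carrier := {w | φP w - (PP.aug (φP w) : KP) ∈ W}
      zero_mem' := by simp
      add_mem' := fun {a b} ha hb => by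
        show φP (a + b) - (PP.aug (φP (a + b)) : KP) ∈ W
        rw [map_add φP, map_add PP.aug, Int.cast_add, add_sub_add_comm]
        exact add_mem ha hb
      neg_mem' := fun {a} ha => by
        show φP (-a) - (PP.aug (φP (-a)) : KP) ∈ W
        rw [map_neg φP, map_neg PP.aug, Int.cast_neg, ← neg_sub']
        exact neg_mem ha }
  suffices hS : S = ⊤ from (show w ∈ S from hS ▸ AddSubgroup.mem_top w)
  refine GenBasis.eq_top_of_mem S fun k E _ hE => ?_
  obtain ⟨g, hg⟩ := KvbModel.exists_rank hE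
  show φP _ - (PP.aug (φP _) : KP) ∈ W
  rw [show φP (KRR.cl (KRR.PY n Y) (M (GenPsi.P n E) (k : ℤ))) = lc φP (k : ℤ) * q (φY (cl E)) from
    (cl_twF hP _ (KFlatLib.isFinLocFree_pullback _ hE)).trans (congrArg (lc φP (k : ℤ) * ·) (hq E hE).symm)]
  rw [map_mul, (isLine_lc hP (k : ℤ)).2, one_mul, LineTwist.aug_pull hP hY hq, hY.aug_cl g E hg]
  have h1 := twist_mem hP hY hq (y := φY (cl E) - (g : KY))
    (by rw [map_sub, map_natCast, hY.aug_cl g E hg, sub_self]) k
  have h2 := W.zsmul_mem (lc_sub_one_mem hP hY hq k) g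
  have hqn : q (g : KY) = (g : KP) := map_natCast (KvbPull.ringHom hP hY hq) g
  convert add_mem h1 h2 using 1
  rw [map_sub, hqn, zsmul_eq_mul, Int.cast_natCast]
  ring

include hP hY hq in
theorem gammaFiltration_le {k : ℕ} {z : KP} (hz : z ∈ LambdaRing.gammaFiltration PP k) : z ∈ G φP PY q k := by
  have hT := isMulFiltration_G hP hY hq
  rcases eq_or_ne k 0 with rfl | hk
  · rw [hT.zero]; trivial
  rw [Lambda.gammaFiltration_of_ne_zero PP hk] at hz
  refine (AddSubgroup.closure_le (K := (G φP PY q k).toAddSubgroup)).2 ?_ hz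
  rintro _ ⟨l, hl, hsum, rfl⟩
  refine hT.anti hsum ?_
  clear hsum
  induction l with
  | nil => simp [hT.zero]
  | cons p l ih =>
    simp only [List.map_cons, List.prod_cons, List.sum_cons]
    refine hT.mul_mem ?_ (ih fun p hp => hl p (List.mem_cons_of_mem _ hp))
    have h := sub_aug_mem hP hY hq p.2
    rw [hl p List.mem_cons_self, Int.cast_zero, sub_zero] at h
    exact hT.mem_gammaSubgroup.1 h p.1

variable {g : KP →+ KY} (hg : KRR.IsPushPr n Y φP φY g)

include hP hY hq hg in
theorem push_mul (x : KP) (y : KY) : g (x * q y) = g x * y :=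
  GenProj.push_mul_pull φP hP.bijective.2 φY hY.bijective.2
    (fun E F hE hF => hP.map_mul E F hE hF) (fun E F hE hF => hY.map_mul E F hE hF) g hg q hq x y

include hP hY hg in
omit [ConnectedSpace ↥Y] in
theorem push_eta_lc [AlgebraicGeometry.IsNoetherian Y] (m : ℕ) : ∀ j : ℕ, m ≤ n →
    g (eta φP ^ m * lc φP 1 ^ j) = ((n + j).choose (n - m) : KY) := by
  induction m with
  | zero =>
    intro j _
    rw [pow_zero, one_mul, Nat.sub_zero, ← lc_nat hP]
    refine Eq.trans ?_ (PushK.push_twist hg hY.map_one j)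
    refine congrArg g ((cl_twF hP (j : ℤ) KvbLam.lf_O).trans ?_).symm
    rw [show φP (cl (Coh.structureModule (KRR.PY n Y))) = 1 from hP.map_one, mul_one]
  | succ m ih =>
    intro j hm
    have e : eta φP ^ (m + 1) * lc φP 1 ^ j = eta φP ^ m * lc φP 1 ^ (j + 1) - eta φP ^ m * lc φP 1 ^ j := by
      ring
    rw [e, map_sub, ih (j + 1) (by omega), ih j (by omega), show n + (j + 1) = n + j + 1 by omega,
      show n - m = n - (m + 1) + 1 by omega, Nat.choose_succ_succ, Nat.cast_add, add_sub_cancel_right]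

include hP hY hq hg in
theorem push_mem {k : ℕ} {z : KP} (hz : z ∈ LambdaRing.gammaFiltration PP k) :
    g z ∈ LambdaRing.gammaFiltration PY (k - n) := by
  suffices h : ∀ c : KP, g (c * z) ∈ LambdaRing.gammaFiltration PY (k - n) by simpa using h 1
  have hz' := gammaFiltration_le hP hY hq hz
  clear hz
  induction hz' using Submodule.span_induction with
  | mem z hz =>
    obtain ⟨m, a, ha, rfl⟩ := hz
    intro c
    rcases Nat.lt_or_ge n m with hm | hm
    · obtain ⟨d, rfl⟩ := Nat.exists_eq_add_of_le hm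
      rw [pow_add, eta_pow_eq_zero hP, zero_mul, mul_zero, mul_zero, map_zero]
      exact zero_mem _
    · rw [mul_comm (q a), ← mul_assoc, push_mul hP hY hq hg]
      exact Lambda.mul_mem_left _ (Lambda.gammaFiltration_anti (by omega) ha)
  | zero => intro c; rw [mul_zero, map_zero]; exact zero_mem _
  | add u v _ _ hu hv => intro c; rw [mul_add, map_add]; exact add_mem (hu c) (hv c)
  | smul d u _ hu => intro c; rw [smul_eq_mul, ← mul_assoc]; exact hu (c * d)

include hP hY hq hg in
theorem comap_pull [AlgebraicGeometry.IsNoetherian Y] (k : ℕ) (y : KY) :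
    q y ∈ LambdaRing.gammaFiltration PP k ↔ y ∈ LambdaRing.gammaFiltration PY k := by
  refine ⟨fun hy => ?_, fun hy => Lambda.map_mem_gammaFiltration (f := KvbPull.ringHom hP hY hq)
    (fun i x => KvbPull.map_lam hP hY hq i x) (fun x => LineTwist.aug_pull hP hY hq x) hy⟩
  have hw : g (eta φP ^ n) = 1 := by
    have h := push_eta_lc hP hY hg n 0 le_rfl
    rwa [pow_zero, mul_one, Nat.sub_self, Nat.choose_zero_right, Nat.cast_one] at h
  have key : ∀ z ∈ G φP PY q k, ∀ c : KP, g (eta φP ^ n * (c * z)) ∈ LambdaRing.gammaFiltration PY k := by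
    intro z hz
    induction hz using Submodule.span_induction with
    | mem z hz =>
      obtain ⟨m, a, ha, rfl⟩ := hz
      intro c
      rcases Nat.eq_zero_or_pos m with rfl | hm
      · rw [pow_zero, mul_one, ← mul_assoc, push_mul hP hY hq hg]
        exact Lambda.mul_mem_left _ (by rwa [Nat.sub_zero] at ha)
      · rw [show eta φP ^ n * (c * (q a * eta φP ^ m)) = c * q a * eta φP ^ (n + m) by ring,
          show n + m = (n + 1) + (m - 1) by omega, pow_add, eta_pow_eq_zero hP, zero_mul, mul_zero, map_zero]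
        exact zero_mem _
    | zero => intro c; rw [mul_zero, mul_zero, map_zero]; exact zero_mem _
    | add u v _ _ hu hv => intro c; rw [mul_add, mul_add, map_add]; exact add_mem (hu c) (hv c)
    | smul d u _ hu => intro c; rw [smul_eq_mul, ← mul_assoc c]; exact hu (c * d)
  have h := key _ (gammaFiltration_le hP hY hq hy) 1
  rwa [one_mul, push_mul hP hY hq hg, hw, one_mul] at h

end Groth.Agent.H28.PnFil
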