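import Groth.Agent.H28.AdamsRRLib
import Groth.Agent.H28.PnFil
import Groth.Agent.H28.KvbAmple
import Groth.Agent.Lambda.Theta

/-!
# Adams–Riemann–Roch for `P^n_Y → Y`
-/

set_option autoImplicit false
set_option linter.style.haveILetI false
set_option maxSynthPendingDepth 3
set_option linter.unusedSectionVars false
set_option backward.isDefEq.respectTransparency false
set_option backward.isDefEq.respectTransparency.types false

universe v u

open CategoryTheory CategoryTheory.Limits AlgebraicGeometry TopologicalSpace Finset Polynomial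
open scoped TensorProduct

noncomputable section

namespace Groth.Agent.H28.AdamsRRPr

open Groth.Agent Groth.Agent.H28.KvbLam Groth.Agent.H28.KRegK0 Groth.Agent.H28.PnFil Groth.Agent.H28.Residue
  Groth.Agent.H28.AdamsRR

attribute [local instance 2000] Ring.toIntAlgebra

variable {n : ℕ} {Y : Scheme.{u}} [AlgebraicGeometry.IsNoetherian Y] [ConnectedSpace ↥Y]
  {KP : Type v} [CommRing KP] [LambdaRing.LambdaOps KP] {PP : LambdaRing.PosStructure KP}
  {φP : SGA6.Kvb (KRR.PY n Y) →+ KP} (hP : KRR.IsModel (KRR.PY n Y) KP PP φP)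
  {KY : Type v} [CommRing KY] [LambdaRing.LambdaOps KY] {PY : LambdaRing.PosStructure KY}
  {φY : SGA6.Kvb Y →+ KY} (hY : KRR.IsModel Y KY PY φY)
  {q : KY →+ KP} (hq : KRR.IsPull (KRR.pr n Y) φY φP q)
  {g : KP →+ KY} (hg : KRR.IsPushPr n Y φP φY g) (j : ℕ)

include hP hY hq in
theorem cls_eq : φP (KRR.cl (KRR.PY n Y)
    (KRR.twF n Y (-1) ((Scheme.Modules.pullback (KRR.pr n Y)).obj (FlatMod.freeMod Y (n + 1))))) =
      lc φP (-1) * ((n + 1 : ℕ) : KP) := by
  refine (cl_twF hP (-1) (KFlatLib.isFinLocFree_pullback _ (KvbAmple.lf_free (n + 1)))).trans ?_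
  rw [← hq _ (KvbAmple.lf_free (n + 1))]
  have h1 : φY (cl (FlatMod.freeMod Y (n + 1))) = ((n + 1 : ℕ) : KY) := by
    rw [KvbAmple.cl_free, map_nsmul, show φY (cl (Coh.structureModule Y)) = 1 from hY.map_one, nsmul_one]
  exact congrArg (lc φP (-1) * ·) ((congrArg q h1).trans (map_natCast (KvbPull.ringHom hP hY hq) (n + 1)))

theorem bottPoly_cast' {m : ℕ} (h : m = n + 1) {A : Type v} [CommRing A] (c : ℕ → A) :
    MvPolynomial.aeval (fun i : Fin m => c (i.1 + 1)) (KRR.bottPoly j m) =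
      MvPolynomial.aeval (fun i : Fin (n + 1) => c (i.1 + 1)) (KRR.bottPoly j (n + 1)) := by
  subst h; rfl

include hP in
theorem bott_cls : KRR.bott PP j (lc φP (-1) * ((n + 1 : ℕ) : KP)) = (∑ k ∈ range j, lc φP (-1) ^ k) ^ (n + 1) := by
  have hl := KRRReg.isInvertible_twistOver (n := n) (T := Y) (-1 : ℤ)
  have haug : (PP.aug (lc φP (-1) * ((n + 1 : ℕ) : KP))).toNat = n + 1 := by
    rw [map_mul, (isLine_lc hP (-1)).2, map_natCast, one_mul, Int.toNat_natCast]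
  rw [KRR.bott, bottPoly_cast' j haug fun i => LambdaRing.LambdaOps.lam i (lc φP (-1) * ((n + 1 : ℕ) : KP)),
    aeval_bottPoly j (n + 1) (fun _ => lc φP (-1)) _ fun i => by
      rw [LineTwist.lam_twist hP hl, Lambda.lam_natCast (Lambda.lam_one_eq_zero PP), esymm_const, mul_comm],
    prod_const, card_univ, Fintype.card_fin]

/-- `ℤ[1/j] ⊗ K(Y)`. -/
abbrev DY (KY : Type v) [CommRing KY] (j : ℕ) : Type v := Localization.Away (j : ℤ) ⊗[ℤ] KY

/-- `ℤ[1/j] ⊗ K(P)`. -/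
abbrev TP (KP : Type v) [CommRing KP] (j : ℕ) : Type v := Localization.Away (j : ℤ) ⊗[ℤ] KP

/-- `1 ⊗ q`. -/
def qT : DY KY j →+* TP KP j :=
  (Algebra.TensorProduct.map (AlgHom.id ℤ (Localization.Away (j : ℤ))) (KvbPull.ringHom hP hY hq).toIntAlgHom).toRingHom

theorem qT_tmul (a : Localization.Away (j : ℤ)) (y : KY) : qT hP hY hq j (a ⊗ₜ[ℤ] y) = a ⊗ₜ[ℤ] q y :=
  Algebra.TensorProduct.map_tmul _ _ _ _

/-- Substitution of `1 ⊗ ℓ`. -/
def pi : (DY KY j)[X] →+* TP KP j :=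
  eval₂RingHom (qT hP hY hq j) ((1 : Localization.Away (j : ℤ)) ⊗ₜ[ℤ] lc φP 1)

theorem pi_X : pi hP hY hq j X = (1 : Localization.Away (j : ℤ)) ⊗ₜ[ℤ] lc φP 1 := eval₂_X _ _

theorem pi_C (d : DY KY j) : pi hP hY hq j (C d) = qT hP hY hq j d := eval₂_C _ _

/-- `1 ⊗ g`. -/
abbrev gT (g : KP →+ KY) : TP KP j →ₗ[ℤ] DY KY j := LinearMap.lTensor (Localization.Away (j : ℤ)) g.toIntLinearMap

include hg in
theorem gT_mul (d : DY KY j) (t : TP KP j) : gT j g (qT hP hY hq j d * t) = d * gT j g t := by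
  induction d using TensorProduct.induction_on with
  | zero => rw [map_zero, zero_mul, zero_mul, map_zero]
  | add d₁ d₂ h₁ h₂ => rw [map_add, add_mul, map_add, h₁, h₂, add_mul]
  | tmul a y =>
    induction t using TensorProduct.induction_on with
    | zero => rw [mul_zero, map_zero, mul_zero]
    | add t₁ t₂ h₁ h₂ => rw [mul_add, map_add, h₁, h₂, map_add, mul_add]
    | tmul b x =>
      rw [qT_tmul, Algebra.TensorProduct.tmul_mul_tmul, LinearMap.lTensor_tmul, LinearMap.lTensor_tmul,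
        Algebra.TensorProduct.tmul_mul_tmul]
      congr 1
      show g (q y * x) = y * g x
      rw [mul_comm (q y), push_mul hP hY hq hg, mul_comm]

/-- The functional `h ↦ g(h(ℓ))`. -/
def G : (DY KY j)[X] →ₗ[DY KY j] DY KY j where
  toFun h := gT j g (pi hP hY hq j h)
  map_add' x y := by rw [map_add, map_add]
  map_smul' d x := by rw [smul_eq_C_mul, map_mul, pi_C, gT_mul hP hY hq hg, RingHom.id_apply, smul_eq_mul]

theorem G_apply (h : (DY KY j)[X]) : G hP hY hq hg j h = gT j g (pi hP hY hq j h) := rfl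

theorem G_eq : G hP hY hq hg j = res (fun _ : Fin (n + 1) => (1 : DY KY j)) := by
  refine eq_res_one _ fun k => ?_
  have h1 : pi hP hY hq j ((X - 1) ^ k) = (1 : Localization.Away (j : ℤ)) ⊗ₜ[ℤ] (eta φP ^ k) := by
    rw [map_pow, map_sub, map_one, pi_X,
      show (1 : TP KP j) = (1 : Localization.Away (j : ℤ)) ⊗ₜ[ℤ] (1 : KP) from rfl, ← TensorProduct.tmul_sub,
      Algebra.TensorProduct.tmul_pow, one_pow]
  rw [G_apply, h1, LinearMap.lTensor_tmul]
  show (1 : Localization.Away (j : ℤ)) ⊗ₜ[ℤ] g (eta φP ^ k) = _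
  split_ifs with hk
  · have h := push_eta_lc hP hY hg k 0 hk
    rw [pow_zero, mul_one, Nat.add_zero] at h
    rw [h]
    exact map_natCast (Algebra.TensorProduct.includeRight (R := ℤ) (A := Localization.Away (j : ℤ)) (B := KY)).toRingHom _
  · obtain ⟨c, rfl⟩ : ∃ c, k = n + 1 + c := ⟨k - (n + 1), by omega⟩
    rw [pow_add, eta_pow_eq_zero hP, zero_mul, map_zero, TensorProduct.tmul_zero]

include hP in
theorem lc_mul_neg : lc φP 1 * lc φP (-1) = 1 := by
  rw [← lc_add hP, show (1 : ℤ) + -1 = 0 by norm_num, lc_zero hP]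

theorem pi_phi : pi hP hY hq j (phi j (fun _ : Fin (n + 1) => (1 : DY KY j))) =
    (1 : Localization.Away (j : ℤ)) ⊗ₜ[ℤ] (lc φP 1 ^ ((j - 1) * (n + 1)) * (∑ k ∈ range j, lc φP (-1) ^ k) ^ (n + 1)) := by
  let ι : KP →+* TP KP j :=
    (Algebra.TensorProduct.includeRight (R := ℤ) (A := Localization.Away (j : ℤ)) (B := KP)).toRingHom
  show pi hP hY hq j _ = ι _
  rw [pi, coe_eval₂RingHom, ← Polynomial.eval_map, map_phi,
    phi_eq j _ ((1 : Localization.Away (j : ℤ)) ⊗ₜ[ℤ] lc φP 1) ((1 : Localization.Away (j : ℤ)) ⊗ₜ[ℤ] lc φP (-1)) (by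
      rw [Algebra.TensorProduct.tmul_mul_tmul, one_mul, lc_mul_neg hP]
      rfl),
    map_mul, map_pow ι, map_pow ι, map_sum, prod_const, card_univ, Fintype.card_fin]
  simp only [map_one, one_mul, map_pow]
  rfl

theorem pi_p : pi hP hY hq j (pP (fun _ : Fin (n + 1) => (1 : DY KY j))) = 0 := by
  rw [pP, map_prod, prod_const, card_univ, Fintype.card_fin, map_sub, pi_C, map_one, pi_X,
    show (1 : TP KP j) = (1 : Localization.Away (j : ℤ)) ⊗ₜ[ℤ] (1 : KP) from rfl, ← TensorProduct.tmul_sub,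
    Algebra.TensorProduct.tmul_pow, eta_pow_eq_zero hP, TensorProduct.tmul_zero]

include hP hY hq in
/-- The inverse of the Bott class. -/
theorem exists_W : ∃ W : (DY KY j)[X],
    pP (fun _ : Fin (n + 1) => (1 : DY KY j)) ∣ W * phi j (fun _ : Fin (n + 1) => (1 : DY KY j)) - 1 ∧
      pi hP hY hq j (W * X ^ ((j - 1) * (n + 1))) * ((1 : Localization.Away (j : ℤ)) ⊗ₜ[ℤ]
        ((∑ k ∈ range j, lc φP (-1) ^ k) ^ (n + 1))) = 1 := by
  have hu : IsUnit (j : DY KY j) := by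
    have h := (isUnit_natCast j).map (Algebra.TensorProduct.includeLeftRingHom (R := ℤ) (A := Localization.Away (j : ℤ)) (B := KY))
    rwa [map_natCast] at h
  obtain ⟨W, hW⟩ := exists_inverse (fun _ : Fin (n + 1) => (1 : DY KY j)) (phi j fun _ : Fin (n + 1) => (1 : DY KY j)) fun a => by
    rw [eval_phi]
    simp only [one_pow, mul_one, Finset.sum_const, card_range, nsmul_eq_mul, prod_const]
    exact hu.pow _
  refine ⟨W, hW, ?_⟩
  obtain ⟨Q, hQ⟩ := hW
  have h := congrArg (pi hP hY hq j) hQ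
  rw [map_sub, map_mul, map_mul, map_one, pi_p, zero_mul, sub_eq_zero, pi_phi] at h
  rw [map_mul, map_pow, pi_X, Algebra.TensorProduct.tmul_pow, one_pow, mul_assoc,
    Algebra.TensorProduct.tmul_mul_tmul, one_mul]
  exact h

include hP hY hq in
theorem adams_gen (i : ℕ) (a : KY) :
    LambdaRing.adams PP j (lc φP (i : ℤ) * q a) = lc φP 1 ^ (j * i) * q (LambdaRing.adams PY j a) := by
  have h1 := adams_twist PP (j := j) (LineTwist.lam_twist hP (KRRReg.isInvertible_twistOver (i : ℤ)) (q a))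
    (isLine_lc hP (i : ℤ)).2
  have h2 := Lambda.map_adams (f := KvbPull.ringHom hP hY hq) (fun i x => KvbPull.map_lam hP hY hq i x)
    (fun x => LineTwist.aug_pull hP hY hq x) j a
  refine h1.trans ?_
  show lc φP (i : ℤ) ^ j * _ = _
  rw [lc_nat hP, ← pow_mul, mul_comm i j]
  exact congrArg (lc φP 1 ^ (j * i) * ·) h2.symm

include hP hY hq hg in
theorem main (hj : 1 ≤ j) (z : KP) (W : (DY KY j)[X])
    (hW : pP (fun _ : Fin (n + 1) => (1 : DY KY j)) ∣ W * phi j (fun _ : Fin (n + 1) => (1 : DY KY j)) - 1) :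
    (1 : Localization.Away (j : ℤ)) ⊗ₜ[ℤ] LambdaRing.adams PY j (g z) =
      gT j g ((j : TP KP j) * ((1 : Localization.Away (j : ℤ)) ⊗ₜ[ℤ] LambdaRing.adams PP j z) *
        pi hP hY hq j (W * X ^ ((j - 1) * (n + 1)))) := by
  obtain ⟨w, rfl⟩ := hP.bijective.2 z
  let F₁ : KP →+ DY KY j :=
    ((TensorProduct.mk ℤ (Localization.Away (j : ℤ)) KY 1).toAddMonoidHom.comp (Lambda.adamsHom PY j)).comp g
  let F₂ : KP →+ DY KY j :=
    ((gT j g).toAddMonoidHom.comp ((AddMonoidHom.mulRight (pi hP hY hq j (W * X ^ ((j - 1) * (n + 1))))).comp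
      (AddMonoidHom.mulLeft (j : TP KP j)))).comp
        ((TensorProduct.mk ℤ (Localization.Away (j : ℤ)) KP 1).toAddMonoidHom.comp (Lambda.adamsHom PP j))
  suffices hS : (F₁.comp φP).eqLocus (F₂.comp φP) = ⊤ from (show w ∈ (F₁.comp φP).eqLocus (F₂.comp φP) from hS ▸ AddSubgroup.mem_top w)
  refine GenBasis.eq_top_of_mem _ fun i E _ hE => ?_
  show F₁ (φP _) = F₂ (φP _)
  rw [show φP (KRR.cl (KRR.PY n Y) (M (GenPsi.P n E) (i : ℤ))) = lc φP (i : ℤ) * q (φY (cl E)) from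
    (cl_twF hP _ (KFlatLib.isFinLocFree_pullback _ hE)).trans (congrArg (lc φP (i : ℤ) * ·) (hq E hE).symm)]
  generalize φY (cl E) = a
  show (1 : Localization.Away (j : ℤ)) ⊗ₜ[ℤ] LambdaRing.adams PY j (g (lc φP (i : ℤ) * q a)) =
    gT j g ((j : TP KP j) * ((1 : Localization.Away (j : ℤ)) ⊗ₜ[ℤ] LambdaRing.adams PP j (lc φP (i : ℤ) * q a)) *
      pi hP hY hq j (W * X ^ ((j - 1) * (n + 1))))
  have hgi : g (lc φP 1 ^ i) = ((n + i).choose n : KY) := by
    have h := push_eta_lc hP hY hg 0 i (Nat.zero_le n)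
    rwa [pow_zero, one_mul, Nat.sub_zero] at h
  have hlhs : LambdaRing.adams PY j (g (lc φP (i : ℤ) * q a)) = LambdaRing.adams PY j a * g (lc φP 1 ^ i) := by
    rw [push_mul hP hY hq hg, lc_nat hP, hgi, mul_comm _ a, mul_comm a, ← nsmul_eq_mul, mul_comm, ← nsmul_eq_mul]
    exact map_nsmul (Lambda.adamsHom PY j) _ _
  have hrhs : (j : TP KP j) * ((1 : Localization.Away (j : ℤ)) ⊗ₜ[ℤ] LambdaRing.adams PP j (lc φP (i : ℤ) * q a)) *
      pi hP hY hq j (W * X ^ ((j - 1) * (n + 1))) =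
      pi hP hY hq j (C ((1 : Localization.Away (j : ℤ)) ⊗ₜ[ℤ] LambdaRing.adams PY j a) *
        (C (j : DY KY j) * W * X ^ ((j - 1) * (n + 1)) * ((X : (DY KY j)[X]) ^ i).comp (X ^ j))) := by
    have hnat : qT hP hY hq j (j : DY KY j) = (j : TP KP j) := map_natCast (qT hP hY hq j) j
    have hl : (1 : Localization.Away (j : ℤ)) ⊗ₜ[ℤ] (lc φP 1 ^ (j * i) * q (LambdaRing.adams PY j a)) =
        ((1 : Localization.Away (j : ℤ)) ⊗ₜ[ℤ] lc φP 1) ^ (j * i) *
          ((1 : Localization.Away (j : ℤ)) ⊗ₜ[ℤ] q (LambdaRing.adams PY j a)) := by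
      rw [Algebra.TensorProduct.tmul_pow, one_pow, Algebra.TensorProduct.tmul_mul_tmul, one_mul]
    rw [adams_gen hP hY hq, pow_comp, X_comp, ← pow_mul, hl]
    simp only [map_mul, map_pow, pi_C, pi_X, qT_tmul, hnat]
    ring
  rw [hlhs, hrhs, ← G_apply hP hY hq hg j, ← smul_eq_C_mul, map_smul, G_eq, res_key_poly _ hj hW, smul_eq_mul]
  simp only [one_pow]
  rw [← LinearMap.congr_fun (G_eq hP hY hq hg j) _, G_apply, map_pow (pi hP hY hq j), pi_X, Algebra.TensorProduct.tmul_pow,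
    one_pow, LinearMap.lTensor_tmul, Algebra.TensorProduct.tmul_mul_tmul, one_mul]
  rfl

include hP hY hg in
theorem result (hj : 1 ≤ j) (z : KP) :
    (∃ w : TP KP j, w * ((1 : Localization.Away (j : ℤ)) ⊗ₜ[ℤ] KRR.bott PP j (φP (KRR.cl (KRR.PY n Y)
      (KRR.twF n Y (-1) ((Scheme.Modules.pullback (KRR.pr n Y)).obj (FlatMod.freeMod Y (n + 1))))))) = 1) ∧
    ∀ w : TP KP j, w * ((1 : Localization.Away (j : ℤ)) ⊗ₜ[ℤ] KRR.bott PP j (φP (KRR.cl (KRR.PY n Y)
      (KRR.twF n Y (-1) ((Scheme.Modules.pullback (KRR.pr n Y)).obj (FlatMod.freeMod Y (n + 1))))))) = 1 →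
    (1 : Localization.Away (j : ℤ)) ⊗ₜ[ℤ] LambdaRing.adams PY j (g z) =
      gT j g ((j : TP KP j) * ((1 : Localization.Away (j : ℤ)) ⊗ₜ[ℤ] LambdaRing.adams PP j z) * w) := by
  obtain ⟨q, hq, -⟩ := PullVB.existsUnique_isPull (KRR.pr n Y) φP φY hY.bijective
  rw [cls_eq hP hY hq, bott_cls hP j]
  obtain ⟨W, hW, hW1⟩ := exists_W hP hY hq j
  refine ⟨⟨_, hW1⟩, fun w hw => ?_⟩
  have hww : w = pi hP hY hq j (W * X ^ ((j - 1) * (n + 1))) := left_inv_eq_right_inv hw ((mul_comm _ _).trans hW1)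
  rw [hww]
  exact main hP hY hq hg j hj z W hW

end Groth.Agent.H28.AdamsRRPr
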