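import Groth.Agent.H28.AdamsCl
import Groth.Agent.H28.AdamsRRPr
import Groth.Agent.H28.QProjEnough

/-!
# Adams–Riemann–Roch for a regular immersion into `P^n_Y` followed by the projection
-/

set_option autoImplicit false
set_option linter.style.haveILetI false
set_option linter.unusedSectionVars false
set_option backward.isDefEq.respectTransparency false
set_option backward.isDefEq.respectTransparency.types false
set_option maxHeartbeats 1000000
set_option maxSynthPendingDepth 3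

universe v u

open CategoryTheory CategoryTheory.Limits AlgebraicGeometry TopologicalSpace Opposite
attribute [local instance] HasDerivedCategory.standard
open scoped TensorProduct

noncomputable section

namespace Groth.Agent.H28.AdamsReg

open Groth.Agent

attribute [local instance 2000] Ring.toIntAlgebra

/-- The projection formula after extension of scalars. -/
theorem lTensor_mul {KX KP : Type v} [CommRing KX] [CommRing KP] {A : Type} [CommRing A] (a : KX →+ KP)
    (g : KP →+* KX) (h : ∀ x y, a (x * g y) = a x * y) (r : A) (x : KX) (w : A ⊗[ℤ] KP) :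
    LinearMap.lTensor A a.toIntLinearMap
        ((r ⊗ₜ[ℤ] x) * Algebra.TensorProduct.map (AlgHom.id ℤ A) g.toIntAlgHom w) = (r ⊗ₜ[ℤ] a x) * w := by
  induction w using TensorProduct.induction_on with
  | zero => simp
  | add w w' hw hw' => rw [map_add, mul_add, map_add, hw, hw', mul_add]
  | tmul s y =>
    rw [Algebra.TensorProduct.map_tmul, Algebra.TensorProduct.tmul_mul_tmul, LinearMap.lTensor_tmul,
      Algebra.TensorProduct.tmul_mul_tmul]
    exact congrArg ((r * s) ⊗ₜ[ℤ] ·) (h x y)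

set_option maxHeartbeats 2000000 in
/-- `ψ^j` and the push-forward along `i ≫ p`. -/
theorem result (n : ℕ) {X Y : Scheme.{u}} [AlgebraicGeometry.IsNoetherian Y] [ConnectedSpace ↥Y]
    (hYe : KRR.HasEnoughLocFree Y)
    (i : X ⟶ KRR.PY n Y) (hi : Mor2.IsRegularClosedImmersion i) [ConnectedSpace ↥X] (c : ℕ)
    (hC : FlatMod.IsFinLocFreeOfRank c (Omega.conormal i))
    {KX : Type v} [CommRing KX] [LambdaRing.LambdaOps KX] {PX : LambdaRing.PosStructure KX}
    {φX : SGA6.Kvb X →+ KX} (hKX : KRR.IsModel X KX PX φX)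
    {KP : Type v} [CommRing KP] [LambdaRing.LambdaOps KP] {PP : LambdaRing.PosStructure KP}
    {φP : SGA6.Kvb (KRR.PY n Y) →+ KP} (hKP : KRR.IsModel (KRR.PY n Y) KP PP φP)
    {KY : Type v} [CommRing KY] [LambdaRing.LambdaOps KY] {PY : LambdaRing.PosStructure KY}
    {φY : SGA6.Kvb Y →+ KY} (hKY : KRR.IsModel Y KY PY φY)
    (gi : KP →+ KX) (hgi : KRR.IsPull i φP φX gi)
    (a : KX →+ KP) (ha : KRR.IsPushCl i φX φP a) (b : KP →+ KY) (hb : KRR.IsPushPr n Y φP φY b)
    (j : ℕ) (hj : 1 ≤ j) (x : KX) :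
    (∃ w : Localization.Away (j : ℤ) ⊗[ℤ] KX, w * ((1 : Localization.Away (j : ℤ)) ⊗ₜ[ℤ] KRR.bott PX j (gi (φP (KRR.cl (KRR.PY n Y)
      (KRR.twF n Y (-1) ((Scheme.Modules.pullback (KRR.pr n Y)).obj (FlatMod.freeMod Y (n + 1)))))))) = 1) ∧
    ∀ w : Localization.Away (j : ℤ) ⊗[ℤ] KX, w * ((1 : Localization.Away (j : ℤ)) ⊗ₜ[ℤ] KRR.bott PX j (gi (φP (KRR.cl (KRR.PY n Y)
      (KRR.twF n Y (-1) ((Scheme.Modules.pullback (KRR.pr n Y)).obj (FlatMod.freeMod Y (n + 1)))))))) = 1 →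
    (1 : Localization.Away (j : ℤ)) ⊗ₜ[ℤ] LambdaRing.adams PY j (b (a x)) =
      LinearMap.lTensor (Localization.Away (j : ℤ)) (b.comp a).toIntLinearMap
        ((j : Localization.Away (j : ℤ) ⊗[ℤ] KX) *
          ((1 : Localization.Away (j : ℤ)) ⊗ₜ[ℤ] (KRR.bott PX j (φX (KRR.cl X (Omega.conormal i))) * LambdaRing.adams PX j x)) * w) := by
  classical
  haveI := hi.1
  haveI := QProjEnough.isNoetherian_PY n Y
  haveI := QProjEnough.connectedSpace_PY n Y
  have hPe := QProjEnough.enough_PY n Y hYe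
  haveI := PushComp.isNoetherian_of_closed i
  set q₀ := φP (KRR.cl (KRR.PY n Y)
      (KRR.twF n Y (-1) ((Scheme.Modules.pullback (KRR.pr n Y)).obj (FlatMod.freeMod Y (n + 1)))))
  let Ri := KvbPull.ringHom hKX hKP hgi
  let T : (Localization.Away (j : ℤ)) ⊗[ℤ] KP →ₐ[ℤ] (Localization.Away (j : ℤ)) ⊗[ℤ] KX := Algebra.TensorProduct.map (AlgHom.id ℤ (Localization.Away (j : ℤ))) Ri.toIntAlgHom
  obtain ⟨⟨w₀, hw₀⟩, hall⟩ := AdamsRRPr.result hKP hKY hb j hj (a x)
  have hbott : (1 : (Localization.Away (j : ℤ))) ⊗ₜ[ℤ] KRR.bott PX j (gi q₀) = T ((1 : (Localization.Away (j : ℤ))) ⊗ₜ[ℤ] KRR.bott PP j q₀) := by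
    rw [Algebra.TensorProduct.map_tmul]
    exact congrArg ((1 : (Localization.Away (j : ℤ))) ⊗ₜ[ℤ] ·) (DefCalc.map_bott Ri (KvbPull.map_lam hKX hKP hgi)
      (LineTwist.aug_pull hKX hKP hgi) j q₀).symm
  have hT : T w₀ * ((1 : (Localization.Away (j : ℤ))) ⊗ₜ[ℤ] KRR.bott PX j (gi q₀)) = 1 := by
    rw [hbott, ← map_mul, hw₀, map_one]
  refine ⟨⟨_, hT⟩, fun w hw => ?_⟩
  have hww : w = T w₀ := left_inv_eq_right_inv hw ((mul_comm _ _).trans hT)
  have hproj : ∀ x y, a (x * gi y) = a x * y :=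
    KRRPushProp.push_mul_pull i φX hKX.bijective φP hPe hi hKP.bijective.2 hKX.map_mul hKP.map_mul gi hgi a ha
  rw [hall w₀ hw₀, AdamsCl.adams_pushCl hPe i hi hC hKX hKP a ha j hj x, hww,
    show (b.comp a).toIntLinearMap = b.toIntLinearMap.comp a.toIntLinearMap from rfl, LinearMap.lTensor_comp,
    LinearMap.comp_apply]
  refine congrArg _ ?_
  have key := lTensor_mul a Ri hproj (1 : Localization.Away (j : ℤ))
    (KRR.bott PX j (φX (KRR.cl X (Omega.conormal i))) * LambdaRing.adams PX j x)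
    ((j : Localization.Away (j : ℤ) ⊗[ℤ] KP) * w₀)
  have hTj : Algebra.TensorProduct.map (AlgHom.id ℤ (Localization.Away (j : ℤ))) Ri.toIntAlgHom
      ((j : Localization.Away (j : ℤ) ⊗[ℤ] KP) * w₀) = (j : Localization.Away (j : ℤ) ⊗[ℤ] KX) * T w₀ := by
    show T _ = _
    rw [map_mul, map_natCast]
  rw [hTj] at key
  refine Eq.trans ?_ ((Eq.trans ?_ key).symm)
  · ring
  · refine congrArg _ ?_
    ring

end Groth.Agent.H28.AdamsReg
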