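import Groth.Agent.Lib.PnChart
import Groth.Prelude.Def_KRR
import Mathlib.AlgebraicGeometry.AffineSpace
import Mathlib.Algebra.MvPolynomial.Rename
import Mathlib.AlgebraicGeometry.Noetherian

/-!
# The standard chart of `P^r_S` as affine space
-/

set_option autoImplicit false
set_option linter.style.haveILetI false
set_option linter.unusedSectionVars false
set_option backward.isDefEq.respectTransparency false
set_option backward.isDefEq.respectTransparency.types false

universe u

open CategoryTheory CategoryTheory.Limits AlgebraicGeometry TopologicalSpace MvPolynomial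
open HomogeneousLocalization (Away)

noncomputable section

namespace Groth.Agent.H28.AffChart

attribute [local instance] MvPolynomial.gradedAlgebra

variable (r : ℕ)

/-- The integers. -/
abbrev Z₀ : Type u := ULift.{u} ℤ

local notation "𝒢" => CohB1.polyGrading r Z₀
local notation "T₀" => (MvPolynomial.X (0 : Fin (r + 1)) : MvPolynomial (Fin (r + 1)) Z₀)

/-- The polynomial ring of the first chart. -/
def φ : MvPolynomial (ULift.{u} (Fin r)) Z₀.{u} →+* Away 𝒢 T₀ :=
  (Groth.Agent.PnChart.poly r Z₀ 0).comp (MvPolynomial.renameEquiv Z₀ Equiv.ulift).toRingEquiv.toRingHom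

theorem φ_bijective : Function.Bijective (φ.{u} r) :=
  (Groth.Agent.PnChart.poly_bijective r Z₀ 0).comp
    (MvPolynomial.renameEquiv Z₀ Equiv.ulift).toRingEquiv.bijective

/-- The chart over the integers. -/
def chartZ : Spec (CommRingCat.of (MvPolynomial (ULift.{u} (Fin r)) Z₀.{u})) ⟶ CohB1.ProjSpace r Z₀.{u} :=
  Spec.map (CommRingCat.ofHom (RingEquiv.ofBijective (φ r) (φ_bijective r)).symm.toRingHom) ≫
    Proj.awayι 𝒢 T₀ (ProjPt.X_mem 0) Nat.one_pos

instance : IsOpenImmersion (chartZ.{u} r) := by
  haveI : IsIso (CommRingCat.ofHom (RingEquiv.ofBijective (φ.{u} r) (φ_bijective r)).symm.toRingHom) :=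
    (ConcreteCategory.isIso_iff_bijective _).2 (RingEquiv.bijective _)
  unfold chartZ
  infer_instance

theorem range_chartZ : Set.range (chartZ.{u} r) =
    (Groth.Agent.PnChart.D r Z₀ 0 : Set (CohB1.ProjSpace r Z₀.{u})) := by
  haveI : IsIso (CommRingCat.ofHom (RingEquiv.ofBijective (φ.{u} r) (φ_bijective r)).symm.toRingHom) :=
    (ConcreteCategory.isIso_iff_bijective _).2 (RingEquiv.bijective _)
  have hs : Set.range (Spec.map (CommRingCat.ofHom
      (RingEquiv.ofBijective (φ.{u} r) (φ_bijective r)).symm.toRingHom)) = Set.univ :=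
    Set.range_eq_univ.2 (Surjective.surj (f := Spec.map _))
  rw [chartZ, Scheme.Hom.comp_base, TopCat.coe_comp, Set.range_comp]
  erw [hs, Set.image_univ]
  exact congrArg SetLike.coe (Proj.opensRange_awayι 𝒢 T₀ (ProjPt.X_mem 0) Nat.one_pos)

variable (S : Scheme.{u})

/-- Affine space. -/
abbrev AS : Scheme.{u} := 𝔸(ULift.{u} (Fin r); S)

theorem isPullback_affine : IsPullback (AffineSpace.toSpecMvPoly (ULift.{u} (Fin r)) S) ((AS r S ↘ S))
    (chartZ r ≫ CohB1.ProjSpace.toSpec r Z₀.{u}) (specULiftZIsTerminal.from S) := by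
  refine ((IsPullback.of_hasPullback (terminal.from S)
    (terminal.from (Spec (CommRingCat.of (MvPolynomial (ULift.{u} (Fin r)) Z₀.{u}))))).flip).of_iso
    (Iso.refl _) (Iso.refl _) (Iso.refl _) (terminalIsTerminal.uniqueUpToIso specULiftZIsTerminal) ?_ ?_
    (specULiftZIsTerminal.hom_ext _ _) (specULiftZIsTerminal.hom_ext _ _)
  · simp [AffineSpace.toSpecMvPoly]
  · simp only [Iso.refl_hom, Category.comp_id, Category.id_comp]
    rfl

/-- Affine space as the first chart of projective space. -/
def chart : AS r S ⟶ KRR.PY r S :=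
  pullback.lift (AffineSpace.toSpecMvPoly (ULift.{u} (Fin r)) S ≫ chartZ r) ((AS r S ↘ S))
    (specULiftZIsTerminal.hom_ext _ _)

@[reassoc (attr := simp)]
theorem chart_fst : chart r S ≫ pullback.fst (CohB1.ProjSpace.toSpec r Z₀.{u}) (specULiftZIsTerminal.from S) =
    AffineSpace.toSpecMvPoly (ULift.{u} (Fin r)) S ≫ chartZ r :=
  pullback.lift_fst _ _ _

@[reassoc (attr := simp)]
theorem chart_pr : chart r S ≫ KRR.pr r S = (AS r S ↘ S) :=
  pullback.lift_snd _ _ _

theorem isPullback_chart : IsPullback (AffineSpace.toSpecMvPoly (ULift.{u} (Fin r)) S) (chart r S)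
    (chartZ r) (pullback.fst (CohB1.ProjSpace.toSpec r Z₀.{u}) (specULiftZIsTerminal.from S)) := by
  refine IsPullback.of_bot ?_ (chart_fst r S).symm (IsPullback.of_hasPullback _ _)
  rw [show chart r S ≫ pullback.snd _ _ = (AS r S ↘ S) from chart_pr r S]
  exact isPullback_affine r S

instance isOpenImmersion_chart : IsOpenImmersion (chart r S) :=
  MorphismProperty.of_isPullback (isPullback_chart r S) (inferInstanceAs (IsOpenImmersion (chartZ r)))

theorem range_chart : Set.range (chart r S) =
    pullback.fst (CohB1.ProjSpace.toSpec r Z₀.{u}) (specULiftZIsTerminal.from S) ⁻¹'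
      (Groth.Agent.PnChart.D r Z₀ 0 : Set (CohB1.ProjSpace r Z₀.{u})) := by
  rw [← range_chartZ, ← Set.image_univ, ← Set.preimage_univ (f := AffineSpace.toSpecMvPoly (ULift.{u} (Fin r)) S),
    Scheme.image_preimage_eq_of_isPullback (isPullback_chart r S), Set.image_univ]
  rfl

end Groth.Agent.H28.AffChart
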