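import Groth.Agent.AlgSpDec.FppfDescent
import Groth.Agent.AlgSpDec.AffineRep
import Groth.Prelude.Def_Magnet2
import Groth.Agent.EtFound.Descent

/-! Attractor functors as fppf sheaves, and descent of affine projections between them. -/

set_option backward.isDefEq.respectTransparency false
set_option backward.isDefEq.respectTransparency.types false

universe u

open CategoryTheory CategoryTheory.Limits MonoidalCategory CartesianMonoidalCategory MonObj AlgebraicGeometry
open Opposite Magnet AlgSp Groth.Agent.AlgSpLib Groth.Agent.AlgSpDec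

namespace Groth.Agent.H28.AttrDescent

variable {S : Scheme.{u}} {A B X : Over S} [MonObj A] (ρ : MonAct A B) (a : MonAct A X)

theorem isSheaf_eqvHom : Presieve.IsSheaf (AlgSp.J S) (MonAct.eqvHom ρ a) := by
  intro T R hR x hx
  have hyX : ∀ (Z : Over S), Presieve.IsSheaf (AlgSp.J S) (yoneda.obj Z) := fun Z =>
    GrothendieckTopology.Subcanonical.isSheaf_of_isRepresentable _
  let R' := R.pullback (snd B T)
  let y : Presieve.FamilyOfElements (yoneda.obj X) (R' : Presieve (B ⊗ T)) := fun W h hh =>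
    lift (h ≫ fst B T) (𝟙 W) ≫ (x (h ≫ snd B T) hh).1
  have hy : y.Compatible := by
    rw [Presieve.compatible_iff_sieveCompatible]
    intro W W' h g hh
    show lift ((g ≫ h) ≫ fst B T) (𝟙 W') ≫ (x ((g ≫ h) ≫ snd B T) _).1 =
      g ≫ lift (h ≫ fst B T) (𝟙 W) ≫ (x (h ≫ snd B T) hh).1
    have h1 := congrArg Subtype.val ((Presieve.compatible_iff_sieveCompatible x).mp hx (h ≫ snd B T) g hh)
    simp only [MonAct.eqvHom_map_coe, Quiver.Hom.unop_op] at h1
    have h2 : (x ((g ≫ h) ≫ snd B T) (by rw [Category.assoc]; exact R.downward_closed hh g)).1 =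
        (x (g ≫ h ≫ snd B T) (R.downward_closed hh g)).1 := by
      congr 2 <;> exact Category.assoc _ _ _
    rw [h2, h1, lift_whiskerLeft_assoc, comp_lift_assoc, Category.id_comp, Category.comp_id, Category.assoc]
  obtain ⟨φ, hφ, -⟩ := hyX X _ ((AlgSp.J S).pullback_stable (snd B T) hR) y hy
  have hres : ∀ {W : Over S} (r : W ⟶ T) (hr : R r), (B ◁ r) ≫ φ = (x r hr).1 := by
    intro W r hr
    have hr' : R ((B ◁ r) ≫ snd B T) := by rw [whiskerLeft_snd]; exact R.downward_closed hr _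
    refine (hφ (B ◁ r) hr').trans ?_
    show lift ((B ◁ r) ≫ fst B T) (𝟙 _) ≫ (x ((B ◁ r) ≫ snd B T) hr').1 = _
    have h2 : (x ((B ◁ r) ≫ snd B T) hr').1 = (x (snd B W ≫ r) (R.downward_closed hr _)).1 := by
      congr 2
      exact whiskerLeft_snd _ _
    have h1 := congrArg Subtype.val ((Presieve.compatible_iff_sieveCompatible x).mp hx r (snd B W) hr)
    simp only [MonAct.eqvHom_map_coe, Quiver.Hom.unop_op] at h1
    rw [h2, h1, lift_whiskerLeft_assoc, Category.id_comp, whiskerLeft_fst, lift_fst_snd, Category.id_comp]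
  have hsep : ∀ (F G : B ⊗ T ⟶ X), (∀ {W : Over S} (r : W ⟶ T), R r → (B ◁ r) ≫ F = (B ◁ r) ≫ G) → F = G := by
    intro F G hFG
    refine (hyX X _ ((AlgSp.J S).pullback_stable (snd B T) hR)).isSeparatedFor.ext fun W h hh => ?_
    show h ≫ F = h ≫ G
    have e : h = lift (h ≫ fst B T) (𝟙 W) ≫ (B ◁ (h ≫ snd B T)) := by
      rw [lift_whiskerLeft, Category.id_comp, lift_comp_fst_snd]
    rw [e, Category.assoc, Category.assoc, hFG _ hh]
  have heq : MonAct.IsEquivariant (ρ.prod (MonAct.trivial A T)) a φ := by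
    unfold MonAct.IsEquivariant
    refine (hyX X _ ((AlgSp.J S).pullback_stable (snd A (B ⊗ T) ≫ snd B T) hR)).isSeparatedFor.ext
      fun W h hh => ?_
    show h ≫ _ = h ≫ _
    let r := h ≫ snd A (B ⊗ T) ≫ snd B T
    have e : h = lift (h ≫ fst A (B ⊗ T)) (lift (h ≫ snd A (B ⊗ T) ≫ fst B T) (𝟙 W)) ≫ (A ◁ (B ◁ r)) := by
      apply CartesianMonoidalCategory.hom_ext
      · simp
      · apply CartesianMonoidalCategory.hom_ext <;> simp [r]
    rw [e, Category.assoc, Category.assoc, ← MonAct.prod_trivial_act_whiskerLeft_assoc, hres r hh,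
      ← MonoidalCategory.whiskerLeft_comp_assoc, hres r hh, (x r hh).2]
  refine ⟨⟨φ, heq⟩, fun W r hr => Subtype.ext (hres r hr), fun ψ hψ => Subtype.ext (hsep _ _ fun {W} r hr => ?_)⟩
  rw [hres r hr]
  exact congrArg Subtype.val (hψ r hr)

/-- The fppf sheaf of equivariant maps. -/
noncomputable def shf : Sp S :=
  ⟨MonAct.eqvHom ρ a ⋙ uliftFunctor.{u + 1},
    (isSheaf_iff_isSheaf_of_type _ _).mpr (Presieve.isSheaf_comp_uliftFunctor _ (isSheaf_eqvHom ρ a))⟩

variable {ρ a}

/-- Descent of a representable affine map along an fppf cover of the target. -/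
theorem exists_affine_of_cover {B' : Over S} {ρ' : MonAct A B'} (q : MonAct.eqvHom ρ a ⟶ MonAct.eqvHom ρ' a)
    {Z₀ V₀ V₁ : Over S} (e₀ : (MonAct.eqvHom ρ' a).RepresentableBy Z₀) (p : V₀ ⟶ Z₀) (hp : fppf p.left)
    (j₁ : V₁ ⟶ V₀) [IsAffineHom j₁.left] (k : yoneda.obj V₁ ⟶ MonAct.eqvHom ρ a)
    (sq : IsPullback k (yoneda.map j₁) q (yoneda.map p ≫ e₀.toIso.hom)) :
    ∃ (Z : Over S) (e : (MonAct.eqvHom ρ a).RepresentableBy Z) (j : Z ⟶ Z₀), IsAffineHom j.left ∧
      ∀ (T : Over S) (z : T ⟶ Z), e₀.homEquiv (z ≫ j) = q.app (op T) (e.homEquiv z) := by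
  let F := shf ρ a
  let G := shf ρ' a
  let qS : F ⟶ G := ObjectProperty.homMk (Functor.whiskerRight q uliftFunctor.{u + 1})
  let eS : (yon S).obj Z₀ ≅ G :=
    (fullyFaithfulSheafToPresheaf _ _).preimageIso (Functor.isoWhiskerRight e₀.toIso uliftFunctor.{u + 1})
  let kS : (yon S).obj V₁ ⟶ F := ObjectProperty.homMk (Functor.whiskerRight k uliftFunctor.{u + 1})
  have sqS : IsPullback kS ((yon S).map j₁) qS ((yon S).map p ≫ eS.hom) := by
    refine IsPullback.of_map_of_faithful (sheafToPresheaf (AlgSp.J S) (Type (u + 1))) ?_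
    exact sq.map ((Functor.whiskeringRight _ _ _).obj uliftFunctor.{u + 1})
  have hp' : RepWith fppf ((yon S).map p ≫ eS.hom) :=
    ((RepWith fppf).cancel_right_of_respectsIso _ eS.hom).mpr ((repWith_yon_map_iff _ _).2 hp)
  have : MorphismProperty.DescendsAlong @IsAffineHom (@Surjective ⊓ @Flat ⊓ @QuasiCompact : MorphismProperty Scheme.{u}) := EtFound.fpqc_isAffineHom
  have hq : RepWith @IsAffineHom qS :=
    AlgSpDec.Fppf.repWith_of_fppf_cover le_rfl hp' sqS ((repWith_yon_map_iff _ _).2 ‹IsAffineHom j₁.left›)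
  let Z := hq.rep.pullback eS.hom
  let j : Z ⟶ Z₀ := hq.rep.snd eS.hom
  have hsq := hq.rep.isPullback eS.hom
  haveI : IsIso (hq.rep.fst eS.hom) := hsq.isIso_fst_of_isIso
  let eP : yoneda.obj Z ≅ MonAct.eqvHom ρ a :=
    ((Functor.whiskeringRight _ _ _).obj uliftFunctor.{u + 1}).preimageIso
      ((sheafToPresheaf (AlgSp.J S) (Type (u + 1))).mapIso (asIso (hq.rep.fst eS.hom)))
  refine ⟨Z, Functor.representableByEquiv.symm eP, j, hq.property_snd eS.hom, fun T z => ?_⟩
  have h1 := congrArg (fun v => (v.hom.app (op T) ⟨z⟩).down) hsq.w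
  refine Eq.trans ?_ (h1.symm.trans ?_)
  · rfl
  · show q.app (op T) ((hq.rep.fst eS.hom).hom.app (op T) ⟨z⟩).down = q.app (op T) (eP.hom.app (op T) z)
    congr 1
    have h2 : ((Functor.whiskeringRight _ _ _).obj uliftFunctor.{u + 1}).map eP.hom = (hq.rep.fst eS.hom).hom :=
      Functor.map_preimage _ _
    rw [← h2]
    rfl

end Groth.Agent.H28.AttrDescent
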