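import Groth.Agent.H28.MagnetRep

/-! Finiteness of the set of pure magnets for affine actions of finite type. -/

universe u

open CategoryTheory CategoryTheory.Limits MonoidalCategory CartesianMonoidalCategory MonObj AlgebraicGeometry
open Opposite Magnet

namespace Groth.Agent.H28.MagnetAff

variable {S : Scheme.{u}} {M : Type} [AddCommMonoid M] {X : Over S} (a : MonAct (AMonS S M) X)
  [IsAffineHom X.hom] [LocallyOfFiniteType X.hom]

theorem exists_degrees (U : X.left.affineOpens) :
    ∃ E : Finset M, ∀ (N L : AddSubmonoid M), (∀ m ∈ E, m ∈ N ↔ m ∈ L) →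
      ∀ (T : Over S) (_ : IsAffine T.left) (t : T ⟶ opn U), InAttr N a (t ≫ opnι U) → InAttr L a (t ≫ opnι U) := by
  classical
  let W := opn (X := X) U
  haveI : LocallyOfFiniteType (snd X W).left := inferInstanceAs (LocallyOfFiniteType (pullback.snd X.hom W.hom))
  haveI : IsAffine (X ⊗ W).left := isAffine_graph W
  let φ := (snd X W).left.appTop.hom
  have hft : φ.FiniteType :=
    HasRingHomProperty.appTop (P := @LocallyOfFiniteType) (snd X W).left inferInstance
  letI : Algebra (RR W) (RR (X ⊗ W)) := φ.toAlgebra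
  obtain ⟨s, hs⟩ := (show Algebra.FiniteType (RR W) (RR (X ⊗ W)) from hft).1
  refine ⟨s.biUnion fun b => (delta a W (opnι U) b).coeff.support.image Multiplicative.toAdd,
    fun N L hNL T hT t h => ?_⟩
  haveI := hT
  rw [inAttr_comp_iff] at h ⊢
  let g := (MonoidAlgebra.mapRingHom (Multiplicative M) t.left.appTop.hom).comp (delta a W (opnι U))
  suffices hr : ∀ b, g b ∈ (inclN L (RR T)).range by
    intro b m hm
    obtain ⟨y, hy⟩ := hr b
    have h1 := congrArg (fun q => q.coeff (Multiplicative.ofAdd m)) hy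
    simp only [g, RingHom.comp_apply, MonoidAlgebra.coeff_mapRingHom, coeff_inclN L y hm] at h1
    exact h1.symm
  intro b
  have hb : b ∈ Algebra.adjoin (RR W) (s : Set (RR (X ⊗ W))) := hs ▸ Algebra.mem_top
  induction hb using Algebra.adjoin_induction with
  | mem x hx =>
    refine mem_range_inclN L fun m hm => ?_
    simp only [g, RingHom.comp_apply, MonoidAlgebra.coeff_mapRingHom]
    by_cases hc : (delta a W (opnι U) x).coeff (Multiplicative.ofAdd m) = 0
    · rw [hc, map_zero]
    · exact h x m fun hN => hm ((hNL m (Finset.mem_biUnion.mpr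
        ⟨x, hx, Finset.mem_image.mpr ⟨Multiplicative.ofAdd m, Finsupp.mem_support_iff.mpr hc, rfl⟩⟩)).mp hN)
  | algebraMap r =>
    refine ⟨MonoidAlgebra.single 1 (t.left.appTop r), ?_⟩
    have h1 : delta a W (opnι U) (algebraMap (RR W) (RR (X ⊗ W)) r) = MonoidAlgebra.single 1 r := by
      have h2 : co W (sigma a W (opnι U) ≫ snd X W) r = MonoidAlgebra.single 1 r := by
        rw [lift_snd, show snd (AMonS S M) W = snd _ W ≫ 𝟙 W from (Category.comp_id _).symm, co_snd]
        rfl
      rw [co_comp W (sigma a W (opnι U)) (snd X W)] at h2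
      exact h2
    simp only [g, RingHom.comp_apply, h1, MonoidAlgebra.mapRingHom_single, MonoidAlgebra.mapDomainRingHom_apply,
      MonoidAlgebra.mapDomain_single, map_one]
  | add x y _ _ hx hy => rw [map_add]; exact add_mem hx hy
  | mul x y _ _ hx hy => rw [map_mul]; exact mul_mem hx hy

theorem exists_degrees_global [CompactSpace S] :
    ∃ E : Finset M, ∀ (N L : AddSubmonoid M), (∀ m ∈ E, m ∈ N ↔ m ∈ L) →
      ∀ (T : Over S) (x : T ⟶ X), InAttr N a x → InAttr L a x := by
  classical
  haveI : IsSeparated X.hom := inferInstance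
  haveI : CompactSpace X.left := QuasiCompact.compactSpace_of_compactSpace X.hom
  obtain ⟨s, hs⟩ := isCompact_univ.elim_finite_subcover (fun U : X.left.affineOpens => (U.1 : Set X.left))
    (fun U => U.1.2) (fun x _ => by
      obtain ⟨U, hU, hx, -⟩ := TopologicalSpace.Opens.isBasis_iff_nbhd.mp X.left.isBasis_affineOpens (U := ⊤) (x := x) trivial
      exact Set.mem_iUnion.mpr ⟨⟨U, hU⟩, hx⟩)
  choose E hE using fun U => exists_degrees a U
  refine ⟨s.biUnion E, fun N L hNL T x h => ?_⟩
  have hcov : ∀ z : T.left, ∃ (U : X.left.affineOpens) (V : T.left.Opens), U ∈ s ∧ z ∈ V ∧ IsAffineOpen V ∧ V ≤ x.left ⁻¹ᵁ U.1 := by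
    intro z
    obtain ⟨U, hUs, hzU⟩ := Set.mem_iUnion₂.mp (hs (Set.mem_univ (x.left z)))
    obtain ⟨V, hV, hzV, hVU⟩ := TopologicalSpace.Opens.isBasis_iff_nbhd.mp T.left.isBasis_affineOpens
      (U := x.left ⁻¹ᵁ U.1) (x := z) hzU
    exact ⟨U, V, hUs, hzV, hV, hVU⟩
  choose U V hUs hzV hV hVU using hcov
  refine inAttr_of_cover L a x (T.left.openCoverOfIsOpenCover V
    (top_le_iff.mp fun z _ => TopologicalSpace.Opens.mem_iSup.mpr ⟨z, hzV z⟩)) fun z => ?_
  let T' : Over S := Over.mk ((V z).ι ≫ T.hom)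
  haveI : IsAffine T'.left := hV z
  let u : T' ⟶ T := Over.homMk (V z).ι rfl
  show InAttr L a (u ≫ x)
  have hr : Set.range (u ≫ x).left ⊆ Set.range (U z).1.ι := by
    rintro _ ⟨y, rfl⟩
    rw [Scheme.Opens.range_ι]
    exact hVU z y.2
  let t : T' ⟶ opn (U z) := Over.homMk (IsOpenImmersion.lift (U z).1.ι (u ≫ x).left hr) (by
    show IsOpenImmersion.lift _ _ hr ≫ (U z).1.ι ≫ X.hom = _
    rw [← Category.assoc, IsOpenImmersion.lift_fac, Over.w (u ≫ x)])
  have htx : t ≫ opnι (U z) = u ≫ x := Over.OverMorphism.ext (IsOpenImmersion.lift_fac _ _ _)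
  rw [← htx]
  refine hE (U z) N L (fun m hm => hNL m (Finset.mem_biUnion.mpr ⟨U z, hUs z, hm⟩)) T' inferInstance t ?_
  rw [htx]
  exact h.comp N a u

theorem finite_pure [CompactSpace S] :
    Set.Finite {N : AddSubmonoid M | ∀ L : AddSubmonoid M,
      (∀ T : Over S, Set.range (fun φ => (Magnet.attrToX a N).app (op T) φ) =
        Set.range (fun φ => (Magnet.attrToX a L).app (op T) φ)) → N ≤ L} := by
  classical
  obtain ⟨E, hE⟩ := exists_degrees_global a
  refine ((E.powerset.finite_toSet).image fun s : Finset M => AddSubmonoid.closure (s : Set M)).subset ?_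
  intro N hN
  refine ⟨E.filter (· ∈ N), Finset.mem_coe.mpr (Finset.mem_powerset.mpr (Finset.filter_subset _ _)), le_antisymm ?_ ?_⟩
  · exact AddSubmonoid.closure_le.mpr fun m hm => (Finset.mem_filter.mp hm).2
  · let L := AddSubmonoid.closure (E.filter (· ∈ N) : Set M)
    have hL : L ≤ N := AddSubmonoid.closure_le.mpr fun m hm => (Finset.mem_filter.mp hm).2
    have hiff : ∀ m ∈ E, m ∈ N ↔ m ∈ L := fun m hm =>
      ⟨fun h => AddSubmonoid.subset_closure (Finset.mem_filter.mpr ⟨hm, h⟩), fun h => hL h⟩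
    exact hN L fun T => Set.ext fun x => ⟨hE N L hiff T x, hE L N (fun m hm => (hiff m hm).symm) T x⟩

end Groth.Agent.H28.MagnetAff
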