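import Groth.Agent.H23.AttrComapGrp
import Groth.Agent.H23.EqvPullback

/-! The attractor of a subgroup `Z ⊆ M` is the fixed-point functor of `D(M/Z)`. -/

universe u

open CategoryTheory CategoryTheory.Limits MonoidalCategory CartesianMonoidalCategory MonObj AlgebraicGeometry
open Opposite Magnet

namespace Groth.Agent.H28.MagnetFixed

open H23.CharPts H23.AttrComapGrp

variable {S : Scheme.{u}} {M : Type} [AddCommGroup M] (Z : AddSubgroup M) {X : Over S} (a : MonAct (AMonS S M) X)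

theorem exists_repr : ∃ e : Z.toAddSubmonoid × (M ⧸ Z) ≃ M,
    ∀ n n' z, e (n + n', z) = Z.toAddSubmonoid.subtype n + e (n', z) := by
  refine ⟨{
    toFun := fun p => p.1 + p.2.out
    invFun := fun m => (⟨m - (QuotientAddGroup.mk m : M ⧸ Z).out, by
      show _ ∈ Z
      rw [← QuotientAddGroup.eq_zero_iff, QuotientAddGroup.mk_sub, QuotientAddGroup.out_eq', sub_self]⟩,
      QuotientAddGroup.mk m)
    left_inv := fun p => by
      have h2 : (QuotientAddGroup.mk ((p.1 : M) + p.2.out) : M ⧸ Z) = p.2 := by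
        rw [QuotientAddGroup.mk_add, (QuotientAddGroup.eq_zero_iff _).mpr p.1.2, zero_add, QuotientAddGroup.out_eq']
      refine Prod.ext (Subtype.ext ?_) h2
      show (p.1 : M) + p.2.out - _ = _
      rw [h2, add_sub_cancel_right]
    right_inv := fun m => sub_add_cancel _ _ }, fun n n' z => add_assoc _ _ _⟩

theorem effectiveEpi (T : Over S) : EffectiveEpi (AMonS.map S Z.toAddSubmonoid.subtype ▷ T).left := by
  obtain ⟨e, he⟩ := exists_repr Z
  haveI : Nonempty (M ⧸ Z) := ⟨0⟩
  exact H23.AMonFree.effectiveEpi Z.toAddSubmonoid.subtype e he S T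

theorem point_act {T : Over S} (φ : (attr a Z.toAddSubmonoid).obj (op T)) {T' : Over S} (g : T' ⟶ AMonS S M) (t : T' ⟶ T) :
    lift (g ≫ AMonS.map S Z.toAddSubmonoid.subtype) t ≫ φ.1 =
      lift g (t ≫ (attrToX a Z.toAddSubmonoid).app (op T) φ) ≫ a.act := by
  have h1 := (MonAct.mem_eqvHom_iff φ.1).mp φ.2 T' g 1 t
  rw [subAct_point, _root_.mul_one] at h1
  rw [h1]
  congr 2
  show _ = t ≫ lift (toUnit T ≫ η[AMonS S Z.toAddSubmonoid]) (𝟙 T) ≫ φ.1
  rw [comp_lift_assoc, Category.comp_id, ← Category.assoc t, comp_toUnit, ← Hom.one_def]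

theorem evalAt_fixed {T : Over S} (φ : (attr a Z.toAddSubmonoid).obj (op T)) (T' : Over S) (t : T' ⟶ T)
    (g : T' ⟶ AMonS S (M ⧸ Z)) :
    lift g (t ≫ (attrToX a Z.toAddSubmonoid).app (op T) φ) ≫
      (a.restrict (AMonS.map S (QuotientAddGroup.mk' Z))).act = t ≫ (attrToX a Z.toAddSubmonoid).app (op T) φ := by
  rw [MonAct.lift_restrict_act, ← point_act, map_comp_point,
    show (QuotientAddGroup.mk' Z).comp Z.toAddSubmonoid.subtype = 0 from
      AddMonoidHom.ext fun z => (QuotientAddGroup.eq_zero_iff _).mpr z.2,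
    eq_one_of_map_zero]
  show _ = t ≫ lift (toUnit T ≫ η[AMonS S Z.toAddSubmonoid]) (𝟙 T) ≫ φ.1
  rw [comp_lift_assoc, Category.comp_id, ← Category.assoc t, comp_toUnit, ← Hom.one_def]

theorem evalAt_injective {T : Over S} {φ ψ : (attr a Z.toAddSubmonoid).obj (op T)}
    (h : (attrToX a Z.toAddSubmonoid).app (op T) φ = (attrToX a Z.toAddSubmonoid).app (op T) ψ) : φ = ψ := by
  haveI := effectiveEpi Z T
  refine Subtype.ext (hom_ext_left (AMonS.map S Z.toAddSubmonoid.subtype ▷ T) ?_)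
  apply hom_ext_lift₂
  intro T' g t
  rw [lift_whiskerRight_assoc, lift_whiskerRight_assoc, point_act, point_act, h]

theorem exists_quot_char {T : Over S} (g g' : T ⟶ AMonS S M)
    (h : g ≫ AMonS.map S Z.toAddSubmonoid.subtype = g' ≫ AMonS.map S Z.toAddSubmonoid.subtype) :
    ∃ k : T ⟶ AMonS S (M ⧸ Z), g' = g * (k ≫ AMonS.map S (QuotientAddGroup.mk' Z)) := by
  let R := (Γ(T.left, ⊤) : Type u)
  let r : M → R := fun m => chi g' (Multiplicative.ofAdd m) * chi g (Multiplicative.ofAdd (-m))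
  have hinv : ∀ m : M, chi g (Multiplicative.ofAdd m) * chi g (Multiplicative.ofAdd (-m)) = 1 := fun m => by
    rw [← map_mul, ← ofAdd_add, add_neg_cancel, ofAdd_zero, map_one]
  have hrm : ∀ m m', r (m + m') = r m * r m' := fun m m' => by
    simp only [r, neg_add, ofAdd_add, map_mul]
    exact mul_mul_mul_comm _ _ _ _
  have hZ : ∀ z ∈ Z, r z = 1 := fun z hz => by
    have h1 := DFunLike.congr_fun (congrArg chi h) (Multiplicative.ofAdd (⟨z, hz⟩ : Z.toAddSubmonoid))
    rw [chi_map, chi_map] at h1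
    simp only [r]
    rw [show chi g' (Multiplicative.ofAdd z) = chi g (Multiplicative.ofAdd z) from h1.symm]
    exact hinv z
  have hcong : ∀ m m' : M, (m : M ⧸ Z) = m' → r m = r m' := fun m m' hmm => by
    have h1 := hZ _ ((QuotientAddGroup.eq).mp hmm)
    have h2 := hrm m (-m + m')
    rw [add_neg_cancel_left, h1, _root_.mul_one] at h2
    exact h2.symm
  obtain ⟨k, hk⟩ := exists_chi_eq (S := S) (T := T) (M := M ⧸ Z)
    { toFun := fun q => r q.toAdd.out
      map_one' := by
        rw [show r ((Multiplicative.toAdd (1 : Multiplicative (M ⧸ Z))).out) = r 0 from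
          hcong _ _ (QuotientAddGroup.out_eq' _)]
        exact hZ 0 Z.zero_mem
      map_mul' := fun q q' => by
        rw [← hrm]
        refine hcong _ _ ?_
        rw [QuotientAddGroup.out_eq', QuotientAddGroup.mk_add, QuotientAddGroup.out_eq', QuotientAddGroup.out_eq']
        rfl }
  refine ⟨k, chi_injective (MonoidHom.ext fun m => ?_)⟩
  rw [chi_mul, chi_map, hk]
  show _ = _ * r (((m.toAdd : M) : M ⧸ Z)).out
  rw [hcong _ m.toAdd (QuotientAddGroup.out_eq' _)]
  simp only [r]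
  rw [mul_left_comm]
  exact ((congrArg (_ * ·) (hinv m.toAdd)).trans (_root_.mul_one _)).symm

theorem exists_evalAt_eq {T : Over S}
    (x : (MonAct.fixedPsh (a.restrict (AMonS.map S (QuotientAddGroup.mk' Z)))).obj (op T)) :
    ∃ φ : (attr a Z.toAddSubmonoid).obj (op T), (attrToX a Z.toAddSubmonoid).app (op T) φ = x.1 := by
  haveI := effectiveEpi Z T
  obtain ⟨φ, hφ⟩ := exists_desc (AMonS.map S Z.toAddSubmonoid.subtype ▷ T) ((AMonS S M ◁ x.1) ≫ a.act)
    (fun W u v huv => by
      obtain ⟨k, hk⟩ := exists_quot_char Z (u ≫ fst _ _) (v ≫ fst _ _) (by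
        simpa [Category.assoc] using congrArg (· ≫ fst _ _) huv)
      have ht : u ≫ snd _ _ = v ≫ snd _ _ := by simpa using congrArg (· ≫ snd _ _) huv
      rw [← lift_comp_fst_snd u, ← lift_comp_fst_snd v, lift_whiskerLeft_assoc, lift_whiskerLeft_assoc,
        hk, ← ht, MonAct.lift_mul_act]
      congr 2
      have := x.2 W (u ≫ snd _ _) k
      rw [MonAct.lift_restrict_act] at this
      exact this.symm)
  have hφ' : ∀ (W : Over S) (g : W ⟶ AMonS S M) (t : W ⟶ T),
      lift (g ≫ AMonS.map S Z.toAddSubmonoid.subtype) t ≫ φ = lift g (t ≫ x.1) ≫ a.act := fun W g t => by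
    rw [← lift_whiskerRight_assoc, hφ, lift_whiskerLeft_assoc]
  have heq : MonAct.IsEquivariant ((subAct S M Z.toAddSubmonoid).prod (MonAct.trivial (AMonS S M) T)) a φ := by
    rw [MonAct.mem_eqvHom_iff]
    intro W g b t
    let A := AMonS S M
    let B := AMonS S Z.toAddSubmonoid
    haveI := effectiveEpi Z (A ⊗ T)
    let F : B ⊗ (A ⊗ T) ⟶ X :=
      lift (((snd B (A ⊗ T) ≫ fst A T) ≫ AMonS.map S Z.toAddSubmonoid.subtype) * fst B (A ⊗ T)) (snd B (A ⊗ T) ≫ snd A T) ≫ φ
    let G : B ⊗ (A ⊗ T) ⟶ X :=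
      lift (snd B (A ⊗ T) ≫ fst A T) (lift (fst B (A ⊗ T)) (snd B (A ⊗ T) ≫ snd A T) ≫ φ) ≫ a.act
    have hFG : F = G := by
      apply hom_ext_left (AMonS.map S Z.toAddSubmonoid.subtype ▷ (A ⊗ T))
      apply hom_ext_lift₂
      intro W' c w
      simp only [F, G, A, B, Category.assoc, lift_whiskerRight_assoc, comp_lift_assoc, MonObj.comp_mul, lift_fst_assoc,
        lift_snd_assoc, lift_fst]
      rw [← Category.assoc w (fst A T), ← MonObj.mul_comp, hφ', hφ', MonAct.lift_mul_act]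
    have h2 := congrArg (lift b (lift g t) ≫ ·) hFG
    simp only [F, G, A, B, Category.assoc, comp_lift_assoc, MonObj.comp_mul, lift_fst_assoc, lift_snd_assoc, lift_fst, lift_snd] at h2
    rw [subAct_point]
    exact h2
  refine ⟨⟨φ, heq⟩, ?_⟩
  show lift (toUnit T ≫ η[AMonS S Z.toAddSubmonoid]) (𝟙 T) ≫ φ = x.1
  have h1 : (1 : T ⟶ AMonS S M) ≫ AMonS.map S Z.toAddSubmonoid.subtype = 1 := MonObj.one_comp _
  rw [← Hom.one_def, ← h1, hφ', MonAct.lift_one_act, Category.id_comp]

/-- The identification of the attractor with the fixed-point functor. -/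
theorem exists_iso : ∃ e : attr a Z.toAddSubmonoid ≅
      MonAct.fixedPsh (a.restrict (AMonS.map S (QuotientAddGroup.mk' Z))),
    e.hom ≫ MonAct.fixedPshι _ = attrToX a Z.toAddSubmonoid := by
  let nt : attr a Z.toAddSubmonoid ⟶ MonAct.fixedPsh (a.restrict (AMonS.map S (QuotientAddGroup.mk' Z))) :=
    { app := fun T => TypeCat.ofHom fun φ =>
        ⟨(attrToX a Z.toAddSubmonoid).app (op (unop T)) φ, evalAt_fixed Z a φ⟩
      naturality := fun T T' t => ConcreteCategory.hom_ext _ _ fun φ => Subtype.ext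
        (ConcreteCategory.congr_hom ((attrToX a Z.toAddSubmonoid).naturality t) φ) }
  haveI : ∀ T, IsIso (nt.app T) := fun T => by
    refine (ConcreteCategory.isIso_iff_bijective _).mpr ⟨fun φ ψ h => evalAt_injective Z a (congrArg Subtype.val h), fun x => ?_⟩
    obtain ⟨φ, hφ⟩ := exists_evalAt_eq Z a x
    exact ⟨φ, Subtype.ext hφ⟩
  haveI := NatIso.isIso_of_isIso_app nt
  exact ⟨asIso nt, rfl⟩

end Groth.Agent.H28.MagnetFixed
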