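import Groth.Agent.H28.StableOpen
import Groth.Agent.H28.MagnetFixed
import Groth.Agent.H23.AMonExt
import Groth.Prelude.Def_Magnet3
import Mathlib.AlgebraicGeometry.Morphisms.SchemeTheoreticallyDominant

/-! Stable opens of `A(N) ×_S (field)` containing the idempotent of the unit face are everything. -/

universe u

open CategoryTheory CategoryTheory.Limits MonoidalCategory CartesianMonoidalCategory MonObj AlgebraicGeometry
open Opposite Magnet

namespace Groth.Agent.H28.StableFace

open H23.CharPts H23.AttrComapGrp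

variable {S : Scheme.{u}} {M : Type} [AddCommGroup M] (N : AddSubmonoid M)

theorem surjective_map (Z : AddSubgroup M) (T : Over S) :
    Surjective (AMonS.map S Z.toAddSubmonoid.subtype ▷ T).left := by
  obtain ⟨e, he⟩ := MagnetFixed.exists_repr Z
  haveI : Nonempty (M ⧸ Z) := ⟨0⟩
  let jj := Z.toAddSubmonoid.subtype
  have h0 : Surjective (AMon.map (ULift.{u} ℤ) jj).left :=
    ((flat_and_surjective_SpecMap_iff (CommRingCat.ofHom
      (MonoidAlgebra.mapDomainRingHom (ULift.{u} ℤ) (AddMonoidHom.toMultiplicative jj)))).mpr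
        (H23.AMonFree.faithfullyFlat jj e he (ULift.{u} ℤ))).2
  let z := Limits.IsTerminal.from specULiftZIsTerminal S
  let N' := Z.toAddSubmonoid
  have h1 : Surjective (AMonS.map S jj).left := by
    have hN : IsPullback (pullback.snd (AMon (ULift.{u} ℤ) N').hom z) (pullback.fst (AMon (ULift.{u} ℤ) N').hom z)
        z (AMon (ULift.{u} ℤ) N').hom := (IsPullback.of_hasPullback _ _).flip
    refine MorphismProperty.of_isPullback (P := @Surjective) (IsPullback.of_right (h₁₁ := (AMonS.map S jj).left)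
      (h₁₂ := pullback.snd (AMon (ULift.{u} ℤ) N').hom z) (h₂₁ := (AMon.map (ULift.{u} ℤ) jj).left)
      (v₁₁ := pullback.fst (AMon (ULift.{u} ℤ) M).hom z) ?_ ?_ hN).flip h0
    · have h2 := (IsPullback.of_hasPullback (AMon (ULift.{u} ℤ) M).hom z).flip
      rw [show (AMonS.map S jj).left ≫ pullback.snd _ z = pullback.snd (AMon (ULift.{u} ℤ) M).hom z from Over.w _,
        show (AMon.map (ULift.{u} ℤ) jj).left ≫ (AMon (ULift.{u} ℤ) N').hom = (AMon (ULift.{u} ℤ) M).hom from Over.w _]
      exact h2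
    · exact pullback.lift_fst _ _ _
  exact GrpSchLib.property_whiskerRight (AMonS.map S jj) T @Surjective h1

/-- A point lands in an open. -/
def Lands {V Y : Over S} (p : V ⟶ Y) (W : Y.left.Opens) : Prop := ∀ v : V.left, p.left v ∈ W

theorem Lands.comp {V V' Y : Over S} {p : V ⟶ Y} {W : Y.left.Opens} (h : Lands p W) (q : V' ⟶ V) : Lands (q ≫ p) W :=
  fun v => h (q.left v)

theorem Lands.act {A Y : Over S} [MonObj A] (r : MonAct A Y) {W : Y.left.Opens}
    (hW : (snd A Y).left ⁻¹ᵁ W ≤ r.act.left ⁻¹ᵁ W) {V : Over S} (g : V ⟶ A) {p : V ⟶ Y} (h : Lands p W) :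
    Lands (lift g p ≫ r.act) W := fun v => hW (show (snd A Y).left ((lift g p).left v) ∈ W by
  rw [← Scheme.Hom.comp_apply, ← Over.comp_left, lift_snd]
  exact h v)

/-- Points of the residue field. -/
noncomputable abbrev pt (Y : Over S) (y : Y.left) : StableOpen.fieldPt Y y ⟶ Y :=
  Over.homMk (Y.left.fromSpecResidueField y) rfl

/-- The idempotent of the unit face. -/
theorem exists_face_point : ∃ e : 𝟙_ (Over S) ⟶ AMonS S N,
    ∀ (T : Over S) (n : N), (-(n : M) ∈ N → chi (toUnit T ≫ e) (Multiplicative.ofAdd n) = 1) ∧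
      (-(n : M) ∉ N → chi (toUnit T ≫ e) (Multiplicative.ofAdd n) = 0) := by
  classical
  obtain ⟨e, he⟩ := exists_chi_eq (S := S) (T := 𝟙_ (Over S)) (M := N)
    { toFun := fun n => if -(n.toAdd : M) ∈ N then 1 else 0
      map_one' := if_pos (by show -((0 : N) : M) ∈ N; simp)
      map_mul' := fun a b => by
        show (if -((a.toAdd + b.toAdd : N) : M) ∈ N then (1 : Γ((𝟙_ (Over S)).left, ⊤)) else 0) = _
        by_cases ha : -(a.toAdd : M) ∈ N
        · by_cases hb : -(b.toAdd : M) ∈ N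
          · rw [if_pos ha, if_pos hb, if_pos, _root_.one_mul]
            rw [AddSubmonoid.coe_add, neg_add]
            exact add_mem ha hb
          · rw [if_neg hb, mul_zero, if_neg]
            intro h
            apply hb
            have := add_mem h a.toAdd.2
            rw [AddSubmonoid.coe_add] at this
            convert this using 1
            abel
        · rw [if_neg ha, zero_mul, if_neg]
          intro h
          apply ha
          have := add_mem h b.toAdd.2
          rw [AddSubmonoid.coe_add] at this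
          convert this using 1
          abel }
  refine ⟨e, fun T n => ⟨fun h => ?_, fun h => ?_⟩⟩
  · rw [chi_comp, he]
    exact (congrArg _ (if_pos h)).trans (map_one _)
  · rw [chi_comp, he]
    exact (congrArg _ (if_neg h)).trans (map_zero _)

/-- The subgroup of units of `N`. -/
def units : AddSubgroup M where
  carrier := {m | m ∈ N ∧ -m ∈ N}
  add_mem' := fun {a b} ha hb => ⟨add_mem ha.1 hb.1, by rw [neg_add]; exact add_mem ha.2 hb.2⟩
  zero_mem' := ⟨N.zero_mem, by rw [neg_zero]; exact N.zero_mem⟩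
  neg_mem' := fun {a} ha => ⟨ha.2, by rw [neg_neg]; exact ha.1⟩

theorem stablePt {e : 𝟙_ (Over S) ⟶ AMonS S N}
    (he : ∀ (T : Over S) (n : N), (-(n : M) ∈ N → chi (toUnit T ≫ e) (Multiplicative.ofAdd n) = 1) ∧
      (-(n : M) ∉ N → chi (toUnit T ≫ e) (Multiplicative.ofAdd n) = 0)) :
    StableOpen.StablePt (subAct S M N) e := by
  intro T K _ _ W hW he0
  have he0' : ∀ (V : Over S) (t : V ⟶ T), Lands (lift (toUnit V ≫ e) t) W := fun V t v => by
    have h1 : lift (toUnit V ≫ e) t = t ≫ lift (toUnit T ≫ e) (𝟙 T) := by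
      rw [comp_lift, Category.comp_id, ← Category.assoc, comp_toUnit]
    rw [h1, Over.comp_left, Scheme.Hom.comp_apply]
    exact (show t.left v ∈ (lift (toUnit T ≫ e) (𝟙 T)).left ⁻¹ᵁ W by rw [he0]; trivial)
  refine top_le_iff.mp fun z _ => ?_
  let A := AMonS S M
  let B := AMonS S N
  let Z := units N
  let V₁ := StableOpen.fieldPt (B ⊗ T) z
  let c : V₁ ⟶ B := pt _ z ≫ fst B T
  let t : V₁ ⟶ T := pt _ z ≫ snd B T
  -- an element of the torus agreeing with `c` on units
  let iu : Z.toAddSubmonoid →+ N :=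
    { toFun := fun x => ⟨x.1, x.2.1⟩, map_zero' := rfl, map_add' := fun _ _ => rfl }
  haveI := surjective_map (S := S) Z V₁
  let w₁ : V₁.left := IsLocalRing.closedPoint ((B ⊗ T).left.residueField z)
  obtain ⟨y, hy⟩ := (AMonS.map S Z.toAddSubmonoid.subtype ▷ V₁).left.surjective
    ((lift (c ≫ AMonS.map S iu) (𝟙 V₁)).left w₁)
  obtain ⟨y', -, -⟩ := Scheme.Pullback.exists_preimage_pullback y w₁ hy
  let P : Over S := Over.mk (Limits.pullback.fst (AMonS.map S Z.toAddSubmonoid.subtype ▷ V₁).left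
    (lift (c ≫ AMonS.map S iu) (𝟙 V₁)).left ≫ (A ⊗ V₁).hom)
  let p₁ : P ⟶ A ⊗ V₁ := Over.homMk (Limits.pullback.fst _ _) rfl
  let p₂ : P ⟶ V₁ := Over.homMk (Limits.pullback.snd _ _)
    ((congrArg (Limits.pullback.snd _ _ ≫ ·) (Over.w (lift (c ≫ AMonS.map S iu) (𝟙 V₁))).symm).trans
      (((Category.assoc _ _ _).symm.trans ((congrArg (· ≫ _) pullback.condition.symm).trans
        ((Category.assoc _ _ _).trans (congrArg (Limits.pullback.fst _ _ ≫ ·)
          (Over.w (AMonS.map S Z.toAddSubmonoid.subtype ▷ V₁))))))))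
  have hp : p₁ ≫ (AMonS.map S Z.toAddSubmonoid.subtype ▷ V₁) = p₂ ≫ lift (c ≫ AMonS.map S iu) (𝟙 V₁) :=
    Over.OverMorphism.ext pullback.condition
  let g : P ⟶ A := p₁ ≫ fst A V₁
  have hg : g ≫ AMonS.map S Z.toAddSubmonoid.subtype = (p₂ ≫ c) ≫ AMonS.map S iu := by
    have h1 := congrArg (· ≫ fst _ _) hp
    simpa [g, Category.assoc] using h1
  have hce : (g ≫ AMonS.map S N.subtype) * (toUnit P ≫ e) = (toUnit P ≫ e) * (p₂ ≫ c) := by
    refine chi_injective (MonoidHom.ext fun n => ?_)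
    obtain ⟨n, rfl⟩ := Multiplicative.ofAdd.surjective n
    rw [chi_mul, chi_mul]
    by_cases hn : -(n : M) ∈ N
    · rw [(he P n).1 hn, _root_.mul_one, _root_.one_mul, chi_map]
      have h2 := DFunLike.congr_fun (congrArg chi hg) (Multiplicative.ofAdd (⟨(n : M), n.2, hn⟩ : Z.toAddSubmonoid))
      rw [chi_map, chi_map] at h2
      exact h2
    · rw [(he P n).2 hn, mul_zero, zero_mul]
  have hce' : Lands (lift ((toUnit P ≫ e) * (p₂ ≫ c)) (p₂ ≫ t)) W := by
    have h1 := (he0' P (p₂ ≫ t)).act _ hW g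
    rw [MonAct.lift_prod_act, subAct_point, MonAct.lift_trivial_act, hce] at h1
    exact h1
  -- translate by `c`
  let V₂ := StableOpen.fieldPt P y'
  let q : V₂ ⟶ V₁ := pt P y' ≫ p₂
  let rc : B ⊗ V₂ ⟶ B ⊗ T := lift (fst B V₂ * (snd B V₂ ≫ q ≫ c)) (snd B V₂ ≫ q ≫ t)
  let W' : (B ⊗ V₂).left.Opens := rc.left ⁻¹ᵁ W
  have hlift : ∀ {V : Over S} (b : V ⟶ B) (s : V ⟶ V₂), lift b s ≫ rc = lift (b * (s ≫ q ≫ c)) (s ≫ q ≫ t) := by
    intro V b s
    simp [rc, comp_lift, MonObj.comp_mul, Category.assoc]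
  have hW' : ∀ {V : Over S} (g : V ⟶ A) {b : V ⟶ B} {s : V ⟶ V₂}, Lands (lift b s) W' →
      Lands (lift ((g ≫ AMonS.map S N.subtype) * b) s) W' := by
    intro V g b s h v
    have h0 : Lands (lift (b * (s ≫ q ≫ c)) (s ≫ q ≫ t)) W := fun v => by
      rw [← hlift, Over.comp_left, Scheme.Hom.comp_apply]
      exact h v
    have h1 := h0.act _ hW g v
    rw [MonAct.lift_prod_act, subAct_point, MonAct.lift_trivial_act, ← _root_.mul_assoc, ← hlift, Over.comp_left,
      Scheme.Hom.comp_apply] at h1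
    exact h1
  have hne : ∃ x, x ∈ W' := by
    refine ⟨(lift (toUnit V₂ ≫ e) (𝟙 V₂)).left (IsLocalRing.closedPoint (P.left.residueField y')), ?_⟩
    show rc.left _ ∈ W
    rw [← Scheme.Hom.comp_apply, ← Over.comp_left, hlift, Category.id_comp, Category.id_comp]
    have h1 := hce'.comp (pt P y') (IsLocalRing.closedPoint (P.left.residueField y'))
    rw [comp_lift, MonObj.comp_mul, ← Category.assoc (pt P y') (toUnit P), comp_toUnit] at h1
    simp only [q, V₂, Category.assoc] at h1 ⊢
    exact h1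
  haveI : IsAffine V₂.left := inferInstanceAs (IsAffine (Spec _))
  haveI : IsSchemeTheoreticallyDominant (AMonS.map S N.subtype ▷ V₂).left :=
    H23.AMonExt.stDominant_bc_map_affine (ULift.{u} ℤ) _ N.subtype Subtype.val_injective V₂
  haveI : QuasiCompact (AMonS.map S N.subtype ▷ V₂).left := by
    have hL : ∀ (L : Type) [AddCommMonoid L], IsAffineHom (AMonS S L).hom := fun L _ => by
      haveI : IsAffine (AMon (ULift.{u} ℤ) L).left := inferInstanceAs (IsAffine (Spec _))
      exact MorphismProperty.pullback_snd _ _ (isAffineHom_of_isAffine _)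
    haveI := hL N
    haveI := hL M
    haveI : IsAffineHom (snd B V₂).left := inferInstanceAs (IsAffineHom (Limits.pullback.snd (AMonS S N).hom V₂.hom))
    haveI : IsAffineHom (snd A V₂).left := inferInstanceAs (IsAffineHom (Limits.pullback.snd (AMonS S M).hom V₂.hom))
    haveI : IsAffineHom ((AMonS.map S N.subtype ▷ V₂).left ≫ (snd B V₂).left) := by
      rw [← Over.comp_left, whiskerRight_snd]
      infer_instance
    haveI : IsAffineHom (AMonS.map S N.subtype ▷ V₂).left := IsAffineHom.of_comp _ (snd B V₂).left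
    infer_instance
  obtain ⟨a, hxW⟩ := (AMonS.map S N.subtype ▷ V₂).left.denseRange.exists_mem_open W'.2 hne
  let V₃ := StableOpen.fieldPt (A ⊗ V₂) a
  let g₃ : V₃ ⟶ A := pt _ a ≫ fst A V₂
  let s₃ : V₃ ⟶ V₂ := pt _ a ≫ snd A V₂
  have h3 : Lands (lift (g₃ ≫ AMonS.map S N.subtype) s₃) W' := fun v => by
    rw [← lift_whiskerRight, lift_comp_fst_snd, Over.comp_left, Scheme.Hom.comp_apply]
    have : (pt (A ⊗ V₂) a).left v = a := by
      have : (pt (A ⊗ V₂) a).left v ∈ Set.range ((A ⊗ V₂).left.fromSpecResidueField a) := ⟨v, rfl⟩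
      rwa [Scheme.range_fromSpecResidueField] at this
    rw [this]
    exact hxW
  obtain ⟨g', hg'⟩ := exists_chi_eq (S := S) (T := V₃) (M := M)
    { toFun := fun m => chi g₃ (Multiplicative.ofAdd (-m.toAdd))
      map_one' := by rw [show Multiplicative.toAdd (1 : Multiplicative M) = 0 from rfl, neg_zero]; exact map_one _
      map_mul' := fun x y => by rw [← map_mul, ← ofAdd_add, toAdd_mul, neg_add] }
  have h4 := hW' g' h3
  have h5 : (g' ≫ AMonS.map S N.subtype) * (g₃ ≫ AMonS.map S N.subtype) = 1 := by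
    rw [← MonObj.mul_comp, ← MonObj.one_comp (AMonS.map S N.subtype)]
    congr 1
    refine chi_injective (MonoidHom.ext fun m => ?_)
    rw [chi_mul, hg', ← eq_one_of_map_zero g₃, chi_map]
    show chi g₃ (Multiplicative.ofAdd (-m.toAdd)) * chi g₃ m = chi g₃ (Multiplicative.ofAdd 0)
    rw [← map_mul, ← ofAdd_toAdd m, ← ofAdd_add, toAdd_ofAdd, neg_add_cancel]
  rw [h5] at h4
  let v₃ : V₃.left := IsLocalRing.closedPoint ((A ⊗ V₂).left.residueField a)
  have h6 := h4 v₃
  change rc.left _ ∈ W at h6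
  rw [← Scheme.Hom.comp_apply, ← Over.comp_left, hlift, _root_.one_mul] at h6
  have h7 : lift (s₃ ≫ q ≫ c) (s₃ ≫ q ≫ t) = (s₃ ≫ q) ≫ pt (B ⊗ T) z := by
    rw [← lift_comp_fst_snd ((s₃ ≫ q) ≫ pt (B ⊗ T) z)]
    simp [c, t, Category.assoc]
    rfl
  rw [h7, Over.comp_left, Scheme.Hom.comp_apply] at h6
  have h8 : (pt (B ⊗ T) z).left ((s₃ ≫ q).left v₃) = z := by
    have : (pt (B ⊗ T) z).left ((s₃ ≫ q).left v₃) ∈ Set.range ((B ⊗ T).left.fromSpecResidueField z) := ⟨_, rfl⟩
    rwa [Scheme.range_fromSpecResidueField] at this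
  exact h8 ▸ h6

end Groth.Agent.H28.StableFace
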