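import Groth.Agent.H28.AttrRep
import Groth.Agent.H28.MagnetPure
import Groth.Agent.H28.StableFace

/-! Images of attractors are determined on an atlas reflecting fixed points. -/

universe u

open CategoryTheory CategoryTheory.Limits MonoidalCategory CartesianMonoidalCategory MonObj AlgebraicGeometry
open Opposite Magnet

namespace Groth.Agent.H28.AttrImage

open MagnetAff

variable {S : Scheme.{u}} {M : Type} [AddCommGroup M] [AddGroup.FG M] {X U : Over S}
  (aX : MonAct (AMonS S M) X)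

omit [AddGroup.FG M] in
/-- Membership in an attractor descends along fppf coverings. -/
theorem inAttr_of_fppf [IsSeparated X.hom] (L : AddSubmonoid M) {T T' : Over S} (g : T' ⟶ T)
    (hg : AlgSpLib.fppf g.left) (x : T ⟶ X) (h : InAttr L aX (g ≫ x)) : InAttr L aX x := by
  let R : Sieve T :=
    { arrows := fun W r => InAttr L aX (r ≫ x)
      downward_closed := fun {W W' r} hr s => by
        show InAttr L aX ((s ≫ r) ≫ x)
        rw [Category.assoc]
        exact hr.comp L aX s }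
  have hR : R ∈ AlgSp.J S T := AlgSpLib.mem_J_of_fppf g hg R h
  have hsh := AttrDescent.isSheaf_eqvHom (subAct S M L) aX R hR
  let fam : Presieve.FamilyOfElements (attr aX L) (R : Presieve T) := fun W r hr => Exists.choose hr
  have hfam : ∀ {W : Over S} (r : W ⟶ T) (hr : R r), (attrToX aX L).app (op W) (fam r hr) = r ≫ x :=
    fun r hr => Exists.choose_spec hr
  have hc : fam.Compatible := by
    rw [Presieve.compatible_iff_sieveCompatible]
    intro W W' r s hr
    refine InAttr.eq L aX (hfam _ _) ?_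
    refine (ConcreteCategory.congr_hom ((attrToX aX L).naturality s.op) (fam r hr)).trans ?_
    exact (congrArg (s ≫ ·) (hfam r hr)).trans (Category.assoc _ _ _).symm
  obtain ⟨φ, hφ, -⟩ := hsh fam hc
  refine ⟨φ, ((GrothendieckTopology.Subcanonical.isSheaf_of_isRepresentable (yoneda.obj X)) R hR).isSeparatedFor.ext
    fun W r hr => ?_⟩
  refine ((ConcreteCategory.congr_hom ((attrToX aX L).naturality r.op) φ).symm.trans ?_).trans (hfam r hr)
  exact congrArg ((attrToX aX L).app (op W)) (hφ r hr)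

variable (aU : MonAct (AMonS S M) U) [IsAffineHom U.hom] (f : U ⟶ X) [Etale f.left] [Surjective f.left]
  (hf : MonAct.IsEquivariant aU aX f) [IsSeparated X.hom] [LocallyOfFinitePresentation X.hom]

include hf in
theorem inAttr_of_atlas_at (N L : AddSubmonoid M) (Z : AddSubgroup M) (hQ : IsFace N Z.toAddSubmonoid)
    (hgZ : MonAct.IsEquivariant
      (aU.restrict (AMonS.map S (QuotientAddGroup.mk' Z))) (aX.restrict (AMonS.map S (QuotientAddGroup.mk' Z))) f)
    (hfpr : IsPullback (MonAct.fixedPsh.map f hgZ)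
      (MonAct.fixedPshι (aU.restrict (AMonS.map S (QuotientAddGroup.mk' Z))))
      (MonAct.fixedPshι (aX.restrict (AMonS.map S (QuotientAddGroup.mk' Z)))) (yoneda.map f))
    (hU : ∀ (T : Over S) (u : T ⟶ U), InAttr N aU u → InAttr L aU u)
    {T : Over S} (x : T ⟶ X) (hx : InAttr N aX x) : InAttr L aX x := by
  obtain ⟨φ, rfl⟩ := hx
  let φZ := (attrFace aX hQ).app (op T) φ
  let x' : T ⟶ X := (attrToX aX Z.toAddSubmonoid).app (op T) φZ
  let T' : Over S := Over.mk (Limits.pullback.fst x'.left f.left ≫ T.hom)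
  let g : T' ⟶ T := Over.homMk (Limits.pullback.fst _ _) rfl
  let v : T' ⟶ U := Over.homMk (Limits.pullback.snd x'.left f.left) (by
    show _ ≫ U.hom = _ ≫ T.hom
    rw [← Over.w f, ← pullback.condition_assoc, Over.w x'])
  have hv : v ≫ f = g ≫ x' := Over.OverMorphism.ext pullback.condition.symm
  have hg : AlgSpLib.fppf g.left := MorphismProperty.pullback_fst _ _ (AlgSpLib.fppf_of f.left)
  obtain ⟨isoU, hisoU⟩ := MagnetFixed.exists_iso Z aU
  obtain ⟨-, -, hex⟩ := (Types.isPullback_iff _ _ _ _).mp (hfpr.app (op T'))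
  obtain ⟨w, -, hw⟩ := hex ⟨g ≫ x', ((MonAct.fixedPsh (aX.restrict (AMonS.map S (QuotientAddGroup.mk' Z)))).map g.op
    ⟨x', MagnetFixed.evalAt_fixed Z aX φZ⟩).2⟩ v hv.symm
  obtain ⟨ψ, hψ⟩ := MagnetFixed.exists_evalAt_eq Z aU w
  have hwv : (attrToX aU Z.toAddSubmonoid).app (op T') ψ = v := hψ.trans hw
  have hnat : ∀ (B : AddSubmonoid M) (θ : AMonS S B ⊗ T ⟶ X),
      lift (toUnit T' ≫ η[AMonS S B]) (𝟙 T') ≫ (AMonS S B ◁ g) ≫ θ =
        g ≫ lift (toUnit T ≫ η[AMonS S B]) (𝟙 T) ≫ θ := fun B θ => by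
    rw [lift_whiskerLeft_assoc, comp_lift_assoc, ← Category.assoc g (toUnit T), comp_toUnit, Category.id_comp,
      Category.comp_id]
  let φ' : (attr aX N).obj (op T') := (attr aX N).map g.op φ
  let ψ' : (attr aX Z.toAddSubmonoid).obj (op T') :=
    (MonAct.eqvHom.postcomp (subAct S M Z.toAddSubmonoid) f hf).app (op T') ψ
  have e1 : (attrToX aX Z.toAddSubmonoid).app (op T') ((attrFace aX hQ).app (op T') φ') = g ≫ x' := by
    show lift (toUnit T' ≫ η[AMonS S Z.toAddSubmonoid]) (𝟙 T') ≫ (AMonS.faceMap S hQ ▷ T') ≫ (AMonS S N ◁ g) ≫ φ.1 =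
      g ≫ lift (toUnit T ≫ η[AMonS S Z.toAddSubmonoid]) (𝟙 T) ≫ (AMonS.faceMap S hQ ▷ T) ≫ φ.1
    rw [← whisker_exchange_assoc]
    exact hnat _ _
  have e2 : (attrToX aX Z.toAddSubmonoid).app (op T') ψ' = v ≫ f := by
    rw [← hwv]
    show lift (toUnit T' ≫ η[AMonS S Z.toAddSubmonoid]) (𝟙 T') ≫ ψ.1 ≫ f =
      (lift (toUnit T' ≫ η[AMonS S Z.toAddSubmonoid]) (𝟙 T') ≫ ψ.1) ≫ f
    exact (Category.assoc _ _ _).symm
  have hc : (attrFace aX hQ).app (op T') φ' = ψ' :=
    MagnetLib.attrToX_injective aX Z.toAddSubmonoid T' (e1.trans (e2.trans hv).symm)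
  obtain ⟨-, -, hex'⟩ := (Types.isPullback_iff _ _ _ _).mp
    ((AttrRep.isPullback_face aX aU f hf (Or.inr ⟨‹_›, ‹_›⟩) hQ (N := N)).app (op T'))
  obtain ⟨χ, hχ, -⟩ := hex' φ' ψ hc
  obtain ⟨χ', hχ'⟩ := hU T' ((attrToX aU N).app (op T') χ) ⟨χ, rfl⟩
  refine inAttr_of_fppf aX L g hg _ ⟨(MonAct.eqvHom.postcomp (subAct S M L) f hf).app (op T') χ', ?_⟩
  have h3 : lift (toUnit T' ≫ η[AMonS S L]) (𝟙 T') ≫ χ'.1 = lift (toUnit T' ≫ η[AMonS S N]) (𝟙 T') ≫ χ.1 := hχ'
  have h4 : χ.1 ≫ f = (AMonS S N ◁ g) ≫ φ.1 := congrArg Subtype.val hχ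
  show lift (toUnit T' ≫ η[AMonS S L]) (𝟙 T') ≫ χ'.1 ≫ f = g ≫ lift (toUnit T ≫ η[AMonS S N]) (𝟙 T) ≫ φ.1
  rw [← Category.assoc, h3, Category.assoc, h4]
  exact hnat _ _

theorem isFace_units {M : Type} [AddCommGroup M] (N : AddSubmonoid M) :
    IsFace N (StableFace.units N).toAddSubmonoid :=
  ⟨fun m hm => hm.1, fun a ha b hb h => ⟨⟨ha, by simpa using add_mem hb h.2⟩, ⟨hb, by simpa using add_mem ha h.2⟩⟩⟩

include hf in
theorem inAttr_of_atlas
    (hgZ : ∀ Z : AddSubgroup M, MonAct.IsEquivariant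
      (aU.restrict (AMonS.map S (QuotientAddGroup.mk' Z))) (aX.restrict (AMonS.map S (QuotientAddGroup.mk' Z))) f)
    (hfpr : ∀ Z : AddSubgroup M, IsPullback (MonAct.fixedPsh.map f (hgZ Z))
      (MonAct.fixedPshι (aU.restrict (AMonS.map S (QuotientAddGroup.mk' Z))))
      (MonAct.fixedPshι (aX.restrict (AMonS.map S (QuotientAddGroup.mk' Z)))) (yoneda.map f))
    (N L : AddSubmonoid M) (hU : ∀ (T : Over S) (u : T ⟶ U), InAttr N aU u → InAttr L aU u)
    {T : Over S} (x : T ⟶ X) (hx : InAttr N aX x) : InAttr L aX x :=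
  inAttr_of_atlas_at aX aU f hf N L _ (isFace_units N) (hgZ _) (hfpr _) hU x hx

end Groth.Agent.H28.AttrImage
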