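import Groth.Agent.H28.MagnetCrit

/-! Isomorphism criterion for maps of attractors. -/

universe u

open CategoryTheory CategoryTheory.Limits MonoidalCategory CartesianMonoidalCategory MonObj AlgebraicGeometry
open Opposite Magnet

namespace Groth.Agent.H28.AttrNc

variable {S : Scheme.{u}} {M : Type} [AddCommGroup M] {X : Over S} [IsSeparated X.hom]
  (a : MonAct (AMonS S M) X) {L N : AddSubmonoid M} (hle : L ≤ N)

omit [IsSeparated X.hom] in
theorem attrToX_attrMap {T : Over S} (ψ : (attr a L).obj (op T)) :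
    (attrToX a N).app (op T) ((attrMap a hle).app (op T) ψ) = (attrToX a L).app (op T) ψ := by
  show lift (toUnit T ≫ η[AMonS S N]) (𝟙 T) ≫ (AMonS.map S (AddSubmonoid.inclusion hle) ▷ T) ≫ ψ.1 =
    lift (toUnit T ≫ η[AMonS S L]) (𝟙 T) ≫ ψ.1
  rw [lift_whiskerRight_assoc, Category.assoc, IsMonHom.one_hom]

theorem isIso_attrMap (h : ∀ (T : Over S) (x : T ⟶ X), MagnetAff.InAttr N a x → MagnetAff.InAttr L a x) :
    IsIso (attrMap a hle) := by
  haveI : ∀ T, IsIso ((attrMap a hle).app T) := fun T => by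
    induction T using Opposite.rec with
    | _ T =>
      refine (ConcreteCategory.isIso_iff_bijective _).mpr ⟨fun φ φ' e => ?_, fun φ => ?_⟩
      · exact MagnetLib.attrMap_injective a hle T (show _ = _ from e)
      · obtain ⟨ψ, hψ⟩ := h T ((attrToX a N).app (op T) φ) ⟨φ, rfl⟩
        refine ⟨ψ, MagnetLib.attrToX_injective a N T ?_⟩
        exact (attrToX_attrMap a hle ψ).trans hψ
  exact NatIso.isIso_of_isIso_app _

end Groth.Agent.H28.AttrNc
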