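import Groth.Agent.H28.MagnetTheta
import Groth.Agent.H23.AttrComapGrp

/-! Equivariant maps out of the affine line are determined by the infinitesimal neighbourhoods of zero. -/

universe u

open CategoryTheory CategoryTheory.Limits MonoidalCategory CartesianMonoidalCategory MonObj AlgebraicGeometry
open Opposite Magnet

namespace Groth.Agent.H28.AttrNil

open H23.CharPts H23.AttrComapGrp MagnetAff

/-- The non-negative integers. -/
abbrev Ns : AddSubmonoid ℤ := AddSubmonoid.multiples (1 : ℤ)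

theorem nonneg (k : Ns) : 0 ≤ (k : ℤ) := by
  obtain ⟨n, hn⟩ := k.2
  simp [← hn]

theorem mem_Ns {z : ℤ} (h : 0 ≤ z) : z ∈ Ns := ⟨z.toNat, by simp [h]⟩

/-- The generator. -/
abbrev gen : Multiplicative Ns := Multiplicative.ofAdd (⟨1, mem_Ns zero_le_one⟩ : Ns)

/-- The degree. -/
def deg (k : Multiplicative Ns) : ℕ := (k.toAdd : ℤ).toNat

theorem deg_mul (k l : Multiplicative Ns) : deg (k * l) = deg k + deg l :=
  Int.toNat_add (nonneg _) (nonneg _)

theorem gen_pow_deg (k : Multiplicative Ns) : gen ^ deg k = k := by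
  apply Multiplicative.toAdd.injective
  apply Subtype.ext
  rw [toAdd_pow, AddSubmonoidClass.coe_nsmul]
  show deg k • (1 : ℤ) = _
  rw [nsmul_one]
  exact Int.toNat_of_nonneg (nonneg _)

section Mon

variable {R : Type*} [CommRing R]

/-- The monomial map. -/
def powHom (x : R) : Multiplicative Ns →* R where
  toFun k := x ^ deg k
  map_one' := pow_zero x
  map_mul' k l := by rw [deg_mul, pow_add]

theorem powHom_gen (x : R) : powHom x gen = x := pow_one x

theorem eq_powHom (χ : Multiplicative Ns →* R) : χ = powHom (χ gen) :=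
  MonoidHom.ext fun k => by
    show _ = χ gen ^ deg k
    rw [← map_pow, gen_pow_deg]

end Mon

variable {S : Scheme.{u}}

theorem chi_one {T : Over S} {N : Type} [AddCommMonoid N] (n : Multiplicative N) : chi (1 : T ⟶ AMonS S N) n = 1 := by
  rw [← eq_one_of_map_zero (M := N) (𝟙 _ ≫ (1 : T ⟶ AMonS S N)), chi_map]
  exact map_one _

theorem chi_pow {T : Over S} {N : Type} [AddCommMonoid N] (x : T ⟶ AMonS S N) (j : ℕ) (n : Multiplicative N) :
    chi (x ^ j) n = chi x n ^ j := by
  induction j with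
  | zero => rw [pow_zero, pow_zero, chi_one]
  | succ j ih => rw [pow_succ, pow_succ, chi_mul, ih]

theorem absorbing {T : Over S} (m : T ⟶ AMonS S Ns) (n : ℕ) (h : chi m gen ^ (n + 1) = 0) (m' : T ⟶ AMonS S Ns) :
    m ^ (n + 1) * m' = m ^ (n + 1) := by
  refine chi_injective (MonoidHom.ext fun k => ?_)
  rw [chi_mul, chi_pow, eq_powHom (chi m), eq_powHom (chi m')]
  show (chi m gen ^ deg k) ^ (n + 1) * chi m' gen ^ deg k = (chi m gen ^ deg k) ^ (n + 1)
  rcases Nat.eq_zero_or_pos (deg k) with h0 | h0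
  · simp [h0]
  · obtain ⟨d, hd⟩ := Nat.exists_eq_succ_of_ne_zero h0.ne'
    rw [← pow_mul, hd, Nat.succ_mul, pow_add, h, mul_zero, zero_mul]

variable {X Y : Over S} (a : MonAct (AMonS S ℤ) X) (φ₀ : (attr a Ns).obj (op Y))

theorem exists_unit_point {T : Over S} (m : T ⟶ AMonS S Ns) (hm : IsUnit (chi m gen)) :
    ∃ g g' : T ⟶ AMonS S ℤ, g ≫ AMonS.map S (Ns).subtype = m ∧ g' * g = 1 := by
  obtain ⟨u, hu⟩ := hm
  obtain ⟨g, hg⟩ := exists_chi_eq (T := T) (M := ℤ) ((Units.coeHom _).comp (zpowersHom _ u))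
  obtain ⟨g', hg'⟩ := exists_chi_eq (T := T) (M := ℤ) ((Units.coeHom _).comp (zpowersHom _ u⁻¹))
  refine ⟨g, g', chi_injective (MonoidHom.ext fun k => ?_), chi_injective (MonoidHom.ext fun z => ?_)⟩
  · rw [chi_map, hg, eq_powHom (chi m), ← hu]
    show ((u ^ (Multiplicative.toAdd k : Ns).1 : Γ(T.left, ⊤)ˣ) : Γ(T.left, ⊤)) = (u : Γ(T.left, ⊤)) ^ deg k
    rw [← Int.toNat_of_nonneg (nonneg (Multiplicative.toAdd k)), zpow_natCast, Units.val_pow_eq_pow_val]
    rfl
  · rw [chi_mul, hg, hg', chi_one]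
    show ((u⁻¹ ^ z.toAdd : _ˣ) : Γ(T.left, ⊤)) * ((u ^ z.toAdd : _ˣ) : Γ(T.left, ⊤)) = 1
    rw [← Units.val_mul, ← mul_zpow, inv_mul_cancel, one_zpow, Units.val_one]

/-- The point at one. -/
noncomputable def atOne : Y ⟶ X := lift 1 (𝟙 Y) ≫ φ₀.1

theorem point_eq {T : Over S} (g : T ⟶ AMonS S ℤ) (t : T ⟶ Y) :
    lift (g ≫ AMonS.map S (Ns).subtype) t ≫ φ₀.1 = lift g (t ≫ atOne a φ₀) ≫ a.act := by
  have h := (MonAct.mem_eqvHom_iff φ₀.1).mp φ₀.2 T g 1 t
  rw [subAct_point, _root_.mul_one] at h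
  rw [h, atOne, comp_lift_assoc, MonObj.comp_one, Category.comp_id]

theorem atOne_eq {T : Over S} (g g' : T ⟶ AMonS S ℤ) (hg : g' * g = 1) (t : T ⟶ Y) :
    lift g' (lift (g ≫ AMonS.map S (Ns).subtype) t ≫ φ₀.1) ≫ a.act = t ≫ atOne a φ₀ := by
  rw [point_eq, ← MonAct.lift_mul_act, hg, MonAct.lift_one_act]

section Core

open Polynomial

variable {B : CommRingCat.{u}} (b : Spec B ⟶ Y.left)

/-- The affine line over a chart of the base. -/
noncomputable abbrev VB : Over S :=
  Over.mk ((Spec.map (CommRingCat.ofHom (C : B →+* B[X])) ≫ b) ≫ Y.hom : Spec (CommRingCat.of B[X]) ⟶ S)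

/-- Its coordinate. -/
noncomputable def mB : VB b ⟶ AMonS S Ns :=
  (exists_chi_eq (T := VB b) (M := ↥Ns)
    ((Scheme.ΓSpecIso (CommRingCat.of B[X])).inv.hom.toMonoidHom.comp (powHom (Polynomial.X : B[X])))).choose

theorem chi_mB (k : Multiplicative Ns) :
    chi (mB b) k = (Scheme.ΓSpecIso (CommRingCat.of B[X])).inv (powHom (Polynomial.X : B[X]) k) :=
  DFunLike.congr_fun (exists_chi_eq (T := VB b) (M := ↥Ns)
    ((Scheme.ΓSpecIso (CommRingCat.of B[X])).inv.hom.toMonoidHom.comp (powHom (Polynomial.X : B[X])))).choose_spec k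

/-- The map to the affine line over `Y`. -/
noncomputable def sB : VB b ⟶ AMonS S Ns ⊗ Y :=
  lift (mB b) (Over.homMk (Spec.map (CommRingCat.ofHom (C : B →+* B[X])) ≫ b) rfl)

/-- A point of `VB` from a ring map. -/
noncomputable abbrev pt (R : CommRingCat.{u}) (q : CommRingCat.of B[X] ⟶ R) : Over S := Over.mk (Spec.map q ≫ (VB b).hom)

/-- The inclusion. -/
noncomputable abbrev ptHom (R : CommRingCat.{u}) (q : CommRingCat.of B[X] ⟶ R) : pt b R q ⟶ VB b := Over.homMk (Spec.map q) rfl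

theorem chi_ptHom (R : CommRingCat.{u}) (q : CommRingCat.of B[X] ⟶ R) :
    chi (ptHom b R q ≫ mB b) gen = (Scheme.ΓSpecIso R).inv (q (Polynomial.X : B[X])) := by
  rw [chi_comp, chi_mB, powHom_gen]
  exact (ConcreteCategory.congr_hom (Scheme.ΓSpecIso_inv_naturality q) (Polynomial.X : B[X])).symm

variable (φ₁ φ₂ : (attr a Ns).obj (op Y))
  (h : ∀ (T : Over S) (m : T ⟶ AMonS S Ns) (t : T ⟶ Y), (∃ n : ℕ, ∀ m', m ^ (n + 1) * m' = m ^ (n + 1)) →
    lift m t ≫ φ₁.1 = lift m t ≫ φ₂.1)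

include h in
theorem eq_of_nilp (R : CommRingCat.{u}) (q : CommRingCat.of B[X] ⟶ R) (n : ℕ) (hq : q (Polynomial.X : B[X]) ^ (n + 1) = 0) :
    ptHom b R q ≫ sB b ≫ φ₁.1 = ptHom b R q ≫ sB b ≫ φ₂.1 := by
  rw [← Category.assoc, ← Category.assoc, sB, comp_lift]
  refine h _ _ _ ⟨n, absorbing _ n ?_⟩
  rw [chi_ptHom, ← map_pow, hq, map_zero]

include h in
theorem eq_on_basicOpen (f : B[X]) (hf : IsUnit (f.coeff 0)) (U : X.left.Opens) (hU : IsAffineOpen U)
    (h₁ : (PrimeSpectrum.basicOpen f : Set (PrimeSpectrum B[X])) ⊆ (sB b ≫ φ₁.1).left ⁻¹' (U : Set X.left))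
    (h₂ : (PrimeSpectrum.basicOpen f : Set (PrimeSpectrum B[X])) ⊆ (sB b ≫ φ₂.1).left ⁻¹' (U : Set X.left)) :
    ptHom b (CommRingCat.of (Localization.Away f)) (CommRingCat.ofHom (algebraMap _ _)) ≫ sB b ≫ φ₁.1 =
      ptHom b (CommRingCat.of (Localization.Away f)) (CommRingCat.ofHom (algebraMap _ _)) ≫ sB b ≫ φ₂.1 := by
  haveI : IsAffine U.toScheme := hU
  let P := CommRingCat.of (Localization.Away f)
  let incl : Spec P ⟶ Spec (CommRingCat.of B[X]) := Spec.map (CommRingCat.ofHom (algebraMap _ _))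
  have hr : Set.range incl = (PrimeSpectrum.basicOpen f : Set (PrimeSpectrum B[X])) :=
    PrimeSpectrum.localization_away_comap_range (Localization.Away f) f
  have hrU : ∀ g : VB b ⟶ X, (PrimeSpectrum.basicOpen f : Set (PrimeSpectrum B[X])) ⊆ g.left ⁻¹' (U : Set X.left) →
      Set.range (incl ≫ g.left) ⊆ Set.range U.ι := fun g hg => by
    rintro _ ⟨z, rfl⟩
    rw [U.range_ι]
    exact hg (hr.le ⟨z, rfl⟩)
  let l₁ := IsOpenImmersion.lift U.ι _ (hrU _ h₁)
  let l₂ := IsOpenImmersion.lift U.ι _ (hrU _ h₂)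
  obtain ⟨ψ₁, hψ₁⟩ := Spec.map_surjective (l₁ ≫ U.toScheme.isoSpec.hom)
  obtain ⟨ψ₂, hψ₂⟩ := Spec.map_surjective (l₂ ≫ U.toScheme.isoSpec.hom)
  suffices ψ₁ = ψ₂ by
    have e : l₁ = l₂ := by rw [← cancel_mono U.toScheme.isoSpec.hom, ← hψ₁, ← hψ₂, this]
    apply Over.OverMorphism.ext
    show incl ≫ (sB b ≫ φ₁.1).left = incl ≫ (sB b ≫ φ₂.1).left
    rw [← IsOpenImmersion.lift_fac U.ι _ (hrU _ h₁), ← IsOpenImmersion.lift_fac U.ι _ (hrU _ h₂)]
    exact congrArg (· ≫ U.ι) e
  refine CommRingCat.hom_ext (RingHom.ext fun c => ?_)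
  suffices ∀ p : Localization.Away f, (∀ (n : ℕ) (q : Localization.Away f →+* B[X] ⧸ Ideal.span {(Polynomial.X : B[X]) ^ (n + 1)}),
      q.comp (algebraMap _ _) = Ideal.Quotient.mk _ → q p = 0) → p = 0 by
    refine sub_eq_zero.mp (this _ fun n q hq => ?_)
    rw [map_sub, sub_eq_zero]
    let R := CommRingCat.of (B[X] ⧸ Ideal.span {(Polynomial.X : B[X]) ^ (n + 1)})
    have e := congrArg Over.Hom.left (eq_of_nilp a b φ₁ φ₂ h R (CommRingCat.ofHom (Ideal.Quotient.mk _)) n (by
      exact (map_pow _ _ _).symm.trans (Ideal.Quotient.eq_zero_iff_mem.mpr (Ideal.mem_span_singleton_self _))))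
    have hfac : Spec.map (CommRingCat.ofHom (Ideal.Quotient.mk (Ideal.span {(Polynomial.X : B[X]) ^ (n + 1)}))) =
        Spec.map (CommRingCat.ofHom q) ≫ incl := by
      rw [← Spec.map_comp, ← CommRingCat.ofHom_comp, hq]
    change _ ≫ (sB b ≫ φ₁.1).left = _ ≫ (sB b ≫ φ₂.1).left at e
    simp only [Over.homMk_left] at e
    rw [hfac, Category.assoc, Category.assoc, ← IsOpenImmersion.lift_fac U.ι _ (hrU _ h₁),
      ← IsOpenImmersion.lift_fac U.ι _ (hrU _ h₂), ← Category.assoc, ← Category.assoc, cancel_mono] at e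
    have e2 : Spec.map (CommRingCat.ofHom q) ≫ Spec.map ψ₁ = Spec.map (CommRingCat.ofHom q) ≫ Spec.map ψ₂ := by
      rw [hψ₁, hψ₂, reassoc_of% e]
    rw [← Spec.map_comp, ← Spec.map_comp] at e2
    exact RingHom.congr_fun (congrArg CommRingCat.Hom.hom (Spec.map_injective e2)) c
  intro p hp
  obtain ⟨m, g, hg⟩ := IsLocalization.Away.surj f p
  suffices g = 0 by
    rw [this, map_zero] at hg
    exact ((IsLocalization.Away.algebraMap_isUnit f).pow m).mul_left_eq_zero.mp hg
  ext n
  let J : Ideal B[X] := Ideal.span {(Polynomial.X : B[X]) ^ (n + 1)}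
  have hu : IsUnit (Ideal.Quotient.mk J f) := by
    rw [← X_mul_divX_add f, map_add, map_mul]
    refine IsNilpotent.isUnit_add_right_of_commute ⟨n + 1, ?_⟩ ((hf.map C).map _) (Commute.all _ _)
    rw [mul_pow, ← map_pow, Ideal.Quotient.eq_zero_iff_mem.mpr (Ideal.mem_span_singleton_self _), zero_mul]
  let q := IsLocalization.Away.lift (S := Localization.Away f) f hu
  have h0 := hp n q (IsLocalization.Away.lift_comp f hu)
  have hgn : Ideal.Quotient.mk J g = 0 := by
    have := congrArg q hg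
    rwa [map_mul, h0, zero_mul, IsLocalization.Away.lift_eq, eq_comm] at this
  obtain ⟨r, hr⟩ := Ideal.mem_span_singleton.mp (Ideal.Quotient.eq_zero_iff_mem.mp hgn)
  rw [hr, coeff_zero, Polynomial.coeff_X_pow_mul' ]
  simp

include h in
theorem eq_sB (f : B[X]) (hf : IsUnit (f.coeff 0)) (U : X.left.Opens) (hU : IsAffineOpen U)
    (h₁ : (PrimeSpectrum.basicOpen f : Set (PrimeSpectrum B[X])) ⊆ (sB b ≫ φ₁.1).left ⁻¹' (U : Set X.left))
    (h₂ : (PrimeSpectrum.basicOpen f : Set (PrimeSpectrum B[X])) ⊆ (sB b ≫ φ₂.1).left ⁻¹' (U : Set X.left)) :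
    sB b ≫ φ₁.1 = sB b ≫ φ₂.1 := by
  have hD := eq_on_basicOpen a b φ₁ φ₂ h f hf U hU h₁ h₂
  let tB : VB b ⟶ Y := Over.homMk (Spec.map (CommRingCat.ofHom (C : B →+* B[X])) ≫ b) rfl
  have hone : b ≫ (atOne a φ₁).left = b ≫ (atOne a φ₂).left := by
    let P := CommRingCat.of (Localization.Away ((Polynomial.X : B[X]) * f))
    let q : CommRingCat.of B[X] ⟶ P := CommRingCat.ofHom (algebraMap _ _)
    have hXf : IsUnit (q ((Polynomial.X : B[X]) * f)) := IsLocalization.Away.algebraMap_isUnit _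
    have hXf' : IsUnit (q (Polynomial.X : B[X]) * q f) := by rw [← map_mul]; exact hXf
    have hdec : q = CommRingCat.ofHom (algebraMap B[X] (Localization.Away f)) ≫
        CommRingCat.ofHom (IsLocalization.Away.lift (S := Localization.Away f) f (isUnit_of_mul_isUnit_right hXf')) :=
      CommRingCat.hom_ext (IsLocalization.Away.lift_comp f (isUnit_of_mul_isUnit_right hXf')).symm
    have e1 : ptHom b P q ≫ sB b ≫ φ₁.1 = ptHom b P q ≫ sB b ≫ φ₂.1 := by
      apply Over.OverMorphism.ext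
      show Spec.map q ≫ _ = Spec.map q ≫ _
      rw [hdec, Spec.map_comp, Category.assoc, Category.assoc]
      exact congrArg (_ ≫ ·) (congrArg Over.Hom.left hD)
    obtain ⟨g, g', hg, hgg⟩ := exists_unit_point (ptHom b P q ≫ mB b) (by
      rw [chi_ptHom]; exact (isUnit_of_mul_isUnit_left hXf').map _)
    rw [← Category.assoc, ← Category.assoc, sB, comp_lift, ← hg] at e1
    have e2 : (ptHom b P q ≫ tB) ≫ atOne a φ₁ = (ptHom b P q ≫ tB) ≫ atOne a φ₂ := by
      rw [← atOne_eq a φ₁ g g' hgg, ← atOne_eq a φ₂ g g' hgg, e1]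
    let φ : B →+* Localization.Away ((Polynomial.X : B[X]) * f) := (algebraMap B[X] _).comp C
    haveI : Flat (Spec.map (CommRingCat.ofHom φ)) := by
      rw [Flat.SpecMap_iff]
      exact RingHom.Flat.comp (RingHom.flat_algebraMap_iff.mpr inferInstance)
        (RingHom.flat_algebraMap_iff.mpr inferInstance)
    haveI : AlgebraicGeometry.Surjective (Spec.map (CommRingCat.ofHom φ)) := ⟨fun (P₀ : PrimeSpectrum B) => by
      haveI : (P₀.asIdeal.map (C : B →+* B[X])).IsPrime := Ideal.isPrime_map_C_of_isPrime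
      let Q : PrimeSpectrum B[X] := ⟨P₀.asIdeal.map C, inferInstance⟩
      obtain ⟨z, hz⟩ := (PrimeSpectrum.localization_away_comap_range
        (Localization.Away ((Polynomial.X : B[X]) * f)) ((Polynomial.X : B[X]) * f)).ge
        (show Q ∈ (PrimeSpectrum.basicOpen ((Polynomial.X : B[X]) * f) : Set (PrimeSpectrum B[X])) from fun hQ => by
          have := Ideal.mem_map_C_iff.mp hQ 1
          rw [coeff_X_mul] at this
          exact P₀.2.ne_top (Ideal.eq_top_of_isUnit_mem _ this hf))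
      refine ⟨z, ?_⟩
      show PrimeSpectrum.comap φ z = P₀
      rw [PrimeSpectrum.comap_comp]
      show PrimeSpectrum.comap C (PrimeSpectrum.comap _ z) = P₀
      rw [hz]
      apply PrimeSpectrum.ext
      ext r
      show C r ∈ P₀.asIdeal.map C ↔ _
      rw [Ideal.mem_map_C_iff]
      exact ⟨fun hr => by simpa using hr 0, fun hr n => by rw [coeff_C]; split_ifs <;> simp [hr]⟩⟩
    haveI := Flat.epi_of_flat_of_surjective (Spec.map (CommRingCat.ofHom φ))
    rw [← cancel_epi (Spec.map (CommRingCat.ofHom φ))]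
    have e3 := congrArg Over.Hom.left e2
    change (Spec.map q ≫ Spec.map (CommRingCat.ofHom C) ≫ b) ≫ _ = (Spec.map q ≫ Spec.map (CommRingCat.ofHom C) ≫ b) ≫ _ at e3
    rw [← Category.assoc, ← Spec.map_comp] at e3
    simpa only [Category.assoc] using! e3
  have hX : ptHom b (CommRingCat.of (Localization.Away (Polynomial.X : B[X]))) (CommRingCat.ofHom (algebraMap _ _)) ≫ sB b ≫ φ₁.1 =
      ptHom b (CommRingCat.of (Localization.Away (Polynomial.X : B[X]))) (CommRingCat.ofHom (algebraMap _ _)) ≫ sB b ≫ φ₂.1 := by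
    let P := CommRingCat.of (Localization.Away (Polynomial.X : B[X]))
    let q : CommRingCat.of B[X] ⟶ P := CommRingCat.ofHom (algebraMap _ _)
    have hu : IsUnit (q (Polynomial.X : B[X])) := IsLocalization.Away.algebraMap_isUnit _
    obtain ⟨g, g', hg, -⟩ := exists_unit_point (ptHom b P q ≫ mB b) (by rw [chi_ptHom]; exact hu.map _)
    have e4 : (ptHom b P q ≫ tB) ≫ atOne a φ₁ = (ptHom b P q ≫ tB) ≫ atOne a φ₂ := by
      apply Over.OverMorphism.ext
      show (Spec.map q ≫ _ ≫ b) ≫ _ = (Spec.map q ≫ _ ≫ b) ≫ _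
      simp only [Category.assoc, hone]
    rw [← Category.assoc, ← Category.assoc, sB, comp_lift, ← hg, point_eq, point_eq]
    exact congrArg (fun z => lift g z ≫ a.act) e4
  let 𝒰 := (Scheme.affineOpenCoverOfSpanRangeEqTop (R := CommRingCat.of B[X])
    (fun i : Bool => if i then (Polynomial.X : B[X]) else f) (by
      rw [Ideal.eq_top_iff_one]
      have hm : ∀ i : Bool, (if i then (Polynomial.X : B[X]) else f) ∈
          Ideal.span (Set.range fun i : Bool => if i then (Polynomial.X : B[X]) else f) :=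
        fun i => Ideal.subset_span ⟨i, rfl⟩
      have hC : C (f.coeff 0) ∈ Ideal.span (Set.range fun i : Bool => if i then (Polynomial.X : B[X]) else f) := by
        rw [show C (f.coeff 0) = f - Polynomial.X * f.divX from eq_sub_of_add_eq' (X_mul_divX_add f)]
        exact sub_mem (hm false) (Ideal.mul_mem_right _ _ (hm true))
      exact (Ideal.eq_top_iff_one _).mp (Ideal.eq_top_of_isUnit_mem _ hC (hf.map C)))).openCover
  apply Over.OverMorphism.ext
  refine 𝒰.hom_ext _ _ (fun i => ?_)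
  cases i
  · exact congrArg Over.Hom.left hD
  · exact congrArg Over.Hom.left hX

/-- The monoid algebra of the non-negative integers is the polynomial ring. -/
theorem isIso_sW {W : Over S} (c : Spec B ≅ W.left) (j : W ⟶ Y) (hj : c.hom ≫ j.left = b) :
    ∃ σ : VB b ⟶ AMonS S Ns ⊗ W, Epi σ.left ∧ σ ≫ (AMonS S Ns ◁ j) = sB b := by
  haveI : IsAffine W.left := IsAffine.of_isIso c.inv
  let tW : VB b ⟶ W := Over.homMk (Spec.map (CommRingCat.ofHom (C : B →+* B[X])) ≫ c.hom) (by
    show (_ ≫ c.hom) ≫ W.hom = (_ ≫ b) ≫ Y.hom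
    rw [← hj, ← Over.w j]
    simp only [Category.assoc])
  refine ⟨lift (mB b) tW, ?_, ?_⟩
  · let σ := lift (mB b) tW
    let e := Scheme.ΓSpecIso (CommRingCat.of B[X])
    let eB : RR W →+* B := (c.hom.appTop ≫ (Scheme.ΓSpecIso B).hom).hom
    haveI : IsIso c.hom.appTop := inferInstanceAs (IsIso (c.hom.app ⊤))
    have heB : Function.Bijective eB := ConcreteCategory.bijective_of_isIso (c.hom.appTop ≫ (Scheme.ΓSpecIso B).hom)
    let Φ : MonoidAlgebra (RR W) (Multiplicative Ns) →+* B[X] :=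
      MonoidAlgebra.liftNCRingHom (C.comp eB) (powHom (Polynomial.X : B[X])) (fun _ _ => Commute.all _ _)
    have hΦ : ∀ k r, Φ (MonoidAlgebra.single k r) = C (eB r) * Polynomial.X ^ deg k :=
      fun k r => MonoidAlgebra.liftNC_single _ _ _ _
    have hbij : Function.Bijective Φ := by
      let ei : B →+* RR W := (RingEquiv.ofBijective eB heB).symm.toRingHom
      let Ψ : B[X] →+* MonoidAlgebra (RR W) (Multiplicative Ns) :=
        eval₂RingHom (MonoidAlgebra.singleOneRingHom.comp ei) (MonoidAlgebra.single gen 1)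
      refine Function.bijective_iff_has_inverse.mpr ⟨Ψ, fun z => ?_, fun z => ?_⟩
      · refine RingHom.congr_fun (?_ : Ψ.comp Φ = RingHom.id _) z
        refine MonoidAlgebra.ringHom_ext (fun r => ?_) (fun k => ?_)
        · rw [RingHom.comp_apply, hΦ, show deg (1 : Multiplicative Ns) = 0 from rfl, pow_zero, _root_.mul_one]
          show eval₂ _ _ (C (eB r)) = _
          rw [eval₂_C]
          exact congrArg (MonoidAlgebra.single 1) ((RingEquiv.ofBijective eB heB).symm_apply_apply r)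
        · rw [RingHom.comp_apply, hΦ, map_one eB, map_one C, _root_.one_mul, map_pow]
          show eval₂ _ _ Polynomial.X ^ _ = _
          rw [eval₂_X, MonoidAlgebra.single_pow, one_pow, gen_pow_deg]
          rfl
      · refine RingHom.congr_fun (?_ : Φ.comp Ψ = RingHom.id _) z
        refine Polynomial.ringHom_ext (fun r => ?_) ?_
        · show Φ (eval₂ _ _ (C r)) = C r
          rw [eval₂_C]
          show Φ (MonoidAlgebra.single 1 _) = _
          rw [hΦ, show deg (1 : Multiplicative Ns) = 0 from rfl, pow_zero, _root_.mul_one]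
          exact congrArg C ((RingEquiv.ofBijective eB heB).apply_symm_apply r)
        · show Φ (eval₂ _ _ Polynomial.X) = Polynomial.X
          rw [eval₂_X, hΦ, map_one eB, map_one C, _root_.one_mul]
          exact pow_one _
    have hσ : σ.left.appTop.hom.comp (theta (↥Ns) W) = e.inv.hom.comp Φ := by
      refine MonoidAlgebra.ringHom_ext (fun r => ?_) (fun k => ?_)
      · rw [RingHom.comp_apply, RingHom.comp_apply, theta_single, map_one, _root_.mul_one, hΦ,
          show deg (1 : Multiplicative Ns) = 0 from rfl, pow_zero, _root_.mul_one]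
        show (σ ≫ snd _ _).left.appTop r = _
        rw [lift_snd]
        show (Spec.map (CommRingCat.ofHom C) ≫ c.hom).appTop r = _
        rw [Scheme.Hom.comp_appTop]
        show (Spec.map (CommRingCat.ofHom C)).appTop (c.hom.appTop r) = e.inv (C ((Scheme.ΓSpecIso B).hom (c.hom.appTop r)))
        refine Eq.trans ?_ (ConcreteCategory.congr_hom (Scheme.ΓSpecIso_inv_naturality (CommRingCat.ofHom (C : B →+* B[X]))) _).symm
        refine congrArg (Spec.map (CommRingCat.ofHom C)).appTop ?_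
        exact (ConcreteCategory.congr_hom (Scheme.ΓSpecIso B).hom_inv_id _).symm
      · rw [RingHom.comp_apply, RingHom.comp_apply, theta_single, map_one, _root_.one_mul, hΦ, map_one eB, map_one C,
          _root_.one_mul]
        erw [← chi_comp σ (fst _ W)]
        rw [lift_fst]
        exact chi_mB b k
    have hb : Function.Bijective σ.left.appTop.hom := by
      refine (Function.Bijective.of_comp_iff _ (theta_iso (↥Ns) W).2).mp ?_
      rw [show σ.left.appTop.hom ∘ theta (↥Ns) W = e.inv.hom ∘ Φ from congrArg DFunLike.coe hσ]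
      exact (ConcreteCategory.bijective_of_isIso e.inv).comp hbij
    haveI : IsIso σ.left.appTop := (ConcreteCategory.isIso_iff_bijective _).mpr hb
    haveI : IsAffine (VB b).left := inferInstanceAs (IsAffine (Spec _))
    have he : σ.left = (VB b).left.isoSpec.hom ≫ Spec.map σ.left.appTop ≫ (AMonS S Ns ⊗ W).left.isoSpec.inv := by
      rw [Scheme.isoSpec_hom, ← Scheme.toSpecΓ_naturality_assoc]
      exact ((congrArg (σ.left ≫ ·) (AMonS S Ns ⊗ W).left.isoSpec.hom_inv_id).trans (Category.comp_id _)).symm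
    change Epi σ.left
    rw [he]
    infer_instance
  · rw [sB, lift_whiskerLeft]
    congr 1
    exact Over.OverMorphism.ext (by simp [tW, hj])

end Core

theorem ext_of_nilp (φ₁ φ₂ : (attr a Ns).obj (op Y))
    (h : ∀ (T : Over S) (m : T ⟶ AMonS S Ns) (t : T ⟶ Y), (∃ n : ℕ, ∀ m', m ^ (n + 1) * m' = m ^ (n + 1)) →
      lift m t ≫ φ₁.1 = lift m t ≫ φ₂.1) : φ₁ = φ₂ := by
  have key : ∀ y : Y.left, ∃ (B : CommRingCat.{u}) (b : Spec B ⟶ Y.left),
      IsOpenImmersion b ∧ y ∈ Set.range b ∧ sB b ≫ φ₁.1 = sB b ≫ φ₂.1 := by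
    intro y
    obtain ⟨V, hV, hyV, -⟩ := exists_isAffineOpen_mem_and_subset (x := y) (U := (⊤ : Y.left.Opens)) trivial
    let B : CommRingCat.{u} := Γ(Y.left, V)
    let b : Spec B ⟶ Y.left := hV.fromSpec
    obtain ⟨pB, hpB⟩ : y ∈ Set.range b := by rw [hV.range_fromSpec]; exact hyV
    let ev : CommRingCat.of (Polynomial B) ⟶ B := CommRingCat.ofHom (Polynomial.evalRingHom 0)
    let p0 : Spec (CommRingCat.of (Polynomial B)) := Spec.map ev pB
    have e0 := congrArg (fun g : pt b B ev ⟶ X => g.left pB) (eq_of_nilp a b φ₁ φ₂ h B ev 0 (by simp [ev]))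
    change (sB b ≫ φ₁.1).left p0 = (sB b ≫ φ₂.1).left p0 at e0
    obtain ⟨U, hU, hxU, -⟩ := exists_isAffineOpen_mem_and_subset (x := (sB b ≫ φ₁.1).left p0) (U := (⊤ : X.left.Opens)) trivial
    obtain ⟨_, ⟨f, rfl⟩, hpf, hsub⟩ := PrimeSpectrum.isTopologicalBasis_basic_opens.exists_subset_of_mem_open
      (show p0 ∈ (sB b ≫ φ₁.1).left ⁻¹' (U : Set X.left) ∩ (sB b ≫ φ₂.1).left ⁻¹' (U : Set X.left) from
        ⟨hxU, show (sB b ≫ φ₂.1).left p0 ∈ U by rw [← e0]; exact hxU⟩)
      ((U.isOpen.preimage (Scheme.Hom.continuous _)).inter (U.isOpen.preimage (Scheme.Hom.continuous _)))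
    let P₀ : PrimeSpectrum B := pB
    have hf0 : (f.coeff 0 : B) ∉ P₀.asIdeal := fun hm => hpf (by
      show f.eval 0 ∈ P₀.asIdeal
      rwa [← Polynomial.coeff_zero_eq_eval_zero])
    let B' : CommRingCat.{u} := CommRingCat.of (Localization.Away (f.coeff 0))
    let r : B →+* Localization.Away (f.coeff 0) := algebraMap B (Localization.Away (f.coeff 0))
    let ρ : Spec B' ⟶ Spec B := Spec.map (CommRingCat.ofHom r)
    let b' : Spec B' ⟶ Y.left := ρ ≫ b
    let R : CommRingCat.of (Polynomial B) ⟶ CommRingCat.of (Polynomial (Localization.Away (f.coeff 0))) :=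
      CommRingCat.ofHom (Polynomial.mapRingHom r)
    have hC : (Spec.map R ≫ Spec.map (CommRingCat.ofHom (Polynomial.C : B →+* Polynomial B))) =
        Spec.map (CommRingCat.ofHom (Polynomial.C : Localization.Away (f.coeff 0) →+* _)) ≫ ρ := by
      rw [← Spec.map_comp, ← Spec.map_comp]
      congr 1
      exact CommRingCat.hom_ext (RingHom.ext fun x => Polynomial.map_C r)
    let χ : VB b' ⟶ VB b := Over.homMk (Spec.map R) (by
      show Spec.map R ≫ (_ ≫ b) ≫ Y.hom = (_ ≫ ρ ≫ b) ≫ Y.hom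
      simp only [← Category.assoc]
      rw [hC])
    have hχ : χ ≫ sB b = sB b' := by
      rw [sB, sB, comp_lift]
      congr 1
      · refine chi_injective (MonoidHom.ext fun k => ?_)
        rw [eq_powHom (chi (χ ≫ mB b)), eq_powHom (chi (mB b'))]
        congr 2
        rw [chi_comp, chi_mB, chi_mB, powHom_gen, powHom_gen]
        refine ((ConcreteCategory.congr_hom (Scheme.ΓSpecIso_inv_naturality R) (Polynomial.X : Polynomial B)).symm).trans ?_
        exact congrArg (Scheme.ΓSpecIso _).inv (Polynomial.map_X r)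
      · apply Over.OverMorphism.ext
        show Spec.map R ≫ _ ≫ b = _ ≫ ρ ≫ b
        simp only [← Category.assoc]
        rw [hC]
    haveI : IsOpenImmersion b := inferInstanceAs (IsOpenImmersion hV.fromSpec)
    haveI : IsOpenImmersion ρ := IsOpenImmersion.of_isLocalization (f.coeff 0)
    refine ⟨B', b', inferInstance, ?_, eq_sB a b' φ₁ φ₂ h (f.map r) ?_ U hU ?_ ?_⟩
    · obtain ⟨z, hz⟩ := (PrimeSpectrum.localization_away_comap_range (Localization.Away (f.coeff 0)) (f.coeff 0)).ge hf0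
      refine ⟨z, ?_⟩
      show b (ρ z) = y
      rw [show ρ z = pB from hz, hpB]
    · rw [Polynomial.coeff_map]
      exact IsLocalization.Away.algebraMap_isUnit _
    · intro z hz
      show (sB b' ≫ φ₁.1).left z ∈ U
      rw [← hχ, Category.assoc]
      exact (hsub (a := Spec.map R z) hz).1
    · intro z hz
      show (sB b' ≫ φ₂.1).left z ∈ U
      rw [← hχ, Category.assoc]
      exact (hsub (a := Spec.map R z) hz).2
  choose B b hb hby hs using key
  let 𝒰 : Y.left.OpenCover := Scheme.Cover.mkOfCovers Y.left (fun y => Spec (B y)) b (fun y => ⟨y, hby y⟩) hb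
  refine Subtype.ext (Over.OverMorphism.ext (Scheme.Cover.hom_ext (𝒰.pullback₁ (snd (AMonS S Ns) Y).left) _ _ fun y => ?_))
  let W : Over S := Over.mk (b y ≫ Y.hom)
  let j : W ⟶ Y := Over.homMk (b y) rfl
  obtain ⟨σ, hσ, hσj⟩ := isIso_sW (b y) (Iso.refl _) j (Category.id_comp _)
  have hW : (AMonS S Ns ◁ j) ≫ φ₁.1 = (AMonS S Ns ◁ j) ≫ φ₂.1 := by
    apply Over.OverMorphism.ext
    rw [← cancel_epi σ.left, ← Over.comp_left, ← Over.comp_left, reassoc_of% hσj, reassoc_of% hσj, hs y]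
  let P : Over S := Over.mk (Limits.pullback.fst (snd (AMonS S Ns) Y).left (b y) ≫ (AMonS S Ns ⊗ Y).hom)
  let p₁ : P ⟶ AMonS S Ns ⊗ Y := Over.homMk (Limits.pullback.fst _ _) rfl
  let p₂ : P ⟶ W := Over.homMk (Limits.pullback.snd _ _) (by
    show _ ≫ b y ≫ Y.hom = _
    rw [← Limits.pullback.condition_assoc, Over.w (snd (AMonS S Ns) Y)]
    rfl)
  have hp : lift (p₁ ≫ fst _ _) p₂ ≫ (AMonS S Ns ◁ j) = p₁ := by
    apply CartesianMonoidalCategory.hom_ext
    · rw [Category.assoc, whiskerLeft_fst, lift_fst]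
    · rw [Category.assoc, whiskerLeft_snd, lift_snd_assoc]
      exact Over.OverMorphism.ext Limits.pullback.condition.symm
  show (p₁ ≫ φ₁.1).left = (p₁ ≫ φ₂.1).left
  rw [← hp, Category.assoc, Category.assoc, hW]

end Groth.Agent.H28.AttrNil
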