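import Groth.Agent.H28.StableFace

/-! Attractors of stable open subschemes are open in attractors. -/

universe u

open CategoryTheory CategoryTheory.Limits MonoidalCategory CartesianMonoidalCategory MonObj AlgebraicGeometry
open Opposite Magnet

namespace Groth.Agent.H28.AttrOpen

variable {S : Scheme.{u}}

theorem isOpenImmersion_of_representable {A B X Y : Over S} [MonObj A] {ρ : MonAct A B} {aX : MonAct A X}
    {aY : MonAct A Y} (f : X ⟶ Y) [IsOpenImmersion f.left] (hf : MonAct.IsEquivariant aX aY f)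
    {e : 𝟙_ (Over S) ⟶ B} (he : StableOpen.StablePt ρ e) {ZX ZY : Over S}
    (eX : (MonAct.eqvHom ρ aX).RepresentableBy ZX) (eY : (MonAct.eqvHom ρ aY).RepresentableBy ZY)
    (j : ZX ⟶ ZY) (hj : ∀ (T : Over S) (z : T ⟶ ZX),
      eY.homEquiv (z ≫ j) = (MonAct.eqvHom.postcomp ρ f hf).app (op T) (eX.homEquiv z)) :
    IsOpenImmersion j.left := by
  let rX : ZX ⟶ X := (MonAct.eqvHom.evalAt ρ aX e).app (op ZX) (eX.homEquiv (𝟙 ZX))
  let rY : ZY ⟶ Y := (MonAct.eqvHom.evalAt ρ aY e).app (op ZY) (eY.homEquiv (𝟙 ZY))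
  have hr : ∀ {A' Z : Over S} {aA : MonAct A A'} (eA : (MonAct.eqvHom ρ aA).RepresentableBy Z) {T : Over S} (z : T ⟶ Z),
      z ≫ (MonAct.eqvHom.evalAt ρ aA e).app (op Z) (eA.homEquiv (𝟙 Z)) =
        (MonAct.eqvHom.evalAt ρ aA e).app (op T) (eA.homEquiv z) := by
    intro A' Z aA eA T z
    rw [show eA.homEquiv z = (MonAct.eqvHom ρ aA).map z.op (eA.homEquiv (𝟙 Z)) from by
      rw [← eA.homEquiv_comp, Category.comp_id]]
    exact (ConcreteCategory.congr_hom ((MonAct.eqvHom.evalAt ρ aA e).naturality z.op) (eA.homEquiv (𝟙 Z))).symm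
  have hP : IsPullback (yoneda.map j) (yoneda.map rX) (yoneda.map rY) (yoneda.map f) := by
    refine (StableOpen.isPullback f hf he).of_iso (eX.toIso).symm (eY.toIso).symm (Iso.refl _) (Iso.refl _) ?_ ?_ ?_ ?_
    · refine (Iso.eq_inv_comp _).mpr ?_
      ext T z
      show eY.toIso.inv.app T ((MonAct.eqvHom.postcomp ρ f hf).app (op (unop T)) (eX.homEquiv z)) = z ≫ j
      exact (eY.homEquiv.symm_apply_eq).mpr (hj (unop T) z).symm
    · refine (Iso.eq_inv_comp _).mpr ?_
      ext T z
      show (MonAct.eqvHom.evalAt ρ aX e).app (op (unop T)) (eX.homEquiv z) = z ≫ rX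
      exact (hr eX z).symm
    · refine (Iso.eq_inv_comp _).mpr ?_
      ext T z
      show (MonAct.eqvHom.evalAt ρ aY e).app (op (unop T)) (eY.homEquiv z) = z ≫ rY
      exact (hr eY z).symm
    · simp
  have h : IsPullback j.left rX.left rY.left f.left :=
    (IsPullback.of_map yoneda (yoneda.map_injective (by rw [Functor.map_comp, Functor.map_comp]; exact hP.w)) hP).map (Over.forget S)
  exact MorphismProperty.of_isPullback h.flip inferInstance

end Groth.Agent.H28.AttrOpen
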