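import Groth.Agent.H28.ClosedDesc
import Groth.Prelude.Def_Magnet3
import Mathlib.CategoryTheory.Limits.Types.Pullbacks

/-! Fixed points descend along fixed-point reflecting flat surjections. -/

universe u

open CategoryTheory CategoryTheory.Limits MonoidalCategory CartesianMonoidalCategory MonObj AlgebraicGeometry
open Opposite Magnet

namespace Groth.Agent.H28.FixedDesc

variable {S : Scheme.{u}} {A X U : Over S} [MonObj A]

/-- `x` is fixed. -/
def IsFixed (a : MonAct A X) {T : Over S} (x : T ⟶ X) : Prop :=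
  ∀ (T' : Over S) (t : T' ⟶ T) (g : T' ⟶ A), lift g (t ≫ x) ≫ a.act = t ≫ x

theorem IsFixed.comp {a : MonAct A X} {T T' : Over S} {x : T ⟶ X} (h : IsFixed a x) (t : T' ⟶ T) : IsFixed a (t ≫ x) :=
  fun T'' t' g => by rw [← Category.assoc]; exact h T'' (t' ≫ t) g

theorem IsFixed.of_eq {a : MonAct A X} {T T' : Over S} {x : T ⟶ X} {x' : T' ⟶ X} (h : IsFixed a x) (u : T' ⟶ T)
    (hu : u ≫ x = x') : IsFixed a x' := hu ▸ h.comp u

theorem isFixed_desc {a : MonAct A X} {T T' : Over S} (p : T' ⟶ T) [Flat p.left] [Surjective p.left]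
    [QuasiCompact p.left] (x : T ⟶ X) (h : IsFixed a (p ≫ x)) : IsFixed a x := by
  intro V t g
  let W : Over S := Over.mk (Limits.pullback.fst t.left p.left ≫ V.hom)
  let q : W ⟶ V := Over.homMk (Limits.pullback.fst _ _) rfl
  let t' : W ⟶ T' := Over.homMk (Limits.pullback.snd _ _) (by
    show _ = Limits.pullback.fst _ _ ≫ _
    rw [← Over.w p, ← Category.assoc, ← pullback.condition, Category.assoc, Over.w t])
  have hq : t' ≫ p = q ≫ t := Over.OverMorphism.ext pullback.condition.symm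
  apply Over.OverMorphism.ext
  haveI : Flat q.left := inferInstanceAs (Flat (Limits.pullback.fst t.left p.left))
  haveI : Surjective q.left := inferInstanceAs (Surjective (Limits.pullback.fst t.left p.left))
  haveI : QuasiCompact q.left := inferInstanceAs (QuasiCompact (Limits.pullback.fst t.left p.left))
  rw [← cancel_epi q.left, ← Over.comp_left, ← Over.comp_left]
  congr 1
  rw [comp_lift_assoc, ← Category.assoc q t x, ← hq, Category.assoc]
  exact h W t' (q ≫ g)

variable (aX : MonAct A X) (aU : MonAct A U)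

theorem exists_representableBy (f : U ⟶ X) [Flat f.left] [LocallyOfFinitePresentation f.left] [Surjective f.left]
    (hf : MonAct.IsEquivariant aU aX f)
    (hfpr : IsPullback (MonAct.fixedPsh.map f hf) (MonAct.fixedPshι aU) (MonAct.fixedPshι aX) (yoneda.map f))
    (hU : ∃ (W' : Over S) (i' : W' ⟶ U) (e' : (MonAct.fixedPsh aU).RepresentableBy W'),
      IsClosedImmersion i'.left ∧ ∀ (T : Over S) (w : T ⟶ W'), (MonAct.fixedPshι aU).app (op T) (e'.homEquiv w) = w ≫ i') :
    ∃ (W : Over S) (i : W ⟶ X) (e : (MonAct.fixedPsh aX).RepresentableBy W),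
      IsClosedImmersion i.left ∧ ∀ (T : Over S) (w : T ⟶ W), (MonAct.fixedPshι aX).app (op T) (e.homEquiv w) = w ≫ i := by
  obtain ⟨W', i', e', hcl, he'⟩ := hU
  haveI := hcl
  let P : ∀ {T : Scheme.{u}}, (T ⟶ X.left) → Prop := fun {T} x =>
    IsFixed aX (Over.homMk x rfl : Over.mk (x ≫ X.hom) ⟶ X)
  have hP : ∀ {T : Over S} (x : T ⟶ X), IsFixed aX x ↔ P x.left := fun {T} x =>
    ⟨fun h => h.of_eq (Over.homMk (𝟙 _) ((Category.id_comp _).trans (Over.w x).symm)) (Over.OverMorphism.ext (Category.id_comp _)),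
      fun h => h.of_eq (Over.homMk (𝟙 _) ((Category.id_comp _).trans (Over.w x))) (Over.OverMorphism.ext (Category.id_comp _))⟩
  have hcomp : ∀ {T T' : Scheme.{u}} (v : T' ⟶ T) (x : T ⟶ X.left), P x → P (v ≫ x) := fun v x h =>
    h.of_eq (Over.homMk v (Category.assoc _ _ _).symm) (Over.OverMorphism.ext rfl)
  have hdesc : ∀ {T T' : Scheme.{u}} (p : T' ⟶ T) [Flat p] [Surjective p] [QuasiCompact p] (x : T ⟶ X.left),
      P (p ≫ x) → P x := by
    intro T T' p _ _ _ x h
    let p' : Over.mk ((p ≫ x) ≫ X.hom) ⟶ Over.mk (x ≫ X.hom) := Over.homMk p (Category.assoc _ _ _).symm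
    haveI : Flat p'.left := ‹_›
    haveI : Surjective p'.left := ‹_›
    haveI : QuasiCompact p'.left := ‹_›
    exact isFixed_desc p' _ (h.of_eq (𝟙 _) (by rw [Category.id_comp]; rfl))
  have hU' : ∀ {T : Over S} (v : T ⟶ U), IsFixed aX (v ≫ f) ↔ ∃ z, z ≫ i' = v := by
    intro T v
    constructor
    · intro h
      obtain ⟨-, -, hex⟩ := (Types.isPullback_iff _ _ _ _).mp (hfpr.app (op T))
      obtain ⟨φ, -, hφ⟩ := hex ⟨v ≫ f, h⟩ v rfl
      exact ⟨e'.homEquiv.symm φ, by rw [← he', Equiv.apply_symm_apply]; exact hφ⟩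
    · rintro ⟨z, rfl⟩
      rw [← he']
      exact ((MonAct.fixedPsh.map f hf).app (op T) (e'.homEquiv z)).2
  have hi' : ∀ {T : Scheme.{u}} (v : T ⟶ U.left), P (v ≫ f.left) ↔ ∃ z, z ≫ i'.left = v := by
    intro T v
    let vo : Over.mk (v ≫ U.hom) ⟶ U := Over.homMk v rfl
    rw [show P (v ≫ f.left) ↔ IsFixed aX (vo ≫ f) from (hP (vo ≫ f)).symm, hU']
    constructor
    · rintro ⟨z, hz⟩
      exact ⟨z.left, congrArg Over.Hom.left hz⟩
    · rintro ⟨z, hz⟩
      exact ⟨Over.homMk z (by show z ≫ W'.hom = v ≫ U.hom; rw [← hz, Category.assoc, Over.w i']), Over.OverMorphism.ext hz⟩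
  have hloc : ∀ {T : Scheme.{u}} (x : T ⟶ X.left) (𝒱 : Scheme.OpenCover.{u} T), (∀ i, P (𝒱.f i ≫ x)) → P x := by
    intro T x 𝒱 h V t g
    apply Over.OverMorphism.ext
    refine Scheme.Cover.hom_ext (𝒱.pullback₁ t.left) _ _ fun i => ?_
    let W : Over S := Over.mk ((𝒱.pullback₁ t.left).f i ≫ V.hom)
    let q : W ⟶ V := Over.homMk ((𝒱.pullback₁ t.left).f i) rfl
    let t' : W ⟶ Over.mk ((𝒱.f i ≫ x) ≫ X.hom) := Over.homMk (Limits.pullback.snd t.left (𝒱.f i)) (by
      show _ ≫ (𝒱.f i ≫ x) ≫ X.hom = Limits.pullback.fst _ _ ≫ V.hom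
      rw [Category.assoc, ← pullback.condition_assoc]
      exact congrArg (Limits.pullback.fst _ _ ≫ ·) (Over.w t))
    have h' := congrArg Over.Hom.left (h i W t' (q ≫ g))
    have e : t' ≫ (Over.homMk (𝒱.f i ≫ x) rfl : Over.mk ((𝒱.f i ≫ x) ≫ X.hom) ⟶ X) = q ≫ t ≫ Over.homMk x rfl :=
      Over.OverMorphism.ext (by
        show Limits.pullback.snd _ _ ≫ 𝒱.f i ≫ x = Limits.pullback.fst _ _ ≫ t.left ≫ x
        rw [pullback.condition_assoc])
    rw [e, ← comp_lift_assoc] at h'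
    exact h'
  obtain ⟨Z, i, hi, hPi⟩ := ClosedSub.exists_closed P hcomp hloc
    (ClosedDesc.exists_ideal f.left P i'.left hi' hcomp hdesc)
  haveI := hi
  let Wo : Over S := Over.mk (i ≫ X.hom)
  let io : Wo ⟶ X := Over.homMk i rfl
  haveI : Mono io := (Over.forget S).mono_of_mono_map (inferInstanceAs (Mono i))
  have hfac : ∀ {T : Over S} (x : T ⟶ X), IsFixed aX x ↔ ∃ w : T ⟶ Wo, w ≫ io = x := by
    intro T x
    rw [hP, hPi]
    constructor
    · rintro ⟨z, hz⟩
      exact ⟨Over.homMk z (by show z ≫ i ≫ X.hom = _; rw [← Category.assoc, hz, Over.w x]), Over.OverMorphism.ext hz⟩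
    · rintro ⟨w, rfl⟩
      exact ⟨w.left, rfl⟩
  choose G hG using fun (T : Over S) (φ : (MonAct.fixedPsh aX).obj (op T)) => (hfac φ.1).mp φ.2
  refine ⟨Wo, io,
    { homEquiv := fun {T} =>
        { toFun := fun w => ⟨w ≫ io, (hfac _).mpr ⟨w, rfl⟩⟩
          invFun := fun φ => G T φ
          left_inv := fun w => (cancel_mono io).mp (hG T _)
          right_inv := fun φ => Subtype.ext (hG T φ) }
      homEquiv_comp := fun t w => Subtype.ext (Category.assoc _ _ _) }, hi, fun T w => rfl⟩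

end Groth.Agent.H28.FixedDesc
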