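import Groth.Agent.H28.MagnetCrit
import Mathlib.AlgebraicGeometry.IdealSheaf.Subscheme

/-! Attractors of schemes affine over the base are closed subschemes. -/

universe u

open CategoryTheory CategoryTheory.Limits MonoidalCategory CartesianMonoidalCategory MonObj AlgebraicGeometry
open Opposite Magnet

namespace Groth.Agent.H28.MagnetAff

variable {S : Scheme.{u}} {M : Type} [AddCommMonoid M] (N : AddSubmonoid M) {X : Over S} (a : MonAct (AMonS S M) X)

theorem InAttr.eq [IsSeparated X.hom] {T : Over S} {x : T ⟶ X} {φ φ' : (attr a N).obj (op T)}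
    (h : (attrToX a N).app (op T) φ = x) (h' : (attrToX a N).app (op T) φ' = x) : φ = φ' :=
  MagnetLib.attrToX_injective a N T (h.trans h'.symm)

theorem inAttr_of_cover [IsSeparated X.hom] {T : Over S} (x : T ⟶ X) (𝒱 : T.left.OpenCover)
    (h : ∀ i, InAttr N a ((Over.homMk (𝒱.f i) rfl : Over.mk (𝒱.f i ≫ T.hom) ⟶ T) ≫ x)) : InAttr N a x := by
  let P := AMonS S N
  let Wi : 𝒱.I₀ → Over S := fun i => Over.mk (𝒱.f i ≫ T.hom)
  let u : ∀ i, Wi i ⟶ T := fun i => Over.homMk (𝒱.f i) rfl
  choose φ hφ using h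
  let k : ∀ i, P ⊗ Wi i ⟶ X := fun i => (φ i).1
  let 𝒰 := Scheme.Pullback.openCoverOfRight 𝒱 P.hom T.hom
  have hu : ∀ i, (P ◁ u i).left = 𝒰.f i := fun i => by
    apply pullback.hom_ext
    · erw [Over.whiskerLeft_left_fst (u i)]
    · erw [Over.whiskerLeft_left_snd (u i)]
  have hc : ∀ i j, pullback.fst (P ◁ u i).left (P ◁ u j).left ≫ (k i).left =
      pullback.snd (P ◁ u i).left (P ◁ u j).left ≫ (k j).left := by
    intro i j
    let V : Over S := Over.mk (pullback.fst (P ◁ u i).left (P ◁ u j).left ≫ (P ⊗ Wi i).hom)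
    let p : V ⟶ P ⊗ Wi i := Over.homMk (pullback.fst _ _) rfl
    let q : V ⟶ P ⊗ Wi j := Over.homMk (pullback.snd _ _) (by
      show _ = pullback.fst _ _ ≫ _
      rw [← Over.w (P ◁ u j), ← Over.w (P ◁ u i), ← Category.assoc, ← Category.assoc, pullback.condition])
    have hpq : p ≫ (P ◁ u i) = q ≫ (P ◁ u j) := Over.OverMorphism.ext pullback.condition
    have hfst : p ≫ fst _ _ = q ≫ fst _ _ := by
      have := congrArg (· ≫ fst _ _) hpq
      simpa using this
    let D : Over S := Over.mk ((pullback.fst (u i).left (u j).left) ≫ (Wi i).hom)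
    let d₁ : D ⟶ Wi i := Over.homMk (pullback.fst _ _) rfl
    let d₂ : D ⟶ Wi j := Over.homMk (pullback.snd _ _) (by
      show _ = pullback.fst _ _ ≫ _
      rw [← Over.w (u j), ← Over.w (u i), ← Category.assoc, ← Category.assoc, pullback.condition])
    have hd : d₁ ≫ u i = d₂ ≫ u j := Over.OverMorphism.ext pullback.condition
    have hD : (P ◁ d₁) ≫ k i = (P ◁ d₂) ≫ k j := by
      have h1 : (attrToX a N).app (op D) ((attr a N).map d₁.op (φ i)) = d₁ ≫ u i ≫ x := by
        exact (ConcreteCategory.congr_hom ((attrToX a N).naturality d₁.op) (φ i)).trans (congrArg (d₁ ≫ ·) (hφ i))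
      have h2 : (attrToX a N).app (op D) ((attr a N).map d₂.op (φ j)) = d₂ ≫ u j ≫ x := by
        exact (ConcreteCategory.congr_hom ((attrToX a N).naturality d₂.op) (φ j)).trans (congrArg (d₂ ≫ ·) (hφ j))
      rw [← Category.assoc, hd, Category.assoc] at h1
      exact congrArg Subtype.val (InAttr.eq N a h1 h2)
    let w : V ⟶ D := Over.homMk (pullback.lift (p ≫ snd _ _).left (q ≫ snd _ _).left (by
      have h0 : (p ≫ snd _ _) ≫ u i = (q ≫ snd _ _) ≫ u j := by
        have h1 : (p ≫ (P ◁ u i)) ≫ snd _ _ = (q ≫ (P ◁ u j)) ≫ snd _ _ := by rw [hpq]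
        simpa using h1
      exact congrArg Over.Hom.left h0)) (by
      show pullback.lift _ _ _ ≫ pullback.fst _ _ ≫ _ = _
      rw [pullback.lift_fst_assoc]
      exact Over.w (p ≫ snd _ _))
    have hp : p = lift (p ≫ fst _ _) w ≫ (P ◁ d₁) := by
      rw [lift_whiskerLeft, show w ≫ d₁ = p ≫ snd _ _ from Over.OverMorphism.ext (pullback.lift_fst _ _ _), lift_comp_fst_snd]
    have hq : q = lift (p ≫ fst _ _) w ≫ (P ◁ d₂) := by
      rw [lift_whiskerLeft, show w ≫ d₂ = q ≫ snd _ _ from Over.OverMorphism.ext (pullback.lift_snd _ _ _), hfst, lift_comp_fst_snd]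
    have : p ≫ k i = q ≫ k j := by rw [hp, hq, Category.assoc, Category.assoc, hD]
    exact congrArg Over.Hom.left this
  let kk : (P ⊗ T).left ⟶ X.left := Scheme.Cover.glueMorphisms 𝒰 (fun i => (k i).left) (fun i j => by
    have := hc i j
    revert this
    generalize (P ◁ u i).left = f1, hu i = e1, (P ◁ u j).left = f2, hu j = e2
    subst e1; subst e2
    exact id)
  have hkk : ∀ i, (P ◁ u i).left ≫ kk = (k i).left := fun i => by
    rw [hu]
    exact Scheme.Cover.ι_glueMorphisms 𝒰 _ _ i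
  let φ₀ : P ⊗ T ⟶ X := Over.homMk kk (𝒰.hom_ext _ _ fun i => by
    refine (congrArg (· ≫ kk ≫ X.hom) (hu i).symm).trans ?_
    refine ((Category.assoc _ _ _).symm.trans (congrArg (· ≫ X.hom) (hkk i))).trans ?_
    exact ((Over.w (k i)).trans (Over.w (P ◁ u i)).symm).trans (congrArg (· ≫ (P ⊗ T).hom) (hu i)))
  have h0 : ∀ i, (P ◁ u i) ≫ φ₀ = k i := fun i => Over.OverMorphism.ext (hkk i)
  rw [inAttr_iff]
  refine ⟨φ₀, ?_⟩
  apply Over.OverMorphism.ext
  refine (Scheme.Pullback.openCoverOfRight 𝒱 (AMonS S M).hom T.hom).hom_ext _ _ fun i => ?_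
  have hu' : (AMonS S M ◁ u i).left = (Scheme.Pullback.openCoverOfRight 𝒱 (AMonS S M).hom T.hom).f i := by
    apply pullback.hom_ext
    · erw [Over.whiskerLeft_left_fst (u i)]
    · erw [Over.whiskerLeft_left_snd (u i)]
  rw [← hu']
  refine congrArg Over.Hom.left (?_ : (AMonS S M ◁ u i) ≫ _ = (AMonS S M ◁ u i) ≫ _)
  rw [whisker_exchange_assoc, h0, ← MonoidalCategory.whiskerLeft_comp_assoc, ← hφ i]
  exact orbit_of_attr N a (φ i)

/-! ### The ideal sheaf -/

variable [IsAffineHom X.hom]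

/-- An affine open of `X` as an `S`-scheme. -/
noncomputable abbrev opn (U : X.left.affineOpens) : Over S := Over.mk (U.1.ι ≫ X.hom)

instance (U : X.left.affineOpens) : IsAffine (opn (X := X) U).left := U.2

/-- Its inclusion. -/
noncomputable abbrev opnι (U : X.left.affineOpens) : opn (X := X) U ⟶ X := Over.homMk U.1.ι rfl

/-- The coefficient ideal. -/
noncomputable def raw (U : X.left.affineOpens) : Ideal (RR (opn (X := X) U)) :=
  Ideal.span {r | ∃ b, ∃ m ∉ N, (delta a (opn U) (opnι U) b).coeff (Multiplicative.ofAdd m) = r}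

/-- The ideal on an affine open. -/
noncomputable def idealAt (U : X.left.affineOpens) : Ideal Γ(X.left, U.1) :=
  (raw N a U).comap (U.1.ι.appLE U.1 ⊤ (by simp)).hom

omit [IsAffineHom X.hom] in
theorem bijective_eqToHom {A B : CommRingCat.{u}} (h : A = B) : Function.Bijective (eqToHom h).hom := by
  subst h
  exact Function.bijective_id

omit [IsAffineHom X.hom] in
theorem ι_appLE_bijective {Y : Scheme.{u}} (W : Y.Opens) (e : (⊤ : W.toScheme.Opens) ≤ W.ι ⁻¹ᵁ W) :
    Function.Bijective (W.ι.appLE W ⊤ e).hom := by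
  rw [Scheme.Opens.ι_appLE]
  have h : W.ι ''ᵁ (⊤ : W.toScheme.Opens) = W := by simp
  rw [Subsingleton.elim (homOfLE (x := W.ι ''ᵁ ⊤) _) (eqToHom h), eqToHom_op, eqToHom_map]
  exact bijective_eqToHom _

theorem inAttr_iff_map_le {T : Over S} [IsAffine T.left] (x : T ⟶ X) (U : X.left.affineOpens)
    (e : ⊤ ≤ x.left ⁻¹ᵁ U.1) :
    InAttr N a x ↔ idealAt N a U ≤ RingHom.ker (x.left.appLE U.1 ⊤ e).hom := by
  have hr : Set.range x.left ⊆ Set.range U.1.ι := by
    rintro _ ⟨y, rfl⟩
    rw [Scheme.Opens.range_ι]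
    exact e trivial
  let t : T ⟶ opn U := Over.homMk (IsOpenImmersion.lift U.1.ι x.left hr) (by
    show IsOpenImmersion.lift U.1.ι x.left hr ≫ U.1.ι ≫ X.hom = _
    rw [← Category.assoc, IsOpenImmersion.lift_fac, Over.w x])
  have htx : t ≫ opnι U = x := Over.OverMorphism.ext (IsOpenImmersion.lift_fac _ _ _)
  have happ : ∀ r, x.left.appLE U.1 ⊤ e r = t.left.appTop (U.1.ι.appLE U.1 ⊤ (by simp) r) := by
    intro r
    have h : U.1.ι.appLE U.1 ⊤ (by simp) ≫ t.left.appTop = x.left.appLE U.1 ⊤ e := by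
      have h0 : t.left.appTop = t.left.appLE ⊤ ⊤ le_rfl := Scheme.Hom.app_eq_appLE _
      rw [h0, Scheme.Hom.appLE_comp_appLE]
      congr 1
      exact IsOpenImmersion.lift_fac _ _ _
    exact (ConcreteCategory.congr_hom h r).symm
  have key := inAttr_comp_iff N a (opn U) (opnι U) t
  rw [htx] at key
  rw [key]
  constructor
  · intro h r hr'
    rw [RingHom.mem_ker, happ]
    have : raw N a U ≤ RingHom.ker t.left.appTop.hom := by
      rw [raw, Ideal.span_le]
      rintro _ ⟨b, m, hm, rfl⟩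
      exact h b m hm
    exact this hr'
  · intro h b m hm
    obtain ⟨r, hr'⟩ := (ι_appLE_bijective U.1 (by simp)).2 ((delta a (opn U) (opnι U) b).coeff (Multiplicative.ofAdd m))
    rw [← hr', ← happ]
    refine h (?_ : r ∈ idealAt N a U)
    rw [idealAt, Ideal.mem_comap, hr']
    exact Ideal.subset_span ⟨b, m, hm, rfl⟩

/-- The quotient point. -/
theorem inAttr_fromSpec_iff (U : X.left.affineOpens) {R : CommRingCat.{u}} (q : Γ(X.left, U.1) ⟶ R) :
    InAttr N a (Over.homMk (Spec.map q ≫ U.2.fromSpec) rfl : Over.mk ((Spec.map q ≫ U.2.fromSpec) ≫ X.hom) ⟶ X) ↔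
      idealAt N a U ≤ RingHom.ker q.hom := by
  haveI : IsAffine (Over.mk ((Spec.map q ≫ U.2.fromSpec) ≫ X.hom)).left := inferInstanceAs (IsAffine (Spec R))
  have e : (⊤ : (Spec R).Opens) ≤ (Spec.map q ≫ U.2.fromSpec) ⁻¹ᵁ U.1 := by
    rw [Scheme.Hom.comp_preimage, U.2.fromSpec_preimage_self]
    exact le_of_eq rfl
  rw [inAttr_iff_map_le N a _ U e]
  have h : (Spec.map q ≫ U.2.fromSpec).appLE U.1 ⊤ e = q ≫ (Scheme.ΓSpecIso R).inv := by
    rw [Scheme.Hom.comp_appLE, U.2.fromSpec_app_self, Category.assoc, Scheme.Hom.map_appLE]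
    refine (congrArg (_ ≫ ·) ?_).trans (Scheme.ΓSpecIso_inv_naturality q).symm
    exact (Scheme.Hom.app_eq_appLE (Spec.map q)).symm
  show idealAt N a U ≤ RingHom.ker ((Spec.map q ≫ U.2.fromSpec).appLE U.1 ⊤ e).hom ↔ _
  rw [h]
  have hinj := (ConcreteCategory.bijective_of_isIso (Scheme.ΓSpecIso R).inv).1
  constructor
  · intro h' r hr
    exact hinj ((h' hr).trans (map_zero _).symm)
  · intro h' r hr
    show (Scheme.ΓSpecIso R).inv (q r) = 0
    rw [show q r = 0 from h' hr, map_zero]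

theorem map_idealAt (U : X.left.affineOpens) (f : Γ(X.left, U.1)) :
    (idealAt N a U).map (X.left.presheaf.map (homOfLE <| X.left.basicOpen_le f).op).hom =
      idealAt N a (X.left.affineBasicOpen f) := by
  let D := X.left.affineBasicOpen f
  refine eq_of_forall_ge_iff fun J => ?_
  let R := CommRingCat.of (Γ(X.left, D.1) ⧸ J)
  let q : Γ(X.left, D.1) ⟶ R := CommRingCat.ofHom (Ideal.Quotient.mk J)
  let res := X.left.presheaf.map (homOfLE <| X.left.basicOpen_le f).op
  have hq : RingHom.ker q.hom = J := Ideal.mk_ker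
  rw [← hq, Ideal.map_le_iff_le_comap]
  change _ ≤ RingHom.ker (res ≫ q).hom ↔ idealAt N a D ≤ _
  rw [← inAttr_fromSpec_iff N a D q]
  refine Iff.trans (inAttr_fromSpec_iff N a U (res ≫ q)).symm ?_
  have hx : Spec.map (res ≫ q) ≫ U.2.fromSpec = Spec.map q ≫ D.2.fromSpec := by
    rw [Spec.map_comp, Category.assoc]
    exact congrArg (Spec.map q ≫ ·) (U.2.map_fromSpec D.2 _)
  constructor <;> intro h'
  · have := h'.comp (T' := Over.mk ((Spec.map q ≫ D.2.fromSpec) ≫ X.hom)) N a
      (Over.homMk (𝟙 _) (by show 𝟙 _ ≫ (Spec.map (res ≫ q) ≫ U.2.fromSpec) ≫ X.hom = _; rw [hx, Category.id_comp]; rfl))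
    convert this using 1
    exact Over.OverMorphism.ext (hx.symm.trans (Category.id_comp _).symm)
  · have := h'.comp (T' := Over.mk ((Spec.map (res ≫ q) ≫ U.2.fromSpec) ≫ X.hom)) N a
      (Over.homMk (𝟙 _) (by show 𝟙 _ ≫ (Spec.map q ≫ D.2.fromSpec) ≫ X.hom = _; rw [hx, Category.id_comp]; rfl))
    convert this using 1
    exact Over.OverMorphism.ext (hx.trans (Category.id_comp _).symm)

/-- The ideal sheaf of the attractor. -/
noncomputable def idealSheaf : X.left.IdealSheafData where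
  ideal := idealAt N a
  map_ideal_basicOpen := map_idealAt N a

/-- The closed subscheme. -/
noncomputable abbrev locus : Over S := Over.mk ((idealSheaf N a).subschemeι ≫ X.hom)

/-- Its inclusion. -/
noncomputable abbrev locusι : locus N a ⟶ X := Over.homMk (idealSheaf N a).subschemeι rfl

theorem inAttr_locusι : InAttr N a (locusι N a) := by
  haveI : IsSeparated X.hom := inferInstance
  refine inAttr_of_cover N a _ (idealSheaf N a).subschemeCover.openCover fun U => ?_
  haveI : IsAffine (Over.mk ((idealSheaf N a).subschemeCover.openCover.f U ≫ (locus N a).hom)).left :=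
    inferInstanceAs (IsAffine (Spec _))
  have hU : (idealSheaf N a).subschemeι ⁻¹ᵁ U.1 = Scheme.Hom.opensRange ((idealSheaf N a).subschemeCover.openCover.f U) :=
    ((idealSheaf N a).opensRange_subschemeCover_map U).symm
  refine (inAttr_iff_map_le N a _ U ?_).mpr ?_
  · intro z _
    show (idealSheaf N a).subschemeι _ ∈ U.1
    exact hU.ge ⟨z, rfl⟩
  · intro r hr
    have h : (idealSheaf N a).subschemeι.app U.1 r = 0 := by
      have := (idealSheaf N a).ker_subschemeι_app U
      exact (this.ge hr : r ∈ RingHom.ker _)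
    show Scheme.Hom.appLE ((idealSheaf N a).subschemeCover.openCover.f U ≫ (idealSheaf N a).subschemeι) U.1 ⊤ _ r = 0
    rw [Scheme.Hom.comp_appLE]
    rw [CommRingCat.comp_apply, h, map_zero]

theorem le_ker {T : Over S} (x : T ⟶ X) (h : InAttr N a x) : idealSheaf N a ≤ x.left.ker := by
  show idealSheaf N a ≤ Scheme.IdealSheafData.ofIdeals _
  rw [Scheme.IdealSheafData.le_ofIdeals_iff]
  intro U r hr
  rw [RingHom.mem_ker]
  choose V hV using fun z : (x.left ⁻¹ᵁ U.1 : T.left.Opens) =>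
    TopologicalSpace.Opens.isBasis_iff_nbhd.mp T.left.isBasis_affineOpens (U := x.left ⁻¹ᵁ U.1) z.2
  refine T.left.sheaf.eq_of_locally_eq' V (x.left ⁻¹ᵁ U.1)
    (fun z => homOfLE (hV z).2.2) (fun y hy => TopologicalSpace.Opens.mem_iSup.mpr ⟨⟨y, hy⟩, (hV ⟨y, hy⟩).2.1⟩) _ _ fun z => ?_
  let W : T.left.Opens := V z
  have hWA : IsAffineOpen W := (hV z).1
  let T' : Over S := Over.mk (W.ι ≫ T.hom)
  haveI : IsAffine T'.left := hWA
  let t : T' ⟶ T := Over.homMk W.ι rfl
  have hle : W ≤ x.left ⁻¹ᵁ U.1 := (hV z).2.2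
  have e : (⊤ : W.toScheme.Opens) ≤ (W.ι ≫ x.left) ⁻¹ᵁ U.1 := fun y _ => hle y.2
  have h1 := (inAttr_iff_map_le N a (t ≫ x) U e).mp (h.comp N a t) hr
  have h2 : (t ≫ x).left.appLE U.1 ⊤ e = x.left.appLE U.1 W hle ≫ W.ι.appLE W ⊤ (by simp) := by
    rw [Scheme.Hom.appLE_comp_appLE]
    rfl
  rw [RingHom.mem_ker, h2] at h1
  have hinj : Function.Injective (W.ι.appLE W ⊤ (by simp)).hom := (ι_appLE_bijective W _).1
  refine Eq.trans (?_ : x.left.appLE U.1 W hle r = 0) (map_zero _).symm
  exact hinj (h1.trans (map_zero _).symm)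

theorem inAttr_iff_factor {T : Over S} (x : T ⟶ X) : InAttr N a x ↔ ∃ z : T ⟶ locus N a, z ≫ locusι N a = x := by
  constructor
  · intro h
    have hfac : (x.left.toImage ≫ Scheme.IdealSheafData.inclusion (le_ker N a x h)) ≫ (idealSheaf N a).subschemeι = x.left := by
      rw [Category.assoc, Scheme.IdealSheafData.inclusion_subschemeι]
      exact x.left.toImage_imageι
    exact ⟨Over.homMk _ (by
      show _ ≫ (idealSheaf N a).subschemeι ≫ X.hom = _
      rw [← Category.assoc, hfac, Over.w x]), Over.OverMorphism.ext hfac⟩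
  · rintro ⟨z, rfl⟩
    exact (inAttr_locusι N a).comp N a z

theorem exists_representableBy :
    ∃ (Z : Over S) (i : Z ⟶ X) (e : (attr a N).RepresentableBy Z), IsClosedImmersion i.left ∧
      ∀ (T : Over S) (z : T ⟶ Z), (attrToX a N).app (op T) (e.homEquiv z) = z ≫ i := by
  haveI : IsSeparated X.hom := inferInstance
  haveI : IsClosedImmersion (locusι N a).left := inferInstanceAs (IsClosedImmersion (idealSheaf N a).subschemeι)
  haveI : Mono (locusι N a) := (Over.forget S).mono_of_mono_map (inferInstanceAs (Mono (locusι N a).left))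
  have hz : ∀ {T : Over S} (z : T ⟶ locus N a), InAttr N a (z ≫ locusι N a) := fun z =>
    (inAttr_locusι N a).comp N a z
  choose F hF using @hz
  have hf : ∀ {T : Over S} (φ : (attr a N).obj (op T)), ∃ z, z ≫ locusι N a = (attrToX a N).app (op T) φ :=
    fun φ => (inAttr_iff_factor N a _).mp ⟨φ, rfl⟩
  choose G hG using @hf
  refine ⟨locus N a, locusι N a,
    { homEquiv := fun {T} =>
        { toFun := fun z => F z
          invFun := fun φ => G φ
          left_inv := fun z => (cancel_mono (locusι N a)).mp ((hG _).trans (hF z))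
          right_inv := fun φ => InAttr.eq N a (hF _) (hG φ).symm }
      homEquiv_comp := fun {T T'} t z => InAttr.eq N a (hF _) (by
        refine (ConcreteCategory.congr_hom ((attrToX a N).naturality t.op) (F z)).trans ?_
        show t ≫ (attrToX a N).app (op T') (F z) = _
        rw [hF z, Category.assoc]) }, inferInstance, fun T z => hF z⟩

end Groth.Agent.H28.MagnetAff
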