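import Groth.Agent.H28.FaceSquare
import Groth.Agent.H28.AttrDescent
import Groth.Agent.H28.FixedDesc
import Groth.Agent.H28.MagnetFixed
import Groth.Agent.H28.MagnetRep

/-! Representability of attractors of schemes with an affine atlas reflecting fixed points. -/

universe u

open CategoryTheory CategoryTheory.Limits MonoidalCategory CartesianMonoidalCategory MonObj AlgebraicGeometry
open Opposite Magnet

namespace Groth.Agent.H28.AttrRep

variable {S : Scheme.{u}} {M : Type} [AddCommGroup M] [AddGroup.FG M] {N : AddSubmonoid M} {X U : Over S}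
  (aX : MonAct (AMonS S M) X) (aU : MonAct (AMonS S M) U) [IsAffineHom U.hom] (f : U ⟶ X) [Etale f.left]
  (hf : MonAct.IsEquivariant aU aX f) (h : N.FG ∨ (IsSeparated X.hom ∧ LocallyOfFinitePresentation X.hom))

include h hf in
theorem isPullback_face {Q : AddSubmonoid M} (hQ : IsFace N Q) :
    IsPullback (MonAct.eqvHom.postcomp (subAct S M N) f hf) (attrFace aU hQ) (attrFace aX hQ)
      (MonAct.eqvHom.postcomp (subAct S M Q) f hf) := by
  have hA : ∀ (W : Over S) [IsAffine W.left], FaceSquare.Lifts aU aX f hQ W (N := N) := by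
    intro W _
    rcases h with h | ⟨_, _⟩
    · exact FaceSquare.lifts_of_fg _ _ f hf hQ h W
    · exact FaceSquare.lifts_of_union _ _ f hf hQ W
  have hT := FaceSquare.lifts_of_affine aU aX f hf hQ hA
  refine IsPullback.of_forall_isPullback_app fun T => ?_
  rw [CategoryTheory.Limits.Types.isPullback_iff]
  refine ⟨?_, fun χ χ' h => ?_, fun φ ψ h => ?_⟩
  · ext φ
    exact Subtype.ext (Category.assoc _ _ _).symm
  · obtain ⟨c, -, huniq⟩ := hT (unop T) ((MonAct.eqvHom.postcomp (subAct S M N) f hf).app T χ)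
      ((attrFace aU hQ).app T χ) (Category.assoc _ _ _).symm
    exact (huniq χ ⟨rfl, rfl⟩).trans (huniq χ' ⟨congrArg Subtype.val h.1.symm, congrArg Subtype.val h.2.symm⟩).symm
  · obtain ⟨χ, ⟨h1, h2⟩, -⟩ := hT (unop T) φ ψ (congrArg Subtype.val h)
    exact ⟨χ, Subtype.ext h1, Subtype.ext h2⟩

omit [AddGroup.FG M] in
theorem postcomp_eval {B : AddSubmonoid M} :
    MonAct.eqvHom.postcomp (subAct S M B) f hf ≫ attrToX aX B = attrToX aU B ≫ yoneda.map f := by
  ext T φ
  exact (Category.assoc _ _ _).symm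

variable [Surjective f.left]

include h hf in
theorem exists_representableBy (Z : AddSubgroup M) (hQ : IsFace N Z.toAddSubmonoid)
    (hfZ : MonAct.IsEquivariant (aU.restrict (AMonS.map S (QuotientAddGroup.mk' Z)))
      (aX.restrict (AMonS.map S (QuotientAddGroup.mk' Z))) f)
    (hfpr : IsPullback (MonAct.fixedPsh.map f hfZ)
      (MonAct.fixedPshι (aU.restrict (AMonS.map S (QuotientAddGroup.mk' Z))))
      (MonAct.fixedPshι (aX.restrict (AMonS.map S (QuotientAddGroup.mk' Z)))) (yoneda.map f)) :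
    ∃ (ZN Zs : Over S) (eN : (attr aX N).RepresentableBy ZN) (es : (attr aX Z.toAddSubmonoid).RepresentableBy Zs)
      (j : ZN ⟶ Zs) (i : Zs ⟶ X), IsAffineHom j.left ∧ IsClosedImmersion i.left ∧
      (∀ (T : Over S) (z : T ⟶ ZN), es.homEquiv (z ≫ j) = (attrFace aX hQ).app (op T) (eN.homEquiv z)) ∧
      ∀ (T : Over S) (z : T ⟶ Zs), (attrToX aX Z.toAddSubmonoid).app (op T) (es.homEquiv z) = z ≫ i := by
  let Q := Z.toAddSubmonoid
  obtain ⟨VN, iN, dN, hiN, -⟩ := MagnetAff.exists_representableBy N aU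
  obtain ⟨VQ, iQ, dQ, hiQ, hdQ⟩ := MagnetAff.exists_representableBy Q aU
  obtain ⟨isoU, hisoU⟩ := MagnetFixed.exists_iso Z aU
  obtain ⟨isoX, hisoX⟩ := MagnetFixed.exists_iso Z aX
  haveI : LocallyOfFinitePresentation f.left := inferInstance
  obtain ⟨Zs, is, es', hcl, hes⟩ := FixedDesc.exists_representableBy _ _ f hfZ hfpr
    ⟨VQ, iQ, dQ.ofIso isoU, hiQ, fun T w => by
      refine Eq.trans ?_ (hdQ T w)
      rw [← hisoU]
      rfl⟩
  let es : (attr aX Q).RepresentableBy Zs := es'.ofIso isoX.symm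
  have hes' : es.toIso.hom ≫ attrToX aX Q = yoneda.map is := by
    ext T z
    rw [← hisoX]
    show (isoX.hom.app T ≫ (MonAct.fixedPshι _).app T) (isoX.inv.app T (es'.homEquiv (X := unop T) z)) = z ≫ is
    rw [ConcreteCategory.comp_apply, Iso.inv_hom_id_app_apply]
    exact hes _ z
  have hdQ' : dQ.toIso.hom ≫ attrToX aU Q = yoneda.map iQ := by
    ext T z
    exact hdQ _ z
  let f' : VQ ⟶ Zs := Yoneda.fullyFaithful.preimage
    (dQ.toIso.hom ≫ MonAct.eqvHom.postcomp (subAct S M Q) f hf ≫ es.toIso.inv)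
  have hf' : yoneda.map f' ≫ es.toIso.hom = dQ.toIso.hom ≫ MonAct.eqvHom.postcomp (subAct S M Q) f hf := by
    simp [f']
  have hnat : MonAct.eqvHom.postcomp (subAct S M Q) f hf ≫ isoX.hom = isoU.hom ≫ MonAct.fixedPsh.map f hfZ := by
    ext T φ
    apply Subtype.ext
    have h1 := ConcreteCategory.congr_hom (NatTrans.congr_app (postcomp_eval aX aU f hf (B := Q)) T) φ
    rw [← hisoX, ← hisoU] at h1
    exact h1
  have hP : IsPullback f' iQ is f := by
    have hw : f' ≫ is = iQ ≫ f := yoneda.map_injective (by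
      rw [Functor.map_comp, Functor.map_comp, ← hes', ← hdQ', ← Category.assoc, hf', Category.assoc, Category.assoc,
        postcomp_eval])
    refine IsPullback.of_map yoneda hw ?_
    refine hfpr.of_iso (dQ.toIso ≪≫ isoU).symm (es.toIso ≪≫ isoX).symm (Iso.refl _) (Iso.refl _) ?_ ?_ ?_ ?_
    · simp only [Iso.symm_hom, Iso.trans_inv, Category.assoc]
      rw [Iso.eq_inv_comp, ← reassoc_of% hnat, Iso.hom_inv_id_assoc]
      simp [f']
    · rw [← hdQ', ← hisoU]; simp
    · rw [← hes', ← hisoX]; simp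
    · simp
  have hp : AlgSpLib.fppf f'.left := by
    haveI : Surjective f'.left := MorphismProperty.of_isPullback (P := @Surjective) (hP.map (Over.forget S)).flip
      (inferInstanceAs (Surjective f.left))
    haveI : Etale f'.left := MorphismProperty.of_isPullback (P := @Etale) (hP.map (Over.forget S)).flip
      (inferInstanceAs (Etale f.left))
    exact AlgSpLib.fppf_of _
  let j₁ : VN ⟶ VQ := Yoneda.fullyFaithful.preimage (dN.toIso.hom ≫ attrFace aU hQ ≫ dQ.toIso.inv)
  haveI : IsAffineHom j₁.left := by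
    haveI := hiN
    haveI := hiQ
    haveI : IsAffineHom VQ.hom := by rw [← Over.w iQ]; infer_instance
    haveI : IsAffineHom (j₁.left ≫ VQ.hom) := by rw [Over.w j₁, ← Over.w iN]; infer_instance
    exact IsAffineHom.of_comp j₁.left VQ.hom
  have sq : IsPullback (dN.toIso.hom ≫ MonAct.eqvHom.postcomp (subAct S M N) f hf) (yoneda.map j₁) (attrFace aX hQ)
      (yoneda.map f' ≫ es.toIso.hom) := by
    refine (isPullback_face aX aU f hf h hQ).of_iso dN.toIso.symm (Iso.refl _) dQ.toIso.symm (Iso.refl _) ?_ ?_ ?_ ?_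
    · simp
    · simp [j₁]
    · simp
    · rw [hf']; simp; rfl
  obtain ⟨ZN, eN, j, hj, hjz⟩ := AttrDescent.exists_affine_of_cover (attrFace aX hQ) es f' hp j₁ _ sq
  exact ⟨ZN, Zs, eN, es, j, is, hj, hcl, hjz, fun T z => ConcreteCategory.congr_hom (NatTrans.congr_app hes' (op T)) z⟩

end Groth.Agent.H28.AttrRep
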