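import Groth.Agent.Lambda.Misc
import Groth.Prelude.Def_KRR
import Mathlib.RingTheory.Polynomial.Basic
import Mathlib.RingTheory.Nilpotent.Basic
import Mathlib.Algebra.Polynomial.Roots

/-!
# The augmentation ideal is nil in the presence of an ample line element
-/

set_option autoImplicit false
set_option linter.unusedSectionVars false

universe u v

open LambdaRing

namespace Groth.Agent.H28.AugNilp

open Groth.Agent.Lambda

variable {K : Type u} [CommRing K] [LambdaOps K] (P : PosStructure K)

theorem map_eq_aug {D : Type v} [CommRing D] [IsDomain D] (q : K →+* D) {e f : K} (he : e ∈ P.pos)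
    (hf : f ∈ P.pos) {m : ℕ} (hm : e + f = (m : K)) : q e = ((P.aug e : ℤ) : D) := by
  classical
  let pol : K → Polynomial D := fun x =>
    ∑ i ∈ Finset.range ((P.aug x).toNat + 1), Polynomial.C (q (LambdaOps.lam i x)) * Polynomial.X ^ i
  have hcoe : ∀ x ∈ P.pos, (pol x : PowerSeries D) = PowerSeries.map q (lamSeries x) := fun x hx => by
    ext k
    rw [PowerSeries.coeff_map, coeff_lamSeries, Polynomial.coeff_coe]
    simp only [pol, Polynomial.finsetSum_coeff, Polynomial.coeff_C_mul_X_pow]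
    rw [Finset.sum_ite_eq]
    split_ifs with hk
    · rfl
    · rw [Finset.mem_range, not_lt] at hk
      rw [lam_eq_zero_of_toNat_lt hx (by omega), map_zero]
  have hmul : pol e * pol f = (1 + Polynomial.X) ^ m := by
    refine Polynomial.coe_injective D ?_
    rw [Polynomial.coe_mul, hcoe e he, hcoe f hf, ← map_mul, ← lamSeries_add, hm,
      lamSeries_natCast (lam_one_eq_zero P), map_pow]
    simp
  have hp : Prime (1 + Polynomial.X : Polynomial D) := by
    have h := Polynomial.prime_X_sub_C (-1 : D)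
    simpa [add_comm] using h
  obtain ⟨i, -, hi⟩ := (dvd_prime_pow hp m).1 (hmul ▸ dvd_mul_right (pol e) (pol f))
  obtain ⟨w, hw⟩ := hi.symm
  obtain ⟨c, hc, hcw⟩ := Polynomial.isUnit_iff.1 w.isUnit
  rw [← hcw] at hw
  have h0 : c = 1 := by
    have h := congrArg (Polynomial.coeff · 0) hw
    simp only [pol, Polynomial.finsetSum_coeff, Polynomial.coeff_C_mul_X_pow, Finset.sum_ite_eq,
      Finset.mem_range, Nat.succ_pos, if_true, LambdaOps.lam_zero, map_one] at h
    simpa [Polynomial.coeff_zero_eq_eval_zero] using h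
  rw [h0, map_one, mul_one] at hw
  have hu : q (LambdaOps.lam (P.aug e).toNat e) ≠ 0 := ((P.isUnit_lam e he).map q).ne_zero
  have hcoef : ∀ k, ((i.choose k : ℕ) : D) =
      if k < (P.aug e).toNat + 1 then q (LambdaOps.lam k e) else 0 := fun k => by
    have h := congrArg (Polynomial.coeff · k) hw
    simp only [pol, Polynomial.finsetSum_coeff, Polynomial.coeff_C_mul_X_pow, Finset.sum_ite_eq,
      Finset.mem_range, Polynomial.coeff_one_add_X_pow] at h
    exact h
  have hia : i = (P.aug e).toNat := by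
    have h1 := hcoef (P.aug e).toNat
    have h2 := hcoef i
    rw [if_pos (Nat.lt_succ_self _)] at h1
    rw [Nat.choose_self, Nat.cast_one] at h2
    rcases lt_trichotomy i (P.aug e).toNat with h | h | h
    · rw [Nat.choose_eq_zero_of_lt h, Nat.cast_zero] at h1
      exact absurd h1.symm hu
    · exact h
    · rw [if_neg (by omega)] at h2
      exact absurd h2 one_ne_zero
  have hpos : 0 < P.aug e := P.aug_pos e he
  have h1 := hcoef 1
  rw [if_pos (by omega), LambdaOps.lam_one, Nat.choose_one_right, hia] at h1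
  rw [← h1, ← Int.cast_natCast, aug_toNat he]

variable {P}

theorem isNilpotent {u : K} (hu : KRR.IsAmpleElt P u) {x : K} (hx : P.aug x = 0) : IsNilpotent x := by
  obtain ⟨hline, hamp⟩ := hu
  rw [nilpotent_iff_mem_prime]
  intro I hI
  let q := Ideal.Quotient.mk I
  have key : ∀ e ∈ P.pos, ∃ n₀ : ℕ, ∀ n, n₀ ≤ n → q (u ^ n * e) = ((P.aug e : ℤ) : K ⧸ I) := fun e he => by
    obtain ⟨n₀, h⟩ := hamp (-e)
    refine ⟨max n₀ 1, fun n hn => ?_⟩
    obtain ⟨f, m, hf, hfm⟩ := h n (le_of_max_le_left hn)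
    have hp : P.pos.Mem (u ^ n * e) := P.mul_mem _ _ (isLine_pow hline n).1 he
    rw [map_eq_aug P q hp hf (m := m) (by linear_combination -hfm), map_mul, map_pow, hline.2, one_pow, one_mul]
  have h1 : (1 : K) ∈ P.pos := by simpa using P.natCast_mem 1 one_pos
  obtain ⟨n₁, hn₁⟩ := key 1 h1
  obtain ⟨e, f, he, hf, rfl⟩ := P.exists_sub x
  obtain ⟨n₂, hn₂⟩ := key e he
  obtain ⟨n₃, hn₃⟩ := key f hf
  have hu1 : q (u ^ (n₁ + n₂ + n₃)) = 1 := by
    have := hn₁ (n₁ + n₂ + n₃) (by omega)
    simpa using this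
  have he' := hn₂ (n₁ + n₂ + n₃) (by omega)
  have hf' := hn₃ (n₁ + n₂ + n₃) (by omega)
  rw [map_mul, hu1, one_mul] at he' hf'
  rw [← Ideal.Quotient.eq_zero_iff_mem, map_sub]
  change q e - q f = 0
  rw [map_sub, sub_eq_zero] at hx
  rw [he', hf', hx, sub_self]

end Groth.Agent.H28.AugNilp
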