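import Groth.Agent.H28.PBField
import Groth.Agent.H28.PBCohFree
import Groth.Agent.H28.KvbAmple
import Groth.Agent.H28.PushLocFree
import Groth.Agent.KFlatLib.Perfect.LocFree
import Groth.Agent.QCoh.LocFree

/-!
# `K₀` of coherent modules on `P^n` over a field
-/

set_option autoImplicit false
set_option linter.style.haveILetI false
set_option linter.unusedSectionVars false
set_option backward.isDefEq.respectTransparency false
set_option backward.isDefEq.respectTransparency.types false

universe u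

open CategoryTheory CategoryTheory.Limits AlgebraicGeometry TopologicalSpace Opposite
attribute [local instance] MvPolynomial.gradedAlgebra HasDerivedCategory.standard

noncomputable section

namespace Groth.Agent.H28.KPn

open Groth.Agent Groth.Agent.H28.KvbLam Groth.Agent.H28.PBCohPush Groth.Agent.H28.PushLocFree

section Free

variable {X : Scheme.{u}} {M : X.Modules} {r : ℕ}

/-- A frame over everything trivialises. -/
theorem iso_of_top_frame {s : Fin r → Γ(M, ⊤)} (hs : H23.Frame.IsFrame M s) :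
    Nonempty (FlatMod.freeMod X r ≅ M) := by
  let φ : FlatMod.freeMod X r ⟶ M := ∑ i, H23.Frame.proj X r i ≫ QCoh.homOfTop (s i)
  haveI : IsIso φ := by
    refine Scheme.Modules.Hom.isIso_iff_isIso_app.2 fun W => (ConcreteCategory.isIso_iff_bijective _).2 ?_
    have hb := H23.Frame.incl_isFrame (X := X) (n := r) W le_top
    refine (Function.Bijective.of_comp_iff _ hb).1 ?_
    refine (iff_of_eq (congrArg Function.Bijective (funext fun c => ?_))).1 (hs W le_top)
    simp only [Function.comp_apply]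
    rw [show H23.Frame.comb (FlatMod.freeMod X r) (fun i => (H23.Frame.incl X r i).app ⊤ (H23.Frame.one ⊤)) W le_top c =
      ∑ i, c i • (H23.Frame.incl X r i).app W (H23.Frame.one W) from
        Finset.sum_congr rfl fun i _ => congrArg (c i • ·) (H23.Frame.app_one_res (H23.Frame.incl X r i) le_top)]
    rw [H23.Frame.app_sum]
    refine Finset.sum_congr rfl fun i _ => ?_
    refine Eq.trans ?_ (congrArg ((QCoh.homOfTop (s i)).app W) (H23.Frame.proj_comb W c i)).symm
    exact (QCoh.homOfTop_app (s i) (c i)).symm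
  exact ⟨asIso φ⟩

end Free

section Point

variable (k : Type u) [Field k]

/-- The point. -/
abbrev S : Scheme.{u} := Spec (CommRingCat.of k)

theorem lf_of_coh {M : (S k).Modules} (hM : Coh.IsCoh M) : FlatMod.IsFinLocFree M := by
  haveI : Subsingleton (S k) := inferInstanceAs (Subsingleton (PrimeSpectrum k))
  refine QCoh.isFinLocFree_of_rank hM.1 hM.2 (fun x => ?_) (IsLocallyConstant.of_discrete _)
  rw [Subsingleton.elim x (genericPoint (S k))]
  letI : Field ((S k).presheaf.stalk (genericPoint (S k))) := inferInstanceAs (Field (S k).functionField)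
  infer_instance

theorem exists_iso_free {M : (S k).Modules} (hM : Coh.IsCoh M) :
    ∃ r, Nonempty (FlatMod.freeMod (S k) r ≅ M) := by
  obtain ⟨x⟩ := (inferInstance : Nonempty (S k))
  haveI : Subsingleton (S k) := inferInstanceAs (Subsingleton (PrimeSpectrum k))
  obtain ⟨r, U, s, hxU, hs⟩ := KvbModel.exists_frameAt (lf_of_coh k hM) x
  obtain rfl : U = ⊤ := top_le_iff.1 fun y _ => Subsingleton.elim x y ▸ hxU
  exact ⟨r, iso_of_top_frame hs⟩

theorem exists_rankHom : ∃ ρ : SGA6.Kcoh (S k) →+ ℤ, ∀ r : ℕ, ρ (clc (S k) (FlatMod.freeMod (S k) r)) = r := by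
  haveI : Subsingleton (S k) := inferInstanceAs (Subsingleton (PrimeSpectrum k))
  haveI : ConnectedSpace (S k) := inferInstance
  obtain ⟨K, _, _, P, φ, hK⟩ := KvbModel.exists_isModel (X := S k)
  obtain ⟨j, hj⟩ := KZ.exists_liftSub (fun M : (S k).Modules => Coh.IsCoh M) (fun M => cl M)
    fun _ hS h₁ h₂ h₃ => KZ.clSub_ses (fun M : (S k).Modules => FlatMod.IsFinLocFree M) hS
      (lf_of_coh k h₁) (lf_of_coh k h₂) (lf_of_coh k h₃)
  refine ⟨(P.aug.toAddMonoidHom.comp φ).comp j, fun r => ?_⟩
  show P.aug (φ (j (clc (S k) (FlatMod.freeMod (S k) r)))) = _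
  rw [hj _ (isCoh_of_isFinLocFree (KvbAmple.lf_free r)), KvbAmple.cl_free, map_nsmul,
    show φ (cl (Coh.structureModule (S k))) = 1 from hK.map_one, map_nsmul, map_one, nsmul_one]

theorem clc_free {X : Scheme.{u}} (r : ℕ) :
    clc X (FlatMod.freeMod X r) = r • clc X (Coh.structureModule X) := by
  obtain ⟨i, hi⟩ := KZ.exists_liftSub (fun M : X.Modules => FlatMod.IsFinLocFree M) (fun M => clc X M)
    fun _ hS h₁ h₂ h₃ => KZ.clSub_ses (fun M : X.Modules => Coh.IsCoh M) hS (isCoh_of_isFinLocFree h₁)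
      (isCoh_of_isFinLocFree h₂) (isCoh_of_isFinLocFree h₃)
  rw [← hi _ (KvbAmple.lf_free r), show KZero.clSub (fun M : X.Modules => FlatMod.IsFinLocFree M) (FlatMod.freeMod X r) = r • cl (Coh.structureModule X) from KvbAmple.cl_free r, map_nsmul, hi _ lf_O]

variable (n : ℕ)

/-- The twists. -/
abbrev tw (d : ℤ) : (CohB1.ProjSpace n k).Modules := Twist.twistProjSpace n k d

theorem cov : ⨆ j : Fin (n + 1), PnCoh.Finite.D (CohB1.polyGrading n k) (MvPolynomial.X j) = ⊤ :=
  top_le_iff.1 fun y _ => TopologicalSpace.Opens.mem_iSup.2 (ProjUPX.cov_X y)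

theorem inv_tw (d : ℤ) : PicF.IsInvertible (tw k n d) :=
  PnCoh.Finite.isInvertible_twist (𝒜 := CohB1.polyGrading n k)
    (fun i : Fin (n + 1) => (MvPolynomial.X i : MvPolynomial (Fin (n + 1)) k)) (fun i => ProjPt.X_mem i) (cov k n) d

theorem tw_add (a b : ℤ) : Nonempty (CohB1.tensorMod (tw k n a) (tw k n b) ≅ tw k n (a + b)) :=
  PnCoh.Finite.twist_tensor_iso (𝒜 := CohB1.polyGrading n k)
    (fun i : Fin (n + 1) => (MvPolynomial.X i : MvPolynomial (Fin (n + 1)) k)) (fun i => ProjPt.X_mem i) (cov k n) a b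

theorem tw_zero : Nonempty (tw k n 0 ≅ Coh.structureModule (CohB1.ProjSpace n k)) :=
  ⟨(@asIso _ _ _ _ _ (PnCoh.Finite.isIso_oneHom (𝒜 := CohB1.polyGrading n k)
    (fun i : Fin (n + 1) => (MvPolynomial.X i : MvPolynomial (Fin (n + 1)) k)) (fun i => ProjPt.X_mem i) (cov k n))).symm⟩

theorem bijective_twists :
    Function.Bijective (fun a : Fin (n + 1) → ℤ =>
      ∑ i : Fin (n + 1), a i • clc (CohB1.ProjSpace n k) (tw k n (-((i : ℕ) : ℤ)))) := by
  let P := CohB1.ProjSpace n k
  let f := CohB1.ProjSpace.toSpec n k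
  haveI := PnCoh.Chow.isProper_toSpec.{u} n k
  haveI : IsLocallyNoetherian P := LocallyOfFiniteType.isLocallyNoetherian f
  haveI : CompactSpace P := QuasiCompact.compactSpace_of_compactSpace f
  haveI : AlgebraicGeometry.IsNoetherian P := {}
  have lft : ∀ d, FlatMod.IsFinLocFree (tw k n d) := fun d => LineTwist.lf_invertible (inv_tw k n d)
  have hct : ∀ d, Coh.IsCoh (tw k n d) := fun d => isCoh_of_isFinLocFree (lft d)
  obtain ⟨ρ, hρ⟩ := exists_rankHom k
  have hρinv : ∀ x : SGA6.Kcoh (S k), x = ρ x • clc (S k) (Coh.structureModule (S k)) := by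
    intro x
    refine DFunLike.congr_fun (f := AddMonoidHom.id _)
      (g := (zmultiplesHom _ (clc (S k) (Coh.structureModule (S k)))).comp ρ) (KZ.K0sub_hom_ext _ fun M hM => ?_) x
    obtain ⟨r, ⟨e⟩⟩ := exists_iso_free k hM
    have h : clc (S k) M = clc (S k) (FlatMod.freeMod (S k) r) :=
      (clc_iso e (isCoh_of_isFinLocFree (KvbAmple.lf_free r)) hM).symm
    show clc (S k) M = ρ (clc (S k) M) • clc (S k) (Coh.structureModule (S k))
    rw [h, hρ, clc_free, natCast_zsmul]
  have hρ1 : ∀ z : ℤ, ρ (z • clc (S k) (Coh.structureModule (S k))) = z := fun z => by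
    have h1 : ρ (clc (S k) (Coh.structureModule (S k))) = 1 := by
      have h := hρ 1
      rwa [clc_free, one_nsmul, Nat.cast_one] at h
    rw [map_zsmul, h1, zsmul_one, Int.cast_id]
  let F : SGA6.Kcoh (S k) →+ SGA6.Kcoh P := (zmultiplesHom _ (clc P (Coh.structureModule P))).comp ρ
  have hF : ∀ N : (S k).Modules, Coh.IsCoh N → F (clc (S k) N) = clc P ((Scheme.Modules.pullback f).obj N) :=
    fun N hN => by
      obtain ⟨r, ⟨e⟩⟩ := exists_iso_free k hN
      show ρ (clc (S k) N) • clc P (Coh.structureModule P) = _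
      rw [← clc_iso e (isCoh_of_isFinLocFree (KvbAmple.lf_free r)) hN, hρ, natCast_zsmul, ← clc_free]
      exact (clc_iso (KFlatLib.pullFreeIso f r).symm (isCoh_of_isFinLocFree (KvbAmple.lf_free r))
        (isCoh_of_isFinLocFree (KvbPull.lf_pull f (KvbAmple.lf_free r)))).trans
        (clc_iso ((Scheme.Modules.pullback f).mapIso e) (isCoh_of_isFinLocFree (KvbPull.lf_pull f (KvbAmple.lf_free r)))
          (isCoh_of_isFinLocFree (KvbPull.lf_pull f (lf_of_coh k hN))))
  have htens : ∀ d : ℤ, ∃ T : SGA6.Kcoh P →+ SGA6.Kcoh P, ∀ M, Coh.IsCoh M →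
      T (clc P M) = clc P ((DCoh.tensorBi.obj (tw k n d)).obj M) := fun d =>
    KZ.exists_liftSub _ _ fun _ hS h₁ h₂ h₃ =>
      KZ.clSub_ses (fun M : P.Modules => Coh.IsCoh M) (PBPush.shortExact_tens (lft d) hS)
        (CurveTensor.isCoh_tensor (lft d) h₁) (CurveTensor.isCoh_tensor (lft d) h₂) (CurveTensor.isCoh_tensor (lft d) h₃)
  choose T hT using htens
  have htw : ∀ a b : ℤ, T a (clc P (tw k n b)) = clc P (tw k n (a + b)) := fun a b => by
    obtain ⟨e⟩ := tw_add k n a b
    exact (hT a _ (hct b)).trans (clc_iso e (CurveTensor.isCoh_tensor (lft a) (hct b)) (hct _))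
  have h0 : clc P (Coh.structureModule P) = clc P (tw k n 0) := by
    obtain ⟨e⟩ := tw_zero k n
    exact (clc_iso e (hct 0) (isCoh_of_isFinLocFree lf_O)).symm
  obtain ⟨q, hq⟩ := PBField.exists_isProjBundle n k
  have hfree : FlatMod.IsFinLocFreeOfRank (n + 1) (FlatMod.freeMod (S k) (n + 1)) :=
    KvbModel.rank_of_frameAt fun x => ⟨⊤, _, trivial, H23.Frame.incl_isFrame⟩
  have hb := PBCohFree.bijective (n + 1) hfree hq F hF (T 1) (hT 1)
  have hiter : ∀ (i : ℕ), (⇑(T 1))^[i] (clc P (Coh.structureModule P)) = clc P (tw k n (i : ℤ)) := by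
    intro i
    induction i with
    | zero => exact h0
    | succ i ih =>
      rw [Function.iterate_succ_apply', ih, htw, add_comm (1 : ℤ)]
      norm_num
  have hiter' : ∀ (i : ℕ) (z : ℤ), (⇑(T 1))^[i] (z • clc P (Coh.structureModule P)) = z • clc P (tw k n (i : ℤ)) := by
    intro i z
    induction i with
    | zero => exact congrArg (z • ·) h0
    | succ i ih =>
      rw [Function.iterate_succ_apply', ih, map_zsmul, htw, add_comm (1 : ℤ)]
      norm_num
  let u : (Fin (n + 1) → ℤ) ≃ (Fin (n + 1) → SGA6.Kcoh (S k)) :=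
    { toFun := fun a i => a i.rev • clc (S k) (Coh.structureModule (S k))
      invFun := fun x i => ρ (x i.rev)
      left_inv := fun a => funext fun i => by simp [hρ1]
      right_inv := fun x => funext fun i => by simpa using (hρinv (x i)).symm }
  have hT0 : ∀ x, T 0 x = x := DFunLike.congr_fun (f := T 0) (g := AddMonoidHom.id _) (KZ.K0sub_hom_ext _ fun M hM => by
    obtain ⟨e⟩ := tw_zero k n
    exact (hT 0 M hM).trans (clc_iso ((DCoh.tensorBi.mapIso e).app M ≪≫ KFlatLib.structureTensorIso M)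
      (CurveTensor.isCoh_tensor (lft 0) hM) hM))
  have hTT : ∀ a b x, T a (T b x) = T (a + b) x := fun a b => DFunLike.congr_fun (f := (T a).comp (T b))
    (g := T (a + b)) (KZ.K0sub_hom_ext _ fun M hM => by
      show T a (T b (clc P M)) = T (a + b) (clc P M)
      rw [hT b M hM, hT a _ (CurveTensor.isCoh_tensor (lft b) hM), hT _ M hM]
      refine clc_iso ?_ (CurveTensor.isCoh_tensor (lft a) (CurveTensor.isCoh_tensor (lft b) hM))
        (CurveTensor.isCoh_tensor (lft _) hM)
      exact (H23.PicMul.assoc (tw k n a) (tw k n b) M).some.symm ≪≫ (DCoh.tensorBi.mapIso (tw_add k n a b).some).app M)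
  have hTb : Function.Bijective (T (-(n : ℤ))) :=
    ⟨fun x y h => by
      have h' := congrArg (T (n : ℤ)) h
      rwa [hTT, hTT, add_neg_cancel, hT0, hT0] at h',
     fun y => ⟨T (n : ℤ) y, by rw [hTT, neg_add_cancel, hT0]⟩⟩
  refine (iff_of_eq (congrArg Function.Bijective (funext fun a => ?_))).1 (hTb.comp (hb.comp u.bijective))
  simp only [Function.comp_apply, map_sum]
  rw [← Equiv.sum_comp Fin.revPerm]
  refine Finset.sum_congr rfl fun i _ => ?_
  show T _ ((⇑(T 1))^[(i.rev : ℕ)] (ρ (a i.rev.rev • clc (S k) (Coh.structureModule (S k))) • clc P (Coh.structureModule P))) = _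
  rw [hρ1, hiter', map_zsmul, htw, Fin.rev_rev]
  congr 3
  rw [Fin.val_rev]
  omega

end Point

end Groth.Agent.H28.KPn

end
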