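import Groth.Agent.H28.BlowReg
import Groth.Agent.S11377
import Groth.Agent.RegLoc6.Seq
import Groth.Agent.QuotFunLib.ExtFinite
import Groth.Agent.AmpleX.Separated
import Groth.Agent.H28.PBCores
import Mathlib.RingTheory.Regular.Flat

/-!
# Blowing up a scheme with an ample module in a regularly immersed regular centre
-/

set_option autoImplicit false
set_option linter.style.haveILetI false
set_option linter.unusedSectionVars false
set_option backward.isDefEq.respectTransparency false
set_option backward.isDefEq.respectTransparency.types false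
set_option maxHeartbeats 1000000

universe u

open CategoryTheory CategoryTheory.Limits AlgebraicGeometry TopologicalSpace Opposite
attribute [local instance] HasDerivedCategory.standard
attribute [local instance] Groth.Agent.QCoh.hasFiniteBiproducts

noncomputable section

namespace Groth.Agent.H28.BlowGen

open Groth.Agent Groth.Agent.AmpleVan Groth.Agent.H23.PicMul

variable {X : Scheme.{u}}

/-- Finitely many maps out of a line bundle factor through one map out of a bundle of constant rank. -/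
theorem exists_rank_cover {T F : X.Modules} (hT : FlatMod.IsFinLocFreeOfRank 1 T) :
    ∀ (c : ℕ) (ψ : Fin c → (T ⟶ F)), ∃ (E : X.Modules) (d : E ⟶ F),
      FlatMod.IsFinLocFreeOfRank (c + 1) E ∧ ∀ j, ∃ a : T ⟶ E, a ≫ d = ψ j := by
  intro c
  induction c with
  | zero =>
    exact fun ψ => ⟨Coh.structureModule X, 0, KvbModel.rank_of_frameAt KvbModel.frameAt_O, fun j => j.elim0⟩
  | succ c ih =>
    intro ψ
    obtain ⟨E, d, hE, ha⟩ := ih (fun j => ψ j.succ)
    refine ⟨T ⊞ E, biprod.desc (ψ 0) d, ?_, fun j => ?_⟩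
    · rw [show c + 1 + 1 = 1 + (c + 1) by omega]
      exact (KRRZero.rank_biprod hT hE).1
    · rcases Fin.eq_zero_or_eq_succ j with rfl | ⟨i, rfl⟩
      · exact ⟨biprod.inl, biprod.inl_desc _ _⟩
      · obtain ⟨a, ha⟩ := ha i
        exact ⟨a ≫ biprod.inr, by rw [Category.assoc, biprod.inr_desc, ha]⟩

/-- With an ample module, coherent modules are quotients of bundles of constant rank. -/
theorem exists_epi_rank [IsNoetherian X] {L : X.Modules} (hL : CohB1.IsAmple L) {F : X.Modules}
    (hF : Coh.IsCoh F) : ∃ (r : ℕ) (E : X.Modules) (d : E ⟶ F), FlatMod.IsFinLocFreeOfRank (r + 1) E ∧ Epi d := by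
  obtain ⟨D, hD, e⟩ := H23.PicInv.exists_inverse hL.1
  have hinv : PicF.cl L * PicF.cl D = 1 := by
    rw [← cl_tensor]
    exact cl_eq_iff.2 e
  obtain ⟨c, n, p, -, hp⟩ := S11377.Aux.exists_quot hL hD hinv 0 hF
  let P := CohB1.tensorPow D n
  have hP : PicF.IsInvertible P := InvX.isInvertible_tensorPow hD _
  obtain ⟨φ⟩ : Nonempty (P ≅ (tw P).obj (Coh.structureModule X)) := cl_eq_iff.1 (by
    show _ = PicF.cl (CohB1.tensorMod _ P)
    rw [cl_tensor, ← H23.PicMul.one_def, one_mul])
  have hT : FlatMod.IsFinLocFreeOfRank 1 ((tw P).obj (Coh.structureModule X)) := fun x => by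
    obtain ⟨U, hx, ⟨e'⟩⟩ := PBCores.isInvertible_iff_rank.1 hP x
    exact ⟨U, hx, ⟨(Scheme.Modules.restrictFunctor U.ι).mapIso φ.symm ≪≫ e'⟩⟩
  obtain ⟨E, d, hE, ha⟩ := exists_rank_cover hT c fun j =>
    (tw P).map (biproduct.ι (fun _ : Fin c => Coh.structureModule X) j) ≫ p
  choose a ha using ha
  refine ⟨c, E, d, hE, ?_⟩
  have hfac : (∑ j, (tw P).map (biproduct.π (fun _ : Fin c => Coh.structureModule X) j) ≫ a j) ≫ d = p := by
    rw [Preadditive.sum_comp]
    simp only [Category.assoc, ha]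
    simp only [← Category.assoc, ← Preadditive.sum_comp]
    rw [total_twSum hP c]
    exact Category.id_comp p
  exact epi_of_epi_fac hfac

/-- Generators of an ideal sheaf, of constant rank. -/
theorem exists_gens [IsNoetherian X] {L : X.Modules} (hL : CohB1.IsAmple L) (J : X.IdealSheafData) :
    ∃ (r : ℕ) (G : X.Modules) (u : G ⟶ Coh.structureModule X), FlatMod.IsFinLocFreeOfRank (r + 1) G ∧
      ∀ U : X.affineOpens, J.ideal U = Ideal.span (Set.range fun x : Γ(G, U.1) => OmegaSh.fnSect X U.1 (u.app U.1 x)) := by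
  have hcoh : Coh.IsCoh (ClSub.idealMod J) :=
    QCoh.isCoh_kernel (PushLocFree.isCoh_of_isFinLocFree KvbLam.lf_O)
      (QCoh.isCoh_pushforward_finite J.subschemeι (PushLocFree.isCoh_of_isFinLocFree KvbLam.lf_O)) _
  obtain ⟨r, E, v, hE, hv⟩ := exists_epi_rank hL hcoh
  refine ⟨r, E, v ≫ ClSub.idealModι J, hE, fun U => ?_⟩
  have hval : ∀ x, OmegaSh.fnSect X U.1 ((v ≫ ClSub.idealModι J).app U.1 x) = OmegaSh.idealSect J U.1 (v.app U.1 x) :=
    fun x => (OmegaSh.idealSect_apply J U.1 _).symm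
  refine le_antisymm (fun g hg => ?_) (Ideal.span_le.2 ?_)
  · obtain ⟨k, rfl⟩ := OmegaLib.exists_of_mem J U g hg
    obtain ⟨x, rfl⟩ := QCoh.app_surjective_of_epi
      (QCoh.isQCoh_of_isFinLocFree (KvbModel.lf_of_rank hE)) hcoh.1 v U.2 k
    exact Ideal.subset_span ⟨x, hval x⟩
  · rintro _ ⟨x, rfl⟩
    rw [SetLike.mem_coe]
    show OmegaSh.fnSect X U.1 ((v ≫ ClSub.idealModι J).app U.1 x) ∈ _
    rw [hval]
    exact OmegaLib.idealSect_mem J U _

/-- A blowing up of a scheme with an ample module is Noetherian, proper and has enough bundles. -/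
theorem geom [IsNoetherian X] {L : X.Modules} (hL : CohB1.IsAmple L) {X' : Scheme.{u}} (f : X' ⟶ X)
    {J : X.IdealSheafData} (hf : BlowUp.IsBlowUp f J) :
    IsNoetherian X' ∧ IsProper f ∧ KRR.HasEnoughLocFree X' := by
  haveI := AmpleX.isSeparated_of_isAmple hL
  have hXe : KRR.HasEnoughLocFree X := QuotFunLib.ExtFinite.hasEnoughLocFree_of_ample hL
  obtain ⟨r, G, u, hG, hJ⟩ := exists_gens hL J
  obtain ⟨PG, πG, O1G, qG, hPG⟩ := PBMake.exists_of_rank hG
  haveI : IsNoetherian PG := PBSplit.isNoetherian hPG hG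
  obtain ⟨Oinv, hOi, hOO⟩ := H23.PicInv.exists_inverse (PBCores.isInvertible_iff_rank.2 hPG.invertible)
  obtain ⟨eOO⟩ := hOO
  obtain ⟨ecomm⟩ := H23.PicMul.comm Oinv O1G
  obtain ⟨DG, hDO, -⟩ := PBBasis.exists_data hPG hG Oinv ⟨ecomm ≪≫ eOO⟩
    (KvbModel.lf_of_rank (PBCores.isInvertible_iff_rank.1 hOi))
  subst hDO
  obtain ⟨g, hg, eg, hgcomp⟩ := BlowEmb.exists_emb hG u J hJ hf hPG
  haveI : IsClosedImmersion g := BlowEmb.isClosedImmersion_emb hg eg hgcomp hG hJ hPG hf
  haveI := PBCohPush.isProper DG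
  exact ⟨PushComp.isNoetherian_of_closed g, by rw [← hg]; infer_instance,
    KZ.QuasiProj.enough_closed (PBEnough.enough DG hXe) g⟩

/-- A scheme is regular at the points of a regularly immersed regular subscheme. -/
theorem regular_centre [IsLocallyNoetherian X] {Y : Scheme.{u}} (i : Y ⟶ X) (hi : Mor2.IsRegularClosedImmersion i)
    (y : Y) [IsRegularLocalRing (Y.presheaf.stalk y)] : IsRegularLocalRing (X.presheaf.stalk (i y)) := by
  haveI := hi.1
  obtain ⟨U, hU, hyU, rs, hrs, hI⟩ := hi.2 y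
  letI := QCoh.stalkAlg (X := X) hyU
  haveI := QCoh.isLocalization_stalk' hU hyU
  let φ : Γ(X, U) →+* X.presheaf.stalk (i y) := (X.presheaf.germ U (i y) hyU).hom
  have hker : RingHom.ker (i.stalkMap y).hom = Ideal.ofList (rs.map φ) := by
    rw [KRRPush.ker_stalkMap i y hU hyU, hI, Ideal.map_ofList]
  have hwr : RingTheory.Sequence.IsWeaklyRegular (X.presheaf.stalk (i y)) (rs.map φ) :=
    hrs.toIsWeaklyRegular.of_isLocalization (X.presheaf.stalk (i y))
      (hU.primeIdealOf ⟨i y, hyU⟩).asIdeal.primeCompl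
  have hmem : ∀ r ∈ rs.map φ, r ∈ IsLocalRing.maximalIdeal (X.presheaf.stalk (i y)) := fun r hr =>
    IsLocalRing.le_maximalIdeal (RingHom.ker_ne_top _) (hker.ge (Ideal.subset_span hr))
  refine RegLoc6.of_quotient_list _ _ _ rfl hmem hwr ?_
  exact IsRegularLocalRing.of_ringEquiv ((RingHom.quotientKerEquivOfSurjective
    (f := (i.stalkMap y).hom) (i.stalkMap_surjective y)).symm.trans (Ideal.quotEquivOfEq hker))

/-- The exceptional divisor is regular, and so is the blowing up along it. -/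
theorem regular_exceptional [IsLocallyNoetherian X] {Y X' Y' : Scheme.{u}} (i : Y ⟶ X)
    (hi : Mor2.IsRegularClosedImmersion i) (hY : ∀ y : Y, IsRegularLocalRing (Y.presheaf.stalk y))
    (f : X' ⟶ X) (hf : BlowUp.IsBlowUp f i.ker) (j : Y' ⟶ X') (g : Y' ⟶ Y) [IsClosedImmersion j]
    (hsq : IsPullback j g f i) [IsLocallyNoetherian X'] :
    (∀ y : Y', IsRegularLocalRing (Y'.presheaf.stalk y)) ∧
      ∀ z ∈ Set.range j, IsRegularLocalRing (X'.presheaf.stalk z) := by
  haveI := hi.1
  haveI : IsLocallyNoetherian Y := LocallyOfFiniteType.isLocallyNoetherian i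
  let E := BlowUp.exceptional f i.ker
  have hle : i.ker ≤ (E.subschemeι ≫ f).ker := by
    rw [← Scheme.IdealSheafData.map_ker, Scheme.IdealSheafData.le_map_iff_comap_le,
      Scheme.IdealSheafData.ker_subschemeι]
  let g' : E.subscheme ⟶ Y := IsClosedImmersion.lift i (E.subschemeι ≫ f) hle
  haveI : Smooth g' := RegBlow6.smooth_exceptional i hi f hf g' (IsClosedImmersion.lift_fac _ _ _)
  have hE : ∀ y : E.subscheme, IsRegularLocalRing (E.subscheme.presheaf.stalk y) := fun y => by
    haveI := hY (g' y)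
    exact (S4991.result g' y ⟨⊤, trivial, inferInstance⟩).2 inferInstance
  have hker : j.ker = E := TorPull.ker_eq hsq
  have e1 : j.toImage ≫ j.imageι = j := j.toImage_imageι
  have hk : ∀ y : j.ker.subscheme, IsRegularLocalRing (j.ker.subscheme.presheaf.stalk y) := by
    rw [hker]; exact hE
  refine ⟨fun y => ?_, ?_⟩
  · haveI := hk (j.toImage y)
    exact IsRegularLocalRing.of_ringEquiv (asIso (j.toImage.stalkMap y)).commRingCatIsoToRingEquiv
  · rintro _ ⟨y, rfl⟩
    haveI := hk (j.toImage y)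
    have hc : BlowUp.IsEffCartierIdeal j.ker := hker ▸ hf.1
    have := RegBlow6.isRegularLocalRing_of_effCartier hc (j.toImage y)
    rwa [← Scheme.Hom.comp_apply, show j.toImage ≫ j.ker.subschemeι = j from e1] at this

end Groth.Agent.H28.BlowGen

end
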