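import Groth.Agent.H28.PerfGen
import Groth.Agent.H28.BlowGen
import Groth.Agent.KFlatLib.Scheme.RpushRestrict
import Groth.Agent.ExistEasy.PP.HatLemmas
import Groth.Agent.ZClosLib.CohDescent
import Groth.Agent.S1028

/-!
# `K₀` of perfect complexes on a blowing up
-/

set_option autoImplicit false
set_option linter.style.haveILetI false
set_option linter.unusedSectionVars false
set_option backward.isDefEq.respectTransparency false
set_option backward.isDefEq.respectTransparency.types false
set_option maxHeartbeats 1000000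

universe u

open CategoryTheory CategoryTheory.Limits CategoryTheory.Pretriangulated AlgebraicGeometry TopologicalSpace Opposite
open ZeroObject
attribute [local instance] HasDerivedCategory.standard

noncomputable section

namespace Groth.Agent.H28.BlowKperf

open Groth.Agent Groth.Agent.H28.PerfGen Groth.Agent.KZ.LFRes

variable {X X' : Scheme.{u}}

/-- Derived pullback of a bundle. -/
theorem nonempty_lpull_lf (f : X' ⟶ X) [DCoh.HasLpull f] {E : X.Modules} (hE : FlatMod.IsFinLocFree E) :
    Nonempty ((DCoh.Lpull f).obj (DCoh.inD X E) ≅ DCoh.inD X' ((Scheme.Modules.pullback f).obj E)) :=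
  ⟨(DCoh.Lpull f).mapIso ((DerivedCategory.singleFunctorIsoCompQ X.Modules 0).app E) ≪≫
    KFlatLib.lpullIso f (KFlatLib.isKFlat_single_of_isFlat (KFlatLib.isFlat_of_isFinLocFree hE)) ≪≫
    DerivedCategory.Q.mapIso ((HomologicalComplex.singleMapHomologicalComplex (Scheme.Modules.pullback f) _ 0).app E) ≪≫
    ((DerivedCategory.singleFunctorIsoCompQ X'.Modules 0).app _).symm⟩

section Generated

variable [IsNoetherian X]

/-- With enough bundles, classes of bundles generate. -/
theorem eq_top_of_lf (hX : KRR.HasEnoughLocFree X) (R : AddSubgroup (SGA6.Kperf X))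
    (h : ∀ E : X.Modules, FlatMod.IsFinLocFree E → pc E ∈ R) : R = ⊤ := by
  obtain ⟨φ, hφ⟩ := S1028.result X (fun M hM hM' => hX M ⟨hM, hM'⟩)
  refine eq_top_iff.2 fun z _ => ?_
  obtain ⟨w, rfl⟩ := φ.surjective z
  have hz : ∀ v, QuotientAddGroup.mk' R (φ v) = 0 := fun v =>
    DFunLike.congr_fun (f := (QuotientAddGroup.mk' R).comp φ.toAddMonoidHom) (g := 0)
      (KZ.K0sub_hom_ext _ fun E hE => by
        show QuotientAddGroup.mk' R (φ _) = 0
        rw [hφ E hE]
        exact (QuotientAddGroup.eq_zero_iff _).2 (h E hE)) v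
  exact (QuotientAddGroup.eq_zero_iff _).1 (hz w)

/-- The image class of a map that is a monomorphism on `U`. -/
theorem sub_mem_of_mono (hX : KRR.HasEnoughLocFree X) (U : X.Opens)
    (hreg : ∀ x : X, x ∉ U → IsRegularLocalRing (X.presheaf.stalk x)) (S : AddSubgroup (SGA6.Kperf X))
    (hS : ∀ M : X.Modules, Coh.IsCoh M → Disjoint (CohB1.support M) (U : Set X) → pc M ∈ S)
    {G F : X.Modules} (hG : FreeOn U G) (hF : FreeOn U F) (a : G ⟶ F)
    [Mono ((Scheme.Modules.restrictFunctor U.ι).map a)] (hC : FreeOn U (cokernel a)) :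
    pc F - pc G - pc (cokernel a) ∈ S := by
  let R := Scheme.Modules.restrictFunctor U.ι
  haveI : PreservesFiniteLimits R := inferInstance
  have hk := QCoh.isCoh_kernel hG.1 hF.1 a
  have hI : Coh.IsCoh (cokernel (kernel.ι a)) := QCoh.isCoh_cokernel hk.1 hG.1 _
  let m : cokernel (kernel.ι a) ⟶ F := cokernel.desc _ a (kernel.condition a)
  haveI : Mono m := inferInstanceAs (Mono (Abelian.factorThruCoimage a))
  have hS2 : (ShortComplex.mk m (cokernel.π a) (by
      rw [← cancel_epi (cokernel.π (kernel.ι a))]; simp [m])).ShortExact := by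
    refine .mk' ?_ inferInstance inferInstance
    refine ShortComplex.exact_of_g_is_cokernel _ (CokernelCofork.IsColimit.ofπ _ _
      (fun g hg => cokernel.desc a g (by
        rw [show a = cokernel.π (kernel.ι a) ≫ m by simp [m], Category.assoc]
        exact (congrArg _ hg).trans comp_zero))
      (fun g hg => cokernel.π_desc _ _ _) (fun g hg b hb => ?_))
    rw [← cancel_epi (cokernel.π a), cokernel.π_desc]
    exact hb
  have hkz : IsZero (R.obj (kernel a)) :=
    (isZero_kernel_of_mono (R.map a)).of_iso (PreservesKernel.iso R a)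
  have hkd := support_of_isZero hk hkz
  have hkf := freeOn_of_support hk hkd
  have hIf : FreeOn U (cokernel (kernel.ι a)) := FreeOn.ker U hS2 hI hF hC
  have P : ∀ {M : X.Modules}, FreeOn U M → P₁ X M := fun h => h.p₁ hX U hreg
  have h1 : pc G = pc (kernel a) + pc (cokernel (kernel.ι a)) :=
    pc_ses hX (KZ.shortExact_of_mono (kernel.ι a)) (P hkf) (P hG) (P hIf)
  have h2 : pc F = pc (cokernel (kernel.ι a)) + pc (cokernel a) := pc_ses hX hS2 (P hIf) (P hF) (P hC)
  rw [show pc F - pc G - pc (cokernel a) = - pc (kernel a) by rw [h1, h2]; abel]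
  exact S.neg_mem (hS _ hk hkd)

end Generated

section Iso

/-- Push-forward along an isomorphism is restriction along the inverse. -/
def pushIso {U V : Scheme.{u}} (a : U ≅ V) :
    Scheme.Modules.pushforward a.hom ≅ Scheme.Modules.restrictFunctor a.inv :=
  (Scheme.Modules.restrictAdjunction a.hom).rightAdjointUniq (KZ.Localization.restrictEquiv a).toAdjunction

variable (f : X' ⟶ X) (U : X.Opens) [IsIso (f ∣_ U)]

/-- Over `U` a direct image is the module itself. -/
def pushOn (E : X'.Modules) : ((Scheme.Modules.pushforward f).obj E).restrict U.ι ≅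
    (E.restrict (f ⁻¹ᵁ U).ι).restrict (asIso (f ∣_ U)).inv :=
  (KFlatLib.pushRestrictIso f U).app E ≪≫ (pushIso (asIso (f ∣_ U))).app _

/-- Over `U` pullback is restriction along an isomorphism. -/
def pullOn : Scheme.Modules.pullback f ⋙ Scheme.Modules.restrictFunctor (f ⁻¹ᵁ U).ι ≅
    Scheme.Modules.restrictFunctor U.ι ⋙ Scheme.Modules.restrictFunctor (f ∣_ U) :=
  (H23.PullPush.pullRestrictIso f U).symm ≪≫
    Functor.isoWhiskerLeft _ (Scheme.Modules.restrictFunctorIsoPullback (f ∣_ U)).symm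

theorem pushOn_lf {E : X'.Modules} (hE : FlatMod.IsFinLocFree E) :
    FlatMod.IsFinLocFree (((Scheme.Modules.pushforward f).obj E).restrict U.ι) :=
  H23.PullPush.isFinLocFree_of_iso (pushOn f U E).symm
    (ConsPropLib.isFinLocFree_restrict _ (ConsPropLib.isFinLocFree_restrict _ hE))

/-- Over `U` the composite of direct and inverse image is the identity. -/
def pullPushOn (E : X'.Modules) :
    ((Scheme.Modules.pullback f).obj ((Scheme.Modules.pushforward f).obj E)).restrict (f ⁻¹ᵁ U).ι ≅
      E.restrict (f ⁻¹ᵁ U).ι :=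
  (pullOn f U).app _ ≪≫ (Scheme.Modules.restrictFunctor (f ∣_ U)).mapIso (pushOn f U E) ≪≫
    (KZ.Localization.restrictEquiv (asIso (f ∣_ U))).counitIso.app _

theorem pullOn_lf {N : X.Modules} (hN : FlatMod.IsFinLocFree (N.restrict U.ι)) :
    FlatMod.IsFinLocFree (((Scheme.Modules.pullback f).obj N).restrict (f ⁻¹ᵁ U).ι) := by
  have h : FlatMod.IsFinLocFree ((Scheme.Modules.restrictFunctor (f ∣_ U)).obj (N.restrict U.ι)) :=
    ConsPropLib.isFinLocFree_restrict (f ∣_ U) hN
  let e : ((Scheme.Modules.pullback f).obj N).restrict (f ⁻¹ᵁ U).ι ≅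
      (Scheme.Modules.restrictFunctor (f ∣_ U)).obj (N.restrict U.ι) := (pullOn f U).app N
  exact H23.PullPush.isFinLocFree_of_iso e.symm h

theorem pullOn_mono {A B : X.Modules} (a : A ⟶ B) [Mono a] :
    Mono ((Scheme.Modules.restrictFunctor (f ⁻¹ᵁ U).ι).map ((Scheme.Modules.pullback f).map a)) := by
  haveI : PreservesFiniteLimits (Scheme.Modules.restrictFunctor U.ι) := inferInstance
  haveI : PreservesFiniteLimits (Scheme.Modules.restrictFunctor (f ∣_ U)) := inferInstance
  have h : Mono ((Scheme.Modules.restrictFunctor U.ι ⋙ Scheme.Modules.restrictFunctor (f ∣_ U)).map a) :=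
    inferInstanceAs (Mono ((Scheme.Modules.restrictFunctor (f ∣_ U)).map ((Scheme.Modules.restrictFunctor U.ι).map a)))
  exact ((MorphismProperty.monomorphisms _).arrow_mk_iso_iff
    (Arrow.isoMk ((pullOn f U).app A) ((pullOn f U).app B) ((pullOn f U).hom.naturality a).symm)).2 h

end Iso

/-- The blowing up in a regular centre: bundles are generated by pullbacks and the exceptional divisor. -/
theorem surjective [IsNoetherian X] {Y Y' : Scheme.{u}}
    (L : X.Modules) (hL : CohB1.IsAmple L)
    (i : Y ⟶ X) (hi : Mor2.IsRegularClosedImmersion i) (hYreg : ∀ y : Y, IsRegularLocalRing (Y.presheaf.stalk y))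
    (f : X' ⟶ X) (hf₀ : BlowUp.IsBlowUp f i.ker) (j : Y' ⟶ X') (g : Y' ⟶ Y) [IsClosedImmersion j] (hsq : IsPullback j g f i)
    [(Scheme.Modules.pushforward j).Additive] [PreservesFiniteLimits (Scheme.Modules.pushforward j)]
    [PreservesFiniteColimits (Scheme.Modules.pushforward j)]
    (hj : ∀ K : DCoh.D Y', DCoh.IsPerfect K → DCoh.IsPerfect ((Scheme.Modules.pushforward j).mapDerivedCategory.obj K))
    [DCoh.HasLpull f] [(DCoh.Lpull f).CommShift ℤ] [(DCoh.Lpull f).IsTriangulated]
    (hf : ∀ K : DCoh.D X, DCoh.IsPerfect K → DCoh.IsPerfect ((DCoh.Lpull f).obj K)) :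
    (SGA6.mapTr ((Scheme.Modules.pushforward j).mapDerivedCategory) (SGA6.perfP Y') (SGA6.perfP X') hj).range ⊔
      (SGA6.mapTr (DCoh.Lpull f) (SGA6.perfP X) (SGA6.perfP X') hf).range = ⊤ := by
  haveI := hi.1
  haveI := AmpleX.isSeparated_of_isAmple hL
  obtain ⟨hX'n, hprop, hX'e⟩ := BlowGen.geom hL f hf₀
  haveI := hX'n; haveI := hprop
  have hXe : KRR.HasEnoughLocFree X := QuotFunLib.ExtFinite.hasEnoughLocFree_of_ample hL
  obtain ⟨hY'reg, hX'reg⟩ := BlowGen.regular_exceptional i hi hYreg f hf₀ j g hsq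
  let U : X.Opens := ModPair.interior i.ker
  haveI := BlowUpLib.isIso_restrict hf₀ U le_rfl
  have hU : (U : Set X) = (Set.range i)ᶜ := by
    show (i.ker.support : Set X)ᶜ = _
    rw [Scheme.Hom.support_ker, i.isClosedEmbedding.isClosed_range.closure_eq]
  let V : X'.Opens := f ⁻¹ᵁ U
  have hV : (V : Set X') = (Set.range j)ᶜ := by
    ext z
    show f z ∈ (U : Set X) ↔ _
    rw [hU]
    refine not_congr ⟨?_, ?_⟩
    · rintro ⟨x, hx⟩
      obtain ⟨p, hp, -⟩ := Scheme.exists_preimage_of_isPullback hsq z x hx.symm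
      exact ⟨p, hp⟩
    · rintro ⟨p, rfl⟩
      exact ⟨g p, by rw [← Scheme.Hom.comp_apply, ← Scheme.Hom.comp_apply, hsq.w]⟩
  have hXr : ∀ x : X, x ∉ U → IsRegularLocalRing (X.presheaf.stalk x) := fun x hx => by
    obtain ⟨y, rfl⟩ : x ∈ Set.range i := not_not.1 fun h => hx ((congrArg (x ∈ ·) hU).mpr h)
    haveI := hYreg y
    exact BlowGen.regular_centre i hi y
  have hX'r : ∀ z : X', z ∉ V → IsRegularLocalRing (X'.presheaf.stalk z) := fun z hz =>
    hX'reg z (not_not.1 fun h => hz ((congrArg (z ∈ ·) hV).mpr h))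
  set R := (SGA6.mapTr ((Scheme.Modules.pushforward j).mapDerivedCategory) (SGA6.perfP Y') (SGA6.perfP X') hj).range ⊔
      (SGA6.mapTr (DCoh.Lpull f) (SGA6.perfP X) (SGA6.perfP X') hf).range with hR
  have hdisj : Disjoint (Set.range j) (V : Set X') := by rw [hV]; exact disjoint_compl_right
  have hS : ∀ M : X'.Modules, Coh.IsCoh M → Disjoint (CohB1.support M) (V : Set X') → pc M ∈ R := fun M hM hd =>
    le_sup_left (a := (SGA6.mapTr ((Scheme.Modules.pushforward j).mapDerivedCategory) (SGA6.perfP Y') (SGA6.perfP X') hj).range)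
      (mem_range_mapTr hX'e V hX'r j hdisj hY'reg hj hM
      (fun z hz => not_not.1 fun h => Set.disjoint_left.1 hd hz ((congrArg (z ∈ ·) hV).mpr h)))
  have hgood : ∀ N : X.Modules, FreeOn U N → FreeOn V ((Scheme.Modules.pullback f).obj N) := fun N hN =>
    freeOn_of_lf (ZClosLib.isCoh_pullback f hN.1) (pullOn_lf f U hN.lf)
  have hpull : ∀ (n : ℕ) (N : X.Modules), FreeOn U N → PDLT (n + 1) N →
      pc ((Scheme.Modules.pullback f).obj N) ∈ R := by
    intro n
    induction n with
    | zero =>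
      intro N _ hN
      have hlf := pdlt_one_iff.1 hN
      obtain ⟨e⟩ := nonempty_lpull_lf f hlf
      refine le_sup_right (b := (SGA6.mapTr (DCoh.Lpull f) (SGA6.perfP X) (SGA6.perfP X') hf).range)
        ⟨KZero.clTr (SGA6.perfP X) (DCoh.inD X N), ?_⟩
      rw [KZ.clTr_of_prop (SGA6.perfP X) (locSP_lf hlf)]
      refine (KZ.clTr_of_prop (SGA6.perfP X') (hf _ (locSP_lf hlf))).symm.trans ?_
      exact KZ.clTr_iso (SGA6.perfP X') e (hf _ (locSP_lf hlf)) (locSP_lf (KFlatLib.isFinLocFree_pullback f hlf))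
        ((DerivedCategory.singleFunctor X'.Modules 0).map_isZero (isZero_zero X'.Modules))
        (locSP_lf (KFlatLib.isFinLocFree_of_isZero (isZero_zero _)))
    | succ n ih =>
      intro N hNf hN
      obtain ⟨E, p, hE, hp⟩ := hXe N hN.1
      haveI := hp
      have hSK := KZ.kerSeq_shortExact p
      have hK : PDLT (n + 1) (kernel p) := PDLT.kernel_of hSK ((pdlt_one_iff.2 hE).mono (by omega)) hN
      have hKf : FreeOn U (kernel p) := FreeOn.ker U hSK hK.1 (freeOn_of_isFinLocFree U hE) hNf
      let P := Scheme.Modules.pullback f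
      haveI : P.IsLeftAdjoint := (Scheme.Modules.pullbackPushforwardAdjunction f).isLeftAdjoint
      haveI : PreservesFiniteColimits P := inferInstance
      let c : cokernel (P.map (kernel.ι p)) ≅ P.obj N :=
        (PreservesCokernel.iso P (kernel.ι p)).symm ≪≫
          P.mapIso (IsColimit.coconePointUniqueUpToIso (cokernelIsCokernel (kernel.ι p)) hSK.gIsCokernel)
      haveI := pullOn_mono f U (kernel.ι p)
      have hEf : FreeOn V (P.obj E) := hgood E (freeOn_of_isFinLocFree U hE)
      have hC : FreeOn V (cokernel (P.map (kernel.ι p))) := (hgood N hNf).iso c.symm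
      have hm := sub_mem_of_mono hX'e V hX'r R hS (hgood _ hKf) hEf (P.map (kernel.ι p)) hC
      have hEm : pc (P.obj E) ∈ R := ih E (freeOn_of_isFinLocFree U hE) ((pdlt_one_iff.2 hE).mono (by omega))
      have hKm : pc (P.obj (kernel p)) ∈ R := ih _ hKf hK
      have h3 := R.sub_mem (R.sub_mem hEm hKm) hm
      rw [sub_sub_cancel] at h3
      rw [← pc_iso c (isPerfect_P₁ hX'e (hC.p₁ hX'e V hX'r)) (isPerfect_P₁ hX'e ((hgood N hNf).p₁ hX'e V hX'r))]
      exact h3
  refine eq_top_of_lf hX'e R fun E hE => ?_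
  let N := (Scheme.Modules.pushforward f).obj E
  have hNc : Coh.IsCoh N := ExistEasy.isCoh_pushforward_proper f (flf_isCoh hE)
  have hNf : FreeOn U N := freeOn_of_lf hNc (pushOn_lf f U hE)
  obtain ⟨n, hn⟩ := exists_pdlt (hNf.p₁ hXe U hXr).2
  have hM := hgood N hNf
  obtain ⟨G, p₁, p₂, hG, h₁, h₂⟩ := KZ.exists_span V ((Scheme.Modules.pullback f).obj N) E hM.1 (flf_isCoh hE)
    (pullPushOn f U E)
  haveI := h₁; haveI := h₂
  have hGf : FreeOn V G := freeOn_of_lf hG
    (H23.PullPush.isFinLocFree_of_iso (asIso ((Scheme.Modules.restrictFunctor V.ι).map p₁)).symm hM.lf)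
  have a := sub_mem_of_isIso hX'e V hX'r R hS hGf hM p₁
  have b := sub_mem_of_isIso hX'e V hX'r R hS hGf (freeOn_of_isFinLocFree V hE) p₂
  have h3 := R.add_mem (R.sub_mem a b) (hpull n N hNf hn)
  rw [sub_sub_sub_cancel_left, sub_add_cancel] at h3
  exact h3

end Groth.Agent.H28.BlowKperf

end
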