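import Mathlib.RingTheory.Flat.Equalizer
import Mathlib.RingTheory.Flat.TorsionFree
import Mathlib.RingTheory.PrincipalIdealDomain

/-!
# Exactness of integral complexes after tensoring
-/

namespace Groth.Agent.H28.TensorExact

open TensorProduct

variable {A B C D : Type*} [AddCommGroup A] [AddCommGroup B] [AddCommGroup C] [AddCommGroup D]
  [Module.IsTorsionFree ℤ D] (N : Type*) [AddCommGroup N]

/-- Kernels of maps to torsion-free groups stay injective after tensoring. -/
theorem injective_lTensor_ker (h : C →ₗ[ℤ] D) :
    Function.Injective ((LinearMap.ker h).subtype.lTensor N) := by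
  have : Module.Flat ℤ (LinearMap.range h) := inferInstance
  refine LinearMap.lTensor_injective_of_exact_of_flat h.rangeRestrict h.surjective_rangeRestrict _
    (LinearMap.ker h).subtype_injective (LinearMap.exact_iff.2 ?_) N
  rw [LinearMap.ker_rangeRestrict, Submodule.range_subtype]

/-- An exact piece whose continuation is exact into a torsion-free group stays exact after tensoring. -/
theorem exact_lTensor (f : A →ₗ[ℤ] B) (g : B →ₗ[ℤ] C) (h : C →ₗ[ℤ] D)
    (hfg : Function.Exact f g) (hgh : Function.Exact g h) :
    Function.Exact (f.lTensor N) (g.lTensor N) := by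
  let π : B →ₗ[ℤ] LinearMap.ker h := g.codRestrict _ fun b => hgh.apply_apply_eq_zero b
  have hg : g = (LinearMap.ker h).subtype ∘ₗ π := LinearMap.ext fun _ => rfl
  have hπ : Function.Surjective π := fun c => by
    obtain ⟨b, hb⟩ := (hgh c.1).1 c.2
    exact ⟨b, Subtype.ext hb⟩
  have hfπ : Function.Exact f π := fun b =>
    ⟨fun hb => (hfg b).1 (congrArg Subtype.val hb), fun hb => Subtype.ext ((hfg b).2 hb)⟩
  intro z
  rw [← lTensor_exact N hfπ hπ z, hg, LinearMap.lTensor_comp, LinearMap.comp_apply]
  exact (map_eq_zero_iff _ (injective_lTensor_ker N h))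

end Groth.Agent.H28.TensorExact
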