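import Groth.Agent.H28.BoxSections
import Groth.Agent.H28.TensorExact
import Groth.Agent.PnCoh.TwistCech
import Groth.Agent.PnCoh.Finite.TwistTensor
import Groth.Agent.QCoh.CechComparison
import Mathlib.LinearAlgebra.TensorProduct.Pi

/-!
# The Čech complex of `O(d) ⊗ q^* G` relative to projective space over the integers
-/

set_option linter.style.haveILetI false
set_option linter.unusedSectionVars false
set_option backward.isDefEq.respectTransparency false
set_option backward.isDefEq.respectTransparency.types false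

universe u

open CategoryTheory CategoryTheory.Limits AlgebraicGeometry TopologicalSpace Opposite MonoidalCategory
open MvPolynomial
open scoped TensorProduct

namespace Groth.Agent.H28.Box

open Groth.Agent Groth.Agent.PnCoh Groth.Agent.QCoh.Ab

attribute [local instance] MvPolynomial.gradedAlgebra

section Eval

variable {X : TopCat.{u}} {ι : Type u} (P : TopCat.Presheaf AddCommGrpCat.{u} X) (U : ι → Opens X)
  {p : ℕ} (O : (Fin (p + 1) → ι) → Opens X) (hO : ∀ σ, Le U σ (O σ))

theorem natD_apply (c : natCochains P U (p + 1)) (σ : Fin (p + 2) → ι) (W : {W : Opens X // Le U σ W}) :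
    (natD P U p c).1 σ W = ∑ a : Fin (p + 2), (-1 : ℤ) ^ (a : ℕ) •
      c.1 (fun b => σ (a.succAbove b)) ⟨W.1, fun b => W.2 (a.succAbove b)⟩ := rfl

/-- Evaluation of natural cochains on given intersections. -/
def evalHom : natCochains P U (p + 1) →+ ∀ σ, P.obj (op (O σ)) :=
  AddMonoidHom.mk' (fun c σ => c.1 σ ⟨O σ, hO σ⟩) fun _ _ => rfl

include hO in
theorem bijective_evalHom (hmax : ∀ σ W, Le U σ W → W ≤ O σ) : Function.Bijective (evalHom P U O hO) := by
  refine ⟨fun c c' h => Subtype.ext (funext₂ fun σ W => ?_), fun x =>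
    ⟨⟨fun σ W => P.map (homOfLE (hmax σ W.1 W.2)).op (x σ), fun σ W W' h h' i => map_map'' P _ i _ _⟩,
      funext fun σ => map_self P _ _⟩⟩
  rw [← c.2 σ (O σ) W.1 (hO σ) W.2 (homOfLE (hmax σ W.1 W.2)),
    ← c'.2 σ (O σ) W.1 (hO σ) W.2 (homOfLE (hmax σ W.1 W.2))]
  exact congrArg _ (congrFun h σ)

end Eval

variable {n : ℕ}

/-- The integers in the universe. -/
abbrev R0 : Type u := ULift.{u} ℤ

/-- The standard index set. -/
abbrev Idx (n : ℕ) : Type u := ULift.{u} (Fin (n + 1))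

/-- `O(d)` on projective space over the integers. -/
noncomputable abbrev O1 (n : ℕ) (d : ℤ) : (PS (Fin (n + 1)) R0.{u}).Modules :=
  Twist.twist (homogeneousSubmodule (Fin (n + 1)) R0.{u}) d

theorem exists_frame_tupOpen (d : ℤ) {p : ℕ} (σ : Fin (p + 1) → Idx.{u} n) :
    ∃ e : Γ(O1.{u} n d, tupOpen (R := R0) σ), InvX.IsFrame e := by
  let i := (σ 0).down
  have hle : tupOpen (R := R0.{u}) σ ≤
      Finite.D (homogeneousSubmodule (Fin (n + 1)) R0.{u}) (X i) := by
    refine (tupOpen_le σ 0).trans (le_of_eq ?_)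
    show Proj.basicOpen _ (monomial (Finsupp.single i 1) 1) = _
    rfl
  refine ⟨twPow (mem_homogeneous_X i) d (Finite.nonVan_of_le hle), InvX.isFrame_of_germ fun x hx => ?_⟩
  have h := Finite.stalkGen_bijective (mem_homogeneous_X (R := R0.{u}) i) (hle hx) d
  rw [Finite.stalkGen_eq (mem_homogeneous_X (R := R0.{u}) i) (hle hx) d _ hle hx] at h
  exact h

/-- The sections of `O(d)` on an intersection embed in the Laurent polynomials. -/
theorem isTorsionFree_sec (d : ℤ) {p : ℕ} (σ : Fin (p + 1) → Idx.{u} n) :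
    Module.IsTorsionFree ℤ Γ(O1.{u} n d, tupOpen (R := R0) σ) :=
  Function.Injective.moduleIsTorsionFree
    (secTw d (tupExp fun a => (σ a).down) (tupExp_ne_zero _))
    (secTw_injective d (tupExp fun a => (σ a).down) (tupExp_ne_zero _)) fun r x => map_zsmul _ r x

variable {V T : Scheme.{u}} (g : V ⟶ PS (Fin (n + 1)) R0.{u}) (q : V ⟶ T) (d : ℤ) (G : T.Modules)

/-- `g^* O(d) ⊗ q^* G`. -/
noncomputable abbrev Mod : V.Modules :=
  CohB1.tensorMod ((Scheme.Modules.pullback g).obj (O1 n d)) ((Scheme.Modules.pullback q).obj G)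

/-- The pulled back covering. -/
noncomputable abbrev cov : Idx.{u} n → V.Opens := fun i => g ⁻¹ᵁ stdU (Fin (n + 1)) R0.{u} i

theorem le_cov {p : ℕ} (σ : Fin (p + 1) → Idx.{u} n) :
    Le (X := V.toPresheafedSpace.carrier) (cov g) σ (g ⁻¹ᵁ tupOpen σ) :=
  fun a => g.preimage_mono (tupOpen_le σ a)

theorem le_preimage_tupOpen {p : ℕ} (σ : Fin (p + 1) → Idx.{u} n) (W : V.Opens)
    (h : Le (X := V.toPresheafedSpace.carrier) (cov g) σ W) : W ≤ g ⁻¹ᵁ tupOpen σ := fun x hx => by
  show g x ∈ tupOpen σ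
  rw [tupOpen_eq, ← SetLike.mem_coe]
  simp only [Opens.coe_iInf, Set.mem_iInter]
  exact fun a => h a hx

variable (U : T.Opens) (hU : q ⁻¹ᵁ U = ⊤)

include hU in
theorem hle (D : (PS (Fin (n + 1)) R0.{u}).Opens) : g ⁻¹ᵁ D ≤ q ⁻¹ᵁ U := hU.symm ▸ le_top

/-- Natural cochains of `O(d)`. -/
abbrev CC (n : ℕ) (d : ℤ) (p : ℕ) : Type u :=
  natCochains (X := (PS (Fin (n + 1)) R0.{u}).toPresheafedSpace.carrier) (twPre (Fin (n + 1)) R0.{u} d)
    (stdU (Fin (n + 1)) R0.{u}) p

/-- Natural cochains of `g^* O(d) ⊗ q^* G`. -/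
abbrev CM (p : ℕ) : Type u :=
  natCochains (X := V.toPresheafedSpace.carrier) (Mod g q d G).presheaf (cov g) p

/-- The differential of `O(d)`. -/
noncomputable abbrev dC (p : ℕ) : CC.{u} n d (p + 1) →ₗ[ℤ] CC.{u} n d (p + 2) :=
  (natD (X := (PS (Fin (n + 1)) R0.{u}).toPresheafedSpace.carrier) (twPre (Fin (n + 1)) R0.{u} d)
    (stdU (Fin (n + 1)) R0.{u}) p).hom.toIntLinearMap

/-- The sections of `O(d)` on an intersection. -/
abbrev SecC (n : ℕ) (d : ℤ) {p : ℕ} (σ : Fin (p + 1) → Idx.{u} n) : Type u :=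
  (Γ(O1.{u} n d, tupOpen (R := R0.{u}) σ) : Type u)

/-- The comparison of Čech cochains. -/
noncomputable def theta (p : ℕ) : CC.{u} n d (p + 1) ⊗[ℤ] Γ(G, U) →+ CM g q d G (p + 1) :=
  AddMonoidHom.mk'
    (fun z => ⟨fun σ W => AModX.res (Mod g q d G) (le_preimage_tupOpen g σ W.1 W.2)
        (boxHom g q (O1 n d) G (hle g q U hU _)
          ((evalHom (X := (PS (Fin (n + 1)) R0.{u}).toPresheafedSpace.carrier) _ _ (fun σ => tupOpen σ)
            (fun σ => tupOpen_le σ) |>.toIntLinearMap.rTensor _ z |>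
              TensorProduct.piLeft (R := ℤ) (N := (Γ(G, U) : Type u))
                (M := fun σ : Fin (p + 1) → Idx.{u} n => SecC n d σ)) σ)),
      fun σ W W' h h' i => AModX.res_res _ _ _⟩)
    fun a b => Subtype.ext (funext₂ fun σ W => by
      show AModX.res _ _ (boxHom _ _ _ _ _ _) = AModX.res _ _ _ + AModX.res _ _ _
      rw [← map_add, ← map_add]
      simp only [map_add, Pi.add_apply])

theorem theta_tmul (p : ℕ) (c : CC.{u} n d (p + 1)) (t : Γ(G, U)) (σ : Fin (p + 1) → Idx.{u} n)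
    (W : {W : V.Opens // Le (X := V.toPresheafedSpace.carrier) (cov g) σ W}) :
    (theta g q d G U hU p (c ⊗ₜ t)).1 σ W = AModX.res (Mod g q d G) (le_preimage_tupOpen g σ W.1 W.2)
      (boxHom g q (O1 n d) G (hle g q U hU _)
        ((show Γ(O1 n d, tupOpen σ) from c.1 σ ⟨tupOpen σ, tupOpen_le σ⟩) ⊗ₜ t)) := by
  show AModX.res _ _ (boxHom _ _ _ _ _ _) = _
  simp [evalHom]

theorem natD_theta (p : ℕ) (z : CC.{u} n d (p + 1) ⊗[ℤ] Γ(G, U)) :
    natD (X := V.toPresheafedSpace.carrier) (Mod g q d G).presheaf (cov g) p (theta g q d G U hU p z) =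
      theta g q d G U hU (p + 1) ((dC d p).rTensor _ z) := by
  induction z using TensorProduct.induction_on with
  | zero => simp only [map_zero]
  | tmul c t =>
    refine Subtype.ext (funext₂ fun σ W => ?_)
    rw [LinearMap.rTensor_tmul, theta_tmul, natD_apply]
    have hdC : (show Γ(O1.{u} n d, tupOpen σ) from (dC d p c).1 σ ⟨tupOpen σ, tupOpen_le σ⟩) =
        ∑ a : Fin (p + 2), (-1 : ℤ) ^ (a : ℕ) • (show Γ(O1.{u} n d, tupOpen σ) from
          c.1 (fun b => σ (a.succAbove b)) ⟨tupOpen σ, fun b => tupOpen_le σ (a.succAbove b)⟩) :=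
      natD_apply _ _ c σ _
    rw [hdC, TensorProduct.sum_tmul, map_sum, map_sum]
    refine Finset.sum_congr rfl fun a _ => ?_
    rw [theta_tmul, ← TensorProduct.smul_tmul', map_zsmul, map_zsmul]
    refine congrArg _ ?_
    let σ' : Fin (p + 1) → Idx.{u} n := fun b => σ (a.succAbove b)
    have hσ : tupOpen (R := R0.{u}) σ ≤ tupOpen σ' := le_tupOpen fun b => tupOpen_le σ (a.succAbove b)
    have hc : c.1 σ' ⟨tupOpen σ, fun b => tupOpen_le σ (a.succAbove b)⟩ =
        (O1.{u} n d).presheaf.map (homOfLE hσ).op (c.1 σ' ⟨tupOpen σ', tupOpen_le σ'⟩) :=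
      (c.2 σ' (tupOpen σ') (tupOpen σ) (tupOpen_le σ') _ (homOfLE hσ)).symm
    rw [hc]
    refine Eq.trans ?_ (congrArg (AModX.res _ (le_preimage_tupOpen g σ W.1 W.2))
      (res_boxHom g q (O1 n d) G (hle g q U hU _) hσ (hle g q U hU _) (_ ⊗ₜ t)))
    exact (AModX.res_res (g.preimage_mono hσ) (le_preimage_tupOpen g σ W.1 W.2) _).symm
  | add x y hx hy => simp only [map_add, hx, hy]

variable [IsAffineHom g] (hUa : IsAffineOpen U)
  (hbox : ∀ D, IsAffineOpen D → IsBox g q D U (hle g q U hU D)) (hG : Coh.IsQCoh G)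

include hUa hbox hG in
theorem bijective_theta (p : ℕ) : Function.Bijective (theta g q d G U hU p) := by
  classical
  let evC := evalHom (X := (PS (Fin (n + 1)) R0.{u}).toPresheafedSpace.carrier) (twPre (Fin (n + 1)) R0.{u} d)
    (stdU (Fin (n + 1)) R0.{u}) (fun σ : Fin (p + 1) → Idx.{u} n => tupOpen σ) (fun σ => tupOpen_le σ)
  let evM := evalHom (X := V.toPresheafedSpace.carrier) (Mod g q d G).presheaf (cov g)
    (fun σ : Fin (p + 1) → Idx.{u} n => g ⁻¹ᵁ tupOpen σ) (fun σ => le_cov g σ)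
  have hM : Function.Bijective evM := bijective_evalHom _ _ _ _ fun σ W h => le_preimage_tupOpen g σ W h
  have hC : Function.Bijective evC := bijective_evalHom _ _ _ _ fun σ W h => le_tupOpen h
  let eC : CC.{u} n d (p + 1) ≃ₗ[ℤ] ∀ σ : Fin (p + 1) → Idx.{u} n, SecC n d σ :=
    (AddEquiv.ofBijective evC hC).toIntLinearEquiv
  have hbox' : ∀ σ : Fin (p + 1) → Idx.{u} n,
      Function.Bijective (boxHom g q (O1 n d) G (D := tupOpen σ) (hle g q U hU _)) := fun σ => by
    have hD : IsAffineOpen (tupOpen (R := R0.{u}) σ) := isAffineOpen_mOpen (tupExp_ne_zero _)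
    obtain ⟨e, he⟩ := exists_frame_tupOpen d σ
    exact bijective_boxHom g q (O1 n d) G _ (hbox _ hD) (hD.preimage g) hUa hG he
  refine (Function.Bijective.of_comp_iff' hM _).1 ?_
  have key : evM ∘ theta g q d G U hU p = (Pi.map fun σ => boxHom g q (O1 n d) G (hle g q U hU _)) ∘
      (TensorProduct.piLeft (R := ℤ) (N := (Γ(G, U) : Type u))
        (M := fun σ : Fin (p + 1) → Idx.{u} n => SecC n d σ)) ∘
        (eC.rTensor Γ(G, U)) := by
    funext z σ
    show AModX.res (Mod g q d G) (le_refl (g ⁻¹ᵁ tupOpen σ)) _ = _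
    rw [AModX.res_self]
    rfl
  rw [key]
  exact (Function.Bijective.piMap hbox').comp ((LinearEquiv.bijective _).comp (LinearEquiv.bijective _))

/-- The positive part of the integral Čech complex is exact. -/
theorem exact_dC (hd : -((n : ℤ) + 1) < d) (p : ℕ) :
    Function.Exact (dC.{u} (n := n) d p) (dC.{u} (n := n) d (p + 1)) := fun c => by
  constructor
  · intro hc
    obtain ⟨k, hk, hkd⟩ := exists_natural_d_eq c.1 c.2 (congrArg Subtype.val hc) fun σ e he =>
      bottom_zero_of_degree (cochainTw_isSuppD c.1) (by simpa using hd) σ e he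
    exact ⟨⟨k, hk⟩, Subtype.ext hkd⟩
  · rintro ⟨k, rfl⟩
    exact Subtype.ext (d_d k.1)

theorem isTorsionFree_CC (p : ℕ) : Module.IsTorsionFree ℤ (CC.{u} n d (p + 1)) := by
  haveI := fun σ : Fin (p + 1) → Idx.{u} n => isTorsionFree_sec d σ
  refine Function.Injective.moduleIsTorsionFree
    (evalHom (X := (PS (Fin (n + 1)) R0.{u}).toPresheafedSpace.carrier) (twPre (Fin (n + 1)) R0.{u} d)
    (stdU (Fin (n + 1)) R0.{u}) (fun σ : Fin (p + 1) → Idx.{u} n => tupOpen σ) (fun σ => tupOpen_le σ))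
    (bijective_evalHom _ _ _ _ fun σ W h => le_tupOpen h).1 fun r x => map_zsmul _ r x

include hUa hbox hG in
/-- Cohomology vanishes in positive degrees. -/
theorem subsingleton_HH (hd : -((n : ℤ) + 1) < d) (hM : Coh.IsQCoh (Mod g q d G)) (p : ℕ) :
    Subsingleton (Coh.HH V (Mod g q d G) (p + 1)) := by
  have hcovT : ⨆ i, cov g i = ⊤ := by
    show ⨆ i, g ⁻¹ᵁ _ = ⊤
    rw [← Scheme.Hom.preimage_iSup, iSup_stdU, Scheme.Hom.preimage_top]
  have haff : ∀ {p : ℕ} (σ : Fin (p + 1) → Idx.{u} n), IsAffineOpen (⨅ a, cov g (σ a)) := fun {p} σ => by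
    rw [show ⨅ a, cov g (σ a) = g ⁻¹ᵁ tupOpen σ from le_antisymm
      (le_preimage_tupOpen g σ _ fun a => iInf_le _ a) (le_iInf fun a => le_cov g σ a)]
    exact (isAffineOpen_mOpen (tupExp_ne_zero _)).preimage g
  obtain ⟨e⟩ := QCoh.cechH_equiv_HH (cov g) hcovT haff hM (p + 1)
  have hzero : IsZero (((cechComplexFunctor (cov g)).obj (Mod g q d G).presheaf).homology (p + 1)) := by
    refine IsZero.of_iso ?_ (HomologicalComplex.homologyMapIso (cechIso _ _) (p + 1)).symm
    refine (?_ : (natCx (X := V.toPresheafedSpace.carrier) (Mod g q d G).presheaf (cov g)).ExactAt (p + 1)).isZero_homology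
    rw [HomologicalComplex.exactAt_iff' _ p (p + 1) (p + 2) (by simp) (by simp), ShortComplex.ab_exact_iff]
    simp only [HomologicalComplex.sc', HomologicalComplex.shortComplexFunctor'_obj_f,
      HomologicalComplex.shortComplexFunctor'_obj_g, natCx_d]
    intro c hc
    obtain ⟨z, rfl⟩ := (bijective_theta g q d G U hU hUa hbox hG (p + 1)).2 c
    have hc' : natD (X := V.toPresheafedSpace.carrier) (Mod g q d G).presheaf (cov g) (p + 1)
        (theta g q d G U hU (p + 1) z) = 0 := hc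
    rw [natD_theta] at hc'
    have hz := (bijective_theta g q d G U hU hUa hbox hG (p + 2)).1
      (hc'.trans (map_zero (theta g q d G U hU (p + 2))).symm)
    haveI := isTorsionFree_CC.{u} (n := n) d (p + 3)
    have hex := TensorExact.exact_lTensor Γ(G, U) (dC.{u} (n := n) d p) (dC d (p + 1)) (dC d (p + 2))
      (exact_dC d hd p) (exact_dC d hd (p + 1))
    have hnat : ∀ k : ℕ, ∀ w : CC.{u} n d (k + 1) ⊗[ℤ] Γ(G, U),
        (LinearMap.lTensor Γ(G, U) (dC.{u} (n := n) d k)) (TensorProduct.comm ℤ _ _ w) =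
          TensorProduct.comm ℤ _ _ ((dC.{u} (n := n) d k).rTensor Γ(G, U) w) := fun k w => by
      induction w using TensorProduct.induction_on with
      | zero => simp only [map_zero]
      | tmul a b => rfl
      | add a b ha hb => simp only [map_add, ha, hb]
    obtain ⟨y, hy⟩ := (hex ((TensorProduct.comm ℤ _ _) z)).1 (by rw [hnat, hz, map_zero])
    refine ⟨theta g q d G U hU p ((TensorProduct.comm ℤ _ _) y), ?_⟩
    refine Eq.trans (natD_theta g q d G U hU p _) ?_
    refine congrArg _ ?_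
    apply (TensorProduct.comm ℤ (CC.{u} n d (p + 2)) Γ(G, U)).injective
    rw [← hy, ← hnat]
    simp
  haveI : Subsingleton ↑(CohB1.cechH (cov g) (Mod g q d G) (p + 1)) :=
    AddCommGrpCat.subsingleton_of_isZero hzero
  exact e.symm.subsingleton

end Groth.Agent.H28.Box
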