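import Groth.Agent.H28.KRRPushK
import Groth.Agent.H28.PullVB
import Groth.Agent.KFlatLib.Scheme.ProjModule
import Groth.Agent.H23.PullPush
import Groth.Agent.KFlatLib.Perfect.Local
import Groth.Agent.KFlatLib.Perfect.Top

/-!
# Properties of `f_K`: projection formula, transitivity, disjointness
-/

set_option linter.style.haveILetI false
set_option linter.unusedSectionVars false
set_option backward.isDefEq.respectTransparency false
set_option backward.isDefEq.respectTransparency.types false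

universe v w u

open CategoryTheory CategoryTheory.Limits AlgebraicGeometry TopologicalSpace

namespace Groth.Agent.H28.KRRPushProp

open Groth.Agent Groth.Agent.KZ.LFRes
open scoped ZeroObject

variable {X Y : Scheme.{u}}

theorem cl_iso {A B : X.Modules} (e : A ≅ B) (hA : FlatMod.IsFinLocFree A) (hB : FlatMod.IsFinLocFree B) :
    KRR.cl X A = KRR.cl X B :=
  KZ.clSub_iso _ e hA hB (isZero_zero _) (KFlatLib.isFinLocFree_of_isZero (isZero_zero _))

set_option maxHeartbeats 1000000 in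
/-- A resolution tensored with a bundle. -/
theorem exists_isLFRes_tensor {E : Y.Modules} (hE : FlatMod.IsFinLocFree E) {M M' : Y.Modules}
    (e : (DCoh.tensorBi.obj M).obj E ≅ M') {n : ℕ} {L : ChainComplex Y.Modules ℕ}
    {π : L ⟶ (ChainComplex.single₀ Y.Modules).obj M} (h : KRR.IsLFRes M n L π) :
    ∃ (L' : ChainComplex Y.Modules ℕ) (π' : L' ⟶ (ChainComplex.single₀ Y.Modules).obj M'),
      KRR.IsLFRes M' n L' π' ∧ ∀ k, L'.X k = (DCoh.tensorBi.obj (L.X k)).obj E := by
  let G : Y.Modules ⥤ Y.Modules := DCoh.tensorBi.flip.obj E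
  haveI : PreservesColimitsOfSize.{u, u} G := ⟨fun {K} _ => inferInstance⟩
  haveI : PreservesColimitsOfSize.{0, 0} G := preservesColimitsOfSize_shrink.{0, u, 0, u} _
  haveI : PreservesBinaryBiproducts G := preservesBinaryBiproducts_of_preservesBinaryCoproducts _
  haveI : G.Additive := Functor.additive_of_preservesBinaryBiproducts _
  haveI : G.PreservesHomology := ((Functor.exact_tfae G).out 0 2).1
    (KFlatLib.flatObj_of_isFlat (KFlatLib.isFlat_of_isFinLocFree hE))
  haveI := h.quasiIso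
  refine ⟨(G.mapHomologicalComplex _).obj L, (G.mapHomologicalComplex _).map π ≫
    (HomologicalComplex.singleMapHomologicalComplex G (ComplexShape.down ℕ) 0).hom.app M ≫
      (ChainComplex.single₀ Y.Modules).map e.hom,
    ⟨fun k => KFlatLib.isFinLocFree_tensor (h.finLocFree k) hE, fun k hk => G.map_isZero (h.isZero k hk),
      inferInstance⟩, fun k => rfl⟩

section Proj

variable (f : X ⟶ Y) [IsClosedImmersion f] [IsNoetherian X] [IsNoetherian Y]

variable {KX : Type v} [CommRing KX] (φX : SGA6.Kvb X →+ KX) (hφX : Function.Bijective φX)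
  {KY : Type w} [CommRing KY] (φY : SGA6.Kvb Y →+ KY)

include hφX in
/-- The projection formula. -/
theorem push_mul_pull (hY : KRR.HasEnoughLocFree Y) (hf : Mor2.IsRegularClosedImmersion f)
    (hφY : Function.Surjective φY)
    (hmX : ∀ E F : X.Modules, FlatMod.IsFinLocFree E → FlatMod.IsFinLocFree F →
      φX (KRR.cl X E) * φX (KRR.cl X F) = φX (KRR.cl X ((DCoh.tensorBi.obj E).obj F)))
    (hmY : ∀ E F : Y.Modules, FlatMod.IsFinLocFree E → FlatMod.IsFinLocFree F →
      φY (KRR.cl Y E) * φY (KRR.cl Y F) = φY (KRR.cl Y ((DCoh.tensorBi.obj E).obj F)))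
    (g : KY →+ KX) (hg : KRR.IsPull f φY φX g) (h : KX →+ KY) (hh : KRR.IsPushCl f φX φY h)
    (x : KX) (y : KY) : h (x * g y) = h x * y := by
  obtain ⟨x, rfl⟩ := hφX.2 x
  obtain ⟨y, rfl⟩ := hφY y
  refine DFunLike.congr_fun
    (f := h.comp ((AddMonoidHom.mulRight (g (φY y))).comp φX))
    (g := (AddMonoidHom.mulRight (φY y)).comp (h.comp φX)) (KZ.K0sub_hom_ext _ fun F hF => ?_) x
  refine DFunLike.congr_fun
    (f := h.comp ((AddMonoidHom.mulLeft (φX (KRR.cl X F))).comp (g.comp φY)))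
    (g := (AddMonoidHom.mulLeft (h (φX (KRR.cl X F)))).comp φY) (KZ.K0sub_hom_ext _ fun E hE => ?_) y
  obtain ⟨n, L, π, hL⟩ := (KRRPushK.p₁_push f hY hf hF).2
  haveI := KFlatLib.isIso_projMod_of_isClosedImmersion f F E
  obtain ⟨L', π', hL', hX'⟩ := exists_isLFRes_tensor hE (asIso (KFlatLib.projMod f F E)) hL
  have hfE := KFlatLib.isFinLocFree_pullback f hE
  show h (φX (KRR.cl X F) * g (φY (KRR.cl Y E))) = h (φX (KRR.cl X F)) * φY (KRR.cl Y E)
  rw [hg E hE, hmX F _ hF hfE, hh F hF n L π hL,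
    hh _ (KFlatLib.isFinLocFree_tensor hF hfE) n L' π' hL', Finset.sum_mul]
  refine Finset.sum_congr rfl fun k _ => ?_
  rw [smul_mul_assoc, hmY _ _ (hL.finLocFree k) hE, hX' k]

end Proj

section Comp

variable {Z : Scheme.{u}} (f : X ⟶ Y) (g : Y ⟶ Z) [IsClosedImmersion f] [IsClosedImmersion g]
  [IsNoetherian X] [IsNoetherian Y] [IsNoetherian Z]

/-- Modules with finite resolutions have push-forwards with finite resolutions. -/
theorem exists_pdlt_push_of_pdlt (hY : KRR.HasEnoughLocFree Y) (hg : Mor2.IsRegularClosedImmersion g) :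
    ∀ (n : ℕ) (M : Y.Modules), PDLT (n + 1) M → ∃ c : ℕ, PDLT (c + 1) ((Scheme.Modules.pushforward g).obj M)
  | 0, M, hM => KRRPush.exists_pdlt_push g hg (pdlt_one_iff.1 hM)
  | n + 1, M, hM => by
    obtain ⟨E, p, hE, hp⟩ := hY M hM.1
    have hS := KZ.kerSeq_shortExact p
    obtain ⟨a, ha⟩ := KRRPush.exists_pdlt_push g hg hE
    obtain ⟨b, hb⟩ := exists_pdlt_push_of_pdlt hY hg n _
      (PDLT.kernel_of hS ((pdlt_one_iff.2 hE).mono (by omega)) hM)
    exact ⟨a + b + 1, PDLT.cokernel_of (KRRPushK.shortExact_push g hS) (QCoh.isCoh_pushforward_finite g hM.1)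
      (hb.mono (by omega)) (ha.mono (by omega))⟩

theorem p₁_push_of_p₁ (hY : KRR.HasEnoughLocFree Y) (hZ : KRR.HasEnoughLocFree Z)
    (hg : Mor2.IsRegularClosedImmersion g) {M : Y.Modules} (hM : P₁ Y M) :
    P₁ Z ((Scheme.Modules.pushforward g).obj M) :=
  let ⟨n, hn⟩ := exists_pdlt hM.2
  let ⟨_, hc⟩ := exists_pdlt_push_of_pdlt g hY hg n M hn
  KRRPushK.p₁_of_pdlt hZ hc

variable {KX : Type v} [CommRing KX] (φX : SGA6.Kvb X →+ KX) (hφX : Function.Bijective φX)
  {KY : Type v} [CommRing KY] (φY : SGA6.Kvb Y →+ KY) (hφY : Function.Bijective φY)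
  {KZ' : Type v} [CommRing KZ'] (φZ : SGA6.Kvb Z →+ KZ')

include hφX hφY in
/-- Transitivity. -/
theorem push_comp (hY : KRR.HasEnoughLocFree Y) (hZ : KRR.HasEnoughLocFree Z)
    (hf : Mor2.IsRegularClosedImmersion f) (hg : Mor2.IsRegularClosedImmersion g)
    (a : KX →+ KY) (ha : KRR.IsPushCl f φX φY a) (b : KY →+ KZ') (hb : KRR.IsPushCl g φY φZ b)
    (c : KX →+ KZ') (hc : KRR.IsPushCl (f ≫ g) φX φZ c) : c = b.comp a := by
  obtain ⟨ιY, -, hιY⟩ := KRRPushK.exists_inclusion hY
  obtain ⟨ιZ, hιZb, hιZ⟩ := KRRPushK.exists_inclusion hZ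
  obtain ⟨G, hG⟩ := KZ.exists_liftSub (P₁ Y)
    (fun M => KZero.clSub (P₁ Z) ((Scheme.Modules.pushforward g).obj M)) fun _ hS h₁ h₂ h₃ =>
    KZ.clSub_ses (P₁ Z) (KRRPushK.shortExact_push g hS) (p₁_push_of_p₁ g hY hZ hg h₁) (p₁_push_of_p₁ g hY hZ hg h₂)
      (p₁_push_of_p₁ g hY hZ hg h₃)
  let eZ := AddEquiv.ofBijective ιZ hιZb
  have hbG : b.comp φY = (φZ.comp eZ.symm.toAddMonoidHom).comp (G.comp ιY) := KZ.K0sub_hom_ext _ fun E hE => by
    show b (φY (KRR.cl Y E)) = φZ (eZ.symm (G (ιY (KRR.cl Y E))))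
    refine (KRRPushK.isPushCl_iff g φY hφY φZ hZ hg hιZb hιZ b).1 hb E hE _ ?_
    rw [hιY E hE, hG E ((resSetup hY).le _ hE)]
    exact eZ.apply_symm_apply _
  refine AddMonoidHom.ext fun x => ?_
  obtain ⟨x, rfl⟩ := hφX.2 x
  refine DFunLike.congr_fun (f := c.comp φX) (g := (b.comp a).comp φX) (KZ.K0sub_hom_ext _ fun F hF => ?_) x
  obtain ⟨n, L, π, hL⟩ := (KRRPushK.p₁_push f hY hf hF).2
  have hFY := KRRPushK.p₁_push f hY hf hF
  have hgF := p₁_push_of_p₁ g hY hZ hg hFY
  let e : (Scheme.Modules.pushforward g).obj ((Scheme.Modules.pushforward f).obj F) ≅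
      (Scheme.Modules.pushforward (f ≫ g)).obj F := (Scheme.Modules.pushforwardComp f g).app F
  have h0 : P₁ Z (0 : Z.Modules) :=
    KRRPushK.p₁_of_pdlt hZ ((pdlt_of_isZero (isZero_zero _)).mono (Nat.zero_le 1))
  have hfgF : P₁ Z ((Scheme.Modules.pushforward (f ≫ g)).obj F) := (resSetup hZ).iso₁.of_iso e hgF
  let z : SGA6.Kvb Y := ∑ k ∈ Finset.range (n + 1), (-1 : ℤ) ^ k • KRR.cl Y (L.X k)
  have hz : a (φX (KRR.cl X F)) = φY z := by
    rw [ha F hF n L π hL]
    simp only [z, map_sum, map_zsmul]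
  obtain ⟨m, L₂, π₂, hL₂⟩ := hfgF.2
  show c (φX (KRR.cl X F)) = b (a (φX (KRR.cl X F)))
  rw [hz, show b (φY z) = φZ (eZ.symm (G (ιY z))) from DFunLike.congr_fun hbG z, hc F hF m L₂ π₂ hL₂,
    KRRPushK.resolution_eq hY hιY hL, hG _ hFY, KZ.clSub_iso _ e hgF hfgF (isZero_zero _) h0,
    ← KRRPushK.resolution_eq hZ hιZ hL₂]
  rw [show eZ.symm (ιZ (∑ k ∈ Finset.range (m + 1), (-1 : ℤ) ^ k • KRR.cl Z (L₂.X k))) = _ from eZ.symm_apply_apply _,
    map_sum]
  simp only [map_zsmul]

end Comp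

section Disjoint

variable {Z : Scheme.{u}}

/-- An exact bounded complex of bundles has class zero after inverse image. -/
theorem sum_pullback_eq_zero (k : Z ⟶ Y) {A : Y.Modules} (hA : IsZero A) {n : ℕ} {L : ChainComplex Y.Modules ℕ}
    {π : L ⟶ (ChainComplex.single₀ Y.Modules).obj A} (h : KRR.IsLFRes A n L π) :
    ∑ i ∈ Finset.range (n + 1), (-1 : ℤ) ^ i • KRR.cl Z ((Scheme.Modules.pullback k).obj (L.X i)) = 0 := by
  haveI := h.quasiIso
  have hex : ∀ i, L.ExactAt (i + 1) := fun i => by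
    rw [← quasiIsoAt_iff_exactAt' π (i + 1) (HomologicalComplex.exactAt_single_obj _ _ _ _ (by simp))]
    infer_instance
  let e : L.opcycles 0 ≅ A := (L.isoHomologyι₀).symm ≪≫ asIso (HomologicalComplex.homologyMap π 0) ≪≫
    HomologicalComplex.singleObjHomologySelfIso (ComplexShape.down ℕ) 0 A
  let φ : ℕ → SGA6.Kvb Z := fun i => KRR.cl Z ((Scheme.Modules.pullback k).obj (L.opcycles i))
  have key : ∀ i, FlatMod.IsFinLocFree (L.opcycles i) ∧
      ∑ j ∈ Finset.range i, (-1 : ℤ) ^ j • KRR.cl Z ((Scheme.Modules.pullback k).obj (L.X j)) =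
        -((-1 : ℤ) ^ i • φ i) := by
    intro i
    induction i with
    | zero =>
      have hz : IsZero (L.opcycles 0) := hA.of_iso e
      refine ⟨KFlatLib.isFinLocFree_of_isZero hz, ?_⟩
      rw [Finset.range_zero, Finset.sum_empty]
      simp only [φ, KRR.cl, KZ.clSub_isZero _ ((Scheme.Modules.pullback k).map_isZero hz), smul_zero, neg_zero]
    | succ i ih =>
      obtain ⟨hi, hs⟩ := ih
      haveI : Mono (L.fromOpcycles (i + 1) i) := by
        have h' := (L.exactAt_iff' (i + 2) (i + 1) i (by simp) (by simp)).1 (hex i)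
        have := h'.mono_fromOpcycles
        have e : L.fromOpcycles (i + 1) i = (L.opcyclesIsoSc' (i + 2) (i + 1) i (by simp) (by simp)).hom ≫
            (L.sc' (i + 2) (i + 1) i).fromOpcycles := by
          rw [← cancel_epi (L.pOpcycles (i + 1))]
          rw [L.p_fromOpcycles, HomologicalComplex.pOpcycles_opcyclesIsoSc'_hom_assoc, ShortComplex.p_fromOpcycles]
          rfl
        rw [e]
        infer_instance
      let S := ShortComplex.mk (L.fromOpcycles (i + 1) i) (L.pOpcycles i)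
        (by rw [← cancel_epi (L.pOpcycles (i + 1))]; simp)
      have hS : S.ShortExact := by
        refine .mk' ?_ inferInstance inferInstance
        refine ShortComplex.exact_of_g_is_cokernel _ (CokernelCofork.IsColimit.ofπ _ _
          (fun g hg => L.descOpcycles g (i + 1) (by simp) (by
            rw [← L.p_fromOpcycles, Category.assoc]
            exact (congrArg _ hg).trans comp_zero))
          (fun g hg => L.p_descOpcycles _ _ _ _) (fun g hg b hb => ?_))
        rw [← cancel_epi (L.pOpcycles i), L.p_descOpcycles]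
        exact hb
      haveI := hS.epi_g
      have h1 : FlatMod.IsFinLocFree (L.opcycles (i + 1)) :=
        H23.PullPush.isFinLocFree_of_iso
          ((hS.fIsKernel.conePointUniqueUpToIso (limit.isLimit (parallelPair S.g 0))).symm : kernel S.g ≅ S.X₁)
          (KFlatLib.isFinLocFree_kernel S.g (h.finLocFree i) hi)
      refine ⟨h1, ?_⟩
      have h2 := KZ.clSub_ses (KRR.vbP Z) (PullVB.shortExact_pullback k hS (KFlatLib.isFlat_of_isFinLocFree hi))
        (KFlatLib.isFinLocFree_pullback k h1) (KFlatLib.isFinLocFree_pullback k (h.finLocFree i))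
        (KFlatLib.isFinLocFree_pullback k hi)
      rw [Finset.sum_range_succ, hs, pow_succ, mul_neg_one, neg_smul, neg_neg]
      rw [show KRR.cl Z ((Scheme.Modules.pullback k).obj (L.X i)) = φ (i + 1) + φ i from h2, smul_add]
      abel
  have hz : IsZero (L.opcycles (n + 1)) := IsZero.of_epi (L.pOpcycles (n + 1)) (h.isZero (n + 1) (by omega))
  rw [(key (n + 1)).2]
  simp only [φ, KRR.cl, KZ.clSub_isZero _ ((Scheme.Modules.pullback k).map_isZero hz), smul_zero, neg_zero]

/-- A resolution restricted to an open. -/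
theorem exists_isLFRes_restrict (U : Y.Opens) {M : Y.Modules} {n : ℕ} {L : ChainComplex Y.Modules ℕ}
    {π : L ⟶ (ChainComplex.single₀ Y.Modules).obj M} (h : KRR.IsLFRes M n L π) :
    ∃ (L' : ChainComplex U.toScheme.Modules ℕ)
      (π' : L' ⟶ (ChainComplex.single₀ U.toScheme.Modules).obj (M.restrict U.ι)),
      KRR.IsLFRes (M.restrict U.ι) n L' π' ∧ ∀ i, L'.X i = (L.X i).restrict U.ι := by
  let G := Scheme.Modules.restrictFunctor U.ι
  haveI : G.Additive := inferInstance
  haveI : G.PreservesHomology := inferInstance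
  haveI := h.quasiIso
  refine ⟨(G.mapHomologicalComplex _).obj L, (G.mapHomologicalComplex _).map π ≫
    (HomologicalComplex.singleMapHomologicalComplex G (ComplexShape.down ℕ) 0).hom.app M,
    ⟨fun i => KFlatLib.isFinLocFree_restrict _ (h.finLocFree i), fun i hi => G.map_isZero (h.isZero i hi),
      inferInstance⟩, fun i => rfl⟩

/-- `h^K` kills push-forwards from a disjoint closed subscheme. -/
theorem pull_push_eq_zero [IsNoetherian X] [IsNoetherian Y] (f : X ⟶ Y) [IsClosedImmersion f]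
    (hY : KRR.HasEnoughLocFree Y) (hf : Mor2.IsRegularClosedImmersion f) (h : Z ⟶ Y)
    (hd : Disjoint (Set.range h.base) (Set.range f.base))
    {KX : Type v} [CommRing KX] (φX : SGA6.Kvb X →+ KX) (hφX : Function.Surjective φX)
    {KY : Type v} [CommRing KY] (φY : SGA6.Kvb Y →+ KY)
    {KZ' : Type v} [CommRing KZ'] (φZ : SGA6.Kvb Z →+ KZ')
    (gh : KY →+ KZ') (hgh : KRR.IsPull h φY φZ gh) (gf : KX →+ KY) (hgf : KRR.IsPushCl f φX φY gf) (p : KX) :
    gh (gf p) = 0 := by
  obtain ⟨p, rfl⟩ := hφX p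
  refine DFunLike.congr_fun (f := (gh.comp gf).comp φX) (g := 0) (KZ.K0sub_hom_ext _ fun F hF => ?_) p
  obtain ⟨n, L, π, hL⟩ := (KRRPushK.p₁_push f hY hf hF).2
  let U : Y.Opens := ⟨(Set.range f.base)ᶜ, f.isClosedEmbedding.isClosed_range.isOpen_compl⟩
  obtain ⟨L', π', hL', hX'⟩ := exists_isLFRes_restrict U hL
  have hz : IsZero (((Scheme.Modules.pushforward f).obj F).restrict U.ι) := by
    refine (IsZero.iff_id_eq_zero _).2 (Scheme.Modules.hom_ext _ _ fun W => ?_)
    have hbot : f ⁻¹ᵁ (U.ι ''ᵁ W) = ⊥ := by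
      refine Opens.ext (Set.eq_empty_iff_forall_notMem.2 fun x hx => ?_)
      obtain ⟨w, -, hw⟩ := hx
      have hwU : f.base x ∈ U := hw ▸ w.2
      exact hwU ⟨x, rfl⟩
    haveI : Subsingleton Γ(((Scheme.Modules.pushforward f).obj F).restrict U.ι, W) := by
      show Subsingleton Γ(F, f ⁻¹ᵁ (U.ι ''ᵁ W))
      rw [hbot]
      exact AddCommGrpCat.subsingleton_of_isZero
        ((TopCat.Sheaf.isTerminalOfEmpty (⟨F.presheaf, F.isSheaf⟩ : TopCat.Sheaf AddCommGrpCat.{u} X.toPresheafedSpace.carrier)).isZero)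
    exact AddCommGrpCat.hom_ext (AddMonoidHom.ext fun x => Subsingleton.elim _ _)
  have hle : Set.range h.base ⊆ Set.range U.ι.base := by
    rw [Scheme.Opens.range_ι]
    exact fun y hy => Set.disjoint_left.1 hd hy
  let k : Z ⟶ U.toScheme := IsOpenImmersion.lift U.ι h hle
  have hk : k ≫ U.ι = h := IsOpenImmersion.lift_fac _ _ hle
  show gh (gf (φX (KRR.cl X F))) = 0
  rw [hgf F hF n L π hL, map_sum, ← map_zero φZ, ← sum_pullback_eq_zero k hz hL', map_sum]
  refine Finset.sum_congr rfl fun i _ => ?_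
  rw [map_zsmul, map_zsmul, hgh _ (hL.finLocFree i), hX' i]
  refine congrArg (fun z => (-1 : ℤ) ^ i • φZ z) (cl_iso ?_ (KFlatLib.isFinLocFree_pullback _ (hL.finLocFree i))
    (KFlatLib.isFinLocFree_pullback _ (KFlatLib.isFinLocFree_restrict _ (hL.finLocFree i))))
  exact (Scheme.Modules.pullbackCongr hk.symm).app (L.X i) ≪≫ ((Scheme.Modules.pullbackComp k U.ι).app (L.X i)).symm ≪≫
    (Scheme.Modules.pullback k).mapIso ((Scheme.Modules.restrictFunctorIsoPullback U.ι).app (L.X i)).symm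

end Disjoint

end Groth.Agent.H28.KRRPushProp
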