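import Groth.Agent.H28.PBEnough
import Groth.Agent.H28.PBSect
import Groth.Agent.H28.PBSplit
import Groth.Agent.H28.LamLine
import Groth.Agent.H28.KRRPushProp

/-!
# The class of a zero scheme
-/

set_option autoImplicit false
set_option linter.style.haveILetI false
set_option linter.unusedSectionVars false
set_option backward.isDefEq.respectTransparency false
set_option backward.isDefEq.respectTransparency.types false
set_option maxHeartbeats 1000000

universe v u

open CategoryTheory CategoryTheory.Limits AlgebraicGeometry TopologicalSpace Opposite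
attribute [local instance] HasDerivedCategory.standard

noncomputable section

namespace Groth.Agent.H28.KRRZero

open Groth.Agent Groth.Agent.H28.KvbLam

theorem lam_cl_eq_zero {Y : Scheme.{u}} {K : Type v} [CommRing K] [LambdaRing.LambdaOps K]
    {P : LambdaRing.PosStructure K} {φ : SGA6.Kvb Y →+ K} (hK : KRR.IsModel Y K P φ) {E : Y.Modules} {r : ℕ}
    (hE : FlatMod.IsFinLocFreeOfRank r E) {i : ℕ} (hi : r < i) :
    LambdaRing.LambdaOps.lam i (φ (cl E)) = 0 := by
  have h := KvbModel.lf_of_rank hE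
  rw [hK.map_lam i E _ h (ExtSh.isFinLocFree_L i h) (ExtSh.isExtPow_L i h)]
  exact (congrArg φ (KZ.clSub_isZero _ (KvbModel.isZero_L hE hi))).trans (map_zero _)

theorem rank_biprod {Y : Scheme.{u}} {A B : Y.Modules} {n m : ℕ} (hA : FlatMod.IsFinLocFreeOfRank n A)
    (hB : FlatMod.IsFinLocFreeOfRank m B) :
    FlatMod.IsFinLocFreeOfRank (n + m) (A ⊞ B) ∧ cl (A ⊞ B) = cl A + cl B := by
  have hse : (ShortComplex.mk (biprod.inl : A ⟶ A ⊞ B) biprod.snd biprod.inl_snd).ShortExact :=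
    (ShortComplex.Splitting.ofHasBinaryBiproduct A B).shortExact
  exact ⟨KvbModel.rank_of_frameAt fun x =>
      KvbModel.frameAt_ses hse (KvbModel.frameAt_of_rank hA x) (KvbModel.frameAt_of_rank hB x),
    KZ.clSub_ses (P := fun M : Y.Modules => FlatMod.IsFinLocFree M) hse (KvbModel.lf_of_rank hA)
      (KFlatLib.isFinLocFree_biprod (KvbModel.lf_of_rank hA) (KvbModel.lf_of_rank hB)) (KvbModel.lf_of_rank hB)⟩

section Bundle

variable {Y P : Scheme.{u}} {π : P ⟶ Y} {d : ℕ} [AlgebraicGeometry.IsNoetherian Y] [AlgebraicGeometry.IsNoetherian P]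
  (D : PBPush.Data π d)
  {KY : Type (u + 1)} [CommRing KY] {φY : SGA6.Kvb Y →+ KY} (hφY : Function.Bijective φY)
  {KP : Type (u + 1)} [CommRing KP] {φP : SGA6.Kvb P →+ KP} (hφP : Function.Bijective φP)
  (hmul : ∀ E F : P.Modules, FlatMod.IsFinLocFree E → FlatMod.IsFinLocFree F →
    φP (KRR.cl P E) * φP (KRR.cl P F) = φP (KRR.cl P (((DCoh.tensorBi (X := P)).obj E).obj F)))
  {gπ : KY →+ KP} (hgπ : KRR.IsPull π φY φP gπ)
  {u : KP} (hu : ∀ a : ℕ, φP (KRR.cl P (CohB1.tensorPow D.Oinv a)) = u ^ a)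

include hφY hφP hmul hgπ hu in
/-- Coordinates in the negative twists and the direct image. -/
theorem exists_coord : ∃ (c : KP → Fin (d + 1) → KY) (ρ : KP →+ KY),
    (∀ z, ∑ i : Fin (d + 1), gπ (c z i) * u ^ (i : ℕ) = z) ∧
    (∀ a : Fin (d + 1) → KY, c (∑ i : Fin (d + 1), gπ (a i) * u ^ (i : ℕ)) = a) ∧
    (∀ z, ρ z = c z 0) ∧
    ∀ F : P.Modules, D.Def 0 F → ρ (φP (KRR.cl P F)) = φY (KRR.cl Y ((Scheme.Modules.pushforward π).obj F)) := by
  classical
  let φe : SGA6.Kvb P ≃+ KP := AddEquiv.ofBijective φP hφP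
  let ψe : SGA6.Kvb Y ≃+ KY := AddEquiv.ofBijective φY hφY
  let G : Fin (d + 1) → (SGA6.Kvb Y →+ SGA6.Kvb P) := fun i =>
    φe.symm.toAddMonoidHom.comp ((AddMonoidHom.mulRight (u ^ (i : ℕ))).comp (gπ.comp φY))
  have hG : ∀ (i : Fin (d + 1)) (N : Y.Modules), FlatMod.IsFinLocFree N →
      G i (KRR.cl Y N) = KRR.cl P (PBBasis.gN D (i : ℕ) N) := fun i N hN => by
    show φe.symm (gπ (φY (KRR.cl Y N)) * u ^ (i : ℕ)) = _
    rw [AddEquiv.symm_apply_eq, hgπ N hN, ← hu, mul_comm, hmul _ _ (PBBasis.lf_pow D _) (KvbPull.lf_pull π hN)]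
    rfl
  have hb := PBBasis.bijective_basis D G hG
  have hG' : ∀ (a : Fin (d + 1) → KY), φP (∑ i : Fin (d + 1), G i (ψe.symm (a i))) = ∑ i : Fin (d + 1), gπ (a i) * u ^ (i : ℕ) := fun a => by
    rw [map_sum]
    refine Finset.sum_congr rfl fun i _ => ?_
    show φe (φe.symm (gπ (φY (ψe.symm (a i))) * u ^ (i : ℕ))) = _
    rw [AddEquiv.apply_symm_apply, show φY (ψe.symm (a i)) = a i from ψe.apply_symm_apply _]
  obtain ⟨p, hp⟩ := D.exists_pushHom
  have hpG : ∀ (i : Fin (d + 1)) (x : SGA6.Kvb Y), p (G i x) = if (i : ℕ) = 0 then x else 0 := by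
    intro i x
    refine DFunLike.congr_fun (f := p.comp (G i))
      (g := if (i : ℕ) = 0 then AddMonoidHom.id _ else 0) (KZ.K0sub_hom_ext _ fun N hN => ?_) x |>.trans ?_
    · show p (G i (KRR.cl Y N)) = _
      rw [hG i N hN, hp _ (PBBasis.def_gN D (Nat.le_of_lt_succ i.2) hN)]
      split_ifs with h
      · rw [h]
        obtain ⟨e0⟩ := PBBasis.gN_zero D N
        haveI := PBBasis.isIso_unit D hN
        let e := (Scheme.Modules.pushforward π).mapIso e0 ≪≫
          (asIso ((Scheme.Modules.pullbackPushforwardAdjunction π).unit.app N)).symm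
        exact GenPush.cl_iso e (H23.PullPush.isFinLocFree_of_iso e.symm hN) hN
      · exact KZ.clSub_isZero _ (PBBasis.isZero_push_gN D (Nat.pos_of_ne_zero h) (Nat.le_of_lt_succ i.2) hN)
    · split_ifs <;> rfl
  let c : KP → Fin (d + 1) → KY := fun z i => ψe ((Function.surjInv hb.2 (φe.symm z)) i)
  have hc1 : ∀ z, ∑ i : Fin (d + 1), gπ (c z i) * u ^ (i : ℕ) = z := fun z => by
    rw [← hG']
    simp only [c, AddEquiv.symm_apply_apply]
    rw [Function.surjInv_eq hb.2 (φe.symm z)]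
    exact φe.apply_symm_apply z
  have hc2 : ∀ a : Fin (d + 1) → KY, c (∑ i : Fin (d + 1), gπ (a i) * u ^ (i : ℕ)) = a := fun a => by
    have h : Function.surjInv hb.2 (φe.symm (∑ i : Fin (d + 1), gπ (a i) * u ^ (i : ℕ))) = fun i => ψe.symm (a i) := by
      refine hb.1 ((Function.surjInv_eq hb.2 _).trans ?_)
      rw [AddEquiv.symm_apply_eq]
      exact (hG' a).symm
    funext i
    show ψe (Function.surjInv hb.2 _ i) = a i
    rw [h, AddEquiv.apply_symm_apply]
  refine ⟨c, ψe.toAddMonoidHom.comp (p.comp φe.symm.toAddMonoidHom), hc1, hc2, fun z => ?_, fun F hF => ?_⟩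
  · show ψe (p (φe.symm z)) = ψe (Function.surjInv hb.2 (φe.symm z) 0)
    conv_lhs => rw [← Function.surjInv_eq hb.2 (φe.symm z)]
    rw [map_sum, Finset.sum_eq_single (0 : Fin (d + 1)) (fun i _ hi => by
      rw [hpG, if_neg fun h => hi (Fin.ext (by simpa using h))]) (by simp), hpG, if_pos (by simp)]
  · show ψe (p (φe.symm (φe (KRR.cl P F)))) = _
    rw [AddEquiv.symm_apply_apply, hp F hF]
    rfl

end Bundle

set_option maxHeartbeats 4000000 in
/-- The class of the zero scheme, in large models. -/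
theorem zero_scheme {X Y : Scheme.{u}} [AlgebraicGeometry.IsNoetherian X] [AlgebraicGeometry.IsNoetherian Y]
    [ConnectedSpace ↥Y] (hYe : KRR.HasEnoughLocFree Y) (d : ℕ) (E' : Y.Modules)
    (hE' : FlatMod.IsFinLocFreeOfRank d E') (t : E' ⟶ Coh.structureModule Y) (i : X ⟶ Y) [IsClosedImmersion i]
    (ht : ∀ U : Y.affineOpens, i.ker.ideal U = Ideal.span {a : Γ(Y, U.1) | ∃ s : Γ(E', U.1), (t.app U.1) s = a})
    (hi : Mor2.IsRegularClosedImmersion i) (hci : FlatMod.IsFinLocFreeOfRank d (Omega.conormal i))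
    {KX : Type (u + 1)} [CommRing KX] [LambdaRing.LambdaOps KX] {PX : LambdaRing.PosStructure KX}
    {φX : SGA6.Kvb X →+ KX} (hKX : KRR.IsModel X KX PX φX)
    {KY : Type (u + 1)} [CommRing KY] [LambdaRing.LambdaOps KY] {PY : LambdaRing.PosStructure KY}
    {φY : SGA6.Kvb Y →+ KY} (hKY : KRR.IsModel Y KY PY φY) (h : KX →+ KY) (hh : KRR.IsPushCl i φX φY h) :
    h 1 = KRR.lamAlt PY (φY (KRR.cl Y E')) := by
  classical
  have hO1Y : FlatMod.IsFinLocFreeOfRank 1 (Coh.structureModule Y) := KvbModel.rank_of_frameAt KvbModel.frameAt_O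
  obtain ⟨hF, hFcl⟩ := rank_biprod hE' hO1Y
  obtain ⟨P, π, O1, q, hP⟩ := PBMake.exists_of_rank hF
  haveI := PBSplit.isNoetherian hP hF
  haveI := PBSplit.connectedSpace hP hF
  obtain ⟨Oinv, hOi, hOO⟩ := H23.PicInv.exists_inverse (PBCores.isInvertible_iff_rank.2 hP.invertible)
  have l1 := KvbModel.lf_of_rank hP.invertible
  have li := KvbModel.lf_of_rank (PBCores.isInvertible_iff_rank.1 hOi)
  obtain ⟨eOO⟩ := hOO
  obtain ⟨ecomm⟩ := H23.PicMul.comm Oinv O1
  obtain ⟨D, hDO, hDi⟩ := PBBasis.exists_data hP hF Oinv ⟨ecomm ≪≫ eOO⟩ li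
  subst hDO hDi
  have hPe := PBEnough.enough D hYe
  haveI := PBCohPush.isProper D
  obtain ⟨s₀, hs₀⟩ := PBSect.exists_isSect (t := (0 : E' ⟶ Coh.structureModule Y)) hP
  obtain ⟨σ, hσ⟩ := PBSect.exists_isSect (t := t) hP
  haveI : IsClosedImmersion s₀ := by
    haveI : IsClosedImmersion (s₀ ≫ π) := by rw [hs₀.1]; infer_instance
    exact IsClosedImmersion.of_comp s₀ π
  have hreg := PBSect.regular_zero hE' hP hs₀
  have hrk := PBSect.rank_zero hE' hP hs₀
  have hsq := PBSect.isPullback_zero hE' hP hσ hs₀ i ht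
  obtain ⟨KP, _, _, PP, φP, hKP⟩ := KvbModel.exists_isModel (X := P)
  obtain ⟨gπ, hgπ, -⟩ := PullVB.existsUnique_isPull π φP φY hKY.bijective
  obtain ⟨gσ, hgσ, -⟩ := PullVB.existsUnique_isPull σ φY φP hKP.bijective
  obtain ⟨g0, hg0, -⟩ := PullVB.existsUnique_isPull s₀ φY φP hKP.bijective
  obtain ⟨gi, hgi, -⟩ := PullVB.existsUnique_isPull i φX φY hKY.bijective
  obtain ⟨gs, hgs, -⟩ := KRRPushK.existsUnique_isPushCl s₀ φY hKY.bijective φP hPe hreg
  have hi1 : gi 1 = 1 := KvbPull.map_one hKX hKY hgi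
  have h1 : h 1 = gσ (gs 1) := by
    rw [KRRBC.pull_pushCl σ hsq hreg hi d hrk hci hYe hPe hKY.bijective.2 hgσ hgi hgs hh 1, hi1]
  let R0 := KvbPull.ringHom hKY hKP hg0
  let Rσ := KvbPull.ringHom hKY hKP hgσ
  let Rπ := KvbPull.ringHom hKP hKY hgπ
  set ℓ := φP (KRR.cl P D.O1) with hℓ
  set u := φP (KRR.cl P D.Oinv) with hudef
  have hlu : u * ℓ = 1 := by
    rw [hudef, hℓ, hKP.map_mul _ _ li l1, ← hKP.map_one]
    exact congrArg φP (GenPush.cl_iso (ecomm ≪≫ eOO) (KFlatLib.isFinLocFree_tensor li l1) KvbLam.lf_O)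
  have hline : ∀ {s : Y ⟶ P} {t' : E' ⟶ Coh.structureModule Y} {g : KP →+ KY}, PBSect.IsSect t' s q →
      KRR.IsPull s φP φY g → g ℓ = 1 := fun {s t' g} hst hg => by
    obtain ⟨-, e, -⟩ := hst
    rw [hℓ, hg _ l1, ← hKY.map_one]
    exact congrArg φY (GenPush.cl_iso e (KvbPull.lf_pull _ l1) KvbLam.lf_O)
  have hgσu : gσ u = 1 := by
    have h2 : Rσ (u * ℓ) = 1 := by rw [hlu, map_one]
    rwa [map_mul, show Rσ ℓ = 1 from hline hσ hgσ, mul_one] at h2
  have hσπ : ∀ y, gσ (gπ y) = y := fun y => by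
    obtain ⟨A, B, hA, hB, rfl⟩ := KvbPull.exists_cl hKY y
    have hcl : ∀ {N : Y.Modules}, FlatMod.IsFinLocFree N → gσ (gπ (φY (KRR.cl Y N))) = φY (KRR.cl Y N) := fun {N} hN => by
      rw [hgπ N hN, hgσ _ (KvbPull.lf_pull π hN)]
      exact congrArg φY (GenPush.cl_iso ((Scheme.Modules.pullbackComp σ π).app N ≪≫
        (Scheme.Modules.pullbackCongr hσ.1).app N ≪≫ (Scheme.Modules.pullbackId Y).app N)
        (KvbPull.lf_pull σ (KvbPull.lf_pull π hN)) hN)
    rw [map_sub gπ, map_sub gσ, hcl hA, hcl hB]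
  set z := gs 1 with hz
  have hzℓ : z * ℓ = z := by
    have h2 := KRRPushProp.push_mul_pull s₀ φY hKY.bijective φP hPe hreg hKP.bijective.2 hKY.map_mul hKP.map_mul g0 hg0 gs hgs 1 ℓ
    rw [hline hs₀ hg0, mul_one] at h2
    exact h2.symm
  have hu : ∀ a : ℕ, φP (KRR.cl P (CohB1.tensorPow D.Oinv a)) = u ^ a := LineTwist.cl_tensorPow hKP hOi
  obtain ⟨c, ρ, hc1, hc2, hρc, hρ⟩ := exists_coord D hKY.bijective hKP.bijective hKP.map_mul hgπ hu
  have hρz : ρ z = 1 := by
    obtain ⟨nn, L, η, hL⟩ := (KRRPushK.p₁_push s₀ hPe hreg (KvbLam.lf_O (X := Y))).2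
    obtain ⟨es⟩ : Nonempty ((Scheme.Modules.pullback s₀).obj D.O1 ≅ Coh.structureModule Y) := ⟨hs₀.2.choose⟩
    have htw : Nonempty (CohB1.tensorMod D.O1 ((Scheme.Modules.pushforward s₀).obj (Coh.structureModule Y)) ≅
        (Scheme.Modules.pushforward s₀).obj (Coh.structureModule Y)) := by
      haveI := KFlatLib.isIso_projMod_of_isClosedImmersion s₀ (Coh.structureModule Y) D.O1
      obtain ⟨c'⟩ := H23.PicMul.comm D.O1 ((Scheme.Modules.pushforward s₀).obj (Coh.structureModule Y))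
      exact ⟨c' ≪≫ asIso (KFlatLib.projMod s₀ (Coh.structureModule Y) D.O1) ≪≫
        (Scheme.Modules.pushforward s₀).mapIso
          ((DCoh.tensorBi.obj (Coh.structureModule Y)).mapIso es ≪≫ KFlatLib.tensorUnitIso _)⟩
    let eπ : (Scheme.Modules.pushforward π).obj ((Scheme.Modules.pushforward s₀).obj (Coh.structureModule Y)) ≅
        Coh.structureModule Y :=
      (Scheme.Modules.pushforwardComp s₀ π).app _ ≪≫ (Scheme.Modules.pushforwardCongr hs₀.1).app _ ≪≫
        (Scheme.Modules.pushforwardId Y).app _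
    have hlf := H23.PullPush.isFinLocFree_of_iso eπ.symm KvbLam.lf_O
    obtain ⟨p, hp⟩ := D.exists_pushHom
    obtain ⟨m, hm⟩ := PBEnough.exists_push_res D hp htw hlf hL
    have hz1 : z = φP (∑ k ∈ Finset.range (nn + 1),
        (-1 : ℤ) ^ k • KRR.cl P (CohB1.tensorMod (CohB1.tensorPow D.O1 m) (L.X k))) := by
      have hzm : z * ℓ ^ m = z := by
        clear hm
        induction m with
        | zero => rw [pow_zero, mul_one]
        | succ m ih => rw [pow_succ, ← mul_assoc, ih, hzℓ]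
      have hl := hgs (Coh.structureModule Y) KvbLam.lf_O nn L η hL
      rw [hKY.map_one, ← hz] at hl
      rw [← hzm, hl, Finset.sum_mul, map_sum]
      refine Finset.sum_congr rfl fun k _ => ?_
      rw [map_zsmul, smul_mul_assoc, hℓ, ← LineTwist.cl_tensorPow hKP (PBCores.isInvertible_iff_rank.2 hP.invertible) m,
        mul_comm, hKP.map_mul _ _ (LineTwist.lf_invertible
          (InvX.isInvertible_tensorPow (PBCores.isInvertible_iff_rank.2 hP.invertible) m)) (hL.finLocFree k)]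
      rfl
    have hρp : ρ.comp φP = φY.comp p := KZ.K0sub_hom_ext _ fun F hF => by
      show ρ (φP (KRR.cl P F)) = φY (p (KRR.cl P F))
      have key : ∀ (j : ℕ) {G : P.Modules}, D.Def j G → ρ (φP (KRR.cl P G)) = φY (p (KRR.cl P G)) := by
        intro j
        induction j with
        | zero => exact fun {G} hG => by rw [hρ G hG, hp G hG]
        | succ j ih =>
          intro G hG
          obtain ⟨f, g, w, hS⟩ := D.exists_coresolution hG.1
          have hses := KZ.clSub_ses (KRR.vbP P) hS hG.1 (KFlatLib.isFinLocFree_tensor D.lfV hG.1)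
            (KFlatLib.isFinLocFree_tensor D.lfQ hG.1)
          rw [show KRR.cl P G = KRR.cl P (D.Mf.obj G) - KRR.cl P (D.Cf.obj G) from eq_sub_of_add_eq hses.symm,
            map_sub φP, map_sub ρ, map_sub p, map_sub φY, ih (D.def_Mf hG), ih (D.def_Cf hG)]
      obtain ⟨j, hj⟩ := D.exists_def hF
      exact key j hj
    rw [hz1, show ρ (φP _) = φY (p _) from DFunLike.congr_fun hρp _, hm, ← hKY.map_one]
    exact congrArg φY (GenPush.cl_iso eπ hlf KvbLam.lf_O)
  set cE := φY (KRR.cl Y E') with hcE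
  let Lc : Fin (d + 1) → KY := fun k => (-1 : KY) ^ (k : ℕ) * LambdaRing.LambdaOps.lam (k : ℕ) cE
  set Λ := ∑ k, gπ (Lc k) * u ^ (k : ℕ) with hΛ
  have hlam := KvbPull.map_lam hKP hKY hgπ
  have hline1 : ∀ j, 2 ≤ j → LambdaRing.LambdaOps.lam j (1 : KP) = 0 := fun j hj => by
    rw [← hKP.map_one]
    exact lam_cl_eq_zero hKP (KvbModel.rank_of_frameAt KvbModel.frameAt_O) (by omega)
  have hlineu : ∀ j, 2 ≤ j → LambdaRing.LambdaOps.lam j u = 0 := fun j hj =>
    lam_cl_eq_zero hKP (PBCores.isInvertible_iff_rank.1 hOi) (by omega)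
  have hΛu : Λ * u = Λ := by
    obtain ⟨F₀, hF₀, hsum⟩ := PBSplit.exists_kernel hKY hKP hF hP hgπ
    set x := u * gπ cE with hxdef
    set e := φP (KRR.cl P F₀) with hedef
    have hx : ∀ j, LambdaRing.LambdaOps.lam j x = u ^ j * gπ (LambdaRing.LambdaOps.lam j cE) := fun j => by
      rw [hxdef, hudef, LineTwist.lam_twist hKP hOi, hlam]
    have hd1 : LambdaRing.LambdaOps.lam (d + 1) x = 0 := by
      rw [hx, hcE, lam_cl_eq_zero hKY hE' (Nat.lt_succ_self d), map_zero, mul_zero]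
    have hd2 : LambdaRing.LambdaOps.lam (d + 1) (u * e) = 0 := by
      rw [hudef, LineTwist.lam_twist hKP hOi, hedef, lam_cl_eq_zero hKP hF₀ (Nat.lt_succ_self d), mul_zero]
    have hxe : x + u = u * e + 1 := by
      have h2 : e + ℓ = gπ cE + 1 := by
        rw [show e + ℓ = gπ (φY (KRR.cl Y (E' ⊞ Coh.structureModule Y))) from hsum,
          show KRR.cl Y (E' ⊞ Coh.structureModule Y) = KRR.cl Y E' + KRR.cl Y (Coh.structureModule Y) from hFcl,
          map_add φY, map_add gπ, hKY.map_one, show gπ 1 = 1 from map_one Rπ]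
      rw [hxdef, ← hlu, ← mul_add, h2, mul_add, mul_one]
    have hz0 := LamLine.alt_add_one_eq_zero hline1 (u * e) d hd2
    rw [← hxe, LamLine.alt_add_line hlineu, Finset.sum_range_succ, hd1, mul_zero, add_zero] at hz0
    have hΛx : Λ = ∑ j ∈ Finset.range (d + 1), (-1 : KP) ^ j * LambdaRing.LambdaOps.lam j x := by
      rw [hΛ, ← Fin.sum_univ_eq_sum_range (fun j => (-1 : KP) ^ j * LambdaRing.LambdaOps.lam j x)]
      refine Finset.sum_congr rfl fun j _ => ?_
      rw [show gπ (Lc j) = Rπ (Lc j) from rfl, map_mul, map_pow, map_neg, map_one, hx]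
      show (-1 : KP) ^ (j : ℕ) * gπ (LambdaRing.LambdaOps.lam (j : ℕ) cE) * u ^ (j : ℕ) = _
      ring
    rw [hΛx]
    linear_combination -hz0
  have hzΛ : z = Λ := by
    have hzu : z * u = z := by
      conv_lhs => rw [← hzℓ]
      rw [mul_assoc, mul_comm ℓ u, hlu, mul_one]
    set a : Fin (d + 1) → KY := fun k => c z k - Lc k with ha
    have hsum : ∑ k, gπ (a k) * u ^ (k : ℕ) = z - Λ := by
      simp only [ha, map_sub, sub_mul, Finset.sum_sub_distrib, hc1]
      rw [hΛ]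
    have ha0 : a 0 = 0 := by
      show c z 0 - Lc 0 = 0
      rw [← hρc, hρz]
      simp [Lc, LambdaRing.LambdaOps.lam_zero]
    have hshift : ∑ k, gπ ((Fin.snoc (fun l : Fin d => a l.succ) 0 : Fin (d + 1) → KY) k) * u ^ (k : ℕ) = z - Λ := by
      have hm : (z - Λ) * ℓ = z - Λ := by
        have h2 : Λ * ℓ = Λ := by
          conv_lhs => rw [← hΛu]
          rw [mul_assoc, hlu, mul_one]
        rw [sub_mul, hzℓ, h2]
      conv_rhs => rw [← hm, ← hsum, Finset.sum_mul]
      rw [Fin.sum_univ_castSucc, Fin.sum_univ_succ (fun k => gπ (a k) * u ^ (k : ℕ) * ℓ)]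
      simp only [Fin.snoc_castSucc, Fin.snoc_last, map_zero, zero_mul, add_zero, ha0, zero_add, Fin.val_castSucc,
        Fin.val_succ]
      refine Finset.sum_congr rfl fun l _ => ?_
      rw [pow_succ, mul_assoc, mul_assoc, hlu, mul_one]
    have hfix : (Fin.snoc (fun l : Fin d => a l.succ) 0 : Fin (d + 1) → KY) = a := by
      rw [← hc2 (Fin.snoc (fun l : Fin d => a l.succ) 0), hshift, ← hsum, hc2]
    have hall : ∀ k, a k = 0 := fun k => by
      induction k using Fin.induction with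
      | zero => exact ha0
      | succ l ih =>
        rw [← ih, ← congrFun hfix l.castSucc, Fin.snoc_castSucc]
    have : z - Λ = 0 := by
      rw [← hsum]
      exact Finset.sum_eq_zero fun k _ => by rw [hall, map_zero, zero_mul]
    exact sub_eq_zero.1 this
  rw [h1, hzΛ, hΛ, KRR.lamAlt, hcE, hKY.aug_cl d E' hE', Int.toNat_natCast,
    ← Fin.sum_univ_eq_sum_range (fun j => (-1 : KY) ^ j * LambdaRing.LambdaOps.lam j (φY (KRR.cl Y E'))), map_sum]
  refine Finset.sum_congr rfl fun k _ => ?_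
  rw [show gσ (gπ (Lc k) * u ^ (k : ℕ)) = Rσ (gπ (Lc k) * u ^ (k : ℕ)) from rfl, map_mul, map_pow,
    show Rσ u = 1 from hgσu, one_pow, mul_one]
  exact hσπ _

set_option maxHeartbeats 1000000 in
/-- The class of the zero scheme, in any models. -/
theorem zero_scheme' {X Y : Scheme.{u}} [AlgebraicGeometry.IsNoetherian X] [ConnectedSpace ↥X]
    [AlgebraicGeometry.IsNoetherian Y] [ConnectedSpace ↥Y] (hYe : KRR.HasEnoughLocFree Y) (d : ℕ) (E' : Y.Modules)
    (hE' : FlatMod.IsFinLocFreeOfRank d E') (t : E' ⟶ Coh.structureModule Y) (i : X ⟶ Y) [IsClosedImmersion i]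
    (ht : ∀ U : Y.affineOpens, i.ker.ideal U = Ideal.span {a : Γ(Y, U.1) | ∃ s : Γ(E', U.1), (t.app U.1) s = a})
    (hi : Mor2.IsRegularClosedImmersion i) (hci : FlatMod.IsFinLocFreeOfRank d (Omega.conormal i))
    {KX : Type v} [CommRing KX] [LambdaRing.LambdaOps KX] {PX : LambdaRing.PosStructure KX}
    {φX : SGA6.Kvb X →+ KX} (hKX : KRR.IsModel X KX PX φX)
    {KY : Type v} [CommRing KY] [LambdaRing.LambdaOps KY] {PY : LambdaRing.PosStructure KY}
    {φY : SGA6.Kvb Y →+ KY} (hKY : KRR.IsModel Y KY PY φY) (h : KX →+ KY) (hh : KRR.IsPushCl i φX φY h) :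
    h 1 = KRR.lamAlt PY (φY (KRR.cl Y E')) := by
  obtain ⟨KX', _, _, PX', φX', hKX'⟩ := KvbModel.exists_isModel (X := X)
  obtain ⟨KY', _, _, PY', φY', hKY'⟩ := KvbModel.exists_isModel (X := Y)
  obtain ⟨h', hh', -⟩ := KRRPushK.existsUnique_isPushCl i φX' hKX'.bijective φY' hYe hi
  have key := zero_scheme hYe d E' hE' t i ht hi hci hKX' hKY' h' hh'
  obtain ⟨g₁, hg₁, -⟩ := PullVB.existsUnique_isPull (𝟙 Y) φY φY' hKY'.bijective
  have hid : ∀ {F : Y.Modules}, FlatMod.IsFinLocFree F → g₁ (φY' (KRR.cl Y F)) = φY (KRR.cl Y F) := fun {F} hF =>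
    (hg₁ F hF).trans (congrArg φY (GenPush.cl_iso ((Scheme.Modules.pullbackId Y).app F) (KvbPull.lf_pull _ hF) hF))
  obtain ⟨n, L, η, hL⟩ := (KRRPushK.p₁_push i hYe hi (KvbLam.lf_O (X := X))).2
  have h1 := hh _ KvbLam.lf_O n L η hL
  have h2 := hh' _ KvbLam.lf_O n L η hL
  rw [hKX.map_one] at h1
  rw [hKX'.map_one, key] at h2
  have hlam := KvbPull.map_lam hKY hKY' hg₁
  let R := KvbPull.ringHom hKY hKY' hg₁
  have h3 := congrArg R h2
  rw [map_sum] at h3
  have h4 : ∀ k, R ((-1 : ℤ) ^ k • φY' (KRR.cl Y (L.X k))) = (-1 : ℤ) ^ k • φY (KRR.cl Y (L.X k)) := fun k => by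
    rw [map_zsmul]
    exact congrArg _ (hid (hL.finLocFree k))
  simp only [h4] at h3
  rw [h1, ← h3, KRR.lamAlt, KRR.lamAlt, hKY.aug_cl d E' hE', hKY'.aug_cl d E' hE', map_sum]
  refine Finset.sum_congr rfl fun j _ => ?_
  rw [map_mul, map_pow, map_neg, map_one]
  refine congrArg _ ((hlam j _).trans (congrArg _ (hid (KvbModel.lf_of_rank hE'))))

end Groth.Agent.H28.KRRZero
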