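import Groth.Agent.H28.ClosedSub
import Mathlib.AlgebraicGeometry.Morphisms.SchemeTheoreticallyDominant
import Mathlib.AlgebraicGeometry.Morphisms.UniversallyOpen
import Mathlib.AlgebraicGeometry.Morphisms.Flat
import Mathlib.AlgebraicGeometry.Sites.Fpqc

/-! Closed subfunctors descend along flat, locally finitely presented surjections. -/

universe u

open CategoryTheory CategoryTheory.Limits AlgebraicGeometry TopologicalSpace

namespace Groth.Agent.H28.ClosedDesc

theorem exists_factor_quotient {W : Scheme.{u}} {A : CommRingCat.{u}} (m : W ⟶ Spec A) [QuasiCompact m] :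
    ∃ (I : Ideal A) (d : W ⟶ Spec (CommRingCat.of (A ⧸ I))),
      IsSchemeTheoreticallyDominant d ∧ d ≫ Spec.map (CommRingCat.ofHom (Ideal.Quotient.mk I)) = m := by
  let ψ : A ⟶ Γ(W, ⊤) := (Scheme.ΓSpecIso A).inv ≫ m.appTop
  let k : CommRingCat.of (A ⧸ RingHom.ker ψ.hom) ⟶ Γ(W, ⊤) := CommRingCat.ofHom ψ.hom.kerLift
  let d : W ⟶ Spec (CommRingCat.of (A ⧸ RingHom.ker ψ.hom)) := W.toSpecΓ ≫ Spec.map k
  have hd : d ≫ Spec.map (CommRingCat.ofHom (Ideal.Quotient.mk (RingHom.ker ψ.hom))) = m := by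
    rw [Category.assoc, ← Spec.map_comp,
      show CommRingCat.ofHom (Ideal.Quotient.mk (RingHom.ker ψ.hom)) ≫ k = ψ from CommRingCat.hom_ext (RingHom.ext fun _ => rfl)]
    simp only [ψ, Spec.map_comp]
    rw [← Scheme.toSpecΓ_naturality_assoc, Scheme.toSpecΓ]
    simp
  haveI : QuasiCompact d := by
    haveI : QuasiCompact (d ≫ Spec.map (CommRingCat.ofHom (Ideal.Quotient.mk (RingHom.ker ψ.hom)))) := hd.symm ▸ ‹_›
    exact QuasiCompact.of_comp d (Spec.map (CommRingCat.ofHom (Ideal.Quotient.mk (RingHom.ker ψ.hom))))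
  refine ⟨_, d, (isSchemeTheoreticallyDominant_iff d).mpr (Scheme.IdealSheafData.ext_of_isAffine ?_), hd⟩
  rw [Scheme.Hom.ker_apply]
  have happ : d.appTop = (Scheme.ΓSpecIso _).hom ≫ k := by
    simp only [d, Scheme.Hom.comp_appTop]
    rw [Scheme.toSpecΓ_appTop, ← Scheme.ΓSpecIso_naturality]
  show RingHom.ker d.appTop.hom = ⊥
  rw [happ]
  refine (RingHom.injective_iff_ker_eq_bot _).mp ?_
  exact (RingHom.kerLift_injective ψ.hom).comp (ConcreteCategory.bijective_of_isIso (Scheme.ΓSpecIso _).hom).1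

variable {X U : Scheme.{u}} (f : U ⟶ X) [Flat f] [LocallyOfFinitePresentation f] [Surjective f]
  (P : ∀ {T : Scheme.{u}}, (T ⟶ X) → Prop) {W' : Scheme.{u}} (i' : W' ⟶ U) [IsClosedImmersion i']
  (hi' : ∀ {T : Scheme.{u}} (v : T ⟶ U), P (v ≫ f) ↔ ∃ z, z ≫ i' = v)
  (hcomp : ∀ {T T' : Scheme.{u}} (v : T' ⟶ T) (x : T ⟶ X), P x → P (v ≫ x))
  (hdesc : ∀ {T T' : Scheme.{u}} (p : T' ⟶ T) [Flat p] [Surjective p] [QuasiCompact p] (x : T ⟶ X), P (p ≫ x) → P x)

include f i' hi' hcomp hdesc in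
theorem exists_ideal (V : X.affineOpens) : ∃ I : Ideal Γ(X, V.1), ∀ (R : CommRingCat.{u}) (q : Γ(X, V.1) ⟶ R),
    P (Spec.map q ≫ V.2.fromSpec) ↔ I ≤ RingHom.ker q.hom := by
  classical
  have hopen : IsOpenMap f := (inferInstance : UniversallyOpen f) |> fun _ => f.isOpenMap
  choose B hB using fun y : (f ⁻¹ᵁ V.1 : U.Opens) =>
    Opens.isBasis_iff_nbhd.mp U.isBasis_affineOpens (U := f ⁻¹ᵁ V.1) y.2
  obtain ⟨s, hs⟩ := V.2.isCompact.elim_finite_subcover (fun y => f '' (B y : Set U))
    (fun y => hopen _ (B y).isOpen) (fun v hv => by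
      obtain ⟨w, rfl⟩ := f.surjective v
      exact Set.mem_iUnion.mpr ⟨⟨w, hv⟩, w, (hB ⟨w, hv⟩).2.1, rfl⟩)
  let O : U.Opens := s.sup B
  have hOle : O ≤ f ⁻¹ᵁ V.1 := Finset.sup_le fun y _ => (hB y).2.2
  haveI : CompactSpace O.toScheme := isCompact_iff_compactSpace.mp (by
    rw [show ((O : U.Opens) : Set U) = ⋃ y ∈ s, (B y : Set U) from by simp [O, Opens.coe_finset_sup, Finset.sup_set_eq_biUnion]]
    exact s.finite_toSet.isCompact_biUnion fun y _ => (hB y).1.isCompact)
  let A := Γ(X, V.1)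
  let g : O.toScheme ⟶ Spec A := f.resLE V.1 O hOle ≫ V.2.isoSpec.hom
  have hg : g ≫ V.2.fromSpec = O.ι ≫ f := by
    simp only [g, Category.assoc, ← IsAffineOpen.isoSpec_inv_ι, Iso.hom_inv_id_assoc]
    exact Scheme.Hom.resLE_comp_ι _ _
  haveI : QuasiCompact g := by
    rw [quasiCompact_iff_compactSpace]
    infer_instance
  haveI : Flat g := by
    haveI : Flat (g ≫ V.2.fromSpec) := by rw [hg]; infer_instance
    haveI : IsOpenImmersion V.2.fromSpec := V.2.isOpenImmersion_fromSpec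
    exact MorphismProperty.of_postcomp @Flat (W' := @IsOpenImmersion) g V.2.fromSpec inferInstance inferInstance
  haveI : Surjective g := ⟨fun v => by
    have hv : V.2.fromSpec v ∈ V.1 := V.2.range_fromSpec.le ⟨v, rfl⟩
    obtain ⟨y, hys, w, hw, hwv⟩ := Set.mem_iUnion₂.mp (hs hv)
    refine ⟨⟨w, Finset.le_sup (f := B) hys hw⟩, ?_⟩
    apply V.2.fromSpec.isOpenEmbedding.injective
    rw [← Scheme.Hom.comp_apply, hg]
    exact hwv⟩
  let WO := pullback i' O.ι
  let j : WO ⟶ O.toScheme := pullback.snd i' O.ι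
  haveI : QuasiCompact (j ≫ g) := inferInstance
  obtain ⟨I, d, hd, hdm⟩ := exists_factor_quotient (j ≫ g)
  haveI := hd
  let ιI := Spec.map (CommRingCat.ofHom (Ideal.Quotient.mk I))
  haveI : IsClosedImmersion ιI := IsClosedImmersion.spec_of_surjective _ Ideal.Quotient.mk_surjective
  haveI : QuasiCompact d := by
    haveI : QuasiCompact (d ≫ ιI) := hdm.symm ▸ (inferInstance : QuasiCompact (j ≫ g))
    exact QuasiCompact.of_comp d ιI
  -- points of `O` in the subfunctor
  have hO : ∀ {T : Scheme.{u}} (v : T ⟶ O.toScheme), P (v ≫ g ≫ V.2.fromSpec) ↔ ∃ k, k ≫ j = v := by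
    intro T v
    rw [hg, ← Category.assoc, hi']
    constructor
    · rintro ⟨z, hz⟩
      exact ⟨pullback.lift z v hz, pullback.lift_snd _ _ _⟩
    · rintro ⟨k, rfl⟩
      exact ⟨k ≫ pullback.fst i' O.ι, by simp [j, pullback.condition]⟩
  -- the key: the base change of the image lies in the subfunctor
  let G := pullback ιI g
  let dG : WO ⟶ G := pullback.lift d j hdm
  have hGj : ∃ k, k ≫ j = pullback.snd ιI g := by
    let pr := pullback.snd d (pullback.fst ιI g)
    haveI : IsSchemeTheoreticallyDominant pr := inferInstance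
    have hpr : P ((pr ≫ pullback.snd ιI g) ≫ g ≫ V.2.fromSpec) := by
      have h1 : (pr ≫ pullback.snd ιI g) ≫ g = pullback.fst d (pullback.fst ιI g) ≫ j ≫ g := by
        rw [Category.assoc, ← pullback.condition, ← Category.assoc pr, ← pullback.condition, Category.assoc, hdm]
      rw [← Category.assoc, h1, Category.assoc]
      exact hcomp _ _ (by rw [Category.assoc]; exact (hO j).mpr ⟨𝟙 _, Category.id_comp _⟩)
    obtain ⟨k, hk⟩ := (hO _).mp hpr
    haveI : Mono (pullback.snd ιI g) := inferInstance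
    have hkd : k ≫ dG = pr := by
      rw [← cancel_mono (pullback.snd ιI g), Category.assoc, pullback.lift_snd, hk]
    haveI : IsClosedImmersion dG := by
      haveI : IsClosedImmersion (dG ≫ pullback.snd ιI g) := by rw [pullback.lift_snd]; infer_instance
      exact IsClosedImmersion.of_comp_isClosedImmersion dG (pullback.snd ιI g)
    have hker : dG.ker = ⊥ := le_bot_iff.mp <| by
      rw [← pr.ker_eq_bot, ← hkd]
      exact Scheme.Hom.le_ker_comp _ _
    haveI := IsClosedImmersion.isIso_iff_ker_eq_bot.mpr hker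
    exact ⟨inv dG, by rw [IsIso.inv_comp_eq, pullback.lift_snd]⟩
  refine ⟨I, fun R q => ?_⟩
  let x := Spec.map q
  let T' := pullback x g
  let p : T' ⟶ Spec R := pullback.fst x g
  haveI : Flat p := inferInstance
  haveI : Surjective p := inferInstance
  haveI : QuasiCompact p := inferInstance
  constructor
  · intro h
    have h' : P (pullback.snd x g ≫ g ≫ V.2.fromSpec) := by
      rw [← pullback.condition_assoc]
      exact hcomp p _ h
    obtain ⟨k, hk⟩ := (hO _).mp h'
    have hz : (k ≫ d) ≫ ιI = p ≫ x := by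
      rw [Category.assoc, hdm, ← Category.assoc, hk]
      exact pullback.condition.symm
    obtain ⟨z, hz'⟩ : ∃ z, p ≫ z = k ≫ d := by
      refine ⟨EffectiveEpi.desc p (k ≫ d) fun a b hab => ?_, EffectiveEpi.fac _ _ _⟩
      rw [← cancel_mono ιI, Category.assoc a, Category.assoc b, hz, ← Category.assoc, ← Category.assoc, hab]
    have hx : z ≫ ιI = x := by
      rw [← cancel_epi p, ← Category.assoc, hz', hz]
    obtain ⟨z', rfl⟩ := Spec.map_surjective z
    have hq : CommRingCat.ofHom (Ideal.Quotient.mk I) ≫ z' = q := Spec.map_injective (by rw [Spec.map_comp]; exact hx)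
    intro r hr
    rw [RingHom.mem_ker, ← hq]
    show z'.hom (Ideal.Quotient.mk I r) = 0
    rw [Ideal.Quotient.eq_zero_iff_mem.mpr hr, map_zero]
  · intro h
    obtain ⟨k, hk⟩ := hGj
    let z : Spec R ⟶ Spec (CommRingCat.of (A ⧸ I)) :=
      Spec.map (CommRingCat.ofHom (Ideal.Quotient.lift I q.hom fun r hr => h hr))
    have hz : z ≫ ιI = x := by
      rw [← Spec.map_comp]
      congr 1
    refine hdesc p _ ?_
    have hsq : (p ≫ z) ≫ ιI = pullback.snd x g ≫ g := by
      rw [Category.assoc, hz, pullback.condition]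
    rw [pullback.condition_assoc]
    refine (hO _).mpr ⟨pullback.lift (p ≫ z) (pullback.snd x g) hsq ≫ k, ?_⟩
    rw [Category.assoc, hk, pullback.lift_snd]

end Groth.Agent.H28.ClosedDesc
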