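import Mathlib.AlgebraicGeometry.IdealSheaf.Subscheme
import Mathlib.AlgebraicGeometry.AffineScheme
import Mathlib.AlgebraicGeometry.Morphisms.ClosedImmersion

/-! A subfunctor of a scheme which is closed on every affine open is a closed subscheme. -/

universe u

open CategoryTheory CategoryTheory.Limits AlgebraicGeometry TopologicalSpace

namespace Groth.Agent.H28.ClosedSub

variable {X : Scheme.{u}}

/-- A morphism from an affine scheme into an affine open. -/
theorem eq_comp_fromSpec {T : Scheme.{u}} [IsAffine T] (x : T ⟶ X) {U : X.Opens} (hU : IsAffineOpen U)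
    (e : ⊤ ≤ x ⁻¹ᵁ U) : x = T.isoSpec.hom ≫ Spec.map (x.appLE U ⊤ e) ≫ hU.fromSpec := by
  rw [IsAffineOpen.SpecMap_appLE_fromSpec x hU (isAffineOpen_top T) e, IsAffineOpen.fromSpec_top,
    Iso.hom_inv_id_assoc]

theorem exists_closed (P : ∀ {T : Scheme.{u}}, (T ⟶ X) → Prop)
    (hcomp : ∀ {T T' : Scheme.{u}} (u : T' ⟶ T) (x : T ⟶ X), P x → P (u ≫ x))
    (hloc : ∀ {T : Scheme.{u}} (x : T ⟶ X) (𝒱 : Scheme.OpenCover.{u} T), (∀ i, P (𝒱.f i ≫ x)) → P x)
    (hkey : ∀ U : X.affineOpens, ∃ I : Ideal Γ(X, U.1), ∀ (R : CommRingCat.{u}) (q : Γ(X, U.1) ⟶ R),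
      P (Spec.map q ≫ U.2.fromSpec) ↔ I ≤ RingHom.ker q.hom) :
    ∃ (Z : Scheme.{u}) (i : Z ⟶ X), IsClosedImmersion i ∧ ∀ {T : Scheme.{u}} (x : T ⟶ X), P x ↔ ∃ z, z ≫ i = x := by
  choose I hI using hkey
  have haff : ∀ (T : Scheme.{u}) [IsAffine T] (x : T ⟶ X) (U : X.affineOpens) (e : ⊤ ≤ x ⁻¹ᵁ U.1),
      P x ↔ I U ≤ RingHom.ker (x.appLE U.1 ⊤ e).hom := by
    intro T _ x U e
    rw [← hI U]
    have he := eq_comp_fromSpec x U.2 e
    constructor <;> intro h
    · have h2 := hcomp T.isoSpec.inv x h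
      rw [he, Iso.inv_hom_id_assoc] at h2
      exact h2
    · rw [he]
      exact hcomp _ _ h
  have hmap : ∀ (U : X.affineOpens) (f : Γ(X, U.1)),
      (I U).map (X.presheaf.map (homOfLE <| X.basicOpen_le f).op).hom = I (X.affineBasicOpen f) := by
    intro U f
    refine eq_of_forall_ge_iff fun J => ?_
    let D := X.affineBasicOpen f
    let R := CommRingCat.of (Γ(X, D.1) ⧸ J)
    let q : Γ(X, D.1) ⟶ R := CommRingCat.ofHom (Ideal.Quotient.mk J)
    let res := X.presheaf.map (homOfLE <| X.basicOpen_le f).op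
    have hq : RingHom.ker q.hom = J := Ideal.mk_ker
    rw [← hq, Ideal.map_le_iff_le_comap]
    change I U ≤ RingHom.ker (res ≫ q).hom ↔ I D ≤ _
    rw [← hI U R (res ≫ q), ← hI D R q, Spec.map_comp, Category.assoc]
    rw [show Spec.map res ≫ U.2.fromSpec = D.2.fromSpec from U.2.map_fromSpec D.2 _]
    exact Iff.rfl
  let J : X.IdealSheafData := { ideal := I, map_ideal_basicOpen := hmap }
  have hι : P J.subschemeι := by
    refine hloc _ J.subschemeCover.openCover fun U => ?_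
    haveI : IsAffine (J.subschemeCover.openCover.X U) := inferInstanceAs (IsAffine (Spec _))
    have hU : J.subschemeι ⁻¹ᵁ U.1 = Scheme.Hom.opensRange (J.subschemeCover.openCover.f U) :=
      (J.opensRange_subschemeCover_map U).symm
    refine (haff _ _ U ?_).mpr ?_
    · intro z _
      show J.subschemeι _ ∈ U.1
      exact hU.ge ⟨z, rfl⟩
    · intro r hr
      have h : J.subschemeι.app U.1 r = 0 :=
        ((J.ker_subschemeι_app U).ge hr : r ∈ RingHom.ker _)
      rw [RingHom.mem_ker, Scheme.Hom.comp_appLE]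
      rw [CommRingCat.hom_comp, RingHom.comp_apply, h, map_zero]
  refine ⟨J.subscheme, J.subschemeι, inferInstance, fun {T} x => ⟨fun h => ?_, ?_⟩⟩
  · have hle : J ≤ x.ker := by
      show J ≤ Scheme.IdealSheafData.ofIdeals _
      rw [Scheme.IdealSheafData.le_ofIdeals_iff]
      intro U r hr
      rw [RingHom.mem_ker]
      choose V hV using fun z : (x ⁻¹ᵁ U.1 : T.Opens) =>
        Opens.isBasis_iff_nbhd.mp T.isBasis_affineOpens (U := x ⁻¹ᵁ U.1) z.2
      refine T.sheaf.eq_of_locally_eq' V (x ⁻¹ᵁ U.1) (fun z => homOfLE (hV z).2.2)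
        (fun y hy => Opens.mem_iSup.mpr ⟨⟨y, hy⟩, (hV ⟨y, hy⟩).2.1⟩) _ _ fun z => ?_
      haveI : IsAffine (Spec Γ(T, V z)) := inferInstance
      have e : (⊤ : (Spec Γ(T, V z)).Opens) ≤ ((hV z).1.fromSpec ≫ x) ⁻¹ᵁ U.1 := by
        intro y _
        exact (hV z).2.2 ((hV z).1.range_fromSpec.le ⟨y, rfl⟩)
      have h1 := (haff _ ((hV z).1.fromSpec ≫ x) U e).mp (hcomp _ _ h) hr
      have h2 : ((hV z).1.fromSpec ≫ x).appLE U.1 ⊤ e =
          x.appLE U.1 (V z) (hV z).2.2 ≫ (Scheme.ΓSpecIso Γ(T, V z)).inv := by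
        rw [← Scheme.Hom.appLE_comp_appLE (hV z).1.fromSpec x U.1 (V z) ⊤ (hV z).2.2
          (fun y _ => (hV z).1.range_fromSpec.le ⟨y, rfl⟩)]
        congr 1
        rw [Scheme.Hom.appLE, (hV z).1.fromSpec_app_self, Category.assoc, ← Functor.map_comp]
        exact (congrArg _ (CategoryTheory.Functor.map_id _ _)).trans (Category.comp_id _)
      rw [RingHom.mem_ker, h2] at h1
      refine Eq.trans (?_ : x.appLE U.1 (V z) (hV z).2.2 r = 0) (map_zero _).symm
      exact (ConcreteCategory.bijective_of_isIso (Scheme.ΓSpecIso Γ(T, V z)).inv).1 (h1.trans (map_zero _).symm)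
    exact ⟨x.toImage ≫ Scheme.IdealSheafData.inclusion hle, by
      rw [Category.assoc, Scheme.IdealSheafData.inclusion_subschemeι]
      exact x.toImage_imageι⟩
  · rintro ⟨z, rfl⟩
    exact hcomp z _ hι

end Groth.Agent.H28.ClosedSub
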