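import Groth.Prelude.Def_CAlg
import Groth.Prelude.Def_W4c5grrsingularflatDSeq
import Groth.Agent.LC.GorLoc
import Groth.Agent.LC.DepthExt
import Groth.Agent.Alg6.AssDepth
import Mathlib

/-!
Primes generated by height + 1 elements in Cohen-Macaulay local rings are generated by d-sequences.
-/

set_option autoImplicit false
set_option linter.style.haveILetI false
set_option maxHeartbeats 1000000

universe u

open IsLocalRing RingTheory.Sequence

namespace Groth.Agent.H28.DSeq

open Groth.Agent

section

variable {R : Type u} [CommRing R] [IsLocalRing R]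

open scoped Classical in
/-- Exchange: an element outside `𝔪 P + (ts)` replaces one of the remaining generators of `P`. -/
theorem exchange (P : Ideal R) (ts : List R) (G : Finset R) (x : R)
    (hP : P = Ideal.ofList ts ⊔ Ideal.span (G : Set R)) (hx : x ∈ P)
    (hx' : x ∉ maximalIdeal R * P ⊔ Ideal.ofList ts) :
    ∃ g ∈ G, P = Ideal.ofList (ts ++ [x]) ⊔ Ideal.span ((G.erase g : Finset R) : Set R) := by
  have hx0 := hx
  rw [hP] at hx0
  obtain ⟨a, ha, b, hb, rfl⟩ := Submodule.mem_sup.1 hx0
  obtain ⟨c, -, hc⟩ := Submodule.mem_span_finset.1 hb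
  have hgP : ∀ g ∈ G, g ∈ P := fun g hg => hP ▸ Submodule.mem_sup_right (Ideal.subset_span hg)
  obtain ⟨g, hg, hu⟩ : ∃ g ∈ G, IsUnit (c g) := by
    by_contra h
    push Not at h
    refine hx' (Submodule.add_mem _ (Submodule.mem_sup_right ha) (Submodule.mem_sup_left ?_))
    rw [← hc]
    exact Submodule.sum_mem _ fun g hg => Ideal.mul_mem_mul (h g hg) (hgP g hg)
  refine ⟨g, hg, le_antisymm ?_ ?_⟩
  · set J := Ideal.ofList (ts ++ [a + b]) ⊔ Ideal.span ((G.erase g : Finset R) : Set R)
    have hts : Ideal.ofList ts ≤ J := le_sup_of_le_left (Ideal.span_mono fun y hy => List.mem_append.2 (Or.inl hy))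
    have hab : a + b ∈ J := Submodule.mem_sup_left (Ideal.subset_span (List.mem_append.2 (Or.inr (by simp))))
    have hrest : ∀ y ∈ G.erase g, y ∈ J := fun y hy => Submodule.mem_sup_right (Ideal.subset_span hy)
    rw [hP]
    refine sup_le hts (Ideal.span_le.2 fun y hy => ?_)
    have hy : y ∈ G := hy
    by_cases hyg : y = g
    · subst hyg
      have h1 : b = c y • y + ∑ z ∈ G.erase y, c z • z :=
        hc.symm.trans (Finset.add_sum_erase G (fun z => c z • z) hy).symm
      have h2 : c y • y ∈ J := by
        have h3 : c y • y = (a + b) - a - ∑ z ∈ G.erase y, c z • z := by rw [h1]; abel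
        rw [h3]
        exact J.sub_mem (J.sub_mem hab (hts ha)) (Submodule.sum_mem _ fun z hz => J.smul_mem _ (hrest z hz))
      exact (Ideal.unit_mul_mem_iff_mem J hu).1 h2
    · exact hrest y (Finset.mem_erase.2 ⟨hyg, hy⟩)
  · refine sup_le (Ideal.span_le.2 fun y hy => ?_) (Ideal.span_le.2 fun y hy => hgP y (Finset.mem_of_mem_erase hy))
    rcases List.mem_append.1 hy with h | h
    · exact hP ▸ Submodule.mem_sup_left (Ideal.subset_span h)
    · rw [List.mem_singleton] at h
      subst h
      exact hx

end

variable {T : Type u} [CommRing T] [LocCoh.IsCohenMacaulayLocalRing T]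

/-- Associated primes of the quotient by a regular sequence have height its length. -/
theorem height_of_ass {rs : List T} (h : IsWeaklyRegular T rs) {q : Ideal T}
    (hq : q ∈ associatedPrimes T (T ⧸ (Ideal.ofList rs • ⊤ : Submodule T T))) :
    Ideal.ofList rs ≤ q ∧ q.height = rs.length := by
  obtain ⟨hqp, z, hz⟩ := Alg6.mem_ass_iff.1 hq
  have hle : Ideal.ofList rs ≤ q := fun a ha => by
    rw [hz a]
    obtain ⟨w, rfl⟩ := Submodule.mkQ_surjective _ z
    rw [Submodule.mkQ_apply, ← Submodule.Quotient.mk_smul, Submodule.Quotient.mk_eq_zero]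
    exact Submodule.smul_mem_smul ha trivial
  have hqt : q • (⊤ : Submodule T T) ≠ ⊤ := by rw [smul_eq_mul, Ideal.mul_top]; exact hqp.ne_top
  have hd := LC.idealDepth_quot_ofList q h (fun r hr => hle (Ideal.subset_span hr))
  rw [LC.idealDepth_self_eq_height, LC.idealDepth_eq_zero_of_forall q
    (LC.smul_top_quot_ne_top q hqt hle) fun r hr hreg => Alg6.isSMulRegular_iff_forall_ass.1 hreg q hq hr,
    zero_add] at hd
  exact ⟨hle, hd.symm⟩

variable (p : Ideal T) [p.IsPrime]

open scoped Classical in
/-- A regular sequence in `p` that is part of a minimal generating set and of a regular system of `p T_p`. -/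
theorem exists_seq [IsRegularLocalRing (Localization.AtPrime p)] (h : ℕ) (hh : p.height = h)
    (G : Finset T) (hG : Ideal.span (G : Set T) = p) (G' : Finset (Localization.AtPrime p))
    (hG' : Ideal.span (G' : Set (Localization.AtPrime p)) = maximalIdeal (Localization.AtPrime p)) :
    ∀ j ≤ h, ∃ (ts : List T) (R₁ : Finset T) (R₂ : Finset (Localization.AtPrime p)),
      ts.length = j ∧ R₁.card + j = G.card ∧ R₂.card + j = G'.card ∧ (∀ t ∈ ts, t ∈ p) ∧
      IsWeaklyRegular T ts ∧ p = Ideal.ofList ts ⊔ Ideal.span (R₁ : Set T) ∧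
      maximalIdeal (Localization.AtPrime p) = Ideal.ofList (ts.map (algebraMap T (Localization.AtPrime p))) ⊔
        Ideal.span (R₂ : Set (Localization.AtPrime p)) := by
  intro j
  induction j with
  | zero => exact fun _ => ⟨[], G, G', rfl, rfl, rfl, by simp, .nil T T, by simp [hG], by simp [hG']⟩
  | succ j ih =>
    intro hj
    obtain ⟨ts, R₁, R₂, hlen, hc₁, hc₂, hmem, hreg, h₁, h₂⟩ := ih (by omega)
    let A := Localization.AtPrime p
    let f := algebraMap T A
    let M₁ : Ideal T := maximalIdeal T * p ⊔ Ideal.ofList ts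
    let M₂ : Ideal T := (maximalIdeal A * maximalIdeal A ⊔ Ideal.ofList (ts.map f)).comap f
    have hJh : ∀ q : Ideal T, q.IsPrime → Ideal.ofList ts ≤ p → (p ≤ q) → q.height ≠ (j : ℕ∞) := by
      intro q _ _ hpq he
      have := Ideal.height_mono hpq
      rw [hh, he] at this
      exact absurd (ENat.natCast_le_natCast.1 this) (by omega)
    have hJp : Ideal.ofList ts ≤ p := Ideal.span_le.2 fun t ht => hmem t ht
    have hA : ringKrullDim A = (h : WithBot ℕ∞) := by
      rw [IsLocalization.AtPrime.ringKrullDim_eq_height p A, hh]; rfl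
    have hM₁ : ¬ p ≤ M₁ := fun hle => by
      have hp : p ≤ Ideal.ofList ts := by
        refine Submodule.le_of_le_smul_of_le_jacobson_bot (IsNoetherian.noetherian p)
          (IsLocalRing.jacobson_eq_maximalIdeal ⊥ bot_ne_top).ge ?_
        rw [sup_comm, smul_eq_mul]
        exact hle
      have hp' : p = Ideal.ofList ts := le_antisymm hp hJp
      have h1 := Ideal.height_le_spanFinrank p (Ideal.IsPrime.ne_top ‹_›)
      rw [hh] at h1
      have h2 : Submodule.spanFinrank p ≤ j := by
        rw [hp', ← hlen, Ideal.ofList, ← List.coe_toFinset]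
        exact ((Submodule.spanFinrank_span_le_ncard_of_finite (Finset.finite_toSet _)).trans_eq
          (Set.ncard_coe_finset _)).trans (List.toFinset_card_le ts)
      have h3 := ENat.natCast_le_natCast.1 h1
      omega
    have hM₂ : ¬ p ≤ M₂ := fun hle => by
      have hp : maximalIdeal A ≤ Ideal.ofList (ts.map f) := by
        refine Submodule.le_of_le_smul_of_le_jacobson_bot (IsNoetherian.noetherian _)
          (IsLocalRing.jacobson_eq_maximalIdeal ⊥ bot_ne_top).ge ?_
        rw [sup_comm, smul_eq_mul, ← Localization.AtPrime.map_eq_maximalIdeal]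
        rw [Localization.AtPrime.map_eq_maximalIdeal]
        refine le_trans ?_ (Ideal.map_le_iff_le_comap.2 hle)
        rw [Localization.AtPrime.map_eq_maximalIdeal]
      have hp' : maximalIdeal A = Ideal.ofList (ts.map f) := le_antisymm hp (h₂ ▸ le_sup_left)
      have h1 := ringKrullDim_le_spanFinrank_maximalIdeal (R := A)
      have h2 : Submodule.spanFinrank (maximalIdeal A) ≤ j := by
        rw [hp', ← hlen, Ideal.ofList, ← List.coe_toFinset, ← List.length_map f]
        exact ((Submodule.spanFinrank_span_le_ncard_of_finite (Finset.finite_toSet _)).trans_eq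
          (Set.ncard_coe_finset _)).trans (List.toFinset_card_le _)
      rw [hA] at h1
      have h3 : h ≤ Submodule.spanFinrank (maximalIdeal A) := by exact_mod_cast h1
      omega
    let Q := T ⧸ (Ideal.ofList ts • ⊤ : Submodule T T)
    have hfin : (associatedPrimes T Q).Finite := associatedPrimes.finite T Q
    obtain ⟨x, hxp, hx₁, hx₂, hxq⟩ : ∃ x ∈ p, x ∉ M₁ ∧ x ∉ M₂ ∧ ∀ q ∈ associatedPrimes T Q, x ∉ q := by
      by_contra hne
      push Not at hne
      let g : Option (Option (Ideal T)) → Ideal T := fun o => o.elim M₁ fun o' => o'.elim M₂ id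
      have hsub : (p : Set T) ⊆ ⋃ i ∈ ((insert none (insert (some none)
          (hfin.toFinset.image fun q => some (some q))) : Finset (Option (Option (Ideal T)))) : Set _), (g i : Set T) := by
        intro x hx
        simp only [Finset.coe_insert, Finset.coe_image, Set.mem_iUnion, Set.mem_insert_iff, Set.mem_image,
          Finset.mem_coe, Set.Finite.mem_toFinset, exists_prop]
        by_cases a₁ : x ∈ M₁
        · exact ⟨none, Or.inl rfl, a₁⟩
        by_cases a₂ : x ∈ M₂
        · exact ⟨some none, Or.inr (Or.inl rfl), a₂⟩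
        obtain ⟨q, hq, hxq⟩ := hne x hx a₁ a₂
        exact ⟨some (some q), Or.inr (Or.inr ⟨q, hq, rfl⟩), hxq⟩
      obtain ⟨i, hi, hle⟩ := (Ideal.subset_union_prime none (some none) fun i hi n₁ n₂ => by
        rcases i with _ | _ | q
        · exact absurd rfl n₁
        · exact absurd rfl n₂
        · simp only [Finset.mem_insert, reduceCtorEq, Option.some.injEq, Finset.mem_image, Set.Finite.mem_toFinset,
            false_or, exists_eq_right] at hi
          exact hi.1).1 hsub
      rcases i with _ | _ | q
      · exact hM₁ hle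
      · exact hM₂ hle
      · simp only [Finset.mem_insert, reduceCtorEq, Option.some.injEq, Finset.mem_image, Set.Finite.mem_toFinset,
          false_or, exists_eq_right] at hi
        exact hJh q hi.1 hJp hle (hlen ▸ (height_of_ass hreg hi).2)
    obtain ⟨g, hg, e₁⟩ := exchange p ts R₁ x h₁ hxp hx₁
    obtain ⟨g', hg', e₂⟩ := exchange (maximalIdeal A) (ts.map f) R₂ (f x) h₂
      (Localization.AtPrime.map_eq_maximalIdeal (I := p) ▸ Ideal.mem_map_of_mem f hxp) hx₂
    refine ⟨ts ++ [x], R₁.erase g, R₂.erase g', by simp [hlen], ?_, ?_, ?_, ?_, e₁, ?_⟩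
    · rw [Finset.card_erase_of_mem hg]; have := Finset.card_pos.2 ⟨g, hg⟩; omega
    · rw [Finset.card_erase_of_mem hg']; have := Finset.card_pos.2 ⟨g', hg'⟩; omega
    · intro t ht
      rcases List.mem_append.1 ht with a | a
      · exact hmem t a
      · rw [List.mem_singleton] at a; exact a ▸ hxp
    · exact (LC.isWeaklyRegular_concat_iff ts x).2 ⟨hreg, Alg6.isSMulRegular_iff_forall_ass.2 hxq⟩
    · rw [e₂, List.map_append, List.map_singleton]

omit [LocCoh.IsCohenMacaulayLocalRing T] in
theorem mem_colon_single {J : Ideal T} {a x : T} : x ∈ J.colon {a} ↔ x * a ∈ J :=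
  Submodule.mem_colon_singleton

/-- A regular sequence followed by one element with `(J : t²) = (J : t)` is a d-sequence when minimal. -/
theorem colon_of_regular {ts : List T} (hreg : IsWeaklyRegular T ts) {i k : ℕ} (hik : i < k)
    (hi : i < ts.length) (a : T) (x : T) (hx : x * a * ts[i] ∈ Ideal.ofList (ts.take i)) :
    x * a ∈ Ideal.ofList (ts.take i) := by
  have h := (RingTheory.Sequence.isWeaklyRegular_iff T ts).1 hreg i hi
  rw [isSMulRegular_iff_right_eq_zero_of_smul] at h
  have hz : ∀ y : T, y ∈ Ideal.ofList (ts.take i) ↔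
      (Submodule.Quotient.mk y : T ⧸ (Ideal.ofList (ts.take i) • ⊤ : Submodule T T)) = 0 := fun y => by
    rw [Submodule.Quotient.mk_eq_zero, smul_eq_mul, Ideal.mul_top]
  rw [hz] at hx ⊢
  refine h _ ?_
  exact (congrArg (Submodule.Quotient.mk (p := (Ideal.ofList (ts.take i) • ⊤ : Submodule T T)))
    (mul_comm (ts[i]) (x * a))).trans hx

open scoped Classical in
theorem exists_dseq (hgen : (Submodule.spanFinrank p : ℕ∞) ≤ p.height + 1)
    [IsRegularLocalRing (Localization.AtPrime p)] :
    ∃ ts : List T, Ideal.ofList ts = p ∧ W4c5grrsingularflat.IsDSeq ts := by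
  let A := Localization.AtPrime p
  obtain ⟨h, hh⟩ := ENat.ne_top_iff_exists.1 (Ideal.height_ne_top (I := p) (Ideal.IsPrime.ne_top ‹_›))
  obtain ⟨G, hGc, hG⟩ := Submodule.FG.exists_span_finset_card_eq_spanFinrank (IsNoetherian.noetherian p)
  obtain ⟨G', hG'c, hG'⟩ := Submodule.FG.exists_span_finset_card_eq_spanFinrank
    (IsNoetherian.noetherian (maximalIdeal A))
  have hG'h : G'.card = h := by
    have e := IsRegularLocalRing.spanFinrank_maximalIdeal (R := A)
    rw [IsLocalization.AtPrime.ringKrullDim_eq_height p A, ← hh] at e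
    rw [hG'c]
    exact_mod_cast e
  obtain ⟨ts, R₁, R₂, hlen, hc₁, hc₂, hmem, hreg, h₁, h₂⟩ := exists_seq p h hh.symm G hG G' hG' h le_rfl
  have hR₂ : R₂ = ∅ := Finset.card_eq_zero.1 (by omega)
  rw [hR₂, Finset.coe_empty, Ideal.span_empty, sup_bot_eq] at h₂
  have hk : R₁.card ≤ 1 := by
    rw [← hh] at hgen
    have : Submodule.spanFinrank p ≤ h + 1 := by exact_mod_cast hgen
    omega
  let us := ts ++ R₁.toList
  have hus : Ideal.ofList us = p := by
    rw [Ideal.ofList_append, h₁]
    congr 1
    simp [Ideal.ofList]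
  refine ⟨us, hus, fun i hmi => ?_, fun i k hk' hik => ?_⟩
  · have hsp : Ideal.span (Set.range fun j : {j : Fin us.length // j ≠ i} => us[(j : Fin us.length)]) = p := by
      refine le_antisymm (Ideal.span_le.2 ?_) ?_
      · rintro _ ⟨j, rfl⟩
        exact hus.le (Ideal.subset_span (List.getElem_mem _))
      · refine hus.ge.trans (Ideal.span_le.2 fun y hy => ?_)
        obtain ⟨n, hn, rfl⟩ := List.mem_iff_getElem.1 hy
        by_cases e : n = i
        · subst e; exact hmi
        · exact Ideal.subset_span ⟨⟨⟨n, hn⟩, fun e' => e (congrArg Fin.val e')⟩, rfl⟩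
    have h1 : Submodule.spanFinrank p < us.length := by
      rw [← hsp]
      refine lt_of_le_of_lt (Submodule.spanFinrank_span_le_ncard_of_finite (Set.finite_range _)) ?_
      rw [← Set.image_univ]
      refine lt_of_le_of_lt (Set.ncard_image_le Set.finite_univ) ?_
      rw [Set.ncard_univ, Nat.card_eq_fintype_card]
      have := Fintype.card_subtype_lt (p := fun j : Fin us.length => j ≠ i) (x := i) (by simp)
      simpa using this
    have h2 : us.length = ts.length + R₁.card := by simp [us]
    omega
  · ext x
    rw [mem_colon_single, mem_colon_single]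
    refine ⟨fun hx => ?_, fun hx => by rw [← mul_assoc]; exact Ideal.mul_mem_right _ _ hx⟩
    have hklen : k < ts.length + R₁.card := by simpa [us] using hk'
    rw [← mul_assoc] at hx
    by_cases hi : i < ts.length
    · have e1 : us.take i = ts.take i := List.take_append_of_le_length hi.le
      have e2 : us[i]'(Nat.lt_of_le_of_lt hik hk') = ts[i] := List.getElem_append_left hi
      rw [e1] at hx ⊢
      rw [e2] at hx
      exact colon_of_regular hreg (Nat.lt_succ_of_le hik) hi _ x hx
    · obtain rfl : i = ts.length := by omega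
      obtain rfl : k = ts.length := by omega
      have e1 : us.take ts.length = ts := List.take_left
      rw [e1] at hx ⊢
      generalize ht : us[ts.length]'hk' = t at hx ⊢
      have hp : p = Ideal.ofList ts ⊔ Ideal.span {t} := by
        rw [← hus, Ideal.ofList_append]
        congr 1
        obtain ⟨g, hg⟩ := Finset.card_eq_one.1 (show R₁.card = 1 by omega)
        have hgt : g = t := by rw [← ht]; simp [us, hg]
        simp [hg, hgt]
      by_contra hne
      let Q := T ⧸ (Ideal.ofList ts • ⊤ : Submodule T T)
      have hz : ∀ y : T, y ∈ Ideal.ofList ts ↔ (Submodule.Quotient.mk y : Q) = 0 := fun y => by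
        rw [Submodule.Quotient.mk_eq_zero, smul_eq_mul, Ideal.mul_top]
      rw [hz] at hne
      obtain ⟨q, hq, hann⟩ := Alg6.exists_ass_ge (R := T) hne
      have htq : t ∈ q := hann t (by
        rw [← Submodule.Quotient.mk_smul, ← hz, smul_eq_mul, mul_comm]
        exact hx)
      have hpq : p ≤ q := hp ▸ sup_le (height_of_ass hreg hq).1 ((Ideal.span_singleton_le_iff_mem _).2 htq)
      have hqh := (height_of_ass hreg hq).2
      have hqp : q = p := by
        by_contra hne'
        have := Ideal.height_strict_mono_of_isPrime (lt_of_le_of_ne hpq (Ne.symm hne'))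
        rw [hqh, hlen, ← hh] at this
        exact lt_irrefl _ this
      have hxt : algebraMap T A (x * t) ∈ (Ideal.ofList ts).map (algebraMap T A) := by
        rw [Ideal.map_ofList, ← h₂, ← Localization.AtPrime.map_eq_maximalIdeal]
        exact Ideal.mem_map_of_mem _ (hp ▸ Submodule.mem_sup_right (Ideal.mul_mem_left _ _ (Ideal.mem_span_singleton_self t)))
      obtain ⟨s, hs, hs'⟩ := (IsLocalization.algebraMap_mem_map_algebraMap_iff p.primeCompl A _ _).1 hxt
      exact hs (hqp ▸ hann s (by rw [← Submodule.Quotient.mk_smul, ← hz]; exact hs'))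

end Groth.Agent.H28.DSeq
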