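import Groth.Agent.H28.KvbPull
import Groth.Agent.H28.KvbModel
import Groth.Agent.Lambda.Pos

/-!
# The λ-ring of bundles without connectedness
-/

set_option autoImplicit false
set_option linter.style.haveILetI false
set_option linter.unusedSectionVars false
set_option backward.isDefEq.respectTransparency false
set_option backward.isDefEq.respectTransparency.types false

universe v w u

open CategoryTheory CategoryTheory.Limits AlgebraicGeometry TopologicalSpace Opposite
attribute [local instance] HasDerivedCategory.standard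

noncomputable section

namespace Groth.Agent.H28.DefPre

open Groth.Agent Groth.Agent.H28.KvbLam

/-- The λ-ring of bundles. -/
structure IsPre (X : Scheme.{u}) (K : Type v) [CommRing K] [LambdaRing.LambdaOps K] (φ : SGA6.Kvb X →+ K) : Prop where
  bijective : Function.Bijective φ
  map_one : φ (KRR.cl X (Coh.structureModule X)) = 1
  map_mul : ∀ E F : X.Modules, FlatMod.IsFinLocFree E → FlatMod.IsFinLocFree F →
    φ (KRR.cl X E) * φ (KRR.cl X F) = φ (KRR.cl X (((DCoh.tensorBi (X := X)).obj E).obj F))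
  map_lam : ∀ (i : ℕ) (E L : X.Modules), FlatMod.IsFinLocFree E → FlatMod.IsFinLocFree L →
    ExtPow.IsExtPow i E L → LambdaRing.LambdaOps.lam i (φ (KRR.cl X E)) = φ (KRR.cl X L)

theorem exists_pre (X : Scheme.{u}) :
    ∃ (K : Type (u + 1)) (_ : CommRing K) (_ : LambdaRing.LambdaOps K) (φ : SGA6.Kvb X →+ K), IsPre X K φ := by
  obtain ⟨mul, lam, hcomm, hassoc, hone, hmul, hlam, hl0, hl1, hadd⟩ := KvbLam.exists_lambdaStructure X
  letI R : CommRing (SGA6.Kvb X) :=
    { (inferInstance : AddCommGroup (SGA6.Kvb X)) with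
      mul := fun x y => mul x y
      one := cl (Coh.structureModule X)
      left_distrib := fun x y z => (mul x).map_add y z
      right_distrib := fun x y z => DFunLike.congr_fun (mul.map_add x y) z
      zero_mul := fun x => DFunLike.congr_fun mul.map_zero x
      mul_zero := fun x => (mul x).map_zero
      mul_assoc := hassoc
      one_mul := hone
      mul_one := fun x => (hcomm x _).trans (hone x)
      mul_comm := hcomm }
  letI Λ : LambdaRing.LambdaOps (SGA6.Kvb X) := { lam := lam, lam_zero := hl0, lam_one := hl1, lam_add := hadd }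
  exact ⟨SGA6.Kvb X, R, Λ, AddMonoidHom.id _, ⟨Function.bijective_id, rfl, fun E F hE hF => hmul E F hE hF,
    fun i E L hE _ hL => hlam i E L hE hL⟩⟩

theorem of_model {X : Scheme.{u}} {K : Type v} [CommRing K] [LambdaRing.LambdaOps K] {P : LambdaRing.PosStructure K}
    {φ : SGA6.Kvb X →+ K} (h : KRR.IsModel X K P φ) : IsPre X K φ :=
  ⟨h.bijective, h.map_one, h.map_mul, h.map_lam⟩

section Pull

variable {X Y : Scheme.{u}} {f : X ⟶ Y}
  {KX : Type v} [CommRing KX] [LambdaRing.LambdaOps KX] {φX : SGA6.Kvb X →+ KX} (hX : IsPre X KX φX)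
  {KY : Type w} [CommRing KY] [LambdaRing.LambdaOps KY] {φY : SGA6.Kvb Y →+ KY} (hY : IsPre Y KY φY)
  {g : KY →+ KX} (hg : KRR.IsPull f φY φX g)

include hY in
theorem exists_cl (x : KY) : ∃ A B : Y.Modules, FlatMod.IsFinLocFree A ∧ FlatMod.IsFinLocFree B ∧
    x = φY (cl A) - φY (cl B) := by
  obtain ⟨y, rfl⟩ := hY.bijective.2 x
  obtain ⟨A, B, hA, hB, rfl⟩ := KvbModel.exists_sub y
  exact ⟨A, B, hA, hB, map_sub φY _ _⟩

include hX hY hg in
theorem map_one : g 1 = 1 := by
  rw [← hY.map_one, hg _ lf_O, ← hX.map_one]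
  exact congrArg φX (cl_iso (KvbPull.unitIso f) (KvbPull.lf_pull f lf_O))

include hX hY hg in
theorem map_mul (x y : KY) : g (x * y) = g x * g y := by
  have h : ∀ E F, FlatMod.IsFinLocFree E → FlatMod.IsFinLocFree F →
      g (φY (cl E) * φY (cl F)) = g (φY (cl E)) * g (φY (cl F)) := fun E F hE hF => by
    rw [hY.map_mul E F hE hF, hg _ (lf_tens hE hF), hg E hE, hg F hF,
      hX.map_mul _ _ (KvbPull.lf_pull f hE) (KvbPull.lf_pull f hF)]
    exact congrArg φX (cl_iso (KvbPull.tensIso f E F) (KvbPull.lf_pull f (lf_tens hE hF)))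
  obtain ⟨A, B, hA, hB, rfl⟩ := exists_cl hY x
  obtain ⟨C, D, hC, hD, rfl⟩ := exists_cl hY y
  simp only [sub_mul, mul_sub, map_sub, h A C hA hC, h A D hA hD, h B C hB hC, h B D hB hD]

/-- Pull-back as a ring homomorphism. -/
def ringHom : KY →+* KX where
  toFun := g
  map_one' := map_one hX hY hg
  map_mul' := map_mul hX hY hg
  map_zero' := g.map_zero
  map_add' := g.map_add

include hX hY hg in
theorem map_lam_cl {E : Y.Modules} (hE : FlatMod.IsFinLocFree E) (i : ℕ) :
    g (LambdaRing.LambdaOps.lam i (φY (cl E))) = LambdaRing.LambdaOps.lam i (g (φY (cl E))) := by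
  rw [hY.map_lam i E _ hE (ExtSh.isFinLocFree_L i hE) (ExtSh.isExtPow_L i hE), hg _ (ExtSh.isFinLocFree_L i hE),
    hg E hE, hX.map_lam i _ _ (KvbPull.lf_pull f hE) (ExtSh.isFinLocFree_L i (KvbPull.lf_pull f hE))
      (ExtSh.isExtPow_L i (KvbPull.lf_pull f hE))]
  exact congrArg φX (KvbPull.cl_pull_extPow f hE (ExtSh.isExtPow_L i hE))

include hX hY hg in
theorem map_lam (i : ℕ) (x : KY) : g (LambdaRing.LambdaOps.lam i x) = LambdaRing.LambdaOps.lam i (g x) := by
  obtain ⟨A, B, hA, hB, hx⟩ := exists_cl hY x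
  have hAB : φY (cl A) = x + φY (cl B) := by rw [hx, sub_add_cancel]
  induction i using Nat.strong_induction_on with
  | _ i ih =>
    have h1 := LambdaRing.LambdaOps.lam_add i x (φY (cl B))
    have h2 := LambdaRing.LambdaOps.lam_add i (g x) (g (φY (cl B)))
    rw [← hAB] at h1
    rw [← map_add, ← hAB] at h2
    rw [Finset.sum_range_succ, Nat.sub_self, LambdaRing.LambdaOps.lam_zero, mul_one] at h1 h2
    have h3 := congrArg g h1
    rw [map_add, map_lam_cl hX hY hg hA, map_sum, h2] at h3
    have h4 : ∑ k ∈ Finset.range i, g (LambdaRing.LambdaOps.lam k x * LambdaRing.LambdaOps.lam (i - k) (φY (cl B))) =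
        ∑ k ∈ Finset.range i, LambdaRing.LambdaOps.lam k (g x) * LambdaRing.LambdaOps.lam (i - k) (g (φY (cl B))) :=
      Finset.sum_congr rfl fun k hk => by
        rw [map_mul hX hY hg, ih k (Finset.mem_range.1 hk), map_lam_cl hX hY hg hB]
    rw [h4] at h3
    exact (add_left_cancel h3).symm

include hX hY hg in
/-- The Adams operations of positive degree preserve the kernel of an inverse image. -/
theorem map_adams_eq_zero (P : LambdaRing.PosStructure KY) {j : ℕ} (hj : 1 ≤ j) {y : KY} (hy : g y = 0) :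
    g (LambdaRing.adams P j y) = 0 := by
  let R := ringHom hX hY hg
  have hlam0 : ∀ i, 1 ≤ i → LambdaRing.LambdaOps.lam i (0 : KX) = 0 := by
    intro i
    induction i using Nat.strong_induction_on with
    | _ i ih =>
      intro hi
      have h := LambdaRing.LambdaOps.lam_add i (0 : KX) 0
      rw [add_zero, Finset.sum_range_succ, Nat.sub_self, LambdaRing.LambdaOps.lam_zero, mul_one] at h
      obtain ⟨i, rfl⟩ : ∃ l, i = l + 1 := ⟨i - 1, by omega⟩
      rw [Finset.sum_range_succ'] at h
      simp only [LambdaRing.LambdaOps.lam_zero, one_mul, Nat.sub_zero] at h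
      rw [Finset.sum_eq_zero (fun k hk => by rw [ih (k + 1) (by simp at hk; omega) (by omega), zero_mul]), zero_add] at h
      exact left_eq_add.1 h
  have hN : PowerSeries.map R (Lambda.negLamSeries y) = 1 := by
    ext n
    rw [PowerSeries.coeff_map, Lambda.negLamSeries, PowerSeries.coeff_rescale, Lambda.coeff_lamSeries]
    rcases n with _ | n
    · simp [LambdaRing.LambdaOps.lam_zero]
    · rw [_root_.map_mul, show R (LambdaRing.LambdaOps.lam (n + 1) y) = _ from map_lam hX hY hg (n + 1) y, hy,
        hlam0 _ (by omega), mul_zero, PowerSeries.coeff_one, if_neg (Nat.succ_ne_zero n)]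
  have hD : PowerSeries.map R (Lambda.dlogNeg y) = 0 := by
    have h := congrArg (PowerSeries.map R) (Lambda.dlogNeg_mul_self y)
    rw [_root_.map_mul, hN, mul_one] at h
    rw [h]
    ext n
    rw [PowerSeries.coeff_map, PowerSeries.coeff_derivative, _root_.map_mul,
      ← PowerSeries.coeff_map (f := R), hN, PowerSeries.coeff_one, if_neg (Nat.succ_ne_zero n), zero_mul, map_zero]
  obtain ⟨j, rfl⟩ : ∃ l, j = l + 1 := ⟨j - 1, by omega⟩
  show R (LambdaRing.adams P (j + 1) y) = 0
  rw [LambdaRing.adams, Lambda.adamsSeries_eq, map_sub, PowerSeries.coeff_C, if_neg (Nat.succ_ne_zero j),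
    PowerSeries.coeff_succ_X_mul, zero_sub, map_neg, ← PowerSeries.coeff_map, hD, map_zero, neg_zero]

end Pull

end Groth.Agent.H28.DefPre
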