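import Groth.Agent.H28.PushTwo
import Groth.Agent.H28.KRRZero

/-!
# The class of a section of a projective bundle with trivial `O(1)`
-/

set_option autoImplicit false
set_option linter.style.haveILetI false
set_option linter.unusedSectionVars false
set_option backward.isDefEq.respectTransparency false
set_option backward.isDefEq.respectTransparency.types false
set_option maxHeartbeats 1000000

universe v u

open CategoryTheory CategoryTheory.Limits AlgebraicGeometry TopologicalSpace Opposite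
attribute [local instance] HasDerivedCategory.standard

noncomputable section

namespace Groth.Agent.H28.ElemCase

open Groth.Agent Groth.Agent.H28.KvbLam Groth.Agent.H28.KRRZero

set_option maxHeartbeats 4000000 in
/-- `σ_* 1 = λ_{-1}(O(-1) ⊗ π^* E')` when `[F] = [E'] + 1`. -/
theorem section_class {Y P : Scheme.{u}} [AlgebraicGeometry.IsNoetherian Y] [ConnectedSpace ↥Y]
    [AlgebraicGeometry.IsNoetherian P] [ConnectedSpace ↥P] {π : P ⟶ Y} {d : ℕ} (D : PBPush.Data π d)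
    (hYe : KRR.HasEnoughLocFree Y) {F : Y.Modules} (hF : FlatMod.IsFinLocFreeOfRank (d + 1) F)
    {q : (Scheme.Modules.pullback π).obj F ⟶ D.O1} (hP : KRR.IsProjBundle π F D.O1 q)
    (hOi : PicF.IsInvertible D.Oinv) {E' : Y.Modules} (hE' : FlatMod.IsFinLocFreeOfRank d E')
    {KY : Type (u + 1)} [CommRing KY] [LambdaRing.LambdaOps KY] {PY : LambdaRing.PosStructure KY}
    {φY : SGA6.Kvb Y →+ KY} (hKY : KRR.IsModel Y KY PY φY)
    {KP : Type (u + 1)} [CommRing KP] [LambdaRing.LambdaOps KP] {PP : LambdaRing.PosStructure KP}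
    {φP : SGA6.Kvb P →+ KP} (hKP : KRR.IsModel P KP PP φP)
    (hFcl : φY (KRR.cl Y F) = φY (KRR.cl Y E') + 1)
    (σ : Y ⟶ P) (hσπ' : σ ≫ π = 𝟙 Y) (hreg : Mor2.IsRegularClosedImmersion σ)
    (es : (Scheme.Modules.pullback σ).obj D.O1 ≅ Coh.structureModule Y)
    (gs : KY →+ KP) (hgs : KRR.IsPushCl σ φY φP gs) :
    gs 1 = KRR.lamAlt PP (φP (KRR.cl P ((DCoh.tensorBi.obj D.Oinv).obj ((Scheme.Modules.pullback π).obj E')))) := by
  classical
  haveI := hreg.1
  have hPe := PBEnough.enough D hYe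
  have l1 := D.lf1
  have li := D.lfi
  obtain ⟨gπ, hgπ, -⟩ := PullVB.existsUnique_isPull π φP φY hKY.bijective
  obtain ⟨g0, hg0, -⟩ := PullVB.existsUnique_isPull σ φY φP hKP.bijective
  let Rπ := KvbPull.ringHom hKP hKY hgπ
  set ℓ := φP (KRR.cl P D.O1) with hℓ
  set u := φP (KRR.cl P D.Oinv) with hudef
  have hlu : u * ℓ = 1 := by
    obtain ⟨c⟩ := H23.PicMul.comm D.Oinv D.O1
    rw [hudef, hℓ, hKP.map_mul _ _ li l1, ← hKP.map_one]
    exact congrArg φP (GenPush.cl_iso (c ≪≫ D.inv) (KFlatLib.isFinLocFree_tensor li l1) KvbLam.lf_O)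
  set z := gs 1 with hz
  have hg0ℓ : g0 ℓ = 1 := by
    rw [hℓ, hg0 _ l1, ← hKY.map_one]
    exact congrArg φY (GenPush.cl_iso es (KvbPull.lf_pull _ l1) KvbLam.lf_O)
  have hzℓ : z * ℓ = z := by
    have h2 := KRRPushProp.push_mul_pull σ φY hKY.bijective φP hPe hreg hKP.bijective.2 hKY.map_mul hKP.map_mul g0 hg0 gs hgs 1 ℓ
    rw [hg0ℓ, mul_one] at h2
    exact h2.symm
  have hu : ∀ a : ℕ, φP (KRR.cl P (CohB1.tensorPow D.Oinv a)) = u ^ a := LineTwist.cl_tensorPow hKP hOi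
  obtain ⟨c, ρ, hc1, hc2, hρc, hρ⟩ := exists_coord D hKY.bijective hKP.bijective hKP.map_mul hgπ hu
  obtain ⟨ρ', hρdef, hρ'⟩ := PushTwo.exists_rho D hYe (PBCores.isInvertible_iff_rank.2 hP.invertible) hKP hKY
  have hρeq : ∀ w, ρ' w = ρ w := fun w => by
    conv_lhs => rw [← hc1 w]
    conv_rhs => rw [← hc1 w]
    rw [map_sum, map_sum]
    refine Finset.sum_congr rfl fun k _ => ?_
    obtain ⟨A, A', hA, hA', hAA⟩ := KvbPull.exists_cl hKY (c w k)
    have hgen : ∀ {N : Y.Modules}, FlatMod.IsFinLocFree N →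
        ρ' (gπ (φY (KRR.cl Y N)) * u ^ (k : ℕ)) = ρ (gπ (φY (KRR.cl Y N)) * u ^ (k : ℕ)) := fun {N} hN => by
      have hval : gπ (φY (KRR.cl Y N)) * u ^ (k : ℕ) = φP (KRR.cl P (PBBasis.gN D (k : ℕ) N)) := by
        rw [hgπ N hN, ← hu, mul_comm, hKP.map_mul _ _ (PBBasis.lf_pow D _) (KvbPull.lf_pull π hN)]
        rfl
      have hd := PBBasis.def_gN D (Nat.le_of_lt_succ k.2) hN
      rw [hval, hρdef _ hd, hρ _ hd]
    rw [hAA]
    simp only [map_sub, sub_mul]
    rw [hgen hA, hgen hA']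
  have hρz : ρ z = 1 := by
    rw [← hρeq]
    exact DFunLike.congr_fun (hρ' σ hreg (𝟙 Y) hσπ' ⟨es⟩ φY hKY.bijective gs hgs _ (PushTwo.isPushCl_id hYe φY)) 1
  set cE := φY (KRR.cl Y E') with hcE
  let Lc : Fin (d + 1) → KY := fun k => (-1 : KY) ^ (k : ℕ) * LambdaRing.LambdaOps.lam (k : ℕ) cE
  set Λ := ∑ k, gπ (Lc k) * u ^ (k : ℕ) with hΛ
  have hlam := KvbPull.map_lam hKP hKY hgπ
  have hline1 : ∀ j, 2 ≤ j → LambdaRing.LambdaOps.lam j (1 : KP) = 0 := fun j hj => by
    rw [← hKP.map_one]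
    exact lam_cl_eq_zero hKP (KvbModel.rank_of_frameAt KvbModel.frameAt_O) (by omega)
  have hlineu : ∀ j, 2 ≤ j → LambdaRing.LambdaOps.lam j u = 0 := fun j hj =>
    lam_cl_eq_zero hKP (PBCores.isInvertible_iff_rank.1 hOi) (by omega)
  have hΛu : Λ * u = Λ := by
    obtain ⟨F₀, hF₀, hsum⟩ := PBSplit.exists_kernel hKY hKP hF hP hgπ
    set x := u * gπ cE with hxdef
    set e := φP (KRR.cl P F₀) with hedef
    have hx : ∀ j, LambdaRing.LambdaOps.lam j x = u ^ j * gπ (LambdaRing.LambdaOps.lam j cE) := fun j => by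
      rw [hxdef, hudef, LineTwist.lam_twist hKP hOi, hlam]
    have hd1 : LambdaRing.LambdaOps.lam (d + 1) x = 0 := by
      rw [hx, hcE, lam_cl_eq_zero hKY hE' (Nat.lt_succ_self d), map_zero, mul_zero]
    have hd2 : LambdaRing.LambdaOps.lam (d + 1) (u * e) = 0 := by
      rw [hudef, LineTwist.lam_twist hKP hOi, hedef, lam_cl_eq_zero hKP hF₀ (Nat.lt_succ_self d), mul_zero]
    have hxe : x + u = u * e + 1 := by
      have h2 : e + ℓ = gπ cE + 1 := by
        rw [show e + ℓ = gπ (φY (KRR.cl Y F)) from hsum,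
          hFcl, map_add gπ, show gπ 1 = 1 from map_one Rπ]
      rw [hxdef, ← hlu, ← mul_add, h2, mul_add, mul_one]
    have hz0 := LamLine.alt_add_one_eq_zero hline1 (u * e) d hd2
    rw [← hxe, LamLine.alt_add_line hlineu, Finset.sum_range_succ, hd1, mul_zero, add_zero] at hz0
    have hΛx : Λ = ∑ j ∈ Finset.range (d + 1), (-1 : KP) ^ j * LambdaRing.LambdaOps.lam j x := by
      rw [hΛ, ← Fin.sum_univ_eq_sum_range (fun j => (-1 : KP) ^ j * LambdaRing.LambdaOps.lam j x)]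
      refine Finset.sum_congr rfl fun j _ => ?_
      rw [show gπ (Lc j) = Rπ (Lc j) from rfl, map_mul, map_pow, map_neg, map_one, hx]
      show (-1 : KP) ^ (j : ℕ) * gπ (LambdaRing.LambdaOps.lam (j : ℕ) cE) * u ^ (j : ℕ) = _
      ring
    rw [hΛx]
    linear_combination -hz0
  have hzΛ : z = Λ := by
    have hzu : z * u = z := by
      conv_lhs => rw [← hzℓ]
      rw [mul_assoc, mul_comm ℓ u, hlu, mul_one]
    set a : Fin (d + 1) → KY := fun k => c z k - Lc k with ha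
    have hsum : ∑ k, gπ (a k) * u ^ (k : ℕ) = z - Λ := by
      simp only [ha, map_sub, sub_mul, Finset.sum_sub_distrib, hc1]
      rw [hΛ]
    have ha0 : a 0 = 0 := by
      show c z 0 - Lc 0 = 0
      rw [← hρc, hρz]
      simp [Lc, LambdaRing.LambdaOps.lam_zero]
    have hshift : ∑ k, gπ ((Fin.snoc (fun l : Fin d => a l.succ) 0 : Fin (d + 1) → KY) k) * u ^ (k : ℕ) = z - Λ := by
      have hm : (z - Λ) * ℓ = z - Λ := by
        have h2 : Λ * ℓ = Λ := by
          conv_lhs => rw [← hΛu]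
          rw [mul_assoc, hlu, mul_one]
        rw [sub_mul, hzℓ, h2]
      conv_rhs => rw [← hm, ← hsum, Finset.sum_mul]
      rw [Fin.sum_univ_castSucc, Fin.sum_univ_succ (fun k => gπ (a k) * u ^ (k : ℕ) * ℓ)]
      simp only [Fin.snoc_castSucc, Fin.snoc_last, map_zero, zero_mul, add_zero, ha0, zero_add, Fin.val_castSucc,
        Fin.val_succ]
      refine Finset.sum_congr rfl fun l _ => ?_
      rw [pow_succ, mul_assoc, mul_assoc, hlu, mul_one]
    have hfix : (Fin.snoc (fun l : Fin d => a l.succ) 0 : Fin (d + 1) → KY) = a := by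
      rw [← hc2 (Fin.snoc (fun l : Fin d => a l.succ) 0), hshift, ← hsum, hc2]
    have hall : ∀ k, a k = 0 := fun k => by
      induction k using Fin.induction with
      | zero => exact ha0
      | succ l ih =>
        rw [← ih, ← congrFun hfix l.castSucc, Fin.snoc_castSucc]
    have : z - Λ = 0 := by
      rw [← hsum]
      exact Finset.sum_eq_zero fun k _ => by rw [hall, map_zero, zero_mul]
    exact sub_eq_zero.1 this
  have hE'' := LineTwist.rank_pull π hE'
  have hrk : PP.aug (φP (KRR.cl P ((DCoh.tensorBi.obj D.Oinv).obj ((Scheme.Modules.pullback π).obj E')))) = (d : ℤ) := by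
    rw [← hKP.map_mul _ _ li (KvbPull.lf_pull π (KvbModel.lf_of_rank hE')), map_mul, hKP.aug_cl d _ hE'',
      hKP.aug_cl 1 _ (PBCores.isInvertible_iff_rank.1 hOi)]
    simp
  rw [hzΛ, hΛ, KRR.lamAlt, hrk, Int.toNat_natCast,
    ← hKP.map_mul _ _ li (KvbPull.lf_pull π (KvbModel.lf_of_rank hE')), ← hgπ _ (KvbModel.lf_of_rank hE'), ← hcE,
    ← hudef, ← Fin.sum_univ_eq_sum_range (fun j => (-1 : KP) ^ j * LambdaRing.LambdaOps.lam j (u * gπ cE))]
  refine Finset.sum_congr rfl fun k _ => ?_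
  rw [hudef, LineTwist.lam_twist hKP hOi, ← hlam, show gπ (Lc k) = Rπ (Lc k) from rfl, map_mul, map_pow, map_neg, map_one]
  show (-1 : KP) ^ (k : ℕ) * gπ (LambdaRing.LambdaOps.lam (k : ℕ) cE) * u ^ (k : ℕ) = _
  ring

end Groth.Agent.H28.ElemCase
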