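import Groth.Agent.H28.TorPull
import Groth.Agent.H28.PushComp
import Groth.Agent.H28.KRRPushProp

/-!
# Base change of closed push-forwards along Tor-independent squares
-/

set_option autoImplicit false
set_option linter.style.haveILetI false
set_option linter.unusedSectionVars false
set_option backward.isDefEq.respectTransparency false
set_option backward.isDefEq.respectTransparency.types false
set_option maxHeartbeats 1000000

universe v w u

open CategoryTheory CategoryTheory.Limits AlgebraicGeometry TopologicalSpace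

noncomputable section

namespace Groth.Agent.H28.KRRBC

open Groth.Agent Groth.Agent.KZ.LFRes Groth.Agent.H28.KRegK0 Groth.Agent.H28.PushEngine
open scoped ZeroObject

variable {M Y : Scheme.{u}} [AlgebraicGeometry.IsNoetherian Y] (φ : Y ⟶ M)

/-- Inverse image of a resolution of a Tor-independent module. -/
theorem val_pullback (hY : KRR.HasEnoughLocFree Y) {KY : Type w} [AddCommGroup KY]
    {V : KZero.K0sub (P₁ Y) →+ KY} {A : M.Modules} {n : ℕ} {L : ChainComplex M.Modules ℕ}
    {π : L ⟶ (ChainComplex.single₀ M.Modules).obj A} (h : KRR.IsLFRes A n L π) (hA : TorPull.PT φ A) :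
    P₁ Y ((Scheme.Modules.pullback φ).obj A) ∧
      V (KZero.clSub (P₁ Y) ((Scheme.Modules.pullback φ).obj A)) =
        ∑ k ∈ Finset.range (n + 1), (-1 : ℤ) ^ k • V (KZero.clSub (P₁ Y) ((Scheme.Modules.pullback φ).obj (L.X k))) := by
  haveI := h.quasiIso
  have hex : ∀ i, L.ExactAt (i + 1) := fun i => by
    rw [← quasiIsoAt_iff_exactAt' π (i + 1) (HomologicalComplex.exactAt_single_obj _ _ _ _ (by simp))]
    infer_instance
  let e : L.opcycles 0 ≅ A := (L.isoHomologyι₀).symm ≪≫ asIso (HomologicalComplex.homologyMap π 0) ≪≫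
    HomologicalComplex.singleObjHomologySelfIso (ComplexShape.down ℕ) 0 A
  let G := Scheme.Modules.pullback φ
  have hses : ∀ i, ∃ S : ShortComplex M.Modules, S.ShortExact ∧ S.X₁ = L.opcycles (i + 1) ∧ S.X₂ = L.X i ∧
      S.X₃ = L.opcycles i := by
    intro i
    haveI : Mono (L.fromOpcycles (i + 1) i) := by
      have h' := (L.exactAt_iff' (i + 2) (i + 1) i (by simp) (by simp)).1 (hex i)
      have := h'.mono_fromOpcycles
      have e : L.fromOpcycles (i + 1) i = (L.opcyclesIsoSc' (i + 2) (i + 1) i (by simp) (by simp)).hom ≫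
          (L.sc' (i + 2) (i + 1) i).fromOpcycles := by
        rw [← cancel_epi (L.pOpcycles (i + 1))]
        rw [L.p_fromOpcycles, HomologicalComplex.pOpcycles_opcyclesIsoSc'_hom_assoc, ShortComplex.p_fromOpcycles]
        rfl
      rw [e]
      infer_instance
    let S := ShortComplex.mk (L.fromOpcycles (i + 1) i) (L.pOpcycles i)
      (by rw [← cancel_epi (L.pOpcycles (i + 1))]; simp)
    refine ⟨S, .mk' ?_ inferInstance inferInstance, rfl, rfl, rfl⟩
    refine ShortComplex.exact_of_g_is_cokernel _ (CokernelCofork.IsColimit.ofπ _ _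
      (fun g hg => L.descOpcycles g (i + 1) (by simp) (by
        rw [← L.p_fromOpcycles, Category.assoc]
        exact (congrArg _ hg).trans comp_zero))
      (fun g hg => L.p_descOpcycles _ _ _ _) (fun g hg b hb => ?_))
    rw [← cancel_epi (L.pOpcycles i), L.p_descOpcycles]
    exact hb
  choose S hS h₁ h₂ h₃ using hses
  have hPT : ∀ i, TorPull.PT φ (L.opcycles i) := by
    intro i
    induction i with
    | zero => exact fun y => TorIndep.ti_iso _ ((DerSch.stalkFunctor M (φ y)).mapIso e).symm (hA y)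
    | succ i ih =>
      exact h₁ i ▸ TorPull.pt_ker φ (hS i) (h₂ i ▸ KFlatLib.isFlat_of_isFinLocFree (h.finLocFree i)) (h₃ i ▸ ih)
  have hS' : ∀ i, ((S i).map G).ShortExact := fun i =>
    TorPull.shortExact_pullback φ (hS i) (h₂ i ▸ KFlatLib.isFlat_of_isFinLocFree (h.finLocFree i)) (h₃ i ▸ hPT i)
  have hX : ∀ i, P₁ Y (G.obj (L.X i)) := fun i => p1_flf hY (KFlatLib.isFinLocFree_pullback φ (h.finLocFree i))
  have hP : ∀ j i, n + 1 ≤ i + j → P₁ Y (G.obj (L.opcycles i)) := by
    intro j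
    induction j with
    | zero =>
      intro i hi
      exact p1_zero hY (G.map_isZero (IsZero.of_epi (L.pOpcycles i) (h.isZero i (by omega))))
    | succ j ih =>
      intro i hi
      have h' := p1_coker hY (hS' i)
        (show P₁ Y (G.obj (S i).X₁) from (h₁ i).symm ▸ ih (i + 1) (by omega))
        (show P₁ Y (G.obj (S i).X₂) from (h₂ i).symm ▸ hX i)
      exact h₃ i ▸ (show P₁ Y (G.obj (S i).X₃) from h')
  have hP' : ∀ i, P₁ Y (G.obj (L.opcycles i)) := fun i => hP (n + 1) i (by omega)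
  let ρ : ℕ → KY := fun i => V (KZero.clSub (P₁ Y) (G.obj (L.opcycles i)))
  have hstep : ∀ i, V (KZero.clSub (P₁ Y) (G.obj (L.X i))) = ρ (i + 1) + ρ i := fun i => by
    have h' := KZ.clSub_ses (P₁ Y) (hS' i)
      (show P₁ Y (G.obj (S i).X₁) from (h₁ i).symm ▸ hP' (i + 1))
      (show P₁ Y (G.obj (S i).X₂) from (h₂ i).symm ▸ hX i)
      (show P₁ Y (G.obj (S i).X₃) from (h₃ i).symm ▸ hP' i)
    have h'' := congrArg V h'
    simp only [ShortComplex.map_X₁, ShortComplex.map_X₂, ShortComplex.map_X₃, h₁, h₂, h₃, map_add] at h''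
    exact h''
  have hsum : ∀ i, ρ 0 = (∑ j ∈ Finset.range i, (-1 : ℤ) ^ j • V (KZero.clSub (P₁ Y) (G.obj (L.X j)))) +
      (-1 : ℤ) ^ i • ρ i := by
    intro i
    induction i with
    | zero => simp
    | succ i ih =>
      rw [ih, Finset.sum_range_succ, hstep, pow_succ, mul_neg_one, neg_smul, smul_add]
      abel
  have hPA : P₁ Y (G.obj A) := p1_iso hY (G.mapIso e) (hP' 0)
  refine ⟨hPA, ?_⟩
  have hz : ρ (n + 1) = 0 := (congrArg V (KZ.clSub_isZero (P₁ Y)
    (G.map_isZero (IsZero.of_epi (L.pOpcycles (n + 1)) (h.isZero (n + 1) (by omega)))))).trans V.map_zero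
  rw [← KZ.clSub_iso (P₁ Y) (G.mapIso e) (hP' 0) hPA (isZero_zero _) (p1_zero hY (isZero_zero _))]
  show ρ 0 = _
  rw [hsum (n + 1), hz, smul_zero, add_zero]

/-- `φ^K F_K = f_K ψ^K` for squares of regular immersions of the same codimension. -/
theorem pull_pushCl {X P : Scheme.{u}} [AlgebraicGeometry.IsNoetherian M] {F : P ⟶ M} {f : X ⟶ Y} {ψ : X ⟶ P}
    (hsq : IsPullback f ψ φ F) (hF : Mor2.IsRegularClosedImmersion F) (hf : Mor2.IsRegularClosedImmersion f) (d : ℕ)
    (hcF : FlatMod.IsFinLocFreeOfRank d (Omega.conormal F)) (hcf : FlatMod.IsFinLocFreeOfRank d (Omega.conormal f))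
    (hY : KRR.HasEnoughLocFree Y) (hM : KRR.HasEnoughLocFree M)
    {KX : Type v} [CommRing KX] {φX : SGA6.Kvb X →+ KX} {KY : Type v} [CommRing KY] {φY : SGA6.Kvb Y →+ KY}
    {KP : Type v} [CommRing KP] {φP : SGA6.Kvb P →+ KP} (hφP : Function.Surjective φP)
    {KM : Type v} [CommRing KM] {φM : SGA6.Kvb M →+ KM}
    {gφ : KM →+ KY} (hgφ : KRR.IsPull φ φM φY gφ) {gψ : KP →+ KX} (hgψ : KRR.IsPull ψ φP φX gψ)
    {gF : KP →+ KM} (hgF : KRR.IsPushCl F φP φM gF) {gf : KX →+ KY} (hgf : KRR.IsPushCl f φX φY gf) (p : KP) :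
    gφ (gF p) = gf (gψ p) := by
  haveI := hf.1
  haveI := hF.1
  haveI := PushComp.isNoetherian_of_closed f
  haveI := PushComp.isNoetherian_of_closed F
  obtain ⟨V, hV⟩ := exists_val hY φY
  obtain ⟨p, rfl⟩ := hφP p
  refine DFunLike.congr_fun (f := (gφ.comp gF).comp φP) (g := (gf.comp gψ).comp φP)
    (KZ.K0sub_hom_ext _ fun E hE => ?_) p
  obtain ⟨n, L, π, hL⟩ := (KRRPushK.p₁_push F hM hF hE).2
  obtain ⟨e⟩ := TorPull.nonempty_baseChange hsq hF d hcF hE
  obtain ⟨h1, e1⟩ := val_pullback φ hY (V := V) hL (TorPull.pt_push hsq hF hf d hcF hcf hE)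
  obtain ⟨h2, e2⟩ := pushCl_val f hf hY hgf hV (KFlatLib.isFinLocFree_pullback ψ hE)
  show gφ (gF (φP (KRR.cl P E))) = gf (gψ (φP (KRR.cl P E)))
  rw [hgψ E hE, e2, ← KZ.clSub_iso (P₁ Y) e h1 h2 (isZero_zero _) (p1_zero hY (isZero_zero _)), e1, hgF E hE n L π hL,
    map_sum]
  exact Finset.sum_congr rfl fun k _ => by
    rw [map_zsmul, hgφ _ (hL.finLocFree k), hV _ (KFlatLib.isFinLocFree_pullback φ (hL.finLocFree k))]

end Groth.Agent.H28.KRRBC
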