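import Groth.Agent.H28.DefCore
import Groth.Agent.H28.DefPre
import Groth.Agent.H28.ElemCase
import Groth.Agent.H28.KRRBC
import Groth.Agent.Lambda.Elem

/-!
# The calculation on the deformation
-/

set_option autoImplicit false
set_option linter.style.haveILetI false
set_option linter.unusedSectionVars false
set_option backward.isDefEq.respectTransparency false
set_option backward.isDefEq.respectTransparency.types false
set_option maxHeartbeats 1000000

universe v w u

open CategoryTheory CategoryTheory.Limits AlgebraicGeometry TopologicalSpace Opposite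
attribute [local instance] HasDerivedCategory.standard

noncomputable section

namespace Groth.Agent.H28.DefCalc

open Groth.Agent Groth.Agent.H28.KvbLam Groth.Agent.H28.DefCore

theorem bottPoly_zero (j : ℕ) : KRR.bottPoly j 0 = 1 := by
  have h : (⟨KRR.bottSym j 0, KRR.bottSym_isSymmetric j 0⟩ : MvPolynomial.symmetricSubalgebra (Fin 0) ℤ) = 1 :=
    Subtype.ext (by simp [KRR.bottSym])
  rw [KRR.bottPoly, h, map_one]

theorem bottPoly_cast {m m' : ℕ} (h : m = m') (j : ℕ) {A : Type v} [CommRing A] (c : ℕ → A) :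
    MvPolynomial.aeval (fun i : Fin m => c (i.1 + 1)) (KRR.bottPoly j m) =
      MvPolynomial.aeval (fun i : Fin m' => c (i.1 + 1)) (KRR.bottPoly j m') := by
  subst h; rfl

/-- Bott classes commute with homomorphisms of λ-rings. -/
theorem map_bott {K : Type v} [CommRing K] [LambdaRing.LambdaOps K] {P : LambdaRing.PosStructure K}
    {K' : Type w} [CommRing K'] [LambdaRing.LambdaOps K'] {P' : LambdaRing.PosStructure K'} (f : K →+* K')
    (hf : ∀ i x, f (LambdaRing.LambdaOps.lam i x) = LambdaRing.LambdaOps.lam i (f x))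
    (haug : ∀ x, P'.aug (f x) = P.aug x) (j : ℕ) (e : K) : f (KRR.bott P j e) = KRR.bott P' j (f e) := by
  have h : MvPolynomial.aeval (fun i : Fin (P'.aug (f e)).toNat => LambdaRing.LambdaOps.lam (i.1 + 1) (f e))
      (KRR.bottPoly j (P'.aug (f e)).toNat) =
      MvPolynomial.aeval (fun i : Fin (P.aug e).toNat => f (LambdaRing.LambdaOps.lam (i.1 + 1) e))
        (KRR.bottPoly j (P.aug e).toNat) := by
    rw [bottPoly_cast (congrArg Int.toNat (haug e)) j fun i => LambdaRing.LambdaOps.lam i (f e)]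
    simp only [hf]
  rw [KRR.bott, KRR.bott, h]
  exact MvPolynomial.comp_aeval_apply (fun i : Fin (P.aug e).toNat => LambdaRing.LambdaOps.lam (i.1 + 1) e)
    (f.toIntAlgHom) _

theorem adams_sub {K : Type v} [CommRing K] [LambdaRing.LambdaOps K] (P : LambdaRing.PosStructure K) (j : ℕ)
    (x y : K) : LambdaRing.adams P j (x - y) = LambdaRing.adams P j x - LambdaRing.adams P j y :=
  map_sub (Lambda.adamsHom P j) x y

/-- Inverse image along a section. -/
theorem pull_section {X P : Scheme.{u}} {t : X ⟶ P} {p : P ⟶ X} (h : t ≫ p = 𝟙 X)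
    {KX : Type v} [CommRing KX] [LambdaRing.LambdaOps KX] {PX : LambdaRing.PosStructure KX}
    {φX : SGA6.Kvb X →+ KX} (hX : KRR.IsModel X KX PX φX) {KP : Type v} [CommRing KP] {φP : SGA6.Kvb P →+ KP}
    {gp : KX →+ KP} (hgp : KRR.IsPull p φX φP gp) {gt : KP →+ KX} (hgt : KRR.IsPull t φP φX gt) (x : KX) :
    gt (gp x) = x := by
  obtain ⟨A, B, hA, hB, rfl⟩ := KvbPull.exists_cl hX x
  have key : ∀ {A : X.Modules}, FlatMod.IsFinLocFree A → gt (gp (φX (cl A))) = φX (cl A) := fun {A} hA => by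
    rw [hgp A hA, hgt _ (KvbPull.lf_pull p hA)]
    exact congrArg φX (GenPush.cl_iso ((Scheme.Modules.pullbackComp t p).app A ≪≫
      (Scheme.Modules.pullbackCongr h).app A ≪≫ (Scheme.Modules.pullbackId X).app A)
      (KvbPull.lf_pull t (KvbPull.lf_pull p hA)) hA)
  rw [map_sub gp, map_sub gt, key hA, key hB]

/-- The elementary case: a section of the bundle of `C = C' + 1` with trivial `O(1)`. -/
theorem elem {X E : Scheme.{u}} [AlgebraicGeometry.IsNoetherian X] [ConnectedSpace ↥X]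
    [AlgebraicGeometry.IsNoetherian E] [ConnectedSpace ↥E] (hXe : KRR.HasEnoughLocFree X)
    {ψ : E ⟶ X} {d : ℕ} {C : X.Modules} (hC : FlatMod.IsFinLocFreeOfRank (d + 1) C) {O1 : E.Modules}
    {q : (Scheme.Modules.pullback ψ).obj C ⟶ O1} (hP : KRR.IsProjBundle ψ C O1 q) (z : X ⟶ E) (hz : z ≫ ψ = 𝟙 X)
    (hreg : Mor2.IsRegularClosedImmersion z)
    (htriv : Nonempty ((Scheme.Modules.pullback z).obj O1 ≅ Coh.structureModule X))
    {C' : X.Modules} (hC' : FlatMod.IsFinLocFreeOfRank d C')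
    {KX : Type (u + 1)} [CommRing KX] [LambdaRing.LambdaOps KX] {PX : LambdaRing.PosStructure KX}
    {φX : SGA6.Kvb X →+ KX} (hX : KRR.IsModel X KX PX φX)
    {KE : Type (u + 1)} [CommRing KE] [LambdaRing.LambdaOps KE] {PE : LambdaRing.PosStructure KE}
    {φE : SGA6.Kvb E →+ KE} (hE : KRR.IsModel E KE PE φE)
    (hcl : φX (cl C) = φX (cl C') + 1) (gz : KX →+ KE) (hgz : KRR.IsPushCl z φX φE gz) (j : ℕ) (x : KX) :
    LambdaRing.adams PE j (gz x) = gz (KRR.bott PX j (φX (cl C')) * LambdaRing.adams PX j x) := by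
  classical
  haveI := hreg.1
  obtain ⟨Oinv, hOi, hOO⟩ := H23.PicInv.exists_inverse (PBCores.isInvertible_iff_rank.2 hP.invertible)
  obtain ⟨eOO⟩ := hOO
  obtain ⟨ecomm⟩ := H23.PicMul.comm Oinv O1
  obtain ⟨D, hDO, hDi⟩ := PBBasis.exists_data hP hC Oinv ⟨ecomm ≪≫ eOO⟩
    (KvbModel.lf_of_rank (PBCores.isInvertible_iff_rank.1 hOi))
  subst hDO hDi
  obtain ⟨es⟩ := htriv
  have hsec := ElemCase.section_class D hXe hC hP hOi hC' hX hE hcl z hz hreg es gz hgz
  have hEe := PBEnough.enough D hXe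
  obtain ⟨gψ, hgψ, -⟩ := PullVB.existsUnique_isPull ψ φE φX hX.bijective
  obtain ⟨gs, hgs, -⟩ := PullVB.existsUnique_isPull z φX φE hE.bijective
  let Rψ := KvbPull.ringHom hE hX hgψ
  let Rz := KvbPull.ringHom hX hE hgs
  have hsec' : ∀ x, gs (gψ x) = x := pull_section hz hX hgψ hgs
  have hproj : ∀ x y, gz (x * gs y) = gz x * y :=
    KRRPushProp.push_mul_pull z φX hX.bijective φE hEe hreg hE.bijective.2 hX.map_mul hE.map_mul gs hgs gz hgz
  have hmul : ∀ x, gz x = gz 1 * gψ x := fun x => by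
    rw [← hproj, hsec', one_mul]
  set e' := φE (cl ((DCoh.tensorBi.obj D.Oinv).obj ((Scheme.Modules.pullback ψ).obj C'))) with he'
  have hψC' := LineTwist.rank_pull ψ hC'
  have he'mul : e' = φE (cl D.Oinv) * gψ (φX (cl C')) := by
    rw [he', hgψ _ (KvbModel.lf_of_rank hC'), hE.map_mul _ _ D.lfi (KvbModel.lf_of_rank hψC')]
  have he'z : gs e' = φX (cl C') := by
    rw [he'mul, show gs (φE (cl D.Oinv) * gψ (φX (cl C'))) = _ from map_mul Rz _ _]
    show gs (φE (cl D.Oinv)) * gs (gψ (φX (cl C'))) = _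
    rw [hsec']
    have h1 : gs (φE (cl D.O1)) = 1 := by
      rw [hgs _ D.lf1, ← hX.map_one]
      exact congrArg φX (GenPush.cl_iso es (KvbPull.lf_pull _ D.lf1) lf_O)
    have h2 : φE (cl D.Oinv) * φE (cl D.O1) = 1 := by
      rw [hE.map_mul _ _ D.lfi D.lf1, ← hE.map_one]
      exact congrArg φE (GenPush.cl_iso (ecomm ≪≫ eOO) (lf_tens D.lfi D.lf1) lf_O)
    have h3 := congrArg Rz h2
    rw [map_mul, map_one] at h3
    change gs _ * gs _ = 1 at h3
    rw [h1, mul_one] at h3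
    rw [h3, one_mul]
  have hsp := PBSplit.hasSplitting hE
  have hlamAlt : LambdaRing.adams PE j (KRR.lamAlt PE e') = KRR.lamAlt PE e' * KRR.bott PE j e' := by
    have haug : PE.aug e' = (d : ℤ) := by
      rw [he'mul, map_mul, hgψ _ (KvbModel.lf_of_rank hC'), hE.aug_cl d _ hψC',
        hE.aug_cl 1 _ (PBCores.isInvertible_iff_rank.1 hOi)]
      simp
    rcases Nat.eq_zero_or_pos d with rfl | hd
    · have hl : KRR.lamAlt PE e' = 1 := by
        rw [KRR.lamAlt, haug]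
        simp [LambdaRing.LambdaOps.lam_zero]
      have hb : KRR.bott PE j e' = 1 := by
        rw [KRR.bott, bottPoly_cast (by rw [haug]; rfl : (PE.aug e').toNat = 0) j fun i => LambdaRing.LambdaOps.lam i e',
          bottPoly_zero, map_one]
      rw [hl, hb, Lambda.adams_one, mul_one]
    · have hlin := PBCores.isInvertible_iff_rank.1 hOi
      refine Lambda.adams_lamAlt hsp ?_ j
      rw [he'mul]
      exact PE.mul_mem _ _ ((hE.mem_pos_iff _).2 ⟨1, _, le_rfl, hlin, rfl⟩)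
        ((hE.mem_pos_iff _).2 ⟨d, _, hd, hψC', (hgψ _ (KvbModel.lf_of_rank hC')).symm⟩)
  have hAψ : LambdaRing.adams PE j (gψ x) = gψ (LambdaRing.adams PX j x) :=
    (Lambda.map_adams (f := Rψ) (KvbPull.map_lam hE hX hgψ) (LineTwist.aug_pull hE hX hgψ) j x).symm
  have hB : gs (KRR.bott PE j e') = KRR.bott PX j (φX (cl C')) := by
    rw [← he'z]
    exact map_bott Rz (KvbPull.map_lam hX hE hgs) (LineTwist.aug_pull hX hE hgs) j e'
  rw [hmul x, hsec, Lambda.adams_mul hsp, hlamAlt, hAψ, ← hB, mul_comm (gs _) (LambdaRing.adams PX j x), hproj,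
    hmul (LambdaRing.adams PX j x), hsec]
  ring

set_option maxHeartbeats 4000000 in
/-- Adams–Riemann–Roch for a regular immersion, for large models. -/
theorem main {X Y : Scheme.{u}} [AlgebraicGeometry.IsNoetherian Y] [ConnectedSpace ↥Y]
    (hYe : KRR.HasEnoughLocFree Y) (f : X ⟶ Y) (hf : Mor2.IsRegularClosedImmersion f) [ConnectedSpace ↥X] {d : ℕ}
    (hC : FlatMod.IsFinLocFreeOfRank d (Omega.conormal f))
    {KX : Type (u + 1)} [CommRing KX] [LambdaRing.LambdaOps KX] {PX : LambdaRing.PosStructure KX}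
    {φX : SGA6.Kvb X →+ KX} (hX : KRR.IsModel X KX PX φX)
    {KY : Type (u + 1)} [CommRing KY] [LambdaRing.LambdaOps KY] {PY : LambdaRing.PosStructure KY}
    {φY : SGA6.Kvb Y →+ KY} (hY : KRR.IsModel Y KY PY φY)
    (h : KX →+ KY) (hh : KRR.IsPushCl f φX φY h) (j : ℕ) (hj : 1 ≤ j) (x : KX) :
    LambdaRing.adams PY j (h x) = h (KRR.bott PX j (φX (cl (Omega.conormal f))) * LambdaRing.adams PX j x) := by
  classical
  haveI := hf.1
  haveI := PushComp.isNoetherian_of_closed f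
  have hXe : KRR.HasEnoughLocFree X := KZ.QuasiProj.enough_closed hYe f
  obtain ⟨Δ⟩ := DefCore.exists_def hYe f hf hC
  haveI := Δ.noethM
  haveI := Δ.connM
  haveI := Δ.noethP
  haveI := Δ.connP
  haveI := Δ.noethE
  haveI := Δ.connE
  haveI := Δ.closed0
  haveI := Δ.closedE
  haveI := Δ.hF.1
  haveI := Δ.hzreg.1
  obtain ⟨KM, _, _, PM, φM, hM⟩ := KvbModel.exists_isModel (X := Δ.M)
  obtain ⟨KP, _, _, PP, φP, hP⟩ := KvbModel.exists_isModel (X := Δ.P)
  obtain ⟨KE, _, _, PE, φE, hE⟩ := KvbModel.exists_isModel (X := Δ.E)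
  obtain ⟨gF, hgF, -⟩ := KRRPushK.existsUnique_isPushCl Δ.F φP hP.bijective φM Δ.enoughM Δ.hF
  obtain ⟨gp, hgp, -⟩ := PullVB.existsUnique_isPull Δ.pX φP φX hX.bijective
  obtain ⟨gt0, hgt0, -⟩ := PullVB.existsUnique_isPull Δ.t0 φX φP hP.bijective
  obtain ⟨gt1, hgt1, -⟩ := PullVB.existsUnique_isPull Δ.t1 φX φP hP.bijective
  obtain ⟨gi, hgi, -⟩ := PullVB.existsUnique_isPull Δ.i0 φY φM hM.bijective
  obtain ⟨gι, hgι, -⟩ := PullVB.existsUnique_isPull Δ.ι φE φM hM.bijective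
  have hEe : KRR.HasEnoughLocFree Δ.E := KZ.QuasiProj.enough_closed Δ.enoughM Δ.ι
  obtain ⟨gz, hgz, -⟩ := KRRPushK.existsUnique_isPushCl Δ.z φX hX.bijective φE hEe Δ.hzreg
  have hpi : ∀ w, gi (gF w) = h (gt0 w) := fun w =>
    KRRBC.pull_pushCl Δ.i0 Δ.sq0 Δ.hF hf d Δ.hFd hC hYe Δ.enoughM hP.bijective.2 hgi hgt0 hgF hh w
  have hpι : ∀ w, gι (gF w) = gz (gt1 w) := fun w =>
    KRRBC.pull_pushCl Δ.ι Δ.sqE Δ.hF Δ.hzreg d Δ.hFd Δ.hzd hEe Δ.enoughM hP.bijective.2 hgι hgt1 hgF hgz w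
  have ht0 : ∀ w, gt0 (gp w) = w := pull_section Δ.ht0 hX hgp hgt0
  have ht1 : ∀ w, gt1 (gp w) = w := pull_section Δ.ht1 hX hgp hgt1
  let Ri := KvbPull.ringHom hY hM hgi
  let Rι := KvbPull.ringHom hE hM hgι
  have hAi : ∀ m, gi (LambdaRing.adams PM j m) = LambdaRing.adams PY j (gi m) :=
    Lambda.map_adams (f := Ri) (KvbPull.map_lam hY hM hgi) (LineTwist.aug_pull hY hM hgi) j
  have hAι : ∀ m, gι (LambdaRing.adams PM j m) = LambdaRing.adams PE j (gι m) :=
    Lambda.map_adams (f := Rι) (KvbPull.map_lam hE hM hgι) (LineTwist.aug_pull hE hM hgι) j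
  set θ := KRR.bott PX j (φX (cl (Omega.conormal f)))
  set δ := LambdaRing.adams PY j (h x) - h (θ * LambdaRing.adams PX j x) with hδ
  set α := LambdaRing.adams PM j (gF (gp x)) - gF (gp (θ * LambdaRing.adams PX j x)) with hα
  have hαi : gi α = δ := by
    rw [hα, map_sub, hAi, hpi, hpi, ht0, ht0]
  have hαι : gι α = 0 := by
    rw [hα, map_sub, hAι, hpι, hpι, ht1, ht1, sub_eq_zero]
    exact elem hXe Δ.hC Δ.hPE Δ.z Δ.hz Δ.hzreg Δ.trivz hC hX hE (Δ.clC hX) gz hgz j x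
  -- the divisors
  obtain ⟨g0, hg0, -⟩ := KRRPushK.existsUnique_isPushCl Δ.i0 φY hY.bijective φM Δ.enoughM (CartierPush.regular _ Δ.eff0).1
  obtain ⟨gιp, hgιp, -⟩ := KRRPushK.existsUnique_isPushCl Δ.ι φE hE.bijective φM Δ.enoughM (CartierPush.regular _ Δ.effE).1
  let ιR := Δ.R.subschemeι
  haveI : AlgebraicGeometry.IsNoetherian Δ.R.subscheme := PushComp.isNoetherian_of_closed ιR
  have hRker : ιR.ker = Δ.R := Scheme.IdealSheafData.ker_subschemeι Δ.R
  have hReg := (CartierPush.regular ιR (hRker.symm ▸ Δ.effR)).1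
  obtain ⟨KR, _, _, φR, hR⟩ := DefPre.exists_pre Δ.R.subscheme
  obtain ⟨gR, hgR, -⟩ := PullVB.existsUnique_isPull ιR φR φM hM.bijective
  obtain ⟨gRp, hgRp, -⟩ := KRRPushK.existsUnique_isPushCl ιR φR hR.bijective φM Δ.enoughM hReg
  have hR0 : ∀ w, gR (gF w) = 0 := fun w => KRRPushProp.pull_push_eq_zero Δ.F Δ.enoughM Δ.hF ιR Δ.disjR φP
    hP.bijective.2 φM φR gR hgR gF hgF w
  have hαR : gR α = 0 := by
    rw [hα, map_sub, hR0, sub_zero]
    exact DefPre.map_adams_eq_zero hR (DefPre.of_model hM) hgR PM hj (hR0 _)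
  set eE := φM (cl (ClSub.idealMod Δ.ι.ker))
  set eR := φM (cl (ClSub.idealMod Δ.R))
  have h1 : α * (1 - eE) = 0 := by
    rw [← CartierPush.push_one Δ.ι Δ.effE Δ.enoughM hE.bijective hE.map_one hM.map_one hgιp, mul_comm,
      ← KRRPushProp.push_mul_pull Δ.ι φE hE.bijective φM Δ.enoughM (CartierPush.regular _ Δ.effE).1
        hM.bijective.2 hE.map_mul hM.map_mul gι hgι gιp hgιp, hαι, mul_zero, map_zero]
  have h2 : α * (1 - eR) = 0 := by
    have hp : gRp 1 = 1 - eR := by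
      rw [CartierPush.push_one ιR (hRker.symm ▸ Δ.effR) Δ.enoughM hR.bijective hR.map_one hM.map_one hgRp, hRker]
    rw [← hp, mul_comm, ← KRRPushProp.push_mul_pull ιR φR hR.bijective φM Δ.enoughM hReg
      hM.bijective.2 hR.map_mul hM.map_mul gR hgR gRp hgRp, hαR, mul_zero, map_zero]
  have h3 : g0 δ = 0 := by
    have h := KRRPushProp.push_mul_pull Δ.i0 φY hY.bijective φM Δ.enoughM (CartierPush.regular _ Δ.eff0).1
      hM.bijective.2 hY.map_mul hM.map_mul gi hgi g0 hg0 1 α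
    rw [one_mul, hαi] at h
    rw [h, CartierPush.push_one Δ.i0 Δ.eff0 Δ.enoughM hY.bijective hY.map_one hM.map_one hg0, Δ.clI hM,
      CartierPush.cl_mul Δ.effE Δ.effR hM]
    show (1 - eR * eE) * α = 0
    linear_combination h1 + eE * h2
  exact sub_eq_zero.1 (Δ.inj hY hM.bijective g0 hg0 δ h3)

end Groth.Agent.H28.DefCalc
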