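import Groth.Agent.H28.LiftReg
import Groth.Agent.H28.GenPush
import Groth.Agent.H28.PullVB
import Groth.Agent.KRegLib.Kinds
import Groth.Agent.MeroX.BaseChange
import Groth.Agent.S8679
import Groth.Agent.S9371

/-!
# Geometry of the deformation to the normal cone
-/

set_option autoImplicit false
set_option linter.style.haveILetI false
set_option linter.unusedSectionVars false
set_option backward.isDefEq.respectTransparency false
set_option backward.isDefEq.respectTransparency.types false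
set_option maxHeartbeats 1000000

universe v u

open CategoryTheory CategoryTheory.Limits AlgebraicGeometry TopologicalSpace Opposite

noncomputable section

namespace Groth.Agent.H28.DefGeom

open Groth.Agent Groth.Agent.AModX Groth.Agent.WiebeLib

theorem toKoszul {Z W : Scheme.{u}} {i : Z ⟶ W} (h : Mor2.IsRegularClosedImmersion i) :
    RegImm.IsRegularImmersion .koszul i := by
  haveI := h.1
  refine ⟨inferInstance, fun z => ?_⟩
  obtain ⟨U, hU, hzU, rs, hrs, hker⟩ := h.2 z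
  exact ⟨⟨U, hU⟩, hzU, IsZariskiLocalAtTarget.restrict h.1 U, rs, KRegLib.seq_of_isRegular _ rs hrs,
    (Scheme.Hom.ker_apply i ⟨U, hU⟩).symm.trans hker⟩

/-- Flat base change of a regular immersion, with the rank. -/
theorem baseChange {X Y X' Y' : Scheme.{u}} {i : Y ⟶ X} {g : X' ⟶ X} {i' : Y' ⟶ X'} {g' : Y' ⟶ Y} [Flat g]
    [IsLocallyNoetherian X] [IsLocallyNoetherian X'] (hsq : IsPullback g' i' i g) (hi : Mor2.IsRegularClosedImmersion i) {d : ℕ}
    (hC : FlatMod.IsFinLocFreeOfRank d (Omega.conormal i)) :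
    Mor2.IsRegularClosedImmersion i' ∧ FlatMod.IsFinLocFreeOfRank d (Omega.conormal i') := by
  haveI := hi.1
  haveI : IsClosedImmersion i' := MorphismProperty.of_isPullback (P := @IsClosedImmersion) hsq hi.1
  refine LiftReg.regular_of_exact i' fun z => ?_
  obtain ⟨U, hU, hzU, n, a, k, rfl, -, hI, hex, -⟩ := ExcCharts.exists_local i hi hC (g' z)
  obtain ⟨V, hV, hzV, hVU⟩ := exists_isAffineOpen_mem_and_subset (show i' z ∈ g ⁻¹ᵁ U by
    show g (i' z) ∈ U
    rwa [← Scheme.Hom.comp_apply, ← hsq.w, Scheme.Hom.comp_apply])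
  letI : Algebra Γ(X, U) Γ(X', V) := (g.appLE U V hVU).hom.toAlgebra
  haveI : Module.Flat Γ(X, U) Γ(X', V) := g.flat_appLE hU hV hVU
  refine ⟨V, hV, hzV, fun l => algebraMap Γ(X, U) Γ(X', V) (a l), isExact_map hex, ?_⟩
  rw [TorPull.ker_eq hsq.flip, ModPairLib.ideal_comap _ g ⟨U, hU⟩ ⟨V, hV⟩ hVU, hI, Ideal.map_span, ← Set.range_comp]
  rfl

/-- A section of a morphism pulls back to an effective divisor. -/
theorem isEffCartier_bc {B Y X : Scheme.{u}} (π : B ⟶ Y) (f : X ⟶ Y) (s : Y ⟶ B) [IsClosedImmersion s]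
    (hs : s ≫ π = 𝟙 Y) (he : BlowUp.IsEffCartierIdeal s.ker) :
    BlowUp.IsEffCartierIdeal (s.ker.comap (pullback.fst π f)) := by
  haveI : Flat (s.ker.subschemeι ≫ π) := by
    have h : s.toImage ≫ s.ker.subschemeι = s := s.toImage_imageι
    haveI : IsIso (s.toImage ≫ s.ker.subschemeι ≫ π) := by
      rw [← Category.assoc, h, hs]
      infer_instance
    haveI : IsIso (s.ker.subschemeι ≫ π) := IsIso.of_isIso_comp_left s.toImage _
    infer_instance
  exact MeroX.isEffCartier_baseChange π s.ker he f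

/-- The ideal of the intersection of a closed subscheme and a divisor. -/
theorem ker_comp {X P B : Scheme.{u}} (j : P ⟶ B) [IsClosedImmersion j] (t : X ⟶ P) [IsClosedImmersion t]
    (T : B.IdealSheafData) (ht : t.ker = T.comap j) (U : B.affineOpens) :
    (t ≫ j).ker.ideal U = j.ker.ideal U ⊔ T.ideal U := by
  obtain ⟨U, hU⟩ := U
  have h1 : (t ≫ j).ker.ideal ⟨U, hU⟩ = (t.ker.ideal ⟨j ⁻¹ᵁ U, hU.preimage j⟩).comap (j.app U).hom := by
    rw [Scheme.Hom.ker_apply, Scheme.Hom.ker_apply, RingHom.comap_ker]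
    rfl
  rw [h1, ht, ModPairLib.ideal_comap T j ⟨U, hU⟩ ⟨_, hU.preimage j⟩ le_rfl, ← Scheme.Hom.app_eq_appLE,
    Ideal.comap_map_of_surjective _ (j.app_surjective U hU), sup_comm]
  congr 1
  exact (Scheme.Hom.ker_apply j ⟨U, hU⟩).symm

/-- The intersection of a regular immersion and a divisor. -/
theorem regular_centre {X P B : Scheme.{u}} [IsLocallyNoetherian B] (j : P ⟶ B)
    (hj : Mor2.IsRegularClosedImmersion j) {d : ℕ} (hC : FlatMod.IsFinLocFreeOfRank d (Omega.conormal j))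
    (T : B.IdealSheafData) (hT : BlowUp.IsEffCartierIdeal T) (hTj : BlowUp.IsEffCartierIdeal (T.comap j))
    (t : X ⟶ P) [IsClosedImmersion t] (ht : t.ker = T.comap j) :
    Mor2.IsRegularClosedImmersion (t ≫ j) ∧ FlatMod.IsFinLocFreeOfRank (d + 1) (Omega.conormal (t ≫ j)) := by
  haveI := hj.1
  refine LiftReg.regular_of_exact (t ≫ j) fun z => ?_
  obtain ⟨U₀, hU₀, hzU₀, n, a₀, k₀, rfl, -, hI₀, hex₀, -⟩ := ExcCharts.exists_local j hj hC (t z)
  obtain ⟨⟨U₁, hU₁⟩, hzU₁, t₁, -, hT₁⟩ := hT (j (t z))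
  obtain ⟨U, hU, hzU, hle⟩ := exists_isAffineOpen_mem_and_subset (show j (t z) ∈ U₀ ⊓ U₁ from ⟨hzU₀, hzU₁⟩)
  have h₀ : U ≤ U₀ := (show U ≤ U₀ ⊓ U₁ from hle).trans inf_le_left
  have h₁ : U ≤ U₁ := (show U ≤ U₀ ⊓ U₁ from hle).trans inf_le_right
  let a' : Fin n → Γ(B, U) := fun l => resR h₀ (a₀ l)
  let τ : Γ(B, U) := resR h₁ t₁
  have hI : j.ker.ideal ⟨U, hU⟩ = Ideal.span (Set.range a') := by
    rw [← j.ker.map_ideal (U := ⟨U, hU⟩) (V := ⟨U₀, hU₀⟩) h₀, hI₀, Ideal.map_span, ← Set.range_comp]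
    rfl
  have hTU : T.ideal ⟨U, hU⟩ = Ideal.span {τ} := by
    rw [← T.map_ideal (U := ⟨U, hU⟩) (V := ⟨U₁, hU₁⟩) h₁, hT₁, Ideal.map_span, Set.image_singleton]
    rfl
  have hnzd : j.app U τ ∈ nonZeroDivisors Γ(P, j ⁻¹ᵁ U) := by
    refine ModPairLib.generator_mem_nonZeroDivisors hTj (W := ⟨_, hU.preimage j⟩) ?_
    rw [ModPairLib.ideal_comap T j ⟨U, hU⟩ ⟨_, hU.preimage j⟩ le_rfl, hTU, Ideal.map_span, Set.image_singleton,
      Scheme.Hom.app_eq_appLE]
  refine ⟨U, hU, hzU, Fin.cons τ a',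
    KRegLib.isExact_appendSeq (f := a') (q := (j.app U).hom) (LiftReg.exact_res hU₀ hU h₀ hex₀)
      (j.app_surjective U hU) ((Scheme.Hom.ker_apply j ⟨U, hU⟩).symm.trans hI) (fun _ : Fin 1 => τ)
      (KRegLib.isExact_single fun x y hxy => by
        refine (mul_cancel_right_mem_nonZeroDivisors hnzd).1 ?_
        simpa [mul_comm] using hxy), ?_⟩
  rw [ker_comp j t T ht ⟨U, hU⟩, hI, hTU, Fin.range_cons, Ideal.span_insert, sup_comm]

/-- The class of the conormal module of a composite, when that of the outer immersion is trivial. -/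
theorem cl_conormal_comp {X Y B : Scheme.{u}} (f : X ⟶ Y) (s : Y ⟶ B) (hf : Mor2.IsRegularClosedImmersion f)
    (hs : Mor2.IsRegularClosedImmersion s) (es : Omega.conormal s ≅ Coh.structureModule Y)
    (h12 : FlatMod.IsFinLocFree (Omega.conormal (f ≫ s))) (h3 : FlatMod.IsFinLocFree (Omega.conormal f))
    {KX : Type v} [CommRing KX] [LambdaRing.LambdaOps KX] {PX : LambdaRing.PosStructure KX}
    {φX : SGA6.Kvb X →+ KX} (hX : KRR.IsModel X KX PX φX) :
    φX (KRR.cl X (Omega.conormal (f ≫ s))) = φX (KRR.cl X (Omega.conormal f)) + 1 := by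
  haveI := hf.1
  haveI := hs.1
  obtain ⟨φ₁, hφ₁, -⟩ := Groth.Agent.S9371.result (f ≫ s) s (𝟙 B) f (by rw [Category.comp_id])
  obtain ⟨φ₂, hφ₂, -⟩ := Groth.Agent.S9371.result f (f ≫ s) s (𝟙 X) (by rw [Category.id_comp])
  obtain ⟨w, hw⟩ := Groth.Agent.S8679.result s f (toKoszul hs) (toKoszul hf) φ₁ hφ₁ φ₂ hφ₂
  have hlf : FlatMod.IsFinLocFree (Omega.conormal s) := H23.PullPush.isFinLocFree_of_iso es.symm KvbLam.lf_O
  have h1 := KvbPull.lf_pull f hlf
  have e := KZ.clSub_ses (KRR.vbP X) hw h1 h12 h3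
  have e' : φX (KRR.cl X ((Scheme.Modules.pullback f).obj (Omega.conormal s))) = 1 := by
    rw [← hX.map_one]
    exact congrArg φX (GenPush.cl_iso ((Scheme.Modules.pullback f).mapIso es ≪≫ KvbPull.unitIso f) h1 KvbLam.lf_O)
  rw [show KRR.cl X (Omega.conormal (f ≫ s)) = _ from e, map_add]
  show φX (KRR.cl X _) + φX (KRR.cl X (Omega.conormal f)) = _
  rw [e', add_comm]

end Groth.Agent.H28.DefGeom
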