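import Groth.Agent.H28.DefCore

/-!
# Functoriality of the deformation to the normal cone
-/

set_option autoImplicit false
set_option linter.style.haveILetI false
set_option linter.unusedSectionVars false
set_option backward.isDefEq.respectTransparency false
set_option backward.isDefEq.respectTransparency.types false
set_option maxHeartbeats 1000000

universe v u

open CategoryTheory CategoryTheory.Limits AlgebraicGeometry TopologicalSpace Opposite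
attribute [local instance] HasDerivedCategory.standard

noncomputable section

namespace Groth.Agent.H28.DefMor

open Groth.Agent DefCore

set_option maxHeartbeats 4000000 in
/-- Base change of the line bundle. -/
theorem exists_Line_bc {Y Y₁ : Scheme.{u}} [AlgebraicGeometry.IsNoetherian Y] [ConnectedSpace ↥Y]
    [AlgebraicGeometry.IsNoetherian Y₁] [ConnectedSpace ↥Y₁] (hY₁e : KRR.HasEnoughLocFree Y₁) (Λ : Line Y)
    (φ : Y₁ ⟶ Y) :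
    ∃ (Λ₁ : Line Y₁) (β : Λ₁.B ⟶ Λ.B), Λ₁.s₀ ≫ β = φ ≫ Λ.s₀ ∧ IsPullback Λ₁.s₁ φ β Λ.s₁ := by
  classical
  haveI := Λ.noethB
  haveI := Λ.connB
  haveI := Λ.reg₀.1
  haveI := Λ.reg₁.1
  haveI := Λ.smooth
  obtain ⟨F, hF, q, hP⟩ := Λ.bundle
  let B₁ := pullback Λ.π φ
  let β : B₁ ⟶ Λ.B := pullback.fst Λ.π φ
  let π₁ : B₁ ⟶ Y₁ := pullback.snd Λ.π φ
  have hsqB : IsPullback β π₁ Λ.π φ := IsPullback.of_hasPullback _ _
  have hP₁ := H23.ProjBd.isProjBundle_baseChange hsqB hP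
  have hF₁ := H23.GrassFlag.rank_pullback φ hF
  haveI : AlgebraicGeometry.IsNoetherian B₁ := PBSplit.isNoetherian hP₁ hF₁
  haveI : ConnectedSpace ↥B₁ := PBSplit.connectedSpace hP₁ hF₁
  obtain ⟨Oinv, hOi, hOO⟩ := H23.PicInv.exists_inverse (PBCores.isInvertible_iff_rank.2 hP₁.invertible)
  obtain ⟨eOO⟩ := hOO
  obtain ⟨ecomm⟩ := H23.PicMul.comm Oinv ((Scheme.Modules.pullback β).obj Λ.D.O1)
  obtain ⟨D₁, hDO, -⟩ := PBBasis.exists_data hP₁ hF₁ Oinv ⟨ecomm ≪≫ eOO⟩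
    (KvbModel.lf_of_rank (PBCores.isInvertible_iff_rank.1 hOi))
  haveI : Smooth π₁ := inferInstanceAs (Smooth (pullback.snd Λ.π φ))
  haveI : IsProper π₁ := PBCohPush.isProper D₁
  have hlift : ∀ s : Y ⟶ Λ.B, s ≫ Λ.π = 𝟙 Y → (φ ≫ s) ≫ Λ.π = 𝟙 Y₁ ≫ φ := fun s hs => by
    rw [Category.assoc, hs, Category.comp_id, Category.id_comp]
  let σ₀ : Y₁ ⟶ B₁ := pullback.lift (φ ≫ Λ.s₀) (𝟙 Y₁) (hlift _ Λ.hs₀)
  let σ₁ : Y₁ ⟶ B₁ := pullback.lift (φ ≫ Λ.s₁) (𝟙 Y₁) (hlift _ Λ.hs₁)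
  have hσ₀ : σ₀ ≫ π₁ = 𝟙 Y₁ := pullback.lift_snd _ _ _
  have hσ₁ : σ₁ ≫ π₁ = 𝟙 Y₁ := pullback.lift_snd _ _ _
  have hσ₀β : σ₀ ≫ β = φ ≫ Λ.s₀ := pullback.lift_fst _ _ _
  have hσ₁β : σ₁ ≫ β = φ ≫ Λ.s₁ := pullback.lift_fst _ _ _
  haveI : IsClosedImmersion σ₀ := by
    haveI : IsClosedImmersion (σ₀ ≫ π₁) := by rw [hσ₀]; infer_instance
    exact IsClosedImmersion.of_comp σ₀ π₁
  haveI : IsClosedImmersion σ₁ := by
    haveI : IsClosedImmersion (σ₁ ≫ π₁) := by rw [hσ₁]; infer_instance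
    exact IsClosedImmersion.of_comp σ₁ π₁
  have hsq₀ : IsPullback σ₀ φ β Λ.s₀ :=
    IsPullback.of_right (by rw [hσ₀, Λ.hs₀]; exact IsPullback.of_horiz_isIso ⟨by simp⟩) hσ₀β hsqB.flip
  have hsq₁ : IsPullback σ₁ φ β Λ.s₁ :=
    IsPullback.of_right (by rw [hσ₁, Λ.hs₁]; exact IsPullback.of_horiz_isIso ⟨by simp⟩) hσ₁β hsqB.flip
  have hk₀ : σ₀.ker = Λ.s₀.ker.comap β := TorPull.ker_eq hsq₀
  have hk₁ : σ₁.ker = Λ.s₁.ker.comap β := TorPull.ker_eq hsq₁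
  have he₀ : BlowUp.IsEffCartierIdeal σ₀.ker := hk₀ ▸ DefGeom.isEffCartier_bc Λ.π φ Λ.s₀ Λ.hs₀ Λ.eff₀
  have he₁ : BlowUp.IsEffCartierIdeal σ₁.ker := hk₁ ▸ DefGeom.isEffCartier_bc Λ.π φ Λ.s₁ Λ.hs₁ Λ.eff₁
  obtain ⟨e₀⟩ := Λ.triv₀
  obtain ⟨e₁⟩ := Λ.triv₁
  obtain ⟨i₁⟩ := H26.InterDiv.nonempty_pullback_idealMod β Λ.s₁.ker Λ.eff₁ (hk₁ ▸ he₁)
  refine ⟨{
    B := B₁, π := π₁, D := D₁, s₀ := σ₀, s₁ := σ₁, noethB := inferInstance, connB := inferInstance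
    enoughB := PBEnough.enough D₁ hY₁e, hO1 := ?_, hs₀ := hσ₀, hs₁ := hσ₁, disj := ?_
    reg₀ := (CartierPush.regular σ₀ he₀).1, reg₁ := (CartierPush.regular σ₁ he₁).1
    rank₀ := (CartierPush.regular σ₀ he₀).2, rank₁ := (CartierPush.regular σ₁ he₁).2
    eff₀ := he₀, eff₁ := he₁, triv₀ := ?_, smooth := inferInstance, triv₁ := ?_
    bundle := ?_, clI := ?_ }, β, hσ₀β, hsq₁⟩
  · rw [hDO]; exact PBCores.isInvertible_iff_rank.2 hP₁.invertible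
  · rw [Set.disjoint_left]
    rintro _ ⟨y, rfl⟩ ⟨y', hy'⟩
    have h := congrArg β.base hy'
    rw [← Scheme.Hom.comp_apply, ← Scheme.Hom.comp_apply, hσ₁β, hσ₀β] at h
    exact Set.disjoint_left.1 Λ.disj ⟨φ y, rfl⟩ ⟨φ y', h⟩
  · rw [hDO]
    exact ⟨(Scheme.Modules.pullbackComp σ₀ β).app _ ≪≫ (Scheme.Modules.pullbackCongr hσ₀β).app _ ≪≫
      ((Scheme.Modules.pullbackComp φ Λ.s₀).app _).symm ≪≫ (Scheme.Modules.pullback φ).mapIso e₀ ≪≫ KvbPull.unitIso φ⟩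
  · exact ⟨(Scheme.Modules.pullback σ₁).mapIso (eqToIso (by rw [hk₁]) ≪≫ i₁.symm) ≪≫
      (Scheme.Modules.pullbackComp σ₁ β).app _ ≪≫ (Scheme.Modules.pullbackCongr hσ₁β).app _ ≪≫
      ((Scheme.Modules.pullbackComp φ Λ.s₁).app _).symm ≪≫ (Scheme.Modules.pullback φ).mapIso e₁ ≪≫ KvbPull.unitIso φ⟩
  · rw [hDO]; exact ⟨_, hF₁, _, hP₁⟩
  · intro KB _ _ PB φB hB
    obtain ⟨K, _, _, P, φK, hK⟩ := KvbModel.exists_isModel (X := Λ.B)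
    rw [hk₀, hk₁]
    exact cl_comap β Λ.eff₀ Λ.eff₁ (hk₀ ▸ he₀) (hk₁ ▸ he₁) hK.bijective (Λ.clI hK)

end Groth.Agent.H28.DefMor

end
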