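import Groth.Agent.H28.BlowEmb
import Groth.Agent.H28.PBSect
import Groth.Agent.ModPairLib.Limit

/-!
# The lift of a regular immersion to a blowing up
-/

set_option autoImplicit false
set_option linter.style.haveILetI false
set_option linter.unusedSectionVars false
set_option backward.isDefEq.respectTransparency false
set_option backward.isDefEq.respectTransparency.types false
set_option maxHeartbeats 1000000

universe u

open CategoryTheory CategoryTheory.Limits AlgebraicGeometry TopologicalSpace Opposite MvPolynomial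

noncomputable section

namespace Groth.Agent.H28.LiftReg

open Groth.Agent Groth.Agent.AModX Groth.Agent.WiebeLib

/-- Local exact systems of equations of length `d`. -/
theorem regular_of_exact {Z W : Scheme.{u}} [IsLocallyNoetherian W] (i : Z ⟶ W) [IsClosedImmersion i] {d : ℕ}
    (h : ∀ z : Z, ∃ (U : W.Opens) (hU : IsAffineOpen U) (_ : i z ∈ U) (a : Fin d → Γ(W, U)),
      IsExact a ∧ i.ker.ideal ⟨U, hU⟩ = Ideal.span (Set.range a)) :
    Mor2.IsRegularClosedImmersion i ∧ FlatMod.IsFinLocFreeOfRank d (Omega.conormal i) := by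
  refine ⟨KRegLib.regClosed_of_isKoszulAt i fun z => ?_, fun z => ?_⟩
  · obtain ⟨U, hU, hzU, a, ha, hI⟩ := h z
    haveI : Algebra.Smooth Γ(W, U) Γ(W, U) := ⟨inferInstance, inferInstance⟩
    refine KRegLib.isKoszulAt_of_kReg i (hU.preimage i) hU le_rfl z hzU (i.app U).hom
      (by rw [Scheme.Hom.app_eq_appLE]; rfl) (i.app_surjective U hU) ?_
    refine KRegLib.KReg.of_on 1 (fun h1 => ?_) (Localization.Away (1 : Γ(W, U))) ?_
    · exact ((hU.preimage i).primeIdealOf ⟨z, hzU⟩).isPrime.ne_top ((Ideal.eq_top_iff_one _).2 (by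
        rw [← map_one (i.app U).hom]; exact h1))
    · rw [Scheme.Hom.ker_apply] at hI
      haveI : Module.Flat Γ(W, U) (Localization.Away (1 : Γ(W, U))) := IsLocalization.flat _ (Submonoid.powers 1)
      exact ⟨d, _, isExact_map (S := Localization.Away (1 : Γ(W, U))) ha, by
        rw [hI, Ideal.map_span, ← Set.range_comp]; rfl⟩
  · obtain ⟨U, hU, hzU, a, ha, hI⟩ := h z
    rw [Scheme.Hom.ker_apply] at hI
    have hex : LCI.IsKoszulRegularSeq Γ(W, U) (List.ofFn a) := KoszulFlatLib.isKoszulRegularSeq_of_isExact ha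
    have h1 : CAlgX.IsH1Regular (List.ofFn a).get := KRegLib.h1_of_koszul _ hex
    have hI' : RingHom.ker (i.app U).hom = Ideal.ofList (List.ofFn a) := by
      rw [hI]
      refine congrArg Ideal.span (Set.ext fun x => ?_)
      simp [List.mem_ofFn, Set.mem_range]
    obtain ⟨g, hg⟩ := RegConormal.exists_freeIso_conormal i ⟨U, hU⟩ inferInstance (List.ofFn a) hI' fun y hy b hb l => by
      letI : Algebra Γ(W, U) (W.presheaf.stalk (i y)) := (W.presheaf.germ U (i y) hy).hom.toAlgebra
      haveI : IsLocalization.AtPrime (W.presheaf.stalk (i y)) (hU.primeIdealOf ⟨i y, hy⟩).asIdeal :=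
        hU.isLocalization_stalk ⟨i y, hy⟩
      have hf := RegConormal.isH1Regular_localization (B := W.presheaf.stalk (i y))
        (hU.primeIdealOf ⟨i y, hy⟩).asIdeal.primeCompl (List.ofFn a).get h1
      have hK : RingHom.ker (i.stalkMap y).hom =
          Ideal.span (Set.range fun l => algebraMap Γ(W, U) (W.presheaf.stalk (i y)) ((List.ofFn a).get l)) := by
        rw [KRRPush.ker_stalkMap i y hU hy, Scheme.Hom.ker_apply, hI',
          show Ideal.ofList (List.ofFn a) = Ideal.span (Set.range (List.ofFn a).get) from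
            congrArg Ideal.span (Set.range_list_get _).symm,
          Ideal.map_span, ← Set.range_comp]
        rfl
      rw [hK] at hb ⊢
      exact RegConormal.coeff_mem_of_h1 _ hf b hb l
    refine ⟨i ⁻¹ᵁ U, hzU, ⟨(asIso g).symm ≪≫ QCoh.freeModRestrict _ _ ≪≫ eqToIso ?_⟩⟩
    rw [List.length_ofFn]

section Algebra

variable {A : Type u} [CommRing A]

theorem appendSeq_eq {r : ℕ} (f : Fin r → A) : ∀ (m : ℕ) (g : Fin m → A) (i : Fin (r + m)),
    KRegLib.appendSeq f m g i = Fin.append g f (i.cast (Nat.add_comm r m))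
  | 0, g, i => by
    rw [show i.cast (Nat.add_comm r 0) = Fin.natAdd 0 i from Fin.ext (by simp), Fin.append_right]
    rfl
  | m + 1, g, i => by
    induction i using Fin.cases with
    | zero =>
      rw [show (Fin.cast (Nat.add_comm r (m + 1)) (0 : Fin (r + m + 1))) = Fin.castAdd r (0 : Fin (m + 1)) from
        Fin.ext (by simp), Fin.append_left]
      rfl
    | succ i =>
      refine (appendSeq_eq f m (fun l => g l.succ) i).trans ?_
      obtain ⟨x, hx⟩ : ∃ x, i.cast (Nat.add_comm r m) = x := ⟨_, rfl⟩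
      rw [hx]
      have hcast : Fin.cast (Nat.add_comm r (m + 1)) i.succ = x.succ.cast (by omega) := by
        rw [← hx]; exact Fin.ext (by simp)
      rw [hcast]
      induction x using Fin.addCases with
      | left l =>
        rw [Fin.append_left, show (Fin.castAdd r l).succ.cast (by omega) = Fin.castAdd r l.succ from Fin.ext (by simp),
          Fin.append_left]
      | right l =>
        rw [Fin.append_right, show (Fin.natAdd m l).succ.cast (by omega) = Fin.natAdd (m + 1) l from
          Fin.ext (by simp; omega), Fin.append_right]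

/-- The two orders of two sequences. -/
theorem isExact_swap {d : ℕ} (f g : Fin d → A) (h : IsExact (KRegLib.appendSeq f d g)) :
    IsExact (KRegLib.appendSeq g d f) := by
  have hfun : ∀ i, KRegLib.appendSeq g d f i = KRegLib.appendSeq f d g (finAddFlip i) := fun i => by
    rw [appendSeq_eq, appendSeq_eq]
    induction i using Fin.addCases with
    | left l =>
      rw [finAddFlip_apply_castAdd]
      rw [show (Fin.castAdd d l).cast (Nat.add_comm d d) = Fin.castAdd d l from Fin.ext rfl,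
        show (Fin.natAdd d l).cast (Nat.add_comm d d) = Fin.natAdd d l from Fin.ext rfl, Fin.append_left, Fin.append_right]
    | right l =>
      rw [finAddFlip_apply_natAdd]
      rw [show (Fin.natAdd d l).cast (Nat.add_comm d d) = Fin.natAdd d l from Fin.ext rfl,
        show (Fin.castAdd d l).cast (Nat.add_comm d d) = Fin.castAdd d l from Fin.ext rfl, Fin.append_left, Fin.append_right]
  rw [funext hfun]
  exact KRegLib.isExact_comp_equiv h finAddFlip

variable {d : ℕ} (t : A) (a' : Fin d → A)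

/-- The coordinates of the chart of the equation `t`, cutting the centre out. -/
theorem coords_exact (ha' : IsExact a') (ha : IsExact (Fin.cons t a' : Fin (d + 1) → A)) :
    IsExact fun l : Fin d => PBlow.pres (Fin.cons t a' : Fin (d + 1) → A) 0 (X l) := by
  let R := MvPolynomial (Fin d) A
  have hX : IsExact fun l : Fin d => (X l : R) := KRegLib.isExact_X d
  have hq : Function.Surjective (constantCoeff : R →+* A) := fun x => ⟨C x, constantCoeff_C _ x⟩
  have hneg : IsExact fun l => (constantCoeff : R →+* A) (PBlow.eqs (Fin.cons t a' : Fin (d + 1) → A) 0 l) := by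
    classical
    refine KRegLib.isExact_of_isUnit_det ha' (Matrix.diagonal fun _ : Fin d => (-1 : A)) ?_ fun l => ?_
    · rw [Matrix.det_diagonal]
      exact IsUnit.prod_iff.2 fun _ _ => isUnit_one.neg
    · rw [Finset.sum_eq_single l (fun j _ hj => by rw [Matrix.diagonal_apply_ne _ hj.symm, zero_mul]) (by simp),
        Matrix.diagonal_apply_eq]
      simp [PBlow.eqs]
  have h1 := isExact_swap _ _ (KRegLib.isExact_appendSeq (f := fun l : Fin d => (X l : R)) (q := (constantCoeff : R →+* A)) hX hq (KRegLib.ker_constantCoeff d) _ hneg)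
  exact KRegLib.isExact_of_appendSeq (q := (PBlow.pres (Fin.cons t a' : Fin (d + 1) → A) 0).toRingHom)
    (PBlow.isExact_eqs _ 0 ha) (PBlow.pres_surjective _ 0) (PBlow.ker_pres _ 0 ha) _ h1

/-- The kernel of a map of the chart to the centre killing the coordinates. -/
theorem coords_ker (ha : IsExact (Fin.cons t a' : Fin (d + 1) → A)) {S : Type u} [CommRing S] (q : A →+* S)
    (hker : RingHom.ker q = Ideal.span (Set.range a'))
    (φ : RegBlow6.chartAlg (Fin.cons t a' : Fin (d + 1) → A) 0 →+* S)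
    (hφ : ∀ x, φ (algebraMap A _ x) = q x) (hX : ∀ l, φ (PBlow.pres (Fin.cons t a' : Fin (d + 1) → A) 0 (X l)) = 0) :
    RingHom.ker φ = Ideal.span (Set.range fun l : Fin d => PBlow.pres (Fin.cons t a' : Fin (d + 1) → A) 0 (X l)) := by
  set p := PBlow.pres (Fin.cons t a' : Fin (d + 1) → A) 0 with hp
  refine le_antisymm (fun x hx => ?_) (Ideal.span_le.2 ?_)
  swap
  · rintro _ ⟨l, rfl⟩
    exact hX l
  obtain ⟨P, rfl⟩ := PBlow.pres_surjective (Fin.cons t a' : Fin (d + 1) → A) 0 x
  have hdiff : P - C (constantCoeff P) ∈ RingHom.ker (constantCoeff : MvPolynomial (Fin d) A →+* A) := by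
    simp [RingHom.mem_ker]
  rw [KRegLib.ker_constantCoeff] at hdiff
  have hI : p (P - C (constantCoeff P)) ∈ Ideal.span (Set.range fun l : Fin d => p (X l)) := by
    have := Ideal.mem_map_of_mem p hdiff
    rwa [Ideal.map_span, ← Set.range_comp] at this
  have hq0 : q (constantCoeff P) = 0 := by
    have h0 : φ (p (P - C (constantCoeff P))) = 0 :=
      RingHom.mem_ker.1 ((Ideal.span_le.2 (by rintro _ ⟨l, rfl⟩; exact hX l) :
        Ideal.span (Set.range fun l : Fin d => p (X l)) ≤ RingHom.ker φ) hI)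
    rw [map_sub, map_sub, RingHom.mem_ker.1 hx, zero_sub, neg_eq_zero] at h0
    rwa [show p (C (constantCoeff P)) = algebraMap A _ (constantCoeff P) from p.commutes _, hφ] at h0
  have hC : p (C (constantCoeff P)) ∈ Ideal.span (Set.range fun l : Fin d => p (X l)) := by
    have hmem : constantCoeff P ∈ Ideal.span (Set.range a') := hker ▸ RingHom.mem_ker.2 hq0
    obtain ⟨c, hc⟩ := Ideal.mem_span_range_iff_exists_fun.1 hmem
    rw [← hc, map_sum, map_sum]
    refine Ideal.sum_mem _ fun l _ => ?_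
    rw [map_mul, map_mul]
    refine Ideal.mul_mem_left _ _ ?_
    have heq : PBlow.eqs (Fin.cons t a' : Fin (d + 1) → A) 0 l ∈ RingHom.ker p.toRingHom := by
      rw [hp, PBlow.ker_pres _ 0 ha]
      exact Ideal.subset_span ⟨l, rfl⟩
    have h0 : p (PBlow.eqs (Fin.cons t a' : Fin (d + 1) → A) 0 l) = 0 := heq
    simp only [PBlow.eqs, Fin.cons_zero, Fin.succAbove_zero, Fin.cons_succ, map_sub, map_mul, sub_eq_zero] at h0
    rw [← h0]
    exact Ideal.mul_mem_left _ _ (Ideal.subset_span ⟨l, rfl⟩)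
  have := Ideal.add_mem _ hI hC
  rwa [← map_add, sub_add_cancel] at this

end Algebra

/-- On a smaller affine open a flat restriction keeps an exact sequence exact. -/
theorem exact_res {W : Scheme.{u}} {U V : W.Opens} (hU : IsAffineOpen U) (hV : IsAffineOpen V) (h : V ≤ U) {n : ℕ}
    {a : Fin n → Γ(W, U)} (ha : IsExact a) : IsExact fun l => resR h (a l) := by
  letI : Algebra Γ(W, U) Γ(W, V) := (W.presheaf.map (homOfLE h).op).hom.toAlgebra
  haveI : Module.Flat Γ(W, U) Γ(W, V) := by
    have hid : U ≤ (𝟙 W : W ⟶ W) ⁻¹ᵁ U := le_rfl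
    have h2 := (𝟙 W : W ⟶ W).flat_appLE hU hV (h.trans hid)
    rw [show (𝟙 W : W ⟶ W).appLE U V (h.trans hid) = W.presheaf.map (homOfLE h).op by
      simp [Scheme.Hom.appLE]] at h2
    exact h2
  exact isExact_map ha

set_option maxHeartbeats 4000000 in
/-- The lift of a regular immersion, meeting the centre in an effective Cartier divisor, is regular. -/
theorem isRegular_lift {B M P : Scheme.{u}} [IsLocallyNoetherian B] [IsLocallyNoetherian M] {J : B.IdealSheafData}
    {b : M ⟶ B} (hb : BlowUp.IsBlowUp b J) (j : P ⟶ B) (hj : Mor2.IsRegularClosedImmersion j) {d : ℕ}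
    (hC : FlatMod.IsFinLocFreeOfRank d (Omega.conormal j)) (T : B.IdealSheafData) (hT : BlowUp.IsEffCartierIdeal T)
    (hTj : BlowUp.IsEffCartierIdeal (T.comap j))
    (hJ : ∀ U : B.affineOpens, J.ideal U = j.ker.ideal U ⊔ T.ideal U)
    (F : P ⟶ M) (hF : F ≫ b = j) [IsClosedImmersion F] :
    Mor2.IsRegularClosedImmersion F ∧ FlatMod.IsFinLocFreeOfRank d (Omega.conormal F) := by
  haveI := hj.1
  refine regular_of_exact F fun z => ?_
  obtain ⟨U₀, hU₀, hzU₀, n, a₀, k₀, rfl, hk₀, hI₀, hex₀, -⟩ := ExcCharts.exists_local j hj hC z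
  obtain ⟨⟨U₁, hU₁⟩, hzU₁, t₁, -, hT₁⟩ := hT (j z)
  obtain ⟨U, hU, hzU, hle⟩ := exists_isAffineOpen_mem_and_subset (show j z ∈ U₀ ⊓ U₁ from ⟨hzU₀, hzU₁⟩)
  have h₀ : U ≤ U₀ := (show U ≤ U₀ ⊓ U₁ from hle).trans inf_le_left
  have h₁ : U ≤ U₁ := (show U ≤ U₀ ⊓ U₁ from hle).trans inf_le_right
  let a' : Fin n → Γ(B, U) := fun l => resR h₀ (a₀ l)
  let t : Γ(B, U) := resR h₁ t₁
  have hI : j.ker.ideal ⟨U, hU⟩ = Ideal.span (Set.range a') := by
    rw [← j.ker.map_ideal (U := ⟨U, hU⟩) (V := ⟨U₀, hU₀⟩) h₀, hI₀, Ideal.map_span, ← Set.range_comp]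
    rfl
  have hTU : T.ideal ⟨U, hU⟩ = Ideal.span {t} := by
    rw [← T.map_ideal (U := ⟨U, hU⟩) (V := ⟨U₁, hU₁⟩) h₁, hT₁, Ideal.map_span, Set.image_singleton]
    rfl
  let a : Fin (n + 1) → Γ(B, U) := Fin.cons t a'
  have hJU : J.ideal ⟨U, hU⟩ = Ideal.span (Set.range a) := by
    rw [hJ, hI, hTU, Fin.range_cons, Ideal.span_insert, sup_comm]
  have hqsurj : Function.Surjective (j.app U).hom := j.app_surjective U hU
  have hker : RingHom.ker (j.app U).hom = Ideal.span (Set.range a') := (Scheme.Hom.ker_apply j ⟨U, hU⟩).symm.trans hI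
  have hnzd : j.app U t ∈ nonZeroDivisors Γ(P, j ⁻¹ᵁ U) := by
    refine ModPairLib.generator_mem_nonZeroDivisors hTj (W := ⟨_, hU.preimage j⟩) ?_
    rw [ModPairLib.ideal_comap T j ⟨U, hU⟩ ⟨_, hU.preimage j⟩ le_rfl, hTU, Ideal.map_span, Set.image_singleton,
      Scheme.Hom.app_eq_appLE]
  have hex' : IsExact a' := exact_res hU₀ hU h₀ hex₀
  have hex : IsExact a := KRegLib.isExact_appendSeq (f := a') (q := (j.app U).hom) hex' hqsurj hker (fun _ : Fin 1 => t)
    (KRegLib.isExact_single fun x y hxy => by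
      refine (mul_cancel_right_mem_nonZeroDivisors hnzd).1 ?_
      simpa [mul_comm] using hxy)
  let D := ExcCharts.D hb hU a hJU 0
  have hD : IsAffineOpen D := ExcCharts.D_affine hb hU a hJU 0
  have hDb : D ≤ b ⁻¹ᵁ U := ExcCharts.D_le hb hU a hJU 0
  have hsub : j ⁻¹ᵁ U ≤ F ⁻¹ᵁ D := by
    intro w hw
    obtain ⟨k, hk⟩ := ExcCharts.cover hb hU a hJU (z := F w) (show b (F w) ∈ U by
      rw [← Scheme.Hom.comp_apply, hF]; exact hw)
    induction k using Fin.cases with
    | zero => exact hk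
    | succ l =>
      exfalso
      let Dl := ExcCharts.D hb hU a hJU l.succ
      obtain ⟨W, hW, hwW, hWD⟩ := exists_isAffineOpen_mem_and_subset (show w ∈ F ⁻¹ᵁ Dl ⊓ j ⁻¹ᵁ U from ⟨hk, hw⟩)
      have hWl : W ≤ F ⁻¹ᵁ Dl := (show W ≤ F ⁻¹ᵁ Dl ⊓ j ⁻¹ᵁ U from hWD).trans inf_le_left
      have hWU : W ≤ j ⁻¹ᵁ U := (show W ≤ F ⁻¹ᵁ Dl ⊓ j ⁻¹ᵁ U from hWD).trans inf_le_right
      have ha0 : j.appLE U W hWU (a' l) = 0 := by
        have : a' l ∈ RingHom.ker (j.app U).hom := hker ▸ Ideal.subset_span ⟨l, rfl⟩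
        show P.presheaf.map (homOfLE hWU).op (j.app U (a' l)) = 0
        rw [show j.app U (a' l) = 0 from this, map_zero]
      have e1 : ((J.comap b).comap F).ideal ⟨W, hW⟩ = ⊥ := by
        rw [ModPairLib.ideal_comap _ F ⟨Dl, ExcCharts.D_affine hb hU a hJU l.succ⟩ ⟨W, hW⟩ hWl,
          ExcCharts.ideal_D hb hU a hJU l.succ, Ideal.map_span, Set.image_singleton, Ideal.span_singleton_eq_bot]
        have hUW : W ≤ (F ≫ b) ⁻¹ᵁ U := by rw [hF]; exact hWU
        refine (PBlow.comp_appLE_apply F b U Dl W (ExcCharts.D_le hb hU a hJU l.succ) hWl hF (by exact hWU) _).trans ?_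
        exact ha0
      have e2 : ((J.comap b).comap F).ideal ⟨W, hW⟩ = Ideal.span {j.appLE U W hWU t} := by
        rw [← Scheme.IdealSheafData.comap_comp, hF, ModPairLib.ideal_comap J j ⟨U, hU⟩ ⟨W, hW⟩ hWU, hJU,
          Ideal.map_span, ← Set.range_comp]
        refine le_antisymm (Ideal.span_le.2 ?_) ((Ideal.span_singleton_le_iff_mem _).2 (Ideal.subset_span ⟨0, rfl⟩))
        rintro _ ⟨k, rfl⟩
        induction k using Fin.cases with
        | zero => exact Ideal.subset_span rfl
        | succ l' =>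
          have hmem : a' l' ∈ RingHom.ker (j.app U).hom := hker ▸ Ideal.subset_span ⟨l', rfl⟩
          show j.appLE U W hWU (a' l') ∈ _
          rw [show j.appLE U W hWU (a' l') = P.presheaf.map (homOfLE hWU).op (j.app U (a' l')) from rfl,
            show j.app U (a' l') = 0 from hmem, map_zero]
          exact zero_mem _
      have hnz : j.appLE U W hWU t ∈ nonZeroDivisors Γ(P, W) := by
        refine ModPairLib.generator_mem_nonZeroDivisors hTj (W := ⟨W, hW⟩) ?_
        rw [ModPairLib.ideal_comap T j ⟨U, hU⟩ ⟨W, hW⟩ hWU, hTU, Ideal.map_span, Set.image_singleton]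
      rw [e1] at e2
      have ht0 : j.appLE U W hWU t = 0 := Ideal.span_singleton_eq_bot.1 e2.symm
      haveI : Nonempty W := ⟨⟨w, hwW⟩⟩
      rw [ht0] at hnz
      exact zero_notMem_nonZeroDivisors hnz
  have hFD : F ⁻¹ᵁ D = j ⁻¹ᵁ U := le_antisymm (fun w hw => by
    show j w ∈ U
    rw [← hF, Scheme.Hom.comp_apply]
    exact hDb hw) hsub
  let φ : RegBlow6.chartAlg a 0 →+* Γ(P, j ⁻¹ᵁ U) :=
    (F.appLE D (j ⁻¹ᵁ U) hsub).hom.comp (ExcCharts.eqv hb hU a hJU 0).toRingHom
  have hφ : ∀ x, φ (algebraMap Γ(B, U) _ x) = (j.app U).hom x := fun x => by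
    show F.appLE D (j ⁻¹ᵁ U) hsub (ExcCharts.eqv hb hU a hJU 0 (algebraMap _ _ x)) = _
    rw [ExcCharts.eqv_algebraMap]
    refine (PBlow.comp_appLE_apply F b U D (j ⁻¹ᵁ U) hDb hsub hF le_rfl x).trans ?_
    rw [Scheme.Hom.app_eq_appLE]
  have hX : ∀ l, φ (PBlow.pres a 0 (X l)) = 0 := fun l => by
    have h0 : φ (PBlow.pres a 0 (X l)) * (j.app U).hom t = 0 := by
      rw [← hφ, ← map_mul, show PBlow.pres a 0 (X l) * algebraMap Γ(B, U) (RegBlow6.chartAlg a 0) t =
          algebraMap Γ(B, U) (RegBlow6.chartAlg a 0) (a' l) by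
        rw [PBlow.pres, aeval_X]
        exact RegBlow6.coord_mul a 0 _, hφ]
      exact (hker ▸ Ideal.subset_span ⟨l, rfl⟩ : a' l ∈ RingHom.ker (j.app U).hom)
    exact mem_nonZeroDivisors_iff_right.1 hnzd _ h0
  let e := ExcCharts.eqv hb hU a hJU 0
  refine ⟨D, hD, hsub (show j z ∈ U from hzU), fun l => e (PBlow.pres a 0 (X l)),
    PBlow.isExact_ringEquiv (coords_exact t a' hex' hex) e, ?_⟩
  have hk := coords_ker t a' hex (j.app U).hom hker φ hφ hX
  have hinj : RingHom.ker (F.appLE D (j ⁻¹ᵁ U) hsub).hom = RingHom.ker (F.app D).hom := by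
    show RingHom.ker ((P.presheaf.map (homOfLE hsub).op).hom.comp (F.app D).hom) = _
    refine RingHom.ker_comp_of_injective _ ?_
    haveI : IsIso (P.presheaf.map (homOfLE hsub).op) := by
      rw [Subsingleton.elim (homOfLE hsub) (eqToHom hFD.symm)]
      infer_instance
    exact (ConcreteCategory.bijective_of_isIso _).1
  rw [Scheme.Hom.ker_apply, ← hinj]
  refine Ideal.ext fun y => ?_
  obtain ⟨x, rfl⟩ := e.surjective y
  have hmap : Ideal.span (Set.range fun l => e (PBlow.pres a 0 (X l))) =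
      (Ideal.span (Set.range fun l => PBlow.pres a 0 (X l))).map e := by
    rw [Ideal.map_span, ← Set.range_comp]
    rfl
  rw [hmap]
  constructor
  · intro hy
    exact Ideal.mem_map_of_mem _ (hk ▸ (RingHom.mem_ker.2 hy : x ∈ RingHom.ker φ))
  · intro hy
    obtain ⟨x', hx', hxx⟩ := (Ideal.mem_map_iff_of_surjective _ e.surjective).1 hy
    rw [← e.injective hxx]
    rw [← hk] at hx'
    exact hx'

end Groth.Agent.H28.LiftReg
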