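import Groth.Agent.H28.PBCohPush
import Groth.Agent.H28.PBBasis
import Groth.Agent.H28.KRRBC

/-!
# Enough bundles on a projective bundle, and the direct image of a class killed by twisting
-/

set_option autoImplicit false
set_option linter.style.haveILetI false
set_option linter.unusedSectionVars false
set_option backward.isDefEq.respectTransparency false
set_option backward.isDefEq.respectTransparency.types false
set_option maxHeartbeats 1000000

universe u

open CategoryTheory CategoryTheory.Limits AlgebraicGeometry TopologicalSpace Opposite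

noncomputable section

namespace Groth.Agent.H28.PBEnough

open Groth.Agent Groth.Agent.H28.KRRTw Groth.Agent.H28.KRRReg Groth.Agent.H28.PBAtlas Groth.Agent.H28.PBPush Groth.Agent.H23.PicMul

variable {X P : Scheme.{u}} {π : P ⟶ X} {n : ℕ} [AlgebraicGeometry.IsNoetherian X] [AlgebraicGeometry.IsNoetherian P]
  (D : Data π n)

theorem reg_twist {j : ℕ} {F : P.Modules} (h : PBCohPush.Reg D (j + 1) F) :
    PBCohPush.Reg D j (CohB1.tensorMod D.O1 F) :=
  ⟨CurveTensor.isCoh_tensor D.lf1 h.1, fun y hy i hi => by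
    obtain ⟨e⟩ := nonempty_twist (D.a y) F
    exact RKoszul.rz_of_iso _ (((Tw n (D.a y).B ((j : ℤ) - i)).mapIso e) ≪≫
      (twF_twF ((j : ℤ) - i) 1 (((j + 1 : ℕ) : ℤ) - i) (by push_cast; ring) _).some).symm i (h.2 y hy i hi)⟩

theorem def_twist {j : ℕ} {F : P.Modules} (h : PBCohPush.Def D (j + 1) F) :
    PBCohPush.Def D j (CohB1.tensorMod D.O1 F) :=
  ⟨CurveTensor.isCoh_tensor D.lf1 h.1, fun y hy b i hi hb => by
    obtain ⟨e⟩ := nonempty_twist (D.a y) F
    exact RKoszul.rz_of_iso _ (((Tw n (D.a y).B (b : ℤ)).mapIso e) ≪≫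
      (twF_twF (b : ℤ) 1 (((b + 1 : ℕ) : ℤ)) (by push_cast; ring) _).some).symm i (h.2 y hy (b + 1) i hi (by omega))⟩

theorem reg_iterate : ∀ (m : ℕ) {F : P.Modules}, PBCohPush.Reg D m F →
    PBCohPush.Reg D 0 ((DCoh.tensorBi.obj D.O1).obj^[m] F)
  | 0, _, h => h
  | m + 1, F, h => by
    rw [Function.iterate_succ_apply]
    exact reg_iterate m (reg_twist D h)

theorem def_iterate : ∀ (m : ℕ) {F : P.Modules}, PBCohPush.Def D m F →
    PBCohPush.Def D 0 ((DCoh.tensorBi.obj D.O1).obj^[m] F)
  | 0, _, h => h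
  | m + 1, F, h => by
    rw [Function.iterate_succ_apply]
    exact def_iterate m (def_twist D h)

theorem cl_iterate (L : P.Modules) : ∀ (m : ℕ) (F : P.Modules),
    PicF.cl ((DCoh.tensorBi.obj L).obj^[m] F) = PicF.cl L ^ m * PicF.cl F
  | 0, F => by rw [pow_zero, one_mul]; rfl
  | m + 1, F => by
    rw [Function.iterate_succ_apply', show PicF.cl ((DCoh.tensorBi.obj L).obj ((DCoh.tensorBi.obj L).obj^[m] F)) =
      PicF.cl L * PicF.cl ((DCoh.tensorBi.obj L).obj^[m] F) from rfl, cl_iterate L m F, ← mul_assoc, ← pow_succ']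

/-- The evaluation of a regular coherent module is onto. -/
theorem epi_counit {W : P.Modules} (hW : PBCohPush.Reg D 0 W) :
    Epi ((Scheme.Modules.pullbackPushforwardAdjunction π).counit.app W) := by
  refine PBAtlas.epi_of_restrict _ fun p => ?_
  obtain ⟨y, hy, hx⟩ := D.cover (π p)
  let c := D.a y
  refine ⟨π ⁻¹ᵁ c.U.1, hx, ?_⟩
  haveI : Epi ((Scheme.Modules.pullback c.j).map ((Scheme.Modules.pullbackPushforwardAdjunction π).counit.app W)) := by
    obtain ⟨hq', hreg⟩ := PBCohPush.rp_of_reg D hW hy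
    let J := Scheme.Modules.pullback c.j
    let I := Scheme.Modules.pullback c.U.1.ι
    let pp := KRR.pr n c.B
    let ε := (Scheme.Modules.pullbackPushforwardAdjunction π).counit.app W
    haveI : CompactSpace c.B := isCompact_iff_compactSpace.1 c.U.2.isCompact
    let e := (PBBasis.pullNat c).app ((Scheme.Modules.pushforward π).obj W)
    let φ : (Scheme.Modules.pullback pp).obj (I.obj ((Scheme.Modules.pushforward π).obj W)) ⟶ J.obj W := e.inv ≫ J.map ε
    haveI : Epi ((Scheme.Modules.pushforward pp).map φ) := by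
      haveI : IsSplitEpi ((Scheme.Modules.pushforward π).map ε) :=
        ⟨⟨⟨(Scheme.Modules.pullbackPushforwardAdjunction π).unit.app _,
          (Scheme.Modules.pullbackPushforwardAdjunction π).right_triangle_components W⟩⟩⟩
      haveI : IsSplitEpi ((Scheme.Modules.pushforward π ⋙ I).map ε) :=
        inferInstanceAs (IsSplitEpi (I.map ((Scheme.Modules.pushforward π).map ε)))
      have h : (J ⋙ Scheme.Modules.pushforward pp).map ε = c.push.inv.app _ ≫
          (Scheme.Modules.pushforward π ⋙ I).map ε ≫ c.push.hom.app _ := by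
        rw [c.push.hom.naturality ε, Iso.inv_hom_id_app_assoc]
      haveI : Epi ((Scheme.Modules.pushforward pp).map (J.map ε)) := by
        rw [← Functor.comp_map, h]; infer_instance
      rw [Functor.map_comp]
      infer_instance
    have hA : Coh.IsCoh (I.obj ((Scheme.Modules.pushforward π).obj W)) :=
      ZClosLib.isCoh_pullback _ (PBCohPush.lf_push_def D (PBCohPush.def_of_reg D hW))
    haveI := PnH0.isIso_unit (n := n) (I.obj ((Scheme.Modules.pushforward π).obj W)) hA.1
    let a := (Scheme.Modules.pullbackPushforwardAdjunction pp).unit.app _ ≫ (Scheme.Modules.pushforward pp).map φ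
    haveI : Epi a := inferInstance
    haveI : (Scheme.Modules.pullback pp).IsLeftAdjoint :=
      (Scheme.Modules.pullbackPushforwardAdjunction pp).isLeftAdjoint
    haveI := KRREpi.epi_counit (J.obj W) hq'.1 hreg
    have hJ : J.map ε = (e.hom ≫ (Scheme.Modules.pullback pp).map a) ≫ RegRes.eps (J.obj W) := by
      rw [Category.assoc, PBBasis.factor_counit φ]
      exact (e.hom_inv_id_assoc _).symm
    show Epi (J.map ε)
    rw [hJ]
    infer_instance
  let ε := (Scheme.Modules.pullbackPushforwardAdjunction π).counit.app W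
  have h : Epi ((Scheme.Modules.pullback (inv c.θ)).map ((Scheme.Modules.pullback c.θ).map
      ((Scheme.Modules.pullback (π ⁻¹ᵁ c.U.1).ι).map ε))) := by
    haveI := isLeftAdjoint_pullback (inv c.θ)
    haveI : Epi ((Scheme.Modules.pullback c.θ).map ((Scheme.Modules.pullback (π ⁻¹ᵁ c.U.1).ι).map ε)) :=
      ((MorphismProperty.epimorphisms _).arrow_mk_iso_iff
        (((Functor.mapArrowFunctor _ _).mapIso (Scheme.Modules.pullbackComp c.θ (π ⁻¹ᵁ c.U.1).ι)).app (Arrow.mk ε))).2
        (inferInstanceAs (Epi ((Scheme.Modules.pullback c.j).map ε)))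
    infer_instance
  exact ((MorphismProperty.epimorphisms _).arrow_mk_iso_iff
    (((Functor.mapArrowFunctor _ _).mapIso (PBBasis.backIso c.θ)).app
      (Arrow.mk ((Scheme.Modules.pullback (π ⁻¹ᵁ c.U.1).ι).map ε)))).1 h

include D in
/-- Enough bundles on the bundle. -/
theorem enough (hX : KRR.HasEnoughLocFree X) : KRR.HasEnoughLocFree P := fun G hG => by
  obtain ⟨m, hm⟩ := PBCohPush.exists_reg D hG
  let W := (DCoh.tensorBi.obj D.O1).obj^[m] G
  have hW := reg_iterate D m hm
  haveI := epi_counit D hW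
  obtain ⟨N, p, hN, hp⟩ := hX _ (PBCohPush.lf_push_def D (PBCohPush.def_of_reg D hW))
  haveI := hp
  haveI : (Scheme.Modules.pullback π).IsLeftAdjoint :=
    (Scheme.Modules.pullbackPushforwardAdjunction π).isLeftAdjoint
  let T := CohB1.tensorPow D.Oinv m
  let f := (Scheme.Modules.pullback π).map p ≫ (Scheme.Modules.pullbackPushforwardAdjunction π).counit.app W
  haveI : Epi ((DCoh.tensorBi.obj T).map f) :=
    (PBCores.shortExact_tens (PBBasis.lf_pow D m) (KZ.kerSeq_shortExact f)).epi_g
  let q := (DCoh.tensorBi.obj T).map f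
  obtain ⟨e⟩ : Nonempty ((DCoh.tensorBi.obj T).obj W ≅ G) := cl_eq_iff.1 (by
    show PicF.cl T * PicF.cl W = _
    rw [show PicF.cl T = _ from cl_tensorPow D.Oinv m, cl_iterate, ← mul_assoc, ← mul_pow,
      mul_comm (PicF.cl D.Oinv), PBBasis.cl_inv, one_pow, one_mul])
  exact ⟨(DCoh.tensorBi.obj T).obj ((Scheme.Modules.pullback π).obj N), q ≫ e.hom,
    KFlatLib.isFinLocFree_tensor (PBBasis.lf_pow D m) (KvbPull.lf_pull π hN), inferInstance⟩

theorem def_tensorPow (m : ℕ) {F : P.Modules} (h : PBCohPush.Def D m F) :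
    PBCohPush.Def D 0 (CohB1.tensorMod (CohB1.tensorPow D.O1 m) F) := by
  obtain ⟨e⟩ : Nonempty ((DCoh.tensorBi.obj D.O1).obj^[m] F ≅ CohB1.tensorMod (CohB1.tensorPow D.O1 m) F) :=
    cl_eq_iff.1 (by rw [cl_iterate, cl_tensor, cl_tensorPow])
  exact PBCohPush.def_iso D e (def_iterate D m h)

/-- A resolution, twisted high, computes the direct image. -/
theorem exists_push_res {p : SGA6.Kvb P →+ SGA6.Kvb X}
    (hp : ∀ F : P.Modules, D.Def 0 F → p (KRR.cl P F) = KRR.cl X ((Scheme.Modules.pushforward π).obj F))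
    {A : P.Modules} (htw : Nonempty (CohB1.tensorMod D.O1 A ≅ A))
    (hlf : FlatMod.IsFinLocFree ((Scheme.Modules.pushforward π).obj A))
    {nn : ℕ} {L : ChainComplex P.Modules ℕ} {η : L ⟶ (ChainComplex.single₀ P.Modules).obj A}
    (h : KRR.IsLFRes A nn L η) :
    ∃ m : ℕ, p (∑ k ∈ Finset.range (nn + 1), (-1 : ℤ) ^ k • KRR.cl P (CohB1.tensorMod (CohB1.tensorPow D.O1 m) (L.X k))) =
      KRR.cl X ((Scheme.Modules.pushforward π).obj A) := by
  classical
  haveI := h.quasiIso
  have hex : ∀ i, L.ExactAt (i + 1) := fun i => by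
    rw [← quasiIsoAt_iff_exactAt' η (i + 1) (HomologicalComplex.exactAt_single_obj _ _ _ _ (by simp))]
    infer_instance
  let e : L.opcycles 0 ≅ A := (L.isoHomologyι₀).symm ≪≫ asIso (HomologicalComplex.homologyMap η 0) ≪≫
    HomologicalComplex.singleObjHomologySelfIso (ComplexShape.down ℕ) 0 A
  have hses : ∀ i, ∃ (f : L.opcycles (i + 1) ⟶ L.X i) (g : L.X i ⟶ L.opcycles i) (w : f ≫ g = 0),
      (ShortComplex.mk f g w).ShortExact := by
    intro i
    haveI : Mono (L.fromOpcycles (i + 1) i) := by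
      have h' := (L.exactAt_iff' (i + 2) (i + 1) i (by simp) (by simp)).1 (hex i)
      have := h'.mono_fromOpcycles
      have e : L.fromOpcycles (i + 1) i = (L.opcyclesIsoSc' (i + 2) (i + 1) i (by simp) (by simp)).hom ≫
          (L.sc' (i + 2) (i + 1) i).fromOpcycles := by
        rw [← cancel_epi (L.pOpcycles (i + 1))]
        rw [L.p_fromOpcycles, HomologicalComplex.pOpcycles_opcyclesIsoSc'_hom_assoc, ShortComplex.p_fromOpcycles]
        rfl
      rw [e]
      infer_instance
    refine ⟨L.fromOpcycles (i + 1) i, L.pOpcycles i, by rw [← cancel_epi (L.pOpcycles (i + 1))]; simp,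
      .mk' ?_ inferInstance inferInstance⟩
    refine ShortComplex.exact_of_g_is_cokernel _ (CokernelCofork.IsColimit.ofπ _ _
      (fun g hg => L.descOpcycles g (i + 1) (by simp) (by
        rw [← L.p_fromOpcycles, Category.assoc]
        exact (congrArg _ hg).trans comp_zero))
      (fun g hg => L.p_descOpcycles _ _ _ _) (fun g hg b hb => ?_))
    rw [← cancel_epi (L.pOpcycles i), L.p_descOpcycles]
    exact hb
  choose f g w hS using hses
  have hLc : ∀ i, Coh.IsCoh (L.X i) := fun i => PushLocFree.isCoh_of_isFinLocFree (h.finLocFree i)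
  have hcoh : ∀ j i, nn + 1 ≤ i + j → Coh.IsCoh (L.opcycles i) := by
    intro j
    induction j with
    | zero => exact fun i hi => PBCohPush.isCoh_zero (IsZero.of_epi (L.pOpcycles i) (h.isZero i (by omega)))
    | succ j ih =>
      exact fun i hi => PushEngine.isCoh_X₃ (hS i) (ih (i + 1) (by omega)) (hLc i)
  have hcoh' : ∀ i, Coh.IsCoh (L.opcycles i) := fun i => hcoh (nn + 1) i (by omega)
  choose jz hjz using fun i => PBCohPush.exists_def D (hcoh' i)
  choose jl hjl using fun i => PBCohPush.exists_def D (hLc i)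
  let m := (Finset.range (nn + 2)).sup fun i => max (jz i) (jl i)
  let G := DCoh.tensorBi.obj (CohB1.tensorPow D.O1 m)
  have hV : FlatMod.IsFinLocFree (CohB1.tensorPow D.O1 m) := by
    clear_value m
    induction m with
    | zero => exact KvbLam.lf_O
    | succ m ih => exact KFlatLib.isFinLocFree_tensor ih D.lf1
  have hle : ∀ i, i ≤ nn + 1 → jz i ≤ m ∧ jl i ≤ m := fun i hi =>
    max_le_iff.1 (Finset.le_sup (f := fun i => max (jz i) (jl i)) (Finset.mem_range.2 (by omega)))
  have hDz : ∀ i, PBCohPush.Def D 0 (G.obj (L.opcycles i)) := fun i => by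
    by_cases hi : i ≤ nn + 1
    · exact def_tensorPow D m (PBCohPush.def_of_le D (hle i hi).1 (hjz i))
    · obtain ⟨j, hj⟩ := PBCohPush.exists_def D (hcoh' i)
      exact def_tensorPow D m ⟨hcoh' i, fun y hy b q hq _ =>
        RKoszul.rz_of_isZero _ ((Tw n (D.a y).B (b : ℤ)).map_isZero ((Scheme.Modules.pullback (D.a y).j).map_isZero
          (IsZero.of_epi (L.pOpcycles i) (h.isZero i (by omega))))) q⟩
  have hDl : ∀ i, i ≤ nn → D.Def 0 (G.obj (L.X i)) := fun i hi =>
    ⟨KFlatLib.isFinLocFree_tensor hV (h.finLocFree i),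
      (def_tensorPow D m (PBCohPush.def_of_le D (hle i (by omega)).2 (hjl i))).2⟩
  let F := Scheme.Modules.pushforward π
  have hSp : ∀ i, (((ShortComplex.mk (f i) (g i) (w i)).map G).map F).ShortExact := fun i =>
    PBCohPush.shortExact_push D (PBCores.shortExact_tens hV (hS i)) (hDz (i + 1))
  obtain ⟨eA⟩ : Nonempty (G.obj (L.opcycles 0) ≅ A) := by
    obtain ⟨e1⟩ : Nonempty (G.obj A ≅ A) := cl_eq_iff.1 (by
      show PicF.cl (CohB1.tensorPow D.O1 m) * PicF.cl A = _
      have hpow : ∀ k : ℕ, PicF.cl D.O1 ^ k * PicF.cl A = PicF.cl A := fun k => by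
        induction k with
        | zero => rw [pow_zero, one_mul]
        | succ k ih => rw [pow_succ, mul_assoc, show PicF.cl D.O1 * PicF.cl A = PicF.cl A from cl_eq_iff.2 htw, ih]
      rw [cl_tensorPow]
      exact hpow m)
    exact ⟨G.mapIso e ≪≫ e1⟩
  have h0 : FlatMod.IsFinLocFree (F.obj (G.obj (L.opcycles 0))) :=
    H23.PullPush.isFinLocFree_of_iso (F.mapIso eA.symm) hlf
  have hlfz : ∀ i, i ≤ nn + 1 → FlatMod.IsFinLocFree (F.obj (G.obj (L.opcycles i))) := by
    intro i
    induction i with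
    | zero => exact fun _ => h0
    | succ i ih =>
      exact fun hi => GenPush.lf_X₁ (hSp i) (D.lf_push_def (hDl i (by omega))) (ih (by omega))
  let ρ : ℕ → SGA6.Kvb X := fun i => KRR.cl X (F.obj (G.obj (L.opcycles i)))
  have hstep : ∀ i, i ≤ nn → p (KRR.cl P (G.obj (L.X i))) = ρ (i + 1) + ρ i := fun i hi => by
    rw [hp _ (hDl i hi)]
    exact KZ.clSub_ses (KRR.vbP X) (hSp i) (hlfz (i + 1) (by omega)) (D.lf_push_def (hDl i hi)) (hlfz i (by omega))
  have hsum : ∀ i, i ≤ nn + 1 → (∑ k ∈ Finset.range i, (-1 : ℤ) ^ k • p (KRR.cl P (G.obj (L.X k)))) =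
      ρ 0 - (-1 : ℤ) ^ i • ρ i := by
    intro i
    induction i with
    | zero => simp
    | succ i ih =>
      intro hi
      rw [Finset.sum_range_succ, ih (by omega), hstep i (by omega), pow_succ, mul_neg_one, neg_smul, smul_add]
      abel
  refine ⟨m, ?_⟩
  rw [map_sum]
  simp only [map_zsmul]
  refine (hsum (nn + 1) le_rfl).trans ?_
  rw [show ρ (nn + 1) = 0 from KZ.clSub_isZero _ (F.map_isZero (G.map_isZero
    (IsZero.of_epi (L.pOpcycles (nn + 1)) (h.isZero (nn + 1) (by omega))))), smul_zero, sub_zero]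
  exact GenPush.cl_iso (F.mapIso eA) h0 hlf

end Groth.Agent.H28.PBEnough
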