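import Groth.Agent.H28.DefGeom
import Groth.Agent.H28.BlowEmb
import Groth.Agent.H28.CartierPush
import Groth.Agent.H28.KRRPushProp
import Groth.Agent.H28.PBEnough
import Groth.Agent.QCoh.Support

/-!
# Lemmas on the space of the deformation to the normal cone
-/

set_option autoImplicit false
set_option linter.style.haveILetI false
set_option linter.unusedSectionVars false
set_option backward.isDefEq.respectTransparency false
set_option backward.isDefEq.respectTransparency.types false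
set_option maxHeartbeats 1000000

universe v u

open CategoryTheory CategoryTheory.Limits AlgebraicGeometry TopologicalSpace Opposite

noncomputable section

namespace Groth.Agent.H28.DefSpace

open Groth.Agent Groth.Agent.AModX Groth.Agent.WiebeLib

/-- Exact sequences are reindexed. -/
theorem isExact_cast {A : Type u} [CommRing A] {n n' : ℕ} (h : n' = n) {f : Fin n → A} (hf : IsExact f) :
    IsExact fun i : Fin n' => f (i.cast h) := by
  subst h
  exact hf

/-- The two orders of two sequences. -/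
theorem isExact_swap {A : Type u} [CommRing A] {r m : ℕ} (f : Fin r → A) (g : Fin m → A)
    (h : IsExact (KRegLib.appendSeq f m g)) : IsExact (KRegLib.appendSeq g r f) := by
  let e : Fin (r + m) ≃ Fin (r + m) := (finAddFlip : Fin (r + m) ≃ Fin (m + r)).trans (finCongr (Nat.add_comm m r))
  have h' := isExact_cast (Nat.add_comm m r) (KRegLib.isExact_comp_equiv h e)
  refine (congrArg IsExact (funext fun i => ?_)).mp h'
  rw [LiftReg.appendSeq_eq, LiftReg.appendSeq_eq]
  obtain ⟨k, hk⟩ : ∃ k : Fin (r + m), i.cast (Nat.add_comm m r) = k := ⟨_, rfl⟩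
  rw [hk, show (e k).cast (Nat.add_comm r m) = finAddFlip k from Fin.ext rfl]
  induction k using Fin.addCases with
  | left l => rw [finAddFlip_apply_castAdd, Fin.append_right, Fin.append_left]
  | right l => rw [finAddFlip_apply_natAdd, Fin.append_left, Fin.append_right]

/-- A regular immersion meeting a divisor properly stays regular on the divisor. -/
theorem regular_meet {P W E Z : Scheme.{u}} [IsLocallyNoetherian W] [IsLocallyNoetherian E] (j : P ⟶ W)
    (hj : Mor2.IsRegularClosedImmersion j) {d : ℕ} (hC : FlatMod.IsFinLocFreeOfRank d (Omega.conormal j))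
    (ι : E ⟶ W) [IsClosedImmersion ι] (hT : BlowUp.IsEffCartierIdeal ι.ker)
    (hTj : BlowUp.IsEffCartierIdeal (ι.ker.comap j)) (z : Z ⟶ E) (t : Z ⟶ P) (hsq : IsPullback z t ι j) :
    Mor2.IsRegularClosedImmersion z ∧ FlatMod.IsFinLocFreeOfRank d (Omega.conormal z) := by
  haveI := hj.1
  haveI : IsClosedImmersion z := MorphismProperty.of_isPullback (P := @IsClosedImmersion) hsq.flip hj.1
  refine LiftReg.regular_of_exact z fun x => ?_
  obtain ⟨U₀, hU₀, hzU₀, n, a₀, k₀, rfl, -, hI₀, hex₀, -⟩ := ExcCharts.exists_local j hj hC (t x)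
  obtain ⟨⟨U₁, hU₁⟩, hzU₁, t₁, ht₁, hT₁⟩ := hT (j (t x))
  obtain ⟨U, hU, hzU, hle⟩ := exists_isAffineOpen_mem_and_subset (show j (t x) ∈ U₀ ⊓ U₁ from ⟨hzU₀, hzU₁⟩)
  have h₀ : U ≤ U₀ := (show U ≤ U₀ ⊓ U₁ from hle).trans inf_le_left
  have h₁ : U ≤ U₁ := (show U ≤ U₀ ⊓ U₁ from hle).trans inf_le_right
  let a' : Fin n → Γ(W, U) := fun l => resR h₀ (a₀ l)
  let τ : Γ(W, U) := resR h₁ t₁
  have hI : j.ker.ideal ⟨U, hU⟩ = Ideal.span (Set.range a') := by
    rw [← j.ker.map_ideal (U := ⟨U, hU⟩) (V := ⟨U₀, hU₀⟩) h₀, hI₀, Ideal.map_span, ← Set.range_comp]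
    rfl
  have hTU : ι.ker.ideal ⟨U, hU⟩ = Ideal.span {τ} := by
    rw [← ι.ker.map_ideal (U := ⟨U, hU⟩) (V := ⟨U₁, hU₁⟩) h₁, hT₁, Ideal.map_span, Set.image_singleton]
    rfl
  have hnzd : j.app U τ ∈ nonZeroDivisors Γ(P, j ⁻¹ᵁ U) := by
    refine ModPairLib.generator_mem_nonZeroDivisors hTj (W := ⟨_, hU.preimage j⟩) ?_
    rw [ModPairLib.ideal_comap ι.ker j ⟨U, hU⟩ ⟨_, hU.preimage j⟩ le_rfl, hTU, Ideal.map_span, Set.image_singleton,
      Scheme.Hom.app_eq_appLE]
  have hτ : τ ∈ nonZeroDivisors Γ(W, U) := ModPairLib.generator_mem_nonZeroDivisors hT (W := ⟨U, hU⟩) hTU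
  have hall : IsExact (KRegLib.appendSeq a' 1 fun _ : Fin 1 => τ) :=
    KRegLib.isExact_appendSeq (f := a') (q := (j.app U).hom) (LiftReg.exact_res hU₀ hU h₀ hex₀)
      (j.app_surjective U hU) ((Scheme.Hom.ker_apply j ⟨U, hU⟩).symm.trans hI) (fun _ : Fin 1 => τ)
      (KRegLib.isExact_single fun y y' hy => by
        refine (mul_cancel_right_mem_nonZeroDivisors hnzd).1 ?_
        simpa [mul_comm] using hy)
  have hex : IsExact fun l => (ι.app U).hom (a' l) :=
    KRegLib.isExact_of_appendSeq (f := fun _ : Fin 1 => τ) (q := (ι.app U).hom)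
      (KRegLib.isExact_single fun y y' hy => by
        refine (mul_cancel_right_mem_nonZeroDivisors hτ).1 ?_
        simpa [mul_comm] using hy)
      (ι.app_surjective U hU) (by rw [Set.range_const, ← hTU, Scheme.Hom.ker_apply]) a' (isExact_swap a' _ hall)
  refine ⟨ι ⁻¹ᵁ U, hU.preimage ι, ?_, _, hex, ?_⟩
  · show ι (z x) ∈ U
    rwa [← Scheme.Hom.comp_apply, hsq.w, Scheme.Hom.comp_apply]
  · rw [TorPull.ker_eq hsq, ModPairLib.ideal_comap _ ι ⟨U, hU⟩ ⟨_, hU.preimage ι⟩ le_rfl, hI, Ideal.map_span,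
      ← Set.range_comp, ← Scheme.Hom.app_eq_appLE]
    rfl

/-- Generators of an ideal sheaf. -/
theorem exists_gens {B : Scheme.{u}} [AlgebraicGeometry.IsNoetherian B] [ConnectedSpace ↥B]
    (hB : KRR.HasEnoughLocFree B) (J : B.IdealSheafData) :
    ∃ (r : ℕ) (G : B.Modules) (u : G ⟶ Coh.structureModule B), FlatMod.IsFinLocFreeOfRank (r + 1) G ∧
      ∀ U : B.affineOpens, J.ideal U = Ideal.span (Set.range fun x : Γ(G, U.1) => OmegaSh.fnSect B U.1 (u.app U.1 x)) := by
  have hO : FlatMod.IsFinLocFreeOfRank 1 (Coh.structureModule B) := KvbModel.rank_of_frameAt KvbModel.frameAt_O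
  have hcoh : Coh.IsCoh (ClSub.idealMod J) :=
    QCoh.isCoh_kernel (PushLocFree.isCoh_of_isFinLocFree KvbLam.lf_O)
      (QCoh.isCoh_pushforward_finite J.subschemeι (PushLocFree.isCoh_of_isFinLocFree KvbLam.lf_O)) _
  obtain ⟨E, p, hE, hp⟩ := hB _ hcoh
  obtain ⟨r, hr⟩ := KvbModel.exists_rank hE
  let v : E ⊞ Coh.structureModule B ⟶ ClSub.idealMod J := biprod.desc p 0
  haveI : Epi v := epi_of_epi_fac (biprod.inl_desc p (0 : Coh.structureModule B ⟶ ClSub.idealMod J))
  refine ⟨r, E ⊞ Coh.structureModule B, v ≫ ClSub.idealModι J, (KRRZero.rank_biprod hr hO).1, fun U => ?_⟩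
  have hval : ∀ x, OmegaSh.fnSect B U.1 ((v ≫ ClSub.idealModι J).app U.1 x) = OmegaSh.idealSect J U.1 (v.app U.1 x) :=
    fun x => (OmegaSh.idealSect_apply J U.1 _).symm
  refine le_antisymm (fun g hg => ?_) (Ideal.span_le.2 ?_)
  · obtain ⟨k, rfl⟩ := OmegaLib.exists_of_mem J U g hg
    obtain ⟨x, rfl⟩ := QCoh.app_surjective_of_epi
      (QCoh.isQCoh_of_isFinLocFree (KvbModel.lf_of_rank (KRRZero.rank_biprod hr hO).1))
      hcoh.1 v U.2 k
    exact Ideal.subset_span ⟨x, hval x⟩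
  · rintro _ ⟨x, rfl⟩
    rw [SetLike.mem_coe]
    show OmegaSh.fnSect B U.1 ((v ≫ ClSub.idealModι J).app U.1 x) ∈ _
    rw [hval]
    exact OmegaLib.idealSect_mem J U _

/-- A blowing up with connected centre and exceptional divisor is connected. -/
theorem connectedSpace_blowUp {B M E Z : Scheme.{u}} [ConnectedSpace ↥B] {b : M ⟶ B} [IsProper b] {c : Z ⟶ B}
    [IsClosedImmersion c] [Nonempty Z] (hb : BlowUp.IsBlowUp b c.ker) {ι : E ⟶ M} {ψ : E ⟶ Z}
    (hsq : IsPullback ι ψ b c) [ConnectedSpace ↥E] : ConnectedSpace ↥M := by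
  classical
  let U : B.Opens := ModPair.interior c.ker
  have hsupp : ∀ p : B, p ∈ U ↔ p ∉ Set.range c := fun p => by
    show p ∈ ((c.ker.support : Set B))ᶜ ↔ _
    rw [Scheme.Hom.support_ker, c.isClosedEmbedding.isClosed_range.closure_eq]
    rfl
  haveI := BlowUpLib.isIso_restrict hb U le_rfl
  have hE : ∀ m : M, b m ∈ Set.range c → m ∈ Set.range ι := fun m ⟨x, hx⟩ => by
    obtain ⟨e, he, -⟩ := Scheme.exists_preimage_of_isPullback hsq m x hx.symm
    exact ⟨e, he⟩
  have key : ∀ A : Set M, IsClopen A → Disjoint A (Set.range ι) → A = ∅ := by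
    intro A hA hAE
    have hAU : A ⊆ b ⁻¹ᵁ U := fun m hm => (hsupp _).2 fun h => Set.disjoint_left.1 hAE hm (hE m h)
    have hop : IsOpen (b.base '' A) := by
      have h1 : Topology.IsOpenEmbedding ((b ⁻¹ᵁ U).ι ≫ b).base := by
        rw [← morphismRestrict_ι]
        exact (show IsOpenImmersion ((b ∣_ U) ≫ U.ι) from inferInstance).base_open
      have h2 : b.base '' A = ((b ⁻¹ᵁ U).ι ≫ b).base '' ((b ⁻¹ᵁ U).ι.base ⁻¹' A) := by
        ext p
        constructor
        · rintro ⟨m, hm, rfl⟩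
          exact ⟨⟨m, hAU hm⟩, hm, rfl⟩
        · rintro ⟨m, hm, rfl⟩
          exact ⟨_, hm, rfl⟩
      rw [h2]
      exact h1.isOpenMap _ (hA.2.preimage (b ⁻¹ᵁ U).ι.continuous)
    rcases isClopen_iff.1 (⟨b.isClosedMap _ hA.1, hop⟩ : IsClopen (b.base '' A)) with h | h
    · exact Set.image_eq_empty.1 h
    · exfalso
      obtain ⟨m, hm, hmc⟩ := (h ▸ Set.mem_univ (c (Classical.arbitrary Z)) : c (Classical.arbitrary Z) ∈ b.base '' A)
      exact (hsupp _).1 (hAU hm) ⟨_, hmc.symm⟩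
  refine connectedSpace_iff_clopen.2 ⟨⟨ι (Classical.arbitrary E)⟩, fun A hA => ?_⟩
  rcases isClopen_iff.1 (hA.preimage ι.continuous) with h | h
  · exact Or.inl (key A hA (Set.disjoint_left.2 fun m hm ⟨e, he⟩ =>
      (Set.eq_empty_iff_forall_notMem.1 h e) (show ι e ∈ A from he.symm ▸ hm)))
  · refine Or.inr (Set.compl_empty_iff.1 (key Aᶜ hA.compl (Set.disjoint_left.2 fun m hm ⟨e, he⟩ => ?_)))
    exact hm (he ▸ (Set.eq_univ_iff_forall.1 h e))

end Groth.Agent.H28.DefSpace
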