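import Groth.Agent.H28.MagnetTheta
import Groth.Agent.RingPO.Affine

/-! Averaging morphisms over a diagonalizable group along a square-zero extension. -/

universe u

open CategoryTheory CategoryTheory.Limits MonoidalCategory CartesianMonoidalCategory MonObj AlgebraicGeometry
open Opposite Magnet

namespace Groth.Agent.H28.EqvAvg

open H23.CharPts MagnetAff

/-! ### Morphisms into spectra -/

/-- The morphism to a spectrum attached to a ring map into the global functions. -/
noncomputable abbrev hspec {Z : Scheme.{u}} {R : CommRingCat.{u}} (φ : R ⟶ Γ(Z, ⊤)) : Z ⟶ Spec R :=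
  Z.toSpecΓ ≫ Spec.map φ

theorem comp_hspec {Z Z' : Scheme.{u}} {R : CommRingCat.{u}} (f : Z' ⟶ Z) (φ : R ⟶ Γ(Z, ⊤)) :
    f ≫ hspec φ = hspec (φ ≫ f.appTop) := by
  rw [hspec, hspec, Scheme.toSpecΓ_naturality_assoc, Spec.map_comp]

theorem hspec_comp {Z : Scheme.{u}} {R R' : CommRingCat.{u}} (φ : R ⟶ Γ(Z, ⊤)) (ψ : R' ⟶ R) :
    hspec φ ≫ Spec.map ψ = hspec (ψ ≫ φ) := by
  rw [hspec, hspec, Category.assoc, Spec.map_comp]

theorem hspec_injective {Z : Scheme.{u}} [IsAffine Z] {R : CommRingCat.{u}} {φ φ' : R ⟶ Γ(Z, ⊤)}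
    (h : hspec φ = hspec φ') : φ = φ' :=
  Spec.map_injective ((cancel_epi Z.toSpecΓ).mp h)

theorem hspec_appTop {Z Z' : Scheme.{u}} [IsAffine Z'] (g : Z ⟶ Z') : hspec g.appTop ≫ Z'.isoSpec.inv = g := by
  rw [hspec, ← Scheme.toSpecΓ_naturality]
  show (g ≫ Z'.isoSpec.hom) ≫ Z'.isoSpec.inv = g
  rw [Category.assoc, Iso.hom_inv_id, Category.comp_id]

/-! ### Monoid algebras over a square-zero extension -/

section Algebra

variable {G : Type} [CommMonoid G] {R R' : Type u} [CommRing R] [CommRing R'] {f : R →+* R'}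

theorem mapRingHom_surjective (hf : Function.Surjective f) :
    Function.Surjective (MonoidAlgebra.mapRingHom G f) := fun x => by
  induction x using MonoidAlgebra.induction_linear with
  | zero => exact ⟨0, map_zero _⟩
  | add a b ha hb =>
    obtain ⟨a, rfl⟩ := ha
    obtain ⟨b, rfl⟩ := hb
    exact ⟨a + b, map_add _ _ _⟩
  | single m r =>
    obtain ⟨r, rfl⟩ := hf r
    exact ⟨MonoidAlgebra.single m r, MonoidAlgebra.mapRingHom_single _ _ _⟩

theorem mul_eq_zero_of_map (hsq : ∀ x y, f x = 0 → f y = 0 → x * y = 0) (a b : MonoidAlgebra R G)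
    (ha : MonoidAlgebra.mapRingHom G f a = 0) (hb : MonoidAlgebra.mapRingHom G f b = 0) : a * b = 0 := by
  classical
  have hc : ∀ c : MonoidAlgebra R G, MonoidAlgebra.mapRingHom G f c = 0 → ∀ m, f (c.coeff m) = 0 := fun c hc m => by
    have := congrArg (fun q => q.coeff m) hc
    rwa [MonoidAlgebra.coeff_mapRingHom, MonoidAlgebra.coeff_zero, Finsupp.zero_apply] at this
  rw [← MonoidAlgebra.sum_coeff_single a, ← MonoidAlgebra.sum_coeff_single b, Finsupp.sum, Finsupp.sum,
    Finset.sum_mul_sum]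
  refine Finset.sum_eq_zero fun i _ => Finset.sum_eq_zero fun j _ => ?_
  rw [MonoidAlgebra.single_mul_single, hsq _ _ (hc a ha i) (hc b hb j), MonoidAlgebra.single_zero]

theorem coeff_one_mul (hsq : ∀ x y, f x = 0 → f y = 0 → x * y = 0) (a b : MonoidAlgebra R G)
    (ha : ∃ c, MonoidAlgebra.mapRingHom G f a = MonoidAlgebra.single 1 c)
    (hb : ∃ c, MonoidAlgebra.mapRingHom G f b = MonoidAlgebra.single 1 c) :
    (a * b).coeff 1 = a.coeff 1 * b.coeff 1 := by
  classical
  have key : ∀ a : MonoidAlgebra R G, (∃ c, MonoidAlgebra.mapRingHom G f a = MonoidAlgebra.single 1 c) →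
      MonoidAlgebra.mapRingHom G f (a - MonoidAlgebra.single 1 (a.coeff 1)) = 0 := by
    rintro a ⟨c, hc⟩
    have h1 : f (a.coeff 1) = c := by
      rw [← MonoidAlgebra.coeff_mapRingHom, hc, MonoidAlgebra.coeff_single, Finsupp.single_eq_same]
    rw [map_sub, hc, MonoidAlgebra.mapRingHom_single, h1, sub_self]
  have h0 := mul_eq_zero_of_map hsq _ _ (key a ha) (key b hb)
  rw [sub_mul, mul_sub, mul_sub] at h0
  have h2 : a * b = a * MonoidAlgebra.single 1 (b.coeff 1) +
      (MonoidAlgebra.single 1 (a.coeff 1) * b -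
        MonoidAlgebra.single 1 (a.coeff 1) * MonoidAlgebra.single 1 (b.coeff 1)) := by
    rw [sub_eq_zero] at h0
    rw [← h0]
    abel
  rw [h2, MonoidAlgebra.coeff_add, Finsupp.add_apply, MonoidAlgebra.coeff_mul_single_one, MonoidAlgebra.coeff_sub,
    Finsupp.sub_apply, MonoidAlgebra.coeff_single_one_mul, MonoidAlgebra.coeff_single_one_mul,
    MonoidAlgebra.coeff_single, Finsupp.single_eq_same]
  ring

end Algebra

/-! ### The pushout -/

variable {S : Scheme.{u}} {M : Type} [AddCommGroup M] {Y Y' : Over S} (i : Y ⟶ Y')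

/-- A square-zero closed immersion of affine schemes. -/
structure IsSqZero : Prop where
  surj : Function.Surjective i.left.appTop.hom
  sq : ∀ x y, i.left.appTop.hom x = 0 → i.left.appTop.hom y = 0 → x * y = 0

variable (M) in
/-- The reduction map on monoid algebras. -/
noncomputable abbrev pMap : MonoidAlgebra (RR Y') (Multiplicative M) →+* MonoidAlgebra (RR Y) (Multiplicative M) :=
  MonoidAlgebra.mapRingHom (Multiplicative M) i.left.appTop.hom

variable (M) in
/-- The fibre product ring. -/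
noncomputable def Dd : Subring (MonoidAlgebra (RR Y') (Multiplicative M) × RR Y) :=
  RingHom.eqLocus ((pMap M i).comp (RingHom.fst _ _)) (MonoidAlgebra.singleOneRingHom.comp (RingHom.snd _ _))

theorem mem_Dd {x : MonoidAlgebra (RR Y') (Multiplicative M) × RR Y} :
    x ∈ Dd M i ↔ pMap M i x.1 = MonoidAlgebra.single 1 x.2 := Iff.rfl

variable (M) in
/-- Its spectrum's ring. -/
noncomputable abbrev DR : CommRingCat.{u} := CommRingCat.of (Dd M i)

variable (M) in
/-- First projection. -/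
noncomputable def alpha : Dd M i →+* MonoidAlgebra (RR Y') (Multiplicative M) := (RingHom.fst _ _).comp (Dd M i).subtype

variable (M) in
/-- Second projection. -/
noncomputable def beta : Dd M i →+* RR Y := (RingHom.snd _ _).comp (Dd M i).subtype

variable (M) in
/-- Constants. -/
noncomputable def cst : RR Y' →+* Dd M i :=
  ((MonoidAlgebra.singleOneRingHom.prod i.left.appTop.hom).codRestrict _ fun r => by
    rw [mem_Dd]
    exact MonoidAlgebra.mapRingHom_single _ _ _)

variable {i} (hi : IsSqZero i)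

variable (M) in
/-- The coefficient of degree zero. -/
noncomputable def proj0 : Dd M i →+* RR Y' where
  toFun d := (alpha M i d).coeff 1
  map_one' := by rw [map_one (alpha M i), MonoidAlgebra.one_def, MonoidAlgebra.coeff_single, Finsupp.single_eq_same]
  map_mul' d d' := by
    rw [map_mul]
    exact coeff_one_mul hi.sq _ _ ⟨_, (mem_Dd i).mp d.2⟩ ⟨_, (mem_Dd i).mp d'.2⟩
  map_zero' := by rw [map_zero, MonoidAlgebra.coeff_zero, Finsupp.zero_apply]
  map_add' d d' := by rw [map_add, MonoidAlgebra.coeff_add, Finsupp.add_apply]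

include hi in
theorem isFibreProd : RingPO.IsFibreProd (pMap M i) MonoidAlgebra.singleOneRingHom (alpha M i) (beta M i) where
  surj := mapRingHom_surjective hi.surj
  comm z := (mem_Dd i).mp z.2
  ext z z' h1 h2 := Subtype.ext (Prod.ext h1 h2)
  exists_of_eq b a h := ⟨⟨(a, b), (mem_Dd i).mpr h⟩, rfl, rfl⟩

variable [IsAffine Y'.left] (i)

variable (M) in
/-- The pushout of `A(M) × Y ⟶ A(M) × Y'` and the projection. -/
noncomputable def PP : Over S :=
  Over.mk ((Spec.map (CommRingCat.ofHom (cst M i)) ≫ Y'.left.isoSpec.inv) ≫ Y'.hom)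

instance : IsAffine (PP M i).left := inferInstanceAs (IsAffine (Spec _))

theorem hspec_hom {Z : Over S} (φ : DR M i ⟶ Γ(Z.left, ⊤)) (g : Z ⟶ Y')
    (h : CommRingCat.ofHom (cst M i) ≫ φ = g.left.appTop) : hspec φ ≫ (PP M i).hom = Z.hom := by
  show hspec φ ≫ (Spec.map (CommRingCat.ofHom (cst M i)) ≫ Y'.left.isoSpec.inv) ≫ Y'.hom = _
  simp only [← Category.assoc]
  rw [hspec_comp, h, hspec_appTop, Over.w g]

theorem theta_cst (r : RR Y') : theta M Y' (alpha M i (cst M i r)) = (snd (AMonS S M) Y').left.appTop r := by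
  show theta M Y' (MonoidAlgebra.single 1 r) = _
  rw [theta_single, map_one, _root_.mul_one]

variable (M) in
/-- The map from `A(M) × Y'`. -/
noncomputable def rho : AMonS S M ⊗ Y' ⟶ PP M i :=
  Over.homMk (hspec (CommRingCat.ofHom ((theta M Y').comp (alpha M i))))
    (hspec_hom i _ (snd (AMonS S M) Y') (CommRingCat.hom_ext (RingHom.ext fun r => theta_cst i r)))

variable (M) in
/-- The map from `Y`. -/
noncomputable def sigmaP : Y ⟶ PP M i :=
  Over.homMk (hspec (CommRingCat.ofHom (beta M i))) (hspec_hom i _ i rfl)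

variable {i}

variable (M) in
/-- The averaging map. -/
noncomputable def piP : Y' ⟶ PP M i :=
  Over.homMk (hspec (CommRingCat.ofHom (proj0 M hi)))
    (hspec_hom i _ (𝟙 Y') (CommRingCat.hom_ext (RingHom.ext fun r => by
      show (MonoidAlgebra.single (1 : Multiplicative M) r).coeff 1 = _
      rw [MonoidAlgebra.coeff_single, Finsupp.single_eq_same]
      rfl)))

variable (M i) in
/-- The retraction. -/
noncomputable def cP : PP M i ⟶ Y' :=
  Over.homMk (Spec.map (CommRingCat.ofHom (cst M i)) ≫ Y'.left.isoSpec.inv) rfl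

theorem piP_cP : piP M hi ≫ cP M i = 𝟙 _ := by
  apply Over.OverMorphism.ext
  show hspec _ ≫ Spec.map _ ≫ _ = 𝟙 _
  rw [← Category.assoc, hspec_comp,
    show CommRingCat.ofHom (cst M i) ≫ CommRingCat.ofHom (proj0 M hi) = (𝟙 Y' : Y' ⟶ Y').left.appTop from
      CommRingCat.hom_ext (RingHom.ext fun r => by
        show (MonoidAlgebra.single (1 : Multiplicative M) r).coeff 1 = _
        rw [MonoidAlgebra.coeff_single, Finsupp.single_eq_same]
        rfl), hspec_appTop]
  rfl

theorem rho_cP : rho M i ≫ cP M i = snd _ _ := by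
  apply Over.OverMorphism.ext
  show hspec _ ≫ Spec.map _ ≫ _ = _
  rw [← Category.assoc, hspec_comp,
    show CommRingCat.ofHom (cst M i) ≫ CommRingCat.ofHom ((theta M Y').comp (alpha M i)) =
        (snd (AMonS S M) Y').left.appTop from CommRingCat.hom_ext (RingHom.ext fun r => theta_cst i r), hspec_appTop]

theorem sigmaP_cP : sigmaP M i ≫ cP M i = i := by
  apply Over.OverMorphism.ext
  show hspec _ ≫ Spec.map _ ≫ _ = _
  rw [← Category.assoc, hspec_comp, show CommRingCat.ofHom (cst M i) ≫ CommRingCat.ofHom (beta M i) = i.left.appTop from rfl,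
    hspec_appTop]

variable [IsAffine Y.left]

theorem comp_piP : i ≫ piP M hi = sigmaP M i := by
  apply Over.OverMorphism.ext
  show i.left ≫ hspec _ = hspec _
  rw [comp_hspec]
  congr 1
  refine CommRingCat.hom_ext (RingHom.ext fun d => ?_)
  show i.left.appTop.hom ((alpha M i d).coeff 1) = (Subtype.val (p := fun x => x ∈ Dd M i) d).2
  rw [← MonoidAlgebra.coeff_mapRingHom]
  show (pMap M i (Subtype.val (p := fun x => x ∈ Dd M i) d).1).coeff 1 = _
  rw [(mem_Dd i).mp d.2, MonoidAlgebra.coeff_single, Finsupp.single_eq_same]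

instance isIso_hspec_theta (W : Over S) [IsAffine W.left] : IsIso (hspec (CommRingCat.ofHom (theta M W))) := by
  haveI : IsIso (CommRingCat.ofHom (theta M W)) := (ConcreteCategory.isIso_iff_bijective _).mpr (theta_iso M W).2
  infer_instance

theorem whisker_hspec : (AMonS S M ◁ i).left ≫ hspec (CommRingCat.ofHom (theta M Y')) =
    hspec (CommRingCat.ofHom (theta M Y)) ≫ Spec.map (CommRingCat.ofHom (pMap M i)) := by
  rw [comp_hspec, hspec_comp]
  congr 1
  exact CommRingCat.hom_ext (theta_whisker Y' i)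

include hi in
theorem hom_ext {X : Over S} {a b : PP M i ⟶ X} (h1 : rho M i ≫ a = rho M i ≫ b)
    (h2 : sigmaP M i ≫ a = sigmaP M i ≫ b) : a = b := by
  apply Over.OverMorphism.ext
  refine (isFibreProd (M := M) hi).hom_ext ?_ ?_
  · rw [← cancel_epi (hspec (CommRingCat.ofHom (theta M Y'))), ← Category.assoc, ← Category.assoc, hspec_comp]
    exact congrArg Over.Hom.left h1
  · rw [← cancel_epi Y.left.toSpecΓ, ← Category.assoc, ← Category.assoc]
    exact congrArg Over.Hom.left h2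

include hi in
theorem exists_desc {X : Over S} (Λ : AMonS S M ⊗ Y' ⟶ X) (s : Y ⟶ X)
    (h : (AMonS S M ◁ i) ≫ Λ = snd _ _ ≫ s) : ∃ Δ : PP M i ⟶ X, rho M i ≫ Δ = Λ ∧ sigmaP M i ≫ Δ = s := by
  let g₁ := inv (hspec (CommRingCat.ofHom (theta M Y'))) ≫ Λ.left
  let g₂ := Y.left.isoSpec.inv ≫ s.left
  obtain ⟨d, hd1, hd2⟩ := (isFibreProd (M := M) hi).exists_desc g₁ g₂ (by
    rw [← cancel_epi (hspec (CommRingCat.ofHom (theta M Y)))]
    have e1 : hspec (CommRingCat.ofHom (theta M Y)) ≫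
        Spec.map (CommRingCat.ofHom (MonoidAlgebra.singleOneRingHom : RR Y →+* MonoidAlgebra (RR Y) (Multiplicative M))) =
        (snd (AMonS S M) Y).left ≫ Y.left.toSpecΓ := by
      rw [hspec_comp, Scheme.toSpecΓ_naturality]
      congr 1
      congr 1
      refine CommRingCat.hom_ext (RingHom.ext fun r => ?_)
      show theta M Y (MonoidAlgebra.single 1 r) = _
      rw [theta_single, map_one, _root_.mul_one]
    have e0 := whisker_hspec (M := M) (i := i)
    refine ((Category.assoc _ _ _).symm.trans ((congrArg (· ≫ g₁) e0.symm).trans ?_)).trans ((congrArg (· ≫ g₂) e1.symm).trans (Category.assoc _ _ _))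
    simp only [g₁, g₂, Category.assoc, IsIso.hom_inv_id_assoc]
    show _ = _ ≫ Y.left.isoSpec.hom ≫ _
    rw [Iso.hom_inv_id_assoc]
    exact congrArg Over.Hom.left h)
  have hρ : (rho M i).left ≫ d = Λ.left := by
    show hspec _ ≫ d = _
    rw [show CommRingCat.ofHom ((theta M Y').comp (alpha M i)) = CommRingCat.ofHom (alpha M i) ≫ CommRingCat.ofHom (theta M Y') from rfl,
      ← hspec_comp, Category.assoc, hd1]
    simp [g₁]
  have hσ : (sigmaP M i).left ≫ d = s.left := by
    show hspec _ ≫ d = _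
    rw [hspec, Category.assoc, hd2]
    show Y.left.isoSpec.hom ≫ Y.left.isoSpec.inv ≫ _ = _
    rw [Iso.hom_inv_id_assoc]
  refine ⟨Over.homMk d ?_, Over.OverMorphism.ext hρ, Over.OverMorphism.ext hσ⟩
  refine (isFibreProd (M := M) hi).hom_ext ?_ ?_
  · rw [← cancel_epi (hspec (CommRingCat.ofHom (theta M Y'))), ← Category.assoc, ← Category.assoc, hspec_comp]
    refine ((Category.assoc _ _ _).symm.trans ((congrArg (· ≫ X.hom) hρ).trans (Over.w Λ))).trans ?_
    exact (Over.w (rho M i)).symm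
  · rw [← cancel_epi Y.left.toSpecΓ, ← Category.assoc, ← Category.assoc]
    refine ((Category.assoc _ _ _).symm.trans ((congrArg (· ≫ X.hom) hσ).trans (Over.w s))).trans ?_
    exact (Over.w (sigmaP M i)).symm

/-! ### Averages -/

variable (M) in
/-- `l` is the average of `Λ`. -/
def IsAvg {X : Over S} (Λ : AMonS S M ⊗ Y' ⟶ X) (s : Y ⟶ X) (l : Y' ⟶ X) : Prop :=
  ∃ Δ : PP M i ⟶ X, rho M i ≫ Δ = Λ ∧ sigmaP M i ≫ Δ = s ∧ piP M hi ≫ Δ = l

theorem exists_avg {X : Over S} (Λ : AMonS S M ⊗ Y' ⟶ X) (s : Y ⟶ X)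
    (h : (AMonS S M ◁ i) ≫ Λ = snd _ _ ≫ s) : ∃ l, IsAvg M hi Λ s l := by
  obtain ⟨Δ, h1, h2⟩ := exists_desc hi Λ s h
  exact ⟨_, Δ, h1, h2, rfl⟩

variable {hi}

theorem IsAvg.eq {X : Over S} {Λ : AMonS S M ⊗ Y' ⟶ X} {s : Y ⟶ X} {l l' : Y' ⟶ X} (h : IsAvg M hi Λ s l)
    (h' : IsAvg M hi Λ s l') : l = l' := by
  obtain ⟨Δ, h1, h2, rfl⟩ := h
  obtain ⟨Δ', h1', h2', rfl⟩ := h'
  rw [hom_ext hi (h1.trans h1'.symm) (h2.trans h2'.symm)]

theorem IsAvg.restrict {X : Over S} {Λ : AMonS S M ⊗ Y' ⟶ X} {s : Y ⟶ X} {l : Y' ⟶ X} (h : IsAvg M hi Λ s l) :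
    i ≫ l = s := by
  obtain ⟨Δ, -, h2, rfl⟩ := h
  rw [← Category.assoc, comp_piP, h2]

theorem IsAvg.comp {X X' : Over S} {Λ : AMonS S M ⊗ Y' ⟶ X} {s : Y ⟶ X} {l : Y' ⟶ X} (h : IsAvg M hi Λ s l)
    (g : X ⟶ X') : IsAvg M hi (Λ ≫ g) (s ≫ g) (l ≫ g) := by
  obtain ⟨Δ, h1, h2, rfl⟩ := h
  exact ⟨Δ ≫ g, by rw [← h1, Category.assoc], by rw [← h2, Category.assoc], (Category.assoc _ _ _).symm⟩

theorem IsAvg.pair {X X' : Over S} {Λ : AMonS S M ⊗ Y' ⟶ X} {s : Y ⟶ X} {l : Y' ⟶ X} (h : IsAvg M hi Λ s l)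
    {Λ' : AMonS S M ⊗ Y' ⟶ X'} {s' : Y ⟶ X'} {l' : Y' ⟶ X'} (h' : IsAvg M hi Λ' s' l') :
    IsAvg M hi (lift Λ Λ') (lift s s') (lift l l') := by
  obtain ⟨Δ, h1, h2, rfl⟩ := h
  obtain ⟨Δ', h1', h2', rfl⟩ := h'
  exact ⟨lift Δ Δ', by rw [comp_lift, h1, h1'], by rw [comp_lift, h2, h2'], comp_lift _ _ _⟩

theorem isAvg_snd {X : Over S} (x : Y' ⟶ X) : IsAvg M hi (snd _ _ ≫ x) (i ≫ x) x :=
  ⟨cP M i ≫ x, by rw [← Category.assoc, rho_cP], by rw [← Category.assoc, sigmaP_cP],
    by rw [← Category.assoc, piP_cP, Category.id_comp]⟩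

variable {V V' : Over S} [IsAffine V.left] [IsAffine V'.left] {j : V ⟶ V'} {hj : IsSqZero j}

theorem IsAvg.natural {X : Over S} {Λ : AMonS S M ⊗ Y' ⟶ X} {s : Y ⟶ X} {l : Y' ⟶ X} (h : IsAvg M hi Λ s l)
    (u : V' ⟶ Y') (u₀ : V ⟶ Y) (hu : j ≫ u = u₀ ≫ i) (g₀ : V' ⟶ AMonS S M) :
    IsAvg M hj (lift (fst (AMonS S M) V' * (snd _ V' ≫ g₀)) (snd _ V' ≫ u) ≫ Λ) (u₀ ≫ s) (u ≫ l) := by
  obtain ⟨Δ, h1, h2, rfl⟩ := h
  let Φ : AMonS S M ⊗ V' ⟶ AMonS S M ⊗ Y' := lift (fst (AMonS S M) V' * (snd _ V' ≫ g₀)) (snd _ V' ≫ u)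
  let Φ₀ : AMonS S M ⊗ V ⟶ AMonS S M ⊗ Y := lift (fst (AMonS S M) V * (snd _ V ≫ j ≫ g₀)) (snd _ V ≫ u₀)
  have hsq : (AMonS S M ◁ i) ≫ rho M i = snd _ _ ≫ sigmaP M i := by
    apply Over.OverMorphism.ext
    show (AMonS S M ◁ i).left ≫ hspec _ = (snd (AMonS S M) Y).left ≫ hspec _
    rw [comp_hspec, comp_hspec]
    congr 1
    refine CommRingCat.hom_ext (RingHom.ext fun d => ?_)
    show (AMonS S M ◁ i).left.appTop (theta M Y' (Subtype.val (p := fun x => x ∈ Dd M i) d).1) = (snd (AMonS S M) Y).left.appTop (Subtype.val (p := fun x => x ∈ Dd M i) d).2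
    refine (RingHom.congr_fun (theta_whisker Y' i) _).trans ?_
    show theta M Y (pMap M i (Subtype.val (p := fun x => x ∈ Dd M i) d).1) = _
    rw [(mem_Dd i).mp d.2, theta_single, map_one, _root_.mul_one]
  obtain ⟨Ψ, hΨ1, hΨ2⟩ := exists_desc hj (Φ ≫ rho M i) (u₀ ≫ sigmaP M i) (by
    have e : (AMonS S M ◁ j) ≫ Φ = Φ₀ ≫ (AMonS S M ◁ i) := by
      apply CartesianMonoidalCategory.hom_ext <;> simp [Φ, Φ₀, MonObj.comp_mul, hu]
    rw [← Category.assoc, e, Category.assoc, hsq, ← Category.assoc, show Φ₀ ≫ snd _ _ = snd _ V ≫ u₀ from lift_snd _ _,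
      Category.assoc])
  obtain ⟨ψ, hψ⟩ := Spec.map_surjective (R := DR M i) (S := DR M j) (Ψ.left : Spec (DR M j) ⟶ Spec (DR M i))
  have key : piP M hj ≫ Ψ = u ≫ piP M hi := by
    apply Over.OverMorphism.ext
    show hspec _ ≫ Ψ.left = u.left ≫ hspec _
    rw [← hψ]
    refine (hspec_comp _ ψ).trans (Eq.trans ?_ (comp_hspec _ _).symm)
    congr 1
    refine CommRingCat.hom_ext (RingHom.ext fun d => ?_)
    have e1 : ψ ≫ CommRingCat.ofHom ((theta M V').comp (alpha M j)) =
        CommRingCat.ofHom ((theta M Y').comp (alpha M i)) ≫ Φ.left.appTop := by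
      refine hspec_injective ?_
      refine (hspec_comp _ ψ).symm.trans (Eq.trans ?_ (comp_hspec _ _))
      rw [hψ]
      exact congrArg Over.Hom.left hΨ1
    let T := (co V' Φ).comp (theta M Y')
    have hT : ∀ e, (T e).coeff 1 = u.left.appTop (e.coeff 1) := by
      intro e
      induction e using MonoidAlgebra.induction_linear with
      | zero => simp
      | add a b ha hb => rw [map_add, MonoidAlgebra.coeff_add, Finsupp.add_apply, ha, hb, MonoidAlgebra.coeff_add,
          Finsupp.add_apply, map_add]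
      | single m r =>
        have hs : T (MonoidAlgebra.single m r) = MonoidAlgebra.single m (u.left.appTop r * chi g₀ m) := by
          refine (theta_iso M V').2.1 ?_
          rw [RingHom.comp_apply, theta_co, theta_single, theta_single, map_mul, map_mul]
          have e2 : Φ.left.appTop ((snd (AMonS S M) Y').left.appTop r) = (snd (AMonS S M) V').left.appTop (u.left.appTop r) :=
            congrArg (fun q : AMonS S M ⊗ V' ⟶ Y' => q.left.appTop r) (lift_snd _ _)
          erw [e2, ← chi_comp Φ (fst _ Y')]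
          rw [lift_fst, chi_mul, chi_comp]
          show _ * (_ * _) = _ * _ * _
          rw [mul_left_comm, ← _root_.mul_assoc, mul_comm (chi _ _)]
          ring
        rw [hs]
        classical
        rw [MonoidAlgebra.coeff_single, MonoidAlgebra.coeff_single, Finsupp.single_apply, Finsupp.single_apply]
        split
        · next hm => subst hm; rw [map_one, _root_.mul_one]
        · rw [map_zero]
    show (alpha M j (ψ d)).coeff 1 = u.left.appTop ((alpha M i d).coeff 1)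
    rw [← hT]
    congr 2
    refine (theta_iso M V').2.1 ?_
    rw [RingHom.comp_apply, theta_co]
    exact ConcreteCategory.congr_hom e1 d
  refine ⟨Ψ ≫ Δ, ?_, ?_, ?_⟩
  · rw [← Category.assoc, hΨ1, Category.assoc, h1]
  · rw [← Category.assoc, hΨ2, Category.assoc, h2]
  · rw [← Category.assoc, key, Category.assoc]

end Groth.Agent.H28.EqvAvg
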