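import Groth.Prelude.Def_Magnet2
import Mathlib.AlgebraicGeometry.Fiber
import Mathlib.CategoryTheory.Limits.Types.Pullbacks

/-! Equivariant maps into an open stable subscheme. -/

universe u

open CategoryTheory CategoryTheory.Limits MonoidalCategory CartesianMonoidalCategory MonObj AlgebraicGeometry
open Opposite Magnet

namespace Groth.Agent.H28.StableOpen

variable {S : Scheme.{u}} {A B X U : Over S} [MonObj A] {ρ : MonAct A B} {aX : MonAct A X} {aU : MonAct A U}
  (j : U ⟶ X)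

theorem exists_lift [IsOpenImmersion j.left] {T : Over S} (p : T ⟶ X) (h : Set.range p.left ⊆ Set.range j.left) :
    ∃ q : T ⟶ U, q ≫ j = p :=
  ⟨Over.homMk (IsOpenImmersion.lift j.left p.left h) (by
      rw [← Over.w j, ← Category.assoc, IsOpenImmersion.lift_fac, Over.w p]),
    Over.OverMorphism.ext (IsOpenImmersion.lift_fac _ _ _)⟩

theorem range_comp_subset {T : Over S} (q : T ⟶ U) : Set.range (q ≫ j).left ⊆ Set.range j.left := by
  rintro _ ⟨y, rfl⟩
  exact ⟨q.left y, rfl⟩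

theorem isStable [IsOpenImmersion j.left] (hj : MonAct.IsEquivariant aU aX j) {T : Over S} (φ : B ⊗ T ⟶ X)
    (hφ : MonAct.IsEquivariant (ρ.prod (MonAct.trivial A T)) aX φ) :
    (snd A (B ⊗ T)).left ⁻¹ᵁ (φ.left ⁻¹ᵁ j.left.opensRange) ≤
      (ρ.prod (MonAct.trivial A T)).act.left ⁻¹ᵁ (φ.left ⁻¹ᵁ j.left.opensRange) := by
  intro z hz
  let W := (snd A (B ⊗ T)).left ⁻¹ᵁ (φ.left ⁻¹ᵁ j.left.opensRange)
  let V : Over S := Over.mk (W.ι ≫ (A ⊗ (B ⊗ T)).hom)
  let v : V ⟶ A ⊗ (B ⊗ T) := Over.homMk W.ι rfl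
  obtain ⟨q, hq⟩ := exists_lift j (v ≫ snd A (B ⊗ T) ≫ φ) (by
    rintro _ ⟨y, rfl⟩
    exact y.2)
  have h1 : v ≫ (ρ.prod (MonAct.trivial A T)).act ≫ φ = (lift (v ≫ fst A (B ⊗ T)) q ≫ aU.act) ≫ j := by
    rw [hφ, Category.assoc, hj, lift_whiskerLeft_assoc, hq, ← Category.assoc]
    congr 1
    apply CartesianMonoidalCategory.hom_ext <;> simp
  have h2 : Set.range (v ≫ (ρ.prod (MonAct.trivial A T)).act ≫ φ).left ⊆ Set.range j.left := h1 ▸ range_comp_subset j _
  exact h2 ⟨⟨z, hz⟩, rfl⟩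

/-- A field-valued point over `T`. -/
noncomputable abbrev fieldPt (T : Over S) (t : T.left) : Over S := Over.mk (T.left.fromSpecResidueField t ≫ T.hom)

/-- A point of `B ×_S T` lies over a point with values in the residue field. -/
theorem exists_preimage {T : Over S} (z : (B ⊗ T).left) :
    ∃ y, (B ◁ (Over.homMk (T.left.fromSpecResidueField ((snd B T).left z)) rfl : fieldPt T _ ⟶ T)).left y = z := by
  let f := T.left.fromSpecResidueField ((snd B T).left z)
  obtain ⟨y, hy⟩ : z ∈ Set.range (Limits.pullback.fst (snd B T).left f) := by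
    rw [Scheme.Pullback.range_fst, Scheme.range_fromSpecResidueField]
    rfl
  let u : fieldPt T _ ⟶ T := Over.homMk f rfl
  let V : Over S := Over.mk (Limits.pullback.fst (snd B T).left f ≫ (B ⊗ T).hom)
  let p : V ⟶ B ⊗ T := Over.homMk (Limits.pullback.fst _ _) rfl
  let q : V ⟶ fieldPt T ((snd B T).left z) := Over.homMk (Limits.pullback.snd _ _) (by
    show _ ≫ f ≫ T.hom = Limits.pullback.fst _ _ ≫ _
    rw [← Category.assoc, ← pullback.condition, Category.assoc, Over.w (snd B T)])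
  have hpq : lift (p ≫ fst B T) q ≫ (B ◁ u) = p := by
    rw [lift_whiskerLeft, show q ≫ u = p ≫ snd B T from Over.OverMorphism.ext pullback.condition.symm, lift_comp_fst_snd]
  refine ⟨(lift (p ≫ fst B T) q).left y, ?_⟩
  rw [← Scheme.Hom.comp_apply, ← Over.comp_left, hpq]
  exact hy

variable (ρ) in
/-- The criterion: stable opens of `B ×_S (field)` containing a point `e` are everything. -/
def StablePt (e : 𝟙_ (Over S) ⟶ B) : Prop :=
  ∀ (T : Over S) (K : Type u) [Field K] (_ : T.left ≅ Spec (CommRingCat.of K)) (W : (B ⊗ T).left.Opens),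
    (snd A (B ⊗ T)).left ⁻¹ᵁ W ≤ (ρ.prod (MonAct.trivial A T)).act.left ⁻¹ᵁ W →
    (lift (toUnit T ≫ e) (𝟙 T)).left ⁻¹ᵁ W = ⊤ → W = ⊤

theorem exists_factor [IsOpenImmersion j.left] (hj : MonAct.IsEquivariant aU aX j) {e : 𝟙_ (Over S) ⟶ B}
    (he : StablePt ρ e) {T : Over S} (φ : B ⊗ T ⟶ X) (hφ : MonAct.IsEquivariant (ρ.prod (MonAct.trivial A T)) aX φ)
    (q : T ⟶ U) (hq : lift (toUnit T ≫ e) (𝟙 T) ≫ φ = q ≫ j) : ∃ φ' : B ⊗ T ⟶ U, φ' ≫ j = φ := by
  refine exists_lift j φ ?_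
  rintro _ ⟨z, rfl⟩
  let t := (snd B T).left z
  let u : fieldPt T t ⟶ T := Over.homMk (T.left.fromSpecResidueField t) rfl
  obtain ⟨y, hy⟩ := exists_preimage (B := B) z
  let φK := (B ◁ u) ≫ φ
  have hφK : MonAct.IsEquivariant (ρ.prod (MonAct.trivial A (fieldPt T t))) aX φK :=
    ((MonAct.eqvHom ρ aX).map u.op ⟨φ, hφ⟩).2
  have htop := he (fieldPt T t) (T.left.residueField t) (Iso.refl _) (φK.left ⁻¹ᵁ j.left.opensRange)
    (isStable j hj φK hφK) (top_le_iff.mp fun w _ => by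
      refine range_comp_subset j (u ≫ q) ⟨w, ?_⟩
      rw [← Scheme.Hom.comp_apply, ← Over.comp_left]
      congr 1
      rw [Category.assoc, ← hq, ← Category.assoc u, comp_lift, Category.comp_id, ← Category.assoc u, comp_toUnit,
        lift_whiskerLeft_assoc, Category.id_comp])
  have : y ∈ φK.left ⁻¹ᵁ j.left.opensRange := by rw [htop]; trivial
  rw [← hy]
  exact this

/-- The attractor of an open stable subscheme is cut out at the point `e`. -/
theorem isPullback [IsOpenImmersion j.left] (hj : MonAct.IsEquivariant aU aX j) {e : 𝟙_ (Over S) ⟶ B}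
    (he : StablePt ρ e) :
    IsPullback (MonAct.eqvHom.postcomp ρ j hj) (MonAct.eqvHom.evalAt ρ aU e) (MonAct.eqvHom.evalAt ρ aX e)
      (yoneda.map j) := by
  haveI : Mono j := (Over.forget S).mono_of_mono_map (inferInstanceAs (Mono j.left))
  refine IsPullback.of_forall_isPullback_app fun T => ?_
  rw [Types.isPullback_iff]
  refine ⟨?_, fun φ ψ h => Subtype.ext ((cancel_mono j).mp (congrArg Subtype.val h.1)), fun φ z hz => ?_⟩
  · ext φ
    exact (Category.assoc _ _ _).symm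
  · have hz' : lift (toUnit (unop T) ≫ e) (𝟙 (unop T)) ≫ φ.1 = z ≫ j := hz
    obtain ⟨φ', hφ'⟩ := exists_factor j hj he φ.1 φ.2 z hz'
    have heq : MonAct.IsEquivariant (ρ.prod (MonAct.trivial A (unop T))) aU φ' := by
      unfold MonAct.IsEquivariant
      rw [← cancel_mono j, Category.assoc, hφ', φ.2, Category.assoc, hj, ← MonoidalCategory.whiskerLeft_comp_assoc, hφ']
    refine ⟨⟨φ', heq⟩, Subtype.ext hφ', (cancel_mono j).mp ?_⟩
    show (lift (toUnit (unop T) ≫ e) (𝟙 (unop T)) ≫ φ') ≫ j = z ≫ j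
    rw [Category.assoc, hφ', hz']

end Groth.Agent.H28.StableOpen
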