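import Groth.Agent.H28.AttrDescent
import Groth.Agent.H28.StableOpen
import Groth.Agent.AlgSpDec.OpenGlue

/-! Gluing functors of equivariant maps from stable affine opens. -/

set_option backward.isDefEq.respectTransparency false
set_option backward.isDefEq.respectTransparency.types false

universe u

open CategoryTheory CategoryTheory.Limits MonoidalCategory CartesianMonoidalCategory MonObj AlgebraicGeometry
open Opposite Magnet AlgSp Groth.Agent.AlgSpLib Groth.Agent.AlgSpDec

namespace Groth.Agent.H28.EqvGlue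

variable {S : Scheme.{u}} {A B X : Over S} [MonObj A]

/-- The action on a stable open. -/
theorem exists_act (a : MonAct A X) {U : Over S} (j : U ⟶ X) [IsOpenImmersion j.left]
    (h : (snd A X).left ⁻¹ᵁ j.left.opensRange ≤ a.act.left ⁻¹ᵁ j.left.opensRange) :
    ∃ aU : MonAct A U, MonAct.IsEquivariant aU a j := by
  haveI : Mono j := (Over.forget S).mono_of_mono_map (inferInstanceAs (Mono j.left))
  obtain ⟨act, hact⟩ := StableOpen.exists_lift j ((A ◁ j) ≫ a.act) (by
    rintro _ ⟨w, rfl⟩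
    refine h (show (A ◁ j).left w ∈ (snd A X).left ⁻¹ᵁ j.left.opensRange from ?_)
    show (snd A X).left ((A ◁ j).left w) ∈ j.left.opensRange
    rw [← Scheme.Hom.comp_apply, ← Over.comp_left, whiskerLeft_snd]
    exact ⟨_, rfl⟩)
  refine ⟨MonAct.mk' act (fun T x => ?_) (fun T g g' x => ?_), hact⟩
  · rw [← cancel_mono j, Category.assoc, hact, lift_whiskerLeft_assoc, MonAct.lift_one_act]
  · simp only [← cancel_mono j, Category.assoc, hact, lift_whiskerLeft_assoc]
    rw [MonAct.lift_mul_act]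

theorem exists_representableBy {ρ : MonAct A B} (a : MonAct A X) (o : 𝟙_ (Over S) ⟶ B)
    (hstable : StableOpen.StablePt ρ o) {I : Type u} (U : I → Over S) (j : ∀ p, U p ⟶ X)
    [∀ p, IsOpenImmersion (j p).left] (aU : ∀ p, MonAct A (U p)) (hj : ∀ p, MonAct.IsEquivariant (aU p) a (j p))
    (hcov : ∀ (T : Over S) (φ : (MonAct.eqvHom ρ a).obj (op T)) (t : T.left),
      ∃ p, (lift (toUnit T ≫ o) (𝟙 T) ≫ φ.1).left t ∈ (j p).left.opensRange)
    (hrep : ∀ p, ∃ Z : Over S, Nonempty ((MonAct.eqvHom ρ (aU p)).RepresentableBy Z)) :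
    ∃ Z : Over S, Nonempty ((MonAct.eqvHom ρ a).RepresentableBy Z) := by
  choose Z hZ using hrep
  haveI : ∀ p, Mono (j p) := fun p => (Over.forget S).mono_of_mono_map (inferInstanceAs (Mono (j p).left))
  let e : ∀ p, (MonAct.eqvHom ρ (aU p)).RepresentableBy (Z p) := fun p => (hZ p).some
  let F := AttrDescent.shf ρ a
  let kP : ∀ p, yoneda.obj (Z p) ⟶ MonAct.eqvHom ρ a := fun p =>
    (e p).toIso.hom ≫ MonAct.eqvHom.postcomp ρ (j p) (hj p)
  let k : ∀ p, (yon S).obj (Z p) ⟶ F := fun p => ObjectProperty.homMk (Functor.whiskerRight (kP p) uliftFunctor.{u + 1})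
  have hsq : ∀ (p : I) {T : Over S} (g : (yon S).obj T ⟶ F), ∃ (V : Over S) (l : V ⟶ Z p) (inc : V ⟶ T),
      IsPullback ((yon S).map l) ((yon S).map inc) (k p) g ∧ IsOpenImmersion inc.left ∧
      ∀ t, (lift (toUnit T ≫ o) (𝟙 T) ≫ ((g.hom.app (op T) ⟨𝟙 T⟩).down).1).left t ∈ (j p).left.opensRange →
        t ∈ Set.range inc.left := by
    intro p T g
    let φ : (MonAct.eqvHom ρ a).obj (op T) := (g.hom.app (op T) ⟨𝟙 T⟩).down
    let x : T ⟶ X := lift (toUnit T ≫ o) (𝟙 T) ≫ φ.1
    let W : T.left.Opens := x.left ⁻¹ᵁ (j p).left.opensRange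
    let V : Over S := Over.mk (W.ι ≫ T.hom)
    let inc : V ⟶ T := Over.homMk W.ι rfl
    haveI : IsOpenImmersion inc.left := inferInstanceAs (IsOpenImmersion W.ι)
    haveI : Mono inc := (Over.forget S).mono_of_mono_map (inferInstanceAs (Mono inc.left))
    obtain ⟨q, hq⟩ := StableOpen.exists_lift (j p) (inc ≫ x) (by
      rintro _ ⟨w, rfl⟩
      exact w.2)
    have hev : lift (toUnit V ≫ o) (𝟙 V) ≫ (B ◁ inc) ≫ φ.1 = q ≫ j p := by
      rw [hq, lift_whiskerLeft_assoc, Category.id_comp, comp_lift_assoc, ← Category.assoc inc, comp_toUnit,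
        Category.comp_id]
    obtain ⟨φ', hφ'⟩ := StableOpen.exists_factor (j p) (hj p) hstable ((B ◁ inc) ≫ φ.1)
      ((MonAct.eqvHom ρ a).map inc.op φ).2 q hev
    have heq : MonAct.IsEquivariant (ρ.prod (MonAct.trivial A V)) (aU p) φ' := by
      unfold MonAct.IsEquivariant
      rw [← cancel_mono (j p), Category.assoc, hφ',
        show (ρ.prod (MonAct.trivial A V)).act ≫ (B ◁ inc) ≫ φ.1 = (A ◁ ((B ◁ inc) ≫ φ.1)) ≫ a.act from
          ((MonAct.eqvHom ρ a).map inc.op φ).2,
        Category.assoc, hj p, ← MonoidalCategory.whiskerLeft_comp_assoc, hφ']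
    let l : V ⟶ Z p := (e p).homEquiv.symm ⟨φ', heq⟩
    let gP : yoneda.obj T ⟶ MonAct.eqvHom ρ a := yonedaEquiv.symm φ
    have hgP : g = ObjectProperty.homMk (Functor.whiskerRight gP uliftFunctor.{u + 1}) := by
      apply ObjectProperty.hom_ext
      ext R r
      obtain ⟨r⟩ := r
      refine (congrArg (g.hom.app R) (ULift.ext (⟨r⟩ : ULift.{u + 1} (unop R ⟶ T)) ⟨r ≫ 𝟙 T⟩ (Category.comp_id r).symm)).trans ?_
      exact ConcreteCategory.congr_hom (g.hom.naturality r.op) ⟨𝟙 T⟩
    have happ : ∀ {R : Over S} (r : R ⟶ T), (gP.app (op R) r).1 = (B ◁ r) ≫ φ.1 := fun r => rfl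
    have hk : ∀ {R : Over S} (z : R ⟶ Z p), ((kP p).app (op R) z).1 = ((e p).homEquiv z).1 ≫ j p := fun z => rfl
    have sqP : IsPullback (yoneda.map l) (yoneda.map inc) (kP p) gP := by
      have hw : ∀ {R : Over S} (r : R ⟶ V), (kP p).app (op R) (r ≫ l) = gP.app (op R) (r ≫ inc) := fun {R} r => by
        refine Subtype.ext ?_
        rw [hk, happ, (e p).homEquiv_comp, Equiv.apply_symm_apply]
        show ((B ◁ r) ≫ φ') ≫ j p = _
        rw [Category.assoc, hφ', MonoidalCategory.whiskerLeft_comp_assoc]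
      refine IsPullback.of_forall_isPullback_app fun R => ?_
      rw [CategoryTheory.Limits.Types.isPullback_iff]
      refine ⟨?_, fun r r' h => (cancel_mono inc).mp h.2, fun z r h => ?_⟩
      · ext r
        exact hw r
      · have h1 : ((e p).homEquiv (X := unop R) z).1 ≫ j p = (B ◁ r) ≫ φ.1 := congrArg Subtype.val h
        obtain ⟨r', hr'⟩ := StableOpen.exists_lift inc r (by
          rintro _ ⟨w, rfl⟩
          refine (Scheme.Opens.range_ι W).ge ?_
          show x.left (r.left w) ∈ (j p).left.opensRange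
          rw [← Scheme.Hom.comp_apply, ← Over.comp_left,
            show r ≫ x = (lift (toUnit (unop R) ≫ o) (𝟙 (unop R)) ≫ ((e p).homEquiv (X := unop R) z).1) ≫ j p by
              rw [Category.assoc, h1, lift_whiskerLeft_assoc, Category.id_comp, comp_lift_assoc, ← Category.assoc r,
                comp_toUnit, Category.comp_id]]
          exact ⟨_, rfl⟩)
        refine ⟨r', (e p).homEquiv.injective (Subtype.ext ((cancel_mono (j p)).mp ?_)), hr'⟩
        refine (hk (r' ≫ l)).symm.trans (Eq.trans (congrArg Subtype.val (hw r')) ?_)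
        rw [hr', happ, h1]
    refine ⟨V, l, inc, ?_, inferInstance, fun t ht => ?_⟩
    · rw [hgP]
      refine IsPullback.of_map_of_faithful (sheafToPresheaf (AlgSp.J S) (Type (u + 1))) ?_
      exact sqP.map ((Functor.whiskeringRight _ _ _).obj uliftFunctor.{u + 1})
    · exact (Scheme.Opens.range_ι W).ge ht
  have hopen : ∀ p, RepWith @IsOpenImmersion (k p) := fun p => repWith_of_squares fun T g => by
    obtain ⟨V, l, inc, sq, hinc, -⟩ := hsq p g
    exact ⟨V, (yon S).map l, inc, sq, hinc⟩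
  obtain ⟨Q, ⟨eQ⟩, -⟩ := exists_iso_of_open_cover Z k hopen fun x => by
    obtain ⟨T, g, t, -, rfl⟩ := exists_ofPt_eq x
    obtain ⟨p, hp⟩ := hcov T (g.hom.app (op T) ⟨𝟙 T⟩).down t
    obtain ⟨V, l, inc, sq, -, hr⟩ := hsq p g
    obtain ⟨v, rfl⟩ := hr t hp
    exact ⟨p, l.left v, by rw [← ofPt_comp, sq.w, ofPt_comp]⟩
  let eP : yoneda.obj Q ≅ MonAct.eqvHom ρ a :=
    ((Functor.whiskeringRight _ _ _).obj uliftFunctor.{u + 1}).preimageIso
      ((sheafToPresheaf (AlgSp.J S) (Type (u + 1))).mapIso eQ)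
  exact ⟨Q, ⟨Functor.representableByEquiv.symm eP⟩⟩

end Groth.Agent.H28.EqvGlue
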