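import Groth.Agent.H28.EqvAvg
import Groth.Agent.H23.AttrComapGrp

/-! Equivariant lifts along smooth morphisms, by averaging over a diagonalizable group. -/

universe u

open CategoryTheory CategoryTheory.Limits MonoidalCategory CartesianMonoidalCategory MonObj AlgebraicGeometry
open Opposite Magnet

namespace Groth.Agent.H28.EqvLift

open H23.CharPts H23.AttrComapGrp MagnetAff EqvAvg

variable {S : Scheme.{u}} {M : Type} [AddCommGroup M] {Y Y' X Z : Over S} [IsAffine Y.left] [IsAffine Y'.left]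
  {i : Y ⟶ Y'}

theorem isSqZero_whisker (hi : IsSqZero i) : IsSqZero (AMonS S M ◁ i) := by
  have h := theta_whisker (K := M) Y' i
  refine ⟨fun y => ?_, fun x y hx hy => ?_⟩
  · obtain ⟨a, rfl⟩ := (theta_iso M Y).2.2 y
    obtain ⟨b, rfl⟩ := mapRingHom_surjective (G := Multiplicative M) hi.surj a
    exact ⟨theta M Y' b, RingHom.congr_fun h b⟩
  · obtain ⟨a, rfl⟩ := (theta_iso M Y').2.2 x
    obtain ⟨b, rfl⟩ := (theta_iso M Y').2.2 y
    have key : ∀ c, (AMonS S M ◁ i).left.appTop.hom (theta M Y' c) = 0 → pMap M i c = 0 := fun c hc =>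
      (theta_iso M Y).2.1 ((RingHom.congr_fun h c).symm.trans (hc.trans (map_zero _).symm))
    rw [← map_mul, mul_eq_zero_of_map hi.sq a b (key a hx) (key b hy), map_zero]

/-- An equivariant map on a square-zero thickening, given one lift. -/
theorem exists_eqv_lift (hi : IsSqZero i) {aY : MonAct (AMonS S M) Y} {aY' : MonAct (AMonS S M) Y'}
    {aX : MonAct (AMonS S M) X} {aZ : MonAct (AMonS S M) Z} (hie : MonAct.IsEquivariant aY aY' i)
    (f : X ⟶ Z) (hf : MonAct.IsEquivariant aX aZ f) (s : Y ⟶ X) (hs : MonAct.IsEquivariant aY aX s)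
    (y : Y' ⟶ Z) (hy : MonAct.IsEquivariant aY' aZ y) (l₀ : Y' ⟶ X) (h₁ : i ≫ l₀ = s) (h₂ : l₀ ≫ f = y) :
    ∃ l : Y' ⟶ X, MonAct.IsEquivariant aY' aX l ∧ i ≫ l = s ∧ l ≫ f = y := by
  let A := AMonS S M
  let neg : A ⟶ A := AMonS.map S (-(AddMonoidHom.id M))
  have hneg : ∀ {W : Over S} (g : W ⟶ A), (g ≫ neg) * g = 1 := fun g => by
    refine chi_injective (MonoidHom.ext fun m => ?_)
    rw [chi_mul, chi_map, ← eq_one_of_map_zero g, chi_map, ← map_mul]
    congr 1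
    exact Multiplicative.toAdd.injective (neg_add_cancel m.toAdd)
  have hneg' : ∀ {W : Over S} (g h : W ⟶ A), h * ((g * h) ≫ neg) = g ≫ neg := fun g h => by
    refine chi_injective (MonoidHom.ext fun m => ?_)
    rw [chi_mul, chi_map, chi_map, chi_mul, mul_left_comm, ← map_mul]
    rw [show m * AddMonoidHom.toMultiplicative (-(AddMonoidHom.id M)) m = 1 from
      Multiplicative.toAdd.injective (add_neg_cancel m.toAdd), map_one, _root_.mul_one]
  have hact : ∀ {W : Over S} (g : W ⟶ A) (v : W ⟶ Y) , lift g v ≫ aY.act ≫ s = lift g (v ≫ s) ≫ aX.act :=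
    fun g v => (MonAct.isEquivariant_iff _ _ _).mp hs _ g v
  let Λ : A ⊗ Y' ⟶ X := lift (fst A Y' ≫ neg) (aY'.act ≫ l₀) ≫ aX.act
  have hΛ : (A ◁ i) ≫ Λ = snd A Y ≫ s := by
    simp only [Λ, comp_lift_assoc, whiskerLeft_fst_assoc]
    rw [← reassoc_of% (show MonAct.IsEquivariant aY aY' i from hie), h₁,
      show aY.act ≫ s = lift (fst A Y) (snd A Y ≫ s) ≫ aX.act from by
        rw [← hact, lift_fst_snd, Category.id_comp],
      ← MonAct.lift_mul_act, hneg, MonAct.lift_one_act]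
  obtain ⟨l, hl⟩ := exists_avg hi Λ s hΛ
  have hΛf : Λ ≫ f = snd A Y' ≫ y := by
    simp only [Λ, Category.assoc]
    rw [hf, lift_whiskerLeft_assoc, Category.assoc, h₂,
      show aY'.act ≫ y = lift (fst A Y') (snd A Y' ≫ y) ≫ aZ.act from by
        rw [← (MonAct.isEquivariant_iff _ _ _).mp hy, lift_fst_snd, Category.id_comp],
      ← MonAct.lift_mul_act, hneg, MonAct.lift_one_act]
  have hiy : i ≫ y = s ≫ f := by rw [← h₂, ← Category.assoc, h₁]
  refine ⟨l, ?_, hl.restrict, ?_⟩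
  · let hj : IsSqZero (A ◁ i) := isSqZero_whisker hi
    have hu : (A ◁ i) ≫ aY'.act = aY.act ≫ i := (show MonAct.IsEquivariant aY aY' i from hie).symm
    have k1 : IsAvg M hj (lift (fst A (A ⊗ Y') * (snd A (A ⊗ Y') ≫ 1)) (snd A (A ⊗ Y') ≫ aY'.act) ≫ Λ)
        (aY.act ≫ s) (aY'.act ≫ l) := hl.natural aY'.act aY.act hu 1
    have k2 : IsAvg M hj (lift (fst A (A ⊗ Y') * (snd A (A ⊗ Y') ≫ 1)) (snd A (A ⊗ Y') ≫ snd A Y') ≫ Λ)
        (snd A Y ≫ s) (snd A Y' ≫ l) := hl.natural (snd A Y') (snd A Y) (whiskerLeft_snd _ _) 1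
    have k3 := ((isAvg_snd (hi := hj) (fst A Y')).pair k2).comp aX.act
    have k4 := k3.natural (hj := hj) (𝟙 (A ⊗ Y')) (𝟙 (A ⊗ Y)) (by rw [Category.comp_id, Category.id_comp]) (fst A Y')
    rw [Category.id_comp, Category.id_comp, whiskerLeft_fst, ← hact, lift_fst_snd, Category.id_comp] at k4
    have e : lift (fst A (A ⊗ Y') * (snd A (A ⊗ Y') ≫ fst A Y')) (snd A (A ⊗ Y') ≫ 𝟙 (A ⊗ Y')) ≫
        lift (snd A (A ⊗ Y') ≫ fst A Y')
          (lift (fst A (A ⊗ Y') * (snd A (A ⊗ Y') ≫ 1)) (snd A (A ⊗ Y') ≫ snd A Y') ≫ Λ) ≫ aX.act =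
        lift (fst A (A ⊗ Y') * (snd A (A ⊗ Y') ≫ 1)) (snd A (A ⊗ Y') ≫ aY'.act) ≫ Λ := by
      rw [MonObj.comp_one, _root_.mul_one, Category.comp_id]
      simp only [Λ, comp_lift_assoc, comp_lift, lift_fst, lift_snd, lift_fst_assoc, lift_snd_assoc, MonObj.comp_one,
        Category.assoc]
      rw [← MonAct.lift_mul_act, hneg']
      have h5 : lift (fst A (A ⊗ Y') * (snd A (A ⊗ Y') ≫ fst A Y')) (snd A (A ⊗ Y') ≫ snd A Y') ≫ aY'.act =
          lift (fst A (A ⊗ Y')) (snd A (A ⊗ Y') ≫ aY'.act) ≫ aY'.act := by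
        rw [MonAct.lift_mul_act, ← comp_lift_assoc, lift_fst_snd, Category.id_comp]
      rw [← reassoc_of% h5]
    rw [e] at k4
    have h6 := k1.eq k4
    show aY'.act ≫ l = (A ◁ l) ≫ aX.act
    rw [h6]
    congr 1
  · have h7 := hl.comp f
    rw [hΛf, ← hiy] at h7
    exact h7.eq (isAvg_snd y)

end Groth.Agent.H28.EqvLift
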