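import Groth.Agent.H23.AMonExt
import Groth.Agent.H23.EqvPullback
import Groth.Agent.GrpSchLib.FixedAffine

/-! Equivariant maps from a monoid with dense units into an affine scheme. -/

universe u

open CategoryTheory CategoryTheory.Limits MonoidalCategory CartesianMonoidalCategory MonObj AlgebraicGeometry
open Opposite Magnet

namespace Groth.Agent.H28.EqvUnits

open GrpSchLib.Kunneth

variable {k : Type u} [Field k]

theorem exists_factor {T X : Over (Spec (CommRingCat.of k))} [IsAffine X.left] (φ : Fn X →ₐ[k] Fn T) :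
    ∃ f : T ⟶ X, ev f = φ := by
  let g : T.left ⟶ X.left := T.left.toSpecΓ ≫ Spec.map (CommRingCat.ofHom φ.toRingHom) ≫ X.left.isoSpec.inv
  have hg : g.appTop = CommRingCat.ofHom φ.toRingHom := by
    haveI : IsIso X.left.isoSpec.hom.appTop := inferInstanceAs (IsIso (X.left.isoSpec.hom.app ⊤))
    have hinv : X.left.isoSpec.inv.appTop = (Scheme.ΓSpecIso Γ(X.left, ⊤)).inv ≫ 𝟙 _ := by
      rw [← cancel_mono X.left.isoSpec.hom.appTop, ← Scheme.Hom.comp_appTop, Iso.hom_inv_id]
      simp [Scheme.isoSpec_hom, Scheme.toSpecΓ_appTop]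
    simp only [g, Scheme.Hom.comp_appTop, hinv, Category.comp_id]
    rw [← Scheme.ΓSpecIso_inv_naturality, Category.assoc, Scheme.toSpecΓ_appTop]
    exact (congrArg (_ ≫ ·) (Scheme.ΓSpecIso _).inv_hom_id).trans (Category.comp_id _)
  refine ⟨Over.homMk g (ext_of_isAffine (CommRingCat.hom_ext (RingHom.ext fun c => ?_))), AlgHom.ext fun c => ?_⟩
  · obtain ⟨r, rfl⟩ := (ConcreteCategory.bijective_of_isIso (Scheme.ΓSpecIso (CommRingCat.of k)).inv).2 c
    rw [Scheme.Hom.comp_appTop, hg]
    exact φ.commutes r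
  · show g.appTop c = φ c
    rw [hg]
    rfl

theorem ev_injective {T X : Over (Spec (CommRingCat.of k))} [IsAffine X.left] :
    Function.Injective (ev : (T ⟶ X) → _) := fun f g h =>
  Over.OverMorphism.ext (ext_of_isAffine (CommRingCat.hom_ext (congrArg AlgHom.toRingHom h)))

theorem ev_injective_of_dominant {T X : Over (Spec (CommRingCat.of k))} [IsAffine X.left] (f : T ⟶ X)
    [IsSchemeTheoreticallyDominant f.left] [QuasiCompact f.left] : Function.Injective (ev f) := by
  have h := (isSchemeTheoreticallyDominant_iff f.left).mp inferInstance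
  have h2 := congrArg (fun I => I.ideal ⟨⊤, isAffineOpen_top X.left⟩) h
  simp only [Scheme.Hom.ker_apply, Scheme.IdealSheafData.ideal_bot, Pi.bot_apply] at h2
  exact (RingHom.injective_iff_ker_eq_bot _).mpr h2

variable {M G X : Over (Spec (CommRingCat.of k))} [MonObj M] [GrpObj G] [IsAffine M.left] [IsAffine G.left]
  [IsAffine X.left] (i : G ⟶ M) [IsMonHom i] [IsSchemeTheoreticallyDominant i.left]
  (a : MonAct G X)

/-- The action on `M`. -/
noncomputable abbrev ρ : MonAct G M := (MonAct.regular M).restrict i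

omit [IsAffine M.left] [IsAffine G.left] [IsSchemeTheoreticallyDominant i.left] in
theorem orbit {T : Over (Spec (CommRingCat.of k))} (φ : (MonAct.eqvHom (ρ i) a).obj (op T)) :
    (i ▷ T) ≫ φ.1 = (G ◁ (lift (toUnit T ≫ η[M]) (𝟙 T) ≫ φ.1)) ≫ a.act :=
  H23.EqvPullback.orbit η[M] i (fun T g => by
    rw [MonAct.lift_restrict_act, MonAct.lift_regular_act, ← Hom.one_def, _root_.mul_one]) φ.1 φ.2

instance : QuasiCompact i.left := inferInstance

include i in
theorem dom_whiskerRight (T : Over (Spec (CommRingCat.of k))) : IsSchemeTheoreticallyDominant (i ▷ T).left :=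
  H23.AMonExt.stDominant_whiskerRight_field i T

include i in
theorem ext_of_orbit {T : Over (Spec (CommRingCat.of k))} {u v : M ⊗ T ⟶ X}
    (h : (i ▷ T) ≫ u = (i ▷ T) ≫ v) : u = v := by
  haveI := dom_whiskerRight i T
  exact GrpSchLib.FixedAffine.eq_of_dominant (i ▷ T) u v h

theorem eqv_of_orbit {T : Over (Spec (CommRingCat.of k))} {u : M ⊗ T ⟶ X} (x : T ⟶ X)
    (h : (i ▷ T) ≫ u = (G ◁ x) ≫ a.act) :
    MonAct.IsEquivariant ((ρ i).prod (MonAct.trivial G T)) a u := by
  haveI := dom_whiskerRight i T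
  haveI : Flat G.hom := AssLib.flat_over_field G.hom
  haveI : QuasiCompact (i ▷ T).left :=
    MorphismProperty.of_isPullback (GrpSchLib.isPullback_whiskerRight i T).flip inferInstance
  haveI : Flat (snd G (M ⊗ T)).left := inferInstanceAs (Flat (Limits.pullback.snd G.hom (M ⊗ T).hom))
  haveI : IsSchemeTheoreticallyDominant (G ◁ (i ▷ T)).left := by
    exact IsSchemeTheoreticallyDominant.of_isPullback (f := (i ▷ T).left) (g := (snd G (M ⊗ T)).left)
      (GrpSchLib.isPullback_whiskerLeft (i ▷ T)).flip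
  unfold MonAct.IsEquivariant
  refine GrpSchLib.FixedAffine.eq_of_dominant (G ◁ (i ▷ T)) _ _ ?_
  rw [← MonoidalCategory.whiskerLeft_comp_assoc, h]
  have hρ : (G ◁ (i ▷ T)) ≫ ((ρ i).prod (MonAct.trivial G T)).act =
      ((MonAct.regular G).prod (MonAct.trivial G T)).act ≫ (i ▷ T) := by
    apply hom_ext_lift₂
    intro T' g z
    rw [← lift_comp_fst_snd z]
    simp only [lift_whiskerLeft_assoc, lift_whiskerRight, MonAct.lift_prod_act, MonAct.lift_prod_act_assoc,
      MonAct.lift_trivial_act, MonAct.lift_restrict_act, MonAct.lift_regular_act, MonObj.mul_comp]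
  rw [reassoc_of% hρ, h]
  apply hom_ext_lift₂
  intro T' g z
  rw [← lift_comp_fst_snd z]
  simp only [lift_whiskerLeft_assoc, MonAct.lift_prod_act_assoc, MonAct.lift_trivial_act,
    MonAct.lift_regular_act, MonoidalCategory.whiskerLeft_comp, Category.assoc, lift_whiskerLeft]
  rw [MonAct.lift_mul_act]

/-- The closed condition. -/
theorem exists_ideal : ∃ J : Ideal (Fn X),
    (∀ (T : Over (Spec (CommRingCat.of k))) (φ : (MonAct.eqvHom (ρ i) a).obj (op T)),
      ∀ c ∈ J, ev (lift (toUnit T ≫ η[M]) (𝟙 T) ≫ φ.1) c = 0) ∧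
    (∀ (T : Over (Spec (CommRingCat.of k))) [IsAffine T.left] (x : T ⟶ X), (∀ c ∈ J, ev x c = 0) →
      ∃ u : M ⊗ T ⟶ X, (i ▷ T) ≫ u = (G ◁ x) ≫ a.act) := by
  classical
  let L : Fn M →ₗ[k] Fn G := (ev i).toLinearMap
  have hL : Function.Injective L := ev_injective_of_dominant i
  obtain ⟨W, hW⟩ := Submodule.exists_isCompl L.range
  let bM := Module.Basis.ofVectorSpace k (Fn M)
  let bR := bM.map (LinearEquiv.ofInjective L hL)
  let bW := Module.Basis.ofVectorSpace k W
  let b := (bR.prod bW).map (Submodule.prodEquivOfIsCompl L.range W hW)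
  have hb : ∀ l, b (Sum.inl l) = ev i (bM l) := fun l => by
    simp [b, bR, L]
  have hexp := fun c : Fn X => exists_expand (X := X) b (ev ((β_ X G).hom ≫ a.act) c)
  choose s A hA using hexp
  let J : Ideal (Fn X) := Ideal.span {z | ∃ c l, Sum.inr l ∈ s c ∧ A c (Sum.inr l) = z}
  refine ⟨J, fun T φ => ?_, fun T _ x hx => ?_⟩
  · intro c hc
    refine Submodule.span_induction (p := fun z _ => ev (lift (toUnit T ≫ η[M]) (𝟙 T) ≫ φ.1) z = 0) ?_ (map_zero _)
      (fun u v _ _ hu hv => by rw [map_add, hu, hv, add_zero]) (fun r u _ hu => by rw [smul_eq_mul, map_mul, hu, mul_zero]) hc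
    rintro _ ⟨c, l, hl, rfl⟩
    refine Scheme.zero_of_zero_cover _ T.left.affineCover fun p => ?_
    let R : Over (Spec (CommRingCat.of k)) := Over.mk (T.left.affineCover.f p ≫ T.hom)
    let r : R ⟶ T := Over.homMk (T.left.affineCover.f p) rfl
    haveI : IsAffine R.left := inferInstanceAs (IsAffine (T.left.affineCover.X p))
    let x := lift (toUnit T ≫ η[M]) (𝟙 T) ≫ φ.1
    have horb : (R ◁ i) ≫ (β_ R M).hom ≫ (M ◁ r) ≫ φ.1 = ((r ≫ x) ▷ G) ≫ (β_ X G).hom ≫ a.act := by
      rw [BraidedCategory.braiding_naturality_left_assoc, MonoidalCategory.whiskerLeft_comp, Category.assoc,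
        ← orbit i a φ, BraidedCategory.braiding_naturality_right_assoc, ← whisker_exchange_assoc]
    obtain ⟨s0, w, hw⟩ := exists_expand (X := R) bM (ev ((β_ R M).hom ≫ (M ◁ r) ≫ φ.1) c)
    have e := congrArg (fun f => ev f c) horb
    dsimp only at e
    rw [← ev_ev, hw, map_sum, ← ev_ev (((r ≫ x) ▷ G)), hA c, map_sum] at e
    simp only [map_mul, ev_ev, whiskerRight_fst, whiskerRight_snd, whiskerLeft_fst, whiskerLeft_snd] at e
    simp only [← ev_ev, ← hb] at e
    show ev r (ev x (A c (Sum.inr l))) = 0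
    let af : (Module.Basis.ofVectorSpaceIndex k (Fn M)) ⊕ (Module.Basis.ofVectorSpaceIndex k W) → Fn R := fun j =>
      (if j ∈ s0.image Sum.inl then (Sum.elim w (fun _ => 0) j) else 0) -
        (if j ∈ s c then ev r (ev x (A c j)) else 0)
    have key := indep (X := R) b.linearIndependent (s0.image Sum.inl ∪ s c) af (by
      simp only [af, map_sub, sub_mul, Finset.sum_sub_distrib, apply_ite (ev (fst R G)), map_zero, ite_mul, zero_mul,
        Finset.sum_ite_mem, Finset.inter_eq_right.mpr Finset.subset_union_left,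
        Finset.inter_eq_right.mpr Finset.subset_union_right]
      rw [Finset.sum_image (fun _ _ _ _ h => Sum.inl_injective h), sub_eq_zero]
      exact e) (Sum.inr l) (Finset.mem_union_right _ hl)
    simpa [af, hl] using key
  · have himg : ∀ c, ∃ w : Fn (T ⊗ M), ev (T ◁ i) w = ev ((x ▷ G) ≫ (β_ X G).hom ≫ a.act) c := fun c => by
      refine ⟨∑ j ∈ s c, Sum.elim (fun l => ev (fst T M) (ev x (A c (Sum.inl l))) * ev (snd T M) (bM l)) (fun _ => 0) j, ?_⟩
      rw [← ev_ev (x ▷ G), hA c, map_sum, map_sum]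
      refine Finset.sum_congr rfl fun j hj => ?_
      rcases j with l | l
      · simp only [Sum.elim_inl, map_mul, ev_ev, whiskerLeft_fst_assoc, whiskerLeft_fst, whiskerLeft_snd, whiskerRight_fst, whiskerRight_snd]
        rw [← ev_ev (snd T G) i, ← hb]
      · simp only [Sum.elim_inr, map_zero, map_mul, ev_ev, whiskerRight_fst]
        rw [← ev_ev (fst T G) x, hx _ (Ideal.subset_span ⟨c, l, hj, rfl⟩), map_zero, zero_mul]
    haveI : IsAffine (T ⊗ M).left := inferInstanceAs (IsAffine (Limits.pullback T.hom M.hom))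
    haveI : IsAffine (T ⊗ G).left := inferInstanceAs (IsAffine (Limits.pullback T.hom G.hom))
    haveI : IsSchemeTheoreticallyDominant (T ◁ i).left := by
      haveI : Flat T.hom := AssLib.flat_over_field T.hom
      haveI : Flat (snd T M).left := inferInstanceAs (Flat (Limits.pullback.snd T.hom M.hom))
      exact IsSchemeTheoreticallyDominant.of_isPullback (f := i.left) (g := (snd T M).left)
        (GrpSchLib.isPullback_whiskerLeft i).flip
    have hinj := ev_injective_of_dominant (T ◁ i)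
    choose w hw using himg
    let ψ : Fn X →ₐ[k] Fn (T ⊗ M) :=
      { toFun := w
        map_one' := hinj (by rw [hw, map_one, map_one])
        map_mul' := fun p q => hinj (by rw [hw, map_mul, map_mul, hw, hw])
        map_zero' := hinj (by rw [hw, map_zero, map_zero])
        map_add' := fun p q => hinj (by rw [hw, map_add, map_add, hw, hw])
        commutes' := fun p => hinj (by rw [hw, AlgHom.commutes, AlgHom.commutes]) }
    obtain ⟨f, hf⟩ := exists_factor ψ
    refine ⟨(β_ M T).hom ≫ f, ?_⟩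
    rw [BraidedCategory.braiding_naturality_left_assoc,
      show (T ◁ i) ≫ f = (x ▷ G) ≫ (β_ X G).hom ≫ a.act from ev_injective (AlgHom.ext fun c => by
        rw [← ev_ev, hf]; exact hw c),
      ← BraidedCategory.braiding_naturality_right_assoc, SymmetricCategory.symmetry_assoc]

theorem exists_representableBy : ∃ (Z : Over (Spec (CommRingCat.of k))) (j : Z ⟶ X)
    (e : (MonAct.eqvHom (ρ i) a).RepresentableBy Z), IsClosedImmersion j.left ∧
      ∀ (T : Over (Spec (CommRingCat.of k))) (z : T ⟶ Z),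
        (MonAct.eqvHom.evalAt (ρ i) a η[M]).app (op T) (e.homEquiv z) = z ≫ j := by
  obtain ⟨J, hJ₁, hJ₂⟩ := exists_ideal i a
  let q : Γ(X.left, ⊤) ⟶ CommRingCat.of (Fn X ⧸ J) := CommRingCat.ofHom (Ideal.Quotient.mk J)
  let Z : Over (Spec (CommRingCat.of k)) := Over.mk ((Spec.map q ≫ X.left.isoSpec.inv) ≫ X.hom)
  let j : Z ⟶ X := Over.homMk (Spec.map q ≫ X.left.isoSpec.inv) rfl
  haveI : IsAffine Z.left := inferInstanceAs (IsAffine (Spec _))
  haveI : IsClosedImmersion j.left := by
    haveI : IsClosedImmersion (Spec.map q) := IsClosedImmersion.spec_of_surjective _ Ideal.Quotient.mk_surjective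
    exact inferInstanceAs (IsClosedImmersion (Spec.map q ≫ X.left.isoSpec.inv))
  haveI := H23.AMonExt.mono_of_isClosedImmersion j
  have hj : j.left.appTop = q ≫ (Scheme.ΓSpecIso _).inv := by
    show (Spec.map q ≫ X.left.isoSpec.inv).appTop = _
    haveI : IsIso X.left.isoSpec.hom.appTop := inferInstanceAs (IsIso (X.left.isoSpec.hom.app ⊤))
    have hinv : X.left.isoSpec.inv.appTop = (Scheme.ΓSpecIso Γ(X.left, ⊤)).inv ≫ 𝟙 _ := by
      rw [← cancel_mono X.left.isoSpec.hom.appTop, ← Scheme.Hom.comp_appTop, Iso.hom_inv_id]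
      simp [Scheme.isoSpec_hom, Scheme.toSpecΓ_appTop]
    rw [Scheme.Hom.comp_appTop, hinv, Category.comp_id, ← Scheme.ΓSpecIso_inv_naturality]
  obtain ⟨u, hu⟩ := hJ₂ Z j fun c hc => by
    rw [ev_apply, hj]
    show (Scheme.ΓSpecIso (CommRingCat.of (Fn X ⧸ J))).inv (Ideal.Quotient.mk J c) = 0
    rw [Ideal.Quotient.eq_zero_iff_mem.mpr hc, map_zero]
  let U : (MonAct.eqvHom (ρ i) a).obj (op Z) := ⟨u, eqv_of_orbit i a j hu⟩
  have hUj : lift (toUnit Z ≫ η[M]) (𝟙 Z) ≫ u = j := by
    have h1 : lift (toUnit Z ≫ η[M]) (𝟙 Z) = lift (1 : Z ⟶ G) (𝟙 Z) ≫ (i ▷ Z) := by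
      rw [lift_whiskerRight, ← Hom.one_def, MonObj.one_comp]
    rw [h1, Category.assoc, hu, lift_whiskerLeft_assoc, Category.id_comp, MonAct.lift_one_act]
  have hev : ∀ {T : Over (Spec (CommRingCat.of k))} (z : T ⟶ Z),
      lift (toUnit T ≫ η[M]) (𝟙 T) ≫ (M ◁ z) ≫ u = z ≫ j := fun {T} z => by
    rw [lift_whiskerLeft_assoc, Category.id_comp, ← hUj, comp_lift_assoc, ← Category.assoc z, comp_toUnit,
      Category.comp_id]
  have hinj : ∀ (T : Over (Spec (CommRingCat.of k))) (p q : (MonAct.eqvHom (ρ i) a).obj (op T)),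
      lift (toUnit T ≫ η[M]) (𝟙 T) ≫ p.1 = lift (toUnit T ≫ η[M]) (𝟙 T) ≫ q.1 → p = q := fun T p q h =>
    Subtype.ext (ext_of_orbit i (by rw [orbit i a p, orbit i a q, h]))
  have hbij : ∀ T : Over (Spec (CommRingCat.of k)),
      Function.Bijective (fun z : T ⟶ Z => (MonAct.eqvHom (ρ i) a).map z.op U) := by
    refine fun T => ⟨fun z z' h => ?_, fun φ => ?_⟩
    · rw [← cancel_mono j, ← hev, ← hev]
      exact congrArg (fun p => lift (toUnit T ≫ η[M]) (𝟙 T) ≫ p.1) h
    · let x := lift (toUnit T ≫ η[M]) (𝟙 T) ≫ φ.1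
      let ψ : Fn X ⧸ J →+* Fn T := Ideal.Quotient.lift J (ev x).toRingHom (hJ₁ T φ)
      let zl : T.left ⟶ Z.left := T.left.toSpecΓ ≫ Spec.map (CommRingCat.ofHom ψ)
      have hzl : zl ≫ j.left = x.left := by
        show (_ ≫ Spec.map _) ≫ Spec.map q ≫ X.left.isoSpec.inv = _
        rw [Category.assoc, ← Category.assoc (Spec.map _), ← Spec.map_comp,
          show q ≫ CommRingCat.ofHom ψ = x.left.appTop from rfl, ← Scheme.toSpecΓ_naturality_assoc]
        exact (congrArg (x.left ≫ ·) X.left.isoSpec.hom_inv_id).trans (Category.comp_id _)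
      let z : T ⟶ Z := Over.homMk zl (by rw [← Over.w j, ← Category.assoc, hzl, Over.w x])
      refine ⟨z, hinj T _ _ ((hev z).trans ?_)⟩
      exact Over.OverMorphism.ext hzl
  refine ⟨Z, j, ⟨fun {T} => Equiv.ofBijective _ (hbij T), fun {T T'} f g => ?_⟩, inferInstance, fun T z => hev z⟩
  show (MonAct.eqvHom (ρ i) a).map (f ≫ g).op U = _
  rw [op_comp, Functor.map_comp]
  rfl

end Groth.Agent.H28.EqvUnits
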