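import Groth.Agent.H28.LamAlt2
import Groth.Agent.H28.PBSplit
import Groth.Agent.H28.PullVB
import Groth.Agent.S9371
import Groth.Agent.S9372

/-!
# The excess module of a Cartesian square
-/

set_option autoImplicit false
set_option linter.style.haveILetI false
set_option linter.unusedSectionVars false
set_option backward.isDefEq.respectTransparency false
set_option backward.isDefEq.respectTransparency.types false

universe v w u

open CategoryTheory CategoryTheory.Limits AlgebraicGeometry TopologicalSpace Opposite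
attribute [local instance] HasDerivedCategory.standard

noncomputable section

namespace Groth.Agent.H28.Excess

open Groth.Agent

theorem exists_excess {X Y X₁ Y₁ : Scheme.{u}} (f : X ⟶ Y) [IsClosedImmersion f] (f₁ : X₁ ⟶ Y₁) [IsClosedImmersion f₁]
    (φ : Y₁ ⟶ Y) (g : X₁ ⟶ X) (hsq : IsPullback f₁ g φ f) {d d₁ : ℕ}
    (hC : FlatMod.IsFinLocFreeOfRank d (Omega.conormal f)) (hC₁ : FlatMod.IsFinLocFreeOfRank d₁ (Omega.conormal f₁))
    {KX : Type v} [CommRing KX] [LambdaRing.LambdaOps KX] {PX : LambdaRing.PosStructure KX} {φX : SGA6.Kvb X →+ KX}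
    {KX₁ : Type w} [CommRing KX₁] [LambdaRing.LambdaOps KX₁] {PX₁ : LambdaRing.PosStructure KX₁}
    {φX₁ : SGA6.Kvb X₁ →+ KX₁} (gψ : KX →+ KX₁) (hgψ : KRR.IsPull g φX φX₁ gψ) :
    ∃ M : X₁.Modules, FlatMod.IsFinLocFree M ∧
      φX₁ (KRR.cl X₁ M) = gψ (φX (KRR.cl X (Omega.conormal f))) - φX₁ (KRR.cl X₁ (Omega.conormal f₁)) := by
  obtain ⟨θ, hθ, -⟩ := S9371.result f₁ f φ g hsq.w.symm
  haveI := (S9372.result f₁ f φ g hsq θ hθ).1
  let S : ShortComplex X₁.Modules := ShortComplex.mk (kernel.ι θ) θ (kernel.condition θ)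
  have hS : S.ShortExact := KZ.kerSeq_shortExact θ
  have lC := KvbModel.lf_of_rank hC
  have lC₁ := KvbModel.lf_of_rank hC₁
  have lg : FlatMod.IsFinLocFree S.X₂ := KvbPull.lf_pull g lC
  have lK : FlatMod.IsFinLocFree S.X₁ := KFlatLib.isFinLocFree_kernel θ lg lC₁
  refine ⟨S.X₁, lK, ?_⟩
  rw [hgψ _ lC, eq_sub_iff_add_eq, ← map_add]
  exact congrArg φX₁ (KZ.clSub_ses (P := fun M : X₁.Modules => FlatMod.IsFinLocFree M) hS lK lg lC₁).symm

end Groth.Agent.H28.Excess

end
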