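import Groth.Agent.H28.KvbModel
import Groth.Agent.H28.PBAtlas
import Groth.Prelude.Def_KRR
import Mathlib.Algebra.Polynomial.Coeff
import Mathlib.Algebra.Polynomial.Eval.Coeff

/-!
# `λ_{-1}` of positive classes
-/

set_option autoImplicit false
set_option linter.unusedSectionVars false

universe v w u

open LambdaRing Polynomial
open CategoryTheory CategoryTheory.Limits AlgebraicGeometry

noncomputable section

namespace Groth.Agent.H28.LamAlt2

open Groth.Agent

variable {K : Type v} [CommRing K] [LambdaOps K] {P : PosStructure K}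

/-- The operations vanish above the augmentation, which is nonnegative. -/
def Bdd (P : PosStructure K) (x : K) : Prop := 0 ≤ P.aug x ∧ ∀ i : ℕ, P.aug x < i → LambdaOps.lam i x = 0

theorem bdd_pos {x : K} (h : x ∈ P.pos) : Bdd P x := ⟨(P.aug_pos x h).le, P.lam_eq_zero x h⟩

/-- The polynomial of the operations. -/
def poly (P : PosStructure K) (x : K) : K[X] :=
  ∑ i ∈ Finset.range ((P.aug x).toNat + 1), C (LambdaOps.lam i x) * X ^ i

theorem coeff_poly {x : K} (h : Bdd P x) (k : ℕ) : (poly P x).coeff k = LambdaOps.lam k x := by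
  rw [poly, finsetSum_coeff]
  simp only [coeff_C_mul, coeff_X_pow, mul_ite, mul_one, mul_zero, Finset.sum_ite_eq, Finset.mem_range]
  split_ifs with hk
  · rfl
  · exact (h.2 k (by omega)).symm

theorem lamAlt_eq_eval (P : PosStructure K) (x : K) : KRR.lamAlt P x = (poly P x).eval (-1) := by
  rw [KRR.lamAlt, poly, eval_finsetSum]
  exact Finset.sum_congr rfl fun i _ => by rw [eval_mul, eval_C, eval_pow, eval_X, mul_comm]

theorem bdd_add {x y : K} (hx : Bdd P x) (hy : Bdd P y) : Bdd P (x + y) := by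
  refine ⟨by rw [map_add]; exact add_nonneg hx.1 hy.1, fun k hk => ?_⟩
  rw [LambdaOps.lam_add]
  refine Finset.sum_eq_zero fun i hi => ?_
  rw [map_add] at hk
  rw [Finset.mem_range] at hi
  by_cases h : P.aug x < i
  · rw [hx.2 i h, zero_mul]
  · rw [hy.2 (k - i) (by omega), mul_zero]

/-- `λ_{-1}` is multiplicative. -/
theorem lamAlt_add {x y : K} (hx : Bdd P x) (hy : Bdd P y) :
    KRR.lamAlt P (x + y) = KRR.lamAlt P x * KRR.lamAlt P y := by
  rw [lamAlt_eq_eval, lamAlt_eq_eval, lamAlt_eq_eval, ← eval_mul]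
  refine congrArg (eval (-1)) (Polynomial.ext fun k => ?_)
  rw [coeff_poly (bdd_add hx hy), coeff_mul,
    Finset.Nat.sum_antidiagonal_eq_sum_range_succ (fun i j => (poly P x).coeff i * (poly P y).coeff j) k,
    LambdaOps.lam_add]
  exact Finset.sum_congr rfl fun i _ => by rw [coeff_poly hx, coeff_poly hy]

theorem map_lamAlt {K' : Type w} [CommRing K'] [LambdaOps K'] {P' : PosStructure K'} {f : K →+* K'}
    (hf : ∀ i x, f (LambdaOps.lam i x) = LambdaOps.lam i (f x)) (haug : ∀ x, P'.aug (f x) = P.aug x) (x : K) :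
    f (KRR.lamAlt P x) = KRR.lamAlt P' (f x) := by
  rw [KRR.lamAlt, KRR.lamAlt, map_sum, haug]
  exact Finset.sum_congr rfl fun i _ => by rw [map_mul, map_pow, map_neg, map_one, hf]

/-- The class of a bundle is bounded. -/
theorem bdd_cl {X : Scheme.{u}} {φ : SGA6.Kvb X →+ K} (hK : KRR.IsModel X K P φ) [ConnectedSpace ↥X]
    {E : X.Modules} (hE : FlatMod.IsFinLocFree E) : Bdd P (φ (KRR.cl X E)) := by
  obtain ⟨r, hr⟩ := KvbModel.exists_rank hE
  rcases Nat.eq_zero_or_pos r with rfl | hr0
  · rw [show KRR.cl X E = 0 from KZ.clSub_isZero _ (PBAtlas.isZero_of_frames fun x => KvbModel.frameAt_of_rank hr x),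
      map_zero]
    refine ⟨by rw [map_zero], fun i hi => ?_⟩
    rw [map_zero] at hi
    obtain ⟨j, rfl⟩ : ∃ j, i = j + 1 := ⟨i - 1, by omega⟩
    clear hi
    induction j using Nat.strong_induction_on with
    | _ j ih =>
      have h := LambdaOps.lam_add (j + 1) (0 : K) 0
      rw [add_zero, Finset.sum_range_succ, Finset.sum_range_succ', Nat.sub_self, LambdaOps.lam_zero,
        mul_one, one_mul, Finset.sum_eq_zero fun a ha => by rw [ih a (Finset.mem_range.1 ha), zero_mul], zero_add,
        Nat.sub_zero] at h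
      exact add_eq_right.1 h.symm
  · exact bdd_pos ((hK.mem_pos_iff _).2 ⟨r, E, hr0, hr, rfl⟩)

end Groth.Agent.H28.LamAlt2

end
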