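import Groth.Agent.H28.DefMor
import Groth.Agent.H28.DefCalc
import Groth.Agent.H28.Excess
import Groth.Agent.H28.LamAlt2

/-!
# The excess intersection formula
-/

set_option autoImplicit false
set_option linter.style.haveILetI false
set_option linter.unusedSectionVars false
set_option backward.isDefEq.respectTransparency false
set_option backward.isDefEq.respectTransparency.types false
set_option maxHeartbeats 1000000

universe v u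

open CategoryTheory CategoryTheory.Limits AlgebraicGeometry TopologicalSpace Opposite
attribute [local instance] HasDerivedCategory.standard

noncomputable section

namespace Groth.Agent.H28.ExcessCl

open Groth.Agent Groth.Agent.H28.KvbLam DefCalc

/-- Inverse images compose. -/
theorem pull_comp {A B C : Scheme.{u}} (a : A ⟶ B) (b : B ⟶ C) {KA : Type v} [CommRing KA] {φA : SGA6.Kvb A →+ KA}
    {KB : Type v} [CommRing KB] {φB : SGA6.Kvb B →+ KB} {KC : Type v} [CommRing KC] {φC : SGA6.Kvb C →+ KC}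
    {ga : KB →+ KA} (ha : KRR.IsPull a φB φA ga) {gb : KC →+ KB} (hb : KRR.IsPull b φC φB gb) :
    KRR.IsPull (a ≫ b) φC φA (ga.comp gb) := fun F hF => by
  show ga (gb (φC (KRR.cl C F))) = _
  rw [hb F hF, ha _ (KvbPull.lf_pull b hF)]
  exact congrArg φA (GenPush.cl_iso ((Scheme.Modules.pullbackComp a b).app F)
    (KvbPull.lf_pull a (KvbPull.lf_pull b hF)) (KvbPull.lf_pull _ hF))

/-- Inverse images along equal morphisms agree. -/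
theorem pull_eq {A C : Scheme.{u}} {f g : A ⟶ C} (h : f = g) {KA : Type v} [CommRing KA] {φA : SGA6.Kvb A →+ KA}
    {KC : Type v} [CommRing KC] {φC : SGA6.Kvb C →+ KC} (hs : Function.Surjective φC) {p q : KC →+ KA}
    (hp : KRR.IsPull f φC φA p) (hq : KRR.IsPull g φC φA q) (x : KC) : p x = q x := by
  subst h
  obtain ⟨z, rfl⟩ := hs x
  exact DFunLike.congr_fun (f := p.comp φC) (g := q.comp φC) (KZ.K0sub_hom_ext _ fun F hF => (hp F hF).trans (hq F hF).symm) z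

section Elem

variable {X E : Scheme.{u}} [AlgebraicGeometry.IsNoetherian X] [ConnectedSpace ↥X]
  [AlgebraicGeometry.IsNoetherian E] [ConnectedSpace ↥E]

set_option maxHeartbeats 4000000 in
/-- The class of the section at infinity. -/
theorem section_mul (hXe : KRR.HasEnoughLocFree X)
    {ψ : E ⟶ X} {d : ℕ} {C : X.Modules} (hC : FlatMod.IsFinLocFreeOfRank (d + 1) C) {O1 : E.Modules}
    {q : (Scheme.Modules.pullback ψ).obj C ⟶ O1} (hP : KRR.IsProjBundle ψ C O1 q) (z : X ⟶ E) (hz : z ≫ ψ = 𝟙 X)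
    (hreg : Mor2.IsRegularClosedImmersion z)
    (htriv : Nonempty ((Scheme.Modules.pullback z).obj O1 ≅ Coh.structureModule X))
    {C' : X.Modules} (hC' : FlatMod.IsFinLocFreeOfRank d C')
    {KX : Type (u + 1)} [CommRing KX] [LambdaRing.LambdaOps KX] {PX : LambdaRing.PosStructure KX}
    {φX : SGA6.Kvb X →+ KX} (hX : KRR.IsModel X KX PX φX)
    {KE : Type (u + 1)} [CommRing KE] [LambdaRing.LambdaOps KE] {PE : LambdaRing.PosStructure KE}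
    {φE : SGA6.Kvb E →+ KE} (hE : KRR.IsModel E KE PE φE)
    (hcl : φX (cl C) = φX (cl C') + 1) (gz : KX →+ KE) (hgz : KRR.IsPushCl z φX φE gz)
    (gs : KE →+ KX) (hgs : KRR.IsPull z φE φX gs) (gψ : KX →+ KE) (hgψ : KRR.IsPull ψ φX φE gψ) :
    ∃ u : KE, u * φE (cl O1) = 1 ∧ gs u = 1 ∧ gz 1 = KRR.lamAlt PE (u * gψ (φX (cl C'))) ∧
      (∀ x, gz x = gz 1 * gψ x) ∧ (∀ x y, gz (x * gs y) = gz x * y) ∧ (∀ x, gs (gψ x) = x) ∧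
      ∀ A : X.Modules, FlatMod.IsFinLocFree A → LamAlt2.Bdd PE (u * gψ (φX (cl A))) := by
  classical
  haveI := hreg.1
  obtain ⟨Oinv, hOi, hOO⟩ := H23.PicInv.exists_inverse (PBCores.isInvertible_iff_rank.2 hP.invertible)
  obtain ⟨eOO⟩ := hOO
  obtain ⟨ecomm⟩ := H23.PicMul.comm Oinv O1
  obtain ⟨D, hDO, hDi⟩ := PBBasis.exists_data hP hC Oinv ⟨ecomm ≪≫ eOO⟩
    (KvbModel.lf_of_rank (PBCores.isInvertible_iff_rank.1 hOi))
  subst hDO hDi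
  obtain ⟨es⟩ := htriv
  have hsec := ElemCase.section_class D hXe hC hP hOi hC' hX hE hcl z hz hreg es gz hgz
  have hEe := PBEnough.enough D hXe
  let Rz := KvbPull.ringHom hX hE hgs
  have hsec' : ∀ x, gs (gψ x) = x := pull_section hz hX hgψ hgs
  have hproj : ∀ x y, gz (x * gs y) = gz x * y :=
    KRRPushProp.push_mul_pull z φX hX.bijective φE hEe hreg hE.bijective.2 hX.map_mul hE.map_mul gs hgs gz hgz
  have hmul : ∀ x, gz x = gz 1 * gψ x := fun x => by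
    rw [← hproj, hsec', one_mul]
  have hψC' := LineTwist.rank_pull ψ hC'
  have h2 : φE (cl D.Oinv) * φE (cl D.O1) = 1 := by
    rw [hE.map_mul _ _ D.lfi D.lf1, ← hE.map_one]
    exact congrArg φE (GenPush.cl_iso (ecomm ≪≫ eOO) (lf_tens D.lfi D.lf1) lf_O)
  refine ⟨φE (cl D.Oinv), h2, ?_, ?_, hmul, hproj, hsec', fun A hA => ?_⟩
  · have h1 : gs (φE (cl D.O1)) = 1 := by
      rw [hgs _ D.lf1, ← hX.map_one]
      exact congrArg φX (GenPush.cl_iso es (KvbPull.lf_pull _ D.lf1) lf_O)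
    have h3 := congrArg Rz h2
    rw [map_mul, map_one] at h3
    change gs _ * gs _ = 1 at h3
    rwa [h1, mul_one] at h3
  · rw [hsec, hgψ _ (KvbModel.lf_of_rank hC'), hE.map_mul _ _ D.lfi (KvbModel.lf_of_rank hψC')]
  · rw [hgψ _ hA, hE.map_mul _ _ D.lfi (KvbPull.lf_pull ψ hA)]
    exact LamAlt2.bdd_cl hE (lf_tens D.lfi (KvbPull.lf_pull ψ hA))

end Elem

set_option maxHeartbeats 8000000 in
/-- The excess intersection formula, in large models. -/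
theorem main {X Y X₁ Y₁ : Scheme.{u}} [AlgebraicGeometry.IsNoetherian Y] [ConnectedSpace ↥Y]
    (hYe : KRR.HasEnoughLocFree Y) [AlgebraicGeometry.IsNoetherian Y₁] [ConnectedSpace ↥Y₁]
    (hY₁e : KRR.HasEnoughLocFree Y₁) (f : X ⟶ Y) (hf : Mor2.IsRegularClosedImmersion f) [ConnectedSpace ↥X] {d : ℕ}
    (hC : FlatMod.IsFinLocFreeOfRank d (Omega.conormal f))
    (φ : Y₁ ⟶ Y) (f₁ : X₁ ⟶ Y₁) (g : X₁ ⟶ X) (hsq : IsPullback f₁ g φ f)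
    (hf₁ : Mor2.IsRegularClosedImmersion f₁) [ConnectedSpace ↥X₁] {d₁ : ℕ}
    (hC₁ : FlatMod.IsFinLocFreeOfRank d₁ (Omega.conormal f₁))
    {KX : Type (u + 1)} [CommRing KX] [LambdaRing.LambdaOps KX] {PX : LambdaRing.PosStructure KX}
    {φX : SGA6.Kvb X →+ KX} (hX : KRR.IsModel X KX PX φX)
    {KY : Type (u + 1)} [CommRing KY] [LambdaRing.LambdaOps KY] {PY : LambdaRing.PosStructure KY}
    {φY : SGA6.Kvb Y →+ KY} (hY : KRR.IsModel Y KY PY φY)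
    {KX₁ : Type (u + 1)} [CommRing KX₁] [LambdaRing.LambdaOps KX₁] {PX₁ : LambdaRing.PosStructure KX₁}
    {φX₁ : SGA6.Kvb X₁ →+ KX₁} (hX₁ : KRR.IsModel X₁ KX₁ PX₁ φX₁)
    {KY₁ : Type (u + 1)} [CommRing KY₁] [LambdaRing.LambdaOps KY₁] {PY₁ : LambdaRing.PosStructure KY₁}
    {φY₁ : SGA6.Kvb Y₁ →+ KY₁} (hY₁ : KRR.IsModel Y₁ KY₁ PY₁ φY₁)
    (gφ : KY →+ KY₁) (hgφ : KRR.IsPull φ φY φY₁ gφ) (gψ : KX →+ KX₁) (hgψ : KRR.IsPull g φX φX₁ gψ)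
    (gf : KX →+ KY) (hgf : KRR.IsPushCl f φX φY gf) (gf₁ : KX₁ →+ KY₁) (hgf₁ : KRR.IsPushCl f₁ φX₁ φY₁ gf₁)
    (x : KX) :
    gφ (gf x) = gf₁ (KRR.lamAlt PX₁ (gψ (φX (cl (Omega.conormal f))) - φX₁ (cl (Omega.conormal f₁))) * gψ x) := by
  classical
  haveI := hf.1
  haveI := hf₁.1
  haveI := PushComp.isNoetherian_of_closed f
  haveI := PushComp.isNoetherian_of_closed f₁
  have hXe : KRR.HasEnoughLocFree X := KZ.QuasiProj.enough_closed hYe f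
  have hX₁e : KRR.HasEnoughLocFree X₁ := KZ.QuasiProj.enough_closed hY₁e f₁
  -- the two deformations
  obtain ⟨Λ⟩ := DefCore.exists_Line hYe
  obtain ⟨Λ₁, β, hβ₀, hβ₁⟩ := DefMor.exists_Line_bc hY₁e Λ φ
  obtain ⟨Δ, b, hb, hi0b, havoid, hsqE, hιker, hRmul, ⟨eO⟩⟩ := DefCore.exists_defB hYe Λ f hf hC
  obtain ⟨Δ₁, b₁, hb₁, hi0b₁, havoid₁, hsqE₁, hιker₁, hRmul₁, ⟨eO₁⟩⟩ := DefCore.exists_defB hY₁e Λ₁ f₁ hf₁ hC₁
  haveI := Λ.reg₁.1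
  haveI := Λ₁.reg₁.1
  haveI := Δ.noethM; haveI := Δ.connM; haveI := Δ.noethP; haveI := Δ.connP; haveI := Δ.noethE; haveI := Δ.connE
  haveI := Δ.closed0; haveI := Δ.closedE; haveI := Δ.hF.1; haveI := Δ.hzreg.1
  haveI := Δ₁.noethM; haveI := Δ₁.connM; haveI := Δ₁.noethP; haveI := Δ₁.connP; haveI := Δ₁.noethE; haveI := Δ₁.connE
  haveI := Δ₁.closed0; haveI := Δ₁.closedE; haveI := Δ₁.hF.1; haveI := Δ₁.hzreg.1
  -- the morphism of deformations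
  have hsqc : IsPullback (f₁ ≫ Λ₁.s₁) g β (f ≫ Λ.s₁) := hsq.paste_horiz hβ₁
  have hck : (f₁ ≫ Λ₁.s₁).ker = (f ≫ Λ.s₁).ker.comap β := TorPull.ker_eq hsqc
  obtain ⟨Φ, hΦ, -⟩ := hb.2 Δ₁.M (b₁ ≫ β) (by rw [Scheme.IdealSheafData.comap_comp, ← hck]; exact hb₁.1)
  have hΦ0 : Δ₁.i0 ≫ Φ = φ ≫ Δ.i0 := by
    refine (hb.2 Y₁ (φ ≫ Λ.s₀) ?_).unique ?_ (by rw [Category.assoc, hi0b])
    · rw [Scheme.IdealSheafData.comap_comp, havoid, Scheme.IdealSheafData.comap_top]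
      exact H26.IdealCl.isEffCartier_top
    · rw [Category.assoc, hΦ, ← Category.assoc, hi0b₁, hβ₀]
  have hwE : (Δ₁.ι ≫ Φ) ≫ b = (Δ₁.ψ ≫ g) ≫ (f ≫ Λ.s₁) := by
    rw [Category.assoc, hΦ, ← Category.assoc, hsqE₁.w, Category.assoc, hsqc.w, Category.assoc]
  let ΦE : Δ₁.E ⟶ Δ.E := hsqE.lift (Δ₁.ι ≫ Φ) (Δ₁.ψ ≫ g) hwE
  have hΦEι : ΦE ≫ Δ.ι = Δ₁.ι ≫ Φ := hsqE.lift_fst _ _ _
  have hΦEψ : ΦE ≫ Δ.ψ = Δ₁.ψ ≫ g := hsqE.lift_snd _ _ _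
  have hιΦ : Δ.ι.ker.comap Φ = Δ₁.ι.ker := by
    rw [hιker, hιker₁, ← Scheme.IdealSheafData.comap_comp, hΦ, Scheme.IdealSheafData.comap_comp, ← hck]
  have hRΦ : Δ₁.R = Δ.R.comap Φ := by
    refine ModPairLib.eq_of_mul_eq_mul Δ₁.effE ?_
    rw [hRmul₁, ← hιΦ, ← ModPairLib.ideal_comap_mul, hRmul, ← Scheme.IdealSheafData.comap_comp, hΦ,
      Scheme.IdealSheafData.comap_comp, ← TorPull.ker_eq hβ₁]
  -- models and maps
  obtain ⟨KM, _, _, PM, φM, hM⟩ := KvbModel.exists_isModel (X := Δ.M)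
  obtain ⟨KP, _, _, PP, φP, hP⟩ := KvbModel.exists_isModel (X := Δ.P)
  obtain ⟨KE, _, _, PE, φE, hE⟩ := KvbModel.exists_isModel (X := Δ.E)
  obtain ⟨KM₁, _, _, PM₁, φM₁, hM₁⟩ := KvbModel.exists_isModel (X := Δ₁.M)
  obtain ⟨KP₁, _, _, PP₁, φP₁, hP₁⟩ := KvbModel.exists_isModel (X := Δ₁.P)
  obtain ⟨KE₁, _, _, PE₁, φE₁, hE₁⟩ := KvbModel.exists_isModel (X := Δ₁.E)
  have hEe : KRR.HasEnoughLocFree Δ.E := KZ.QuasiProj.enough_closed Δ.enoughM Δ.ι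
  have hE₁e : KRR.HasEnoughLocFree Δ₁.E := KZ.QuasiProj.enough_closed Δ₁.enoughM Δ₁.ι
  obtain ⟨gF, hgF, -⟩ := KRRPushK.existsUnique_isPushCl Δ.F φP hP.bijective φM Δ.enoughM Δ.hF
  obtain ⟨gF₁, hgF₁, -⟩ := KRRPushK.existsUnique_isPushCl Δ₁.F φP₁ hP₁.bijective φM₁ Δ₁.enoughM Δ₁.hF
  obtain ⟨gp, hgp, -⟩ := PullVB.existsUnique_isPull Δ.pX φP φX hX.bijective
  obtain ⟨gp₁, hgp₁, -⟩ := PullVB.existsUnique_isPull Δ₁.pX φP₁ φX₁ hX₁.bijective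
  obtain ⟨gt0, hgt0, -⟩ := PullVB.existsUnique_isPull Δ.t0 φX φP hP.bijective
  obtain ⟨gt1, hgt1, -⟩ := PullVB.existsUnique_isPull Δ.t1 φX φP hP.bijective
  obtain ⟨gu0, hgu0, -⟩ := PullVB.existsUnique_isPull Δ₁.t0 φX₁ φP₁ hP₁.bijective
  obtain ⟨gu1, hgu1, -⟩ := PullVB.existsUnique_isPull Δ₁.t1 φX₁ φP₁ hP₁.bijective
  obtain ⟨gΦ, hgΦ, -⟩ := PullVB.existsUnique_isPull Φ φM₁ φM hM.bijective
  obtain ⟨gΦE, hgΦE, -⟩ := PullVB.existsUnique_isPull ΦE φE₁ φE hE.bijective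
  obtain ⟨gi, hgi, -⟩ := PullVB.existsUnique_isPull Δ.i0 φY φM hM.bijective
  obtain ⟨gi₁, hgi₁, -⟩ := PullVB.existsUnique_isPull Δ₁.i0 φY₁ φM₁ hM₁.bijective
  obtain ⟨gι, hgι, -⟩ := PullVB.existsUnique_isPull Δ.ι φE φM hM.bijective
  obtain ⟨gι₁, hgι₁, -⟩ := PullVB.existsUnique_isPull Δ₁.ι φE₁ φM₁ hM₁.bijective
  obtain ⟨gz, hgz, -⟩ := KRRPushK.existsUnique_isPushCl Δ.z φX hX.bijective φE hEe Δ.hzreg
  obtain ⟨gz₁, hgz₁, -⟩ := KRRPushK.existsUnique_isPushCl Δ₁.z φX₁ hX₁.bijective φE₁ hE₁e Δ₁.hzreg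
  obtain ⟨gs, hgs, -⟩ := PullVB.existsUnique_isPull Δ.z φX φE hE.bijective
  obtain ⟨gs₁, hgs₁, -⟩ := PullVB.existsUnique_isPull Δ₁.z φX₁ φE₁ hE₁.bijective
  obtain ⟨gψE, hgψE, -⟩ := PullVB.existsUnique_isPull Δ.ψ φE φX hX.bijective
  obtain ⟨gψE₁, hgψE₁, -⟩ := PullVB.existsUnique_isPull Δ₁.ψ φE₁ φX₁ hX₁.bijective
  have hpi : ∀ w, gi (gF w) = gf (gt0 w) := fun w =>
    KRRBC.pull_pushCl Δ.i0 Δ.sq0 Δ.hF hf d Δ.hFd hC hYe Δ.enoughM hP.bijective.2 hgi hgt0 hgF hgf w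
  have hpi₁ : ∀ w, gi₁ (gF₁ w) = gf₁ (gu0 w) := fun w =>
    KRRBC.pull_pushCl Δ₁.i0 Δ₁.sq0 Δ₁.hF hf₁ d₁ Δ₁.hFd hC₁ hY₁e Δ₁.enoughM hP₁.bijective.2 hgi₁ hgu0 hgF₁ hgf₁ w
  have hpι : ∀ w, gι (gF w) = gz (gt1 w) := fun w =>
    KRRBC.pull_pushCl Δ.ι Δ.sqE Δ.hF Δ.hzreg d Δ.hFd Δ.hzd hEe Δ.enoughM hP.bijective.2 hgι hgt1 hgF hgz w
  have hpι₁ : ∀ w, gι₁ (gF₁ w) = gz₁ (gu1 w) := fun w =>
    KRRBC.pull_pushCl Δ₁.ι Δ₁.sqE Δ₁.hF Δ₁.hzreg d₁ Δ₁.hFd Δ₁.hzd hE₁e Δ₁.enoughM hP₁.bijective.2 hgι₁ hgu1 hgF₁ hgz₁ w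
  have ht0 : ∀ w, gt0 (gp w) = w := pull_section Δ.ht0 hX hgp hgt0
  have ht1 : ∀ w, gt1 (gp w) = w := pull_section Δ.ht1 hX hgp hgt1
  have hu0 : ∀ w, gu0 (gp₁ w) = w := pull_section Δ₁.ht0 hX₁ hgp₁ hgu0
  have hu1 : ∀ w, gu1 (gp₁ w) = w := pull_section Δ₁.ht1 hX₁ hgp₁ hgu1
  -- the elementary case
  obtain ⟨u, hu, hus, hu1z, humul, -, -, -⟩ :=
    section_mul hXe Δ.hC Δ.hPE Δ.z Δ.hz Δ.hzreg Δ.trivz hC hX hE (Δ.clC hX) gz hgz gs hgs gψE hgψE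
  obtain ⟨v, hv, hvs, hv1z, hvmul, hvproj, hvsec, hvbdd⟩ :=
    section_mul hX₁e Δ₁.hC Δ₁.hPE Δ₁.z Δ₁.hz Δ₁.hzreg Δ₁.trivz hC₁ hX₁ hE₁ (Δ₁.clC hX₁) gz₁ hgz₁ gs₁ hgs₁ gψE₁ hgψE₁
  obtain ⟨m, hm, hme⟩ := Excess.exists_excess f f₁ φ g hsq hC hC₁ (PX := PX) (PX₁ := PX₁) gψ hgψ
  set e := gψ (φX (cl (Omega.conormal f))) - φX₁ (cl (Omega.conormal f₁)) with he
  let RΦE := KvbPull.ringHom hE₁ hE hgΦE
  let RψE := KvbPull.ringHom hE₁ hX₁ hgψE₁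
  let Rs₁ := KvbPull.ringHom hX₁ hE₁ hgs₁
  have hcomm : ∀ y, gΦE (gψE y) = gψE₁ (gψ y) := fun y =>
    pull_eq hΦEψ hX.bijective.2 (pull_comp ΦE Δ.ψ hgΦE hgψE) (pull_comp Δ₁.ψ g hgψE₁ hgψ) y
  have hΦu : gΦE u = v := by
    have hlf := KvbModel.lf_of_rank (CartierPush.rank_idealMod Δ.effE)
    have hlf₁ := KvbModel.lf_of_rank (CartierPush.rank_idealMod Δ₁.effE)
    obtain ⟨i⟩ := H26.InterDiv.nonempty_pullback_idealMod Φ Δ.ι.ker Δ.effE (hιΦ.symm ▸ Δ₁.effE)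
    have hℓ : gΦE (φE (cl Δ.O1)) = φE₁ (cl Δ₁.O1) := by
      have l := KvbModel.lf_of_rank Δ.hPE.invertible
      rw [hgΦE _ l]
      refine congrArg φE₁ (GenPush.cl_iso ?_ (KvbPull.lf_pull _ l) (KvbModel.lf_of_rank Δ₁.hPE.invertible))
      exact (Scheme.Modules.pullback ΦE).mapIso eO ≪≫ (Scheme.Modules.pullbackComp ΦE Δ.ι).app _ ≪≫
        (Scheme.Modules.pullbackCongr hΦEι).app _ ≪≫ ((Scheme.Modules.pullbackComp Δ₁.ι Φ).app _).symm ≪≫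
        (Scheme.Modules.pullback Δ₁.ι).mapIso (i ≪≫ eqToIso (by rw [hιΦ])) ≪≫ eO₁.symm
    have h1 : gΦE u * φE₁ (cl Δ₁.O1) = 1 := by
      rw [← hℓ]
      show RΦE u * RΦE _ = 1
      rw [← map_mul, hu, map_one]
    calc gΦE u = gΦE u * (v * φE₁ (cl Δ₁.O1)) := by rw [hv, mul_one]
      _ = v * (gΦE u * φE₁ (cl Δ₁.O1)) := by ring
      _ = v := by rw [h1, mul_one]
  have helem : gΦE (gz x) = gz₁ (KRR.lamAlt PX₁ e * gψ x) := by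
    have h1 : gΦE (gz 1) = gz₁ (KRR.lamAlt PX₁ e) := by
      have hsplit : RΦE (u * gψE (φX (cl (Omega.conormal f)))) =
          v * gψE₁ (φX₁ (cl (Omega.conormal f₁))) + v * gψE₁ (φX₁ (cl m)) := by
        rw [map_mul]
        show gΦE u * gΦE (gψE _) = _
        rw [hΦu, hcomm, ← mul_add, ← map_add, hme, he, add_sub_cancel]
      rw [hu1z]
      show RΦE (KRR.lamAlt PE _) = _
      rw [LamAlt2.map_lamAlt (P' := PE₁) (KvbPull.map_lam hE₁ hE hgΦE) (LineTwist.aug_pull hE₁ hE hgΦE), hsplit,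
        LamAlt2.lamAlt_add (hvbdd _ (KvbModel.lf_of_rank hC₁)) (hvbdd _ hm), ← hv1z, ← hvproj, one_mul]
      refine congrArg gz₁ ?_
      show Rs₁ (KRR.lamAlt PE₁ _) = _
      rw [LamAlt2.map_lamAlt (P' := PX₁) (KvbPull.map_lam hX₁ hE₁ hgs₁) (LineTwist.aug_pull hX₁ hE₁ hgs₁), map_mul]
      show KRR.lamAlt PX₁ (gs₁ v * gs₁ (gψE₁ _)) = _
      rw [hvs, hvsec, one_mul, hme]
    rw [humul x]
    show RΦE (_ * _) = _
    rw [map_mul]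
    show gΦE (gz 1) * gΦE (gψE x) = _
    rw [h1, hcomm, hvmul (_ * _), hvmul (KRR.lamAlt PX₁ e)]
    show _ = _ * RψE (_ * _)
    rw [map_mul]
    exact mul_assoc _ _ _
  -- the difference
  set δ := gφ (gf x) - gf₁ (KRR.lamAlt PX₁ e * gψ x) with hδ
  set α := gΦ (gF (gp x)) - gF₁ (gp₁ (KRR.lamAlt PX₁ e * gψ x)) with hα
  have hαi : gi₁ α = δ := by
    rw [hα, map_sub, hpi₁, hu0, hδ]
    refine congrArg (· - _) ?_
    refine (pull_eq hΦ0 hM.bijective.2 (pull_comp Δ₁.i0 Φ hgi₁ hgΦ) (pull_comp φ Δ.i0 hgφ hgi) _).trans ?_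
    show gφ (gi (gF (gp x))) = _
    rw [hpi, ht0]
  have hαι : gι₁ α = 0 := by
    rw [hα, map_sub, hpι₁, hu1, sub_eq_zero]
    refine ((pull_eq hΦEι.symm hM.bijective.2 (pull_comp Δ₁.ι Φ hgι₁ hgΦ) (pull_comp ΦE Δ.ι hgΦE hgι) _).trans ?_).trans helem
    show gΦE (gι (gF (gp x))) = _
    rw [hpι, ht1]
  obtain ⟨g0, hg0, -⟩ := KRRPushK.existsUnique_isPushCl Δ₁.i0 φY₁ hY₁.bijective φM₁ Δ₁.enoughM
    (CartierPush.regular _ Δ₁.eff0).1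
  obtain ⟨gιp, hgιp, -⟩ := KRRPushK.existsUnique_isPushCl Δ₁.ι φE₁ hE₁.bijective φM₁ Δ₁.enoughM
    (CartierPush.regular _ Δ₁.effE).1
  let ιR := Δ₁.R.subschemeι
  haveI : AlgebraicGeometry.IsNoetherian Δ₁.R.subscheme := PushComp.isNoetherian_of_closed ιR
  have hRker : ιR.ker = Δ₁.R := Scheme.IdealSheafData.ker_subschemeι Δ₁.R
  have hReg := (CartierPush.regular ιR (hRker.symm ▸ Δ₁.effR)).1
  obtain ⟨KR, _, _, φR, hR⟩ := DefPre.exists_pre Δ₁.R.subscheme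
  obtain ⟨gR, hgR, -⟩ := PullVB.existsUnique_isPull ιR φR φM₁ hM₁.bijective
  obtain ⟨gRp, hgRp, -⟩ := KRRPushK.existsUnique_isPushCl ιR φR hR.bijective φM₁ Δ₁.enoughM hReg
  have hdisj : Disjoint (Set.range (ιR ≫ Φ).base) (Set.range Δ.F.base) := by
    rw [Set.disjoint_left]
    rintro _ ⟨y, rfl⟩ hy
    refine Set.disjoint_left.1 Δ.disjR ?_ hy
    rw [Scheme.IdealSheafData.range_subschemeι]
    have h : ιR y ∈ (Δ₁.R.support : Set Δ₁.M) := by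
      rw [← Scheme.IdealSheafData.range_subschemeι]
      exact ⟨y, rfl⟩
    have h' := (Set.ext_iff.1 (congrArg (fun I : Δ₁.M.IdealSheafData => (I.support : Set Δ₁.M)) hRΦ) (ιR y)).1 h
    rw [Scheme.IdealSheafData.support_comap] at h'
    exact h' 
  have hαR : gR α = 0 := by
    rw [hα, map_sub, KRRPushProp.pull_push_eq_zero Δ₁.F Δ₁.enoughM Δ₁.hF ιR Δ₁.disjR φP₁
      hP₁.bijective.2 φM₁ φR gR hgR gF₁ hgF₁, sub_zero]
    exact KRRPushProp.pull_push_eq_zero Δ.F Δ.enoughM Δ.hF (ιR ≫ Φ) hdisj φP hP.bijective.2 φM φR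
      (gR.comp gΦ) (pull_comp ιR Φ hgR hgΦ) gF hgF _
  set eE := φM₁ (cl (ClSub.idealMod Δ₁.ι.ker))
  set eR := φM₁ (cl (ClSub.idealMod Δ₁.R))
  have h1 : α * (1 - eE) = 0 := by
    rw [← CartierPush.push_one Δ₁.ι Δ₁.effE Δ₁.enoughM hE₁.bijective hE₁.map_one hM₁.map_one hgιp, mul_comm,
      ← KRRPushProp.push_mul_pull Δ₁.ι φE₁ hE₁.bijective φM₁ Δ₁.enoughM (CartierPush.regular _ Δ₁.effE).1
        hM₁.bijective.2 hE₁.map_mul hM₁.map_mul gι₁ hgι₁ gιp hgιp, hαι, mul_zero, map_zero]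
  have h2 : α * (1 - eR) = 0 := by
    have hp : gRp 1 = 1 - eR := by
      rw [CartierPush.push_one ιR (hRker.symm ▸ Δ₁.effR) Δ₁.enoughM hR.bijective hR.map_one hM₁.map_one hgRp, hRker]
    rw [← hp, mul_comm, ← KRRPushProp.push_mul_pull ιR φR hR.bijective φM₁ Δ₁.enoughM hReg
      hM₁.bijective.2 hR.map_mul hM₁.map_mul gR hgR gRp hgRp, hαR, mul_zero, map_zero]
  have h3 : g0 δ = 0 := by
    have h := KRRPushProp.push_mul_pull Δ₁.i0 φY₁ hY₁.bijective φM₁ Δ₁.enoughM (CartierPush.regular _ Δ₁.eff0).1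
      hM₁.bijective.2 hY₁.map_mul hM₁.map_mul gi₁ hgi₁ g0 hg0 1 α
    rw [one_mul, hαi] at h
    rw [h, CartierPush.push_one Δ₁.i0 Δ₁.eff0 Δ₁.enoughM hY₁.bijective hY₁.map_one hM₁.map_one hg0, Δ₁.clI hM₁,
      CartierPush.cl_mul Δ₁.effE Δ₁.effR hM₁]
    show (1 - eR * eE) * α = 0
    linear_combination h1 + eE * h2
  exact sub_eq_zero.1 (Δ₁.inj hY₁ hM₁.bijective g0 hg0 δ h3)

end Groth.Agent.H28.ExcessCl

end
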