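import Groth.Agent.Lib.AltGlue
import Groth.Agent.InvX.Tensor
import Groth.Agent.KFlatLib.Scheme.TensorStalk
import Groth.Agent.H23.Frame

/-!
Exterior powers of modules on sections, and their top powers on frames (light version of `Lib/TopPower`).
-/

set_option autoImplicit false
set_option linter.style.haveILetI false
set_option linter.unusedSectionVars false
set_option backward.isDefEq.respectTransparency false
set_option backward.isDefEq.respectTransparency.types false
set_option maxHeartbeats 1000000

universe u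

open CategoryTheory CategoryTheory.Limits AlgebraicGeometry TopologicalSpace Opposite
open Groth.Agent Groth.Agent.AModX

noncomputable section

namespace Groth.Agent.H28.ExtBase

variable {X : Scheme.{u}} (M : X.Modules) (m : ℕ)

/-- The exterior power of the sections. -/
abbrev Ext' (V : X.Opens) : Type u := ↥(⋀[Γ(X, V)]^m (M.val.obj (op V)))

/-- A decomposable element. -/
abbrev wedge {V : X.Opens} (e : Fin m → Γ(M, V)) : Ext' M m V :=
  exteriorPower.ιMulti Γ(X, V) m (M := M.val.obj (op V)) e

/-- The restriction on exterior powers of sections. -/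
def resExt {V V' : X.Opens} (i : V' ≤ V) : Ext' M m V →+ Ext' M m V' :=
  letI : Module Γ(X, V) (Ext' M m V') := Module.compHom _ (resR i)
  (exteriorPower.alternatingMapLinearEquiv (R := Γ(X, V)) (M := M.val.obj (op V))
    { toFun := fun e => wedge M m fun k => res M i (e k)
      map_update_add' := fun e k x y => by
        simp only [wedge, AltGlue.res_update, map_add]
        exact (exteriorPower.ιMulti Γ(X, V') m (M := M.val.obj (op V'))).map_update_add _ _ _ _
      map_update_smul' := fun e k c x => by
        simp only [wedge, AltGlue.res_update]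
        rw [show res M i (c • x) = resR i c • res M i x from res_smul i c x]
        exact (exteriorPower.ιMulti Γ(X, V') m (M := M.val.obj (op V'))).map_update_smul _ _ _ _
      map_eq_zero_of_eq' := fun e j k he hjk =>
        (exteriorPower.ιMulti Γ(X, V') m (M := M.val.obj (op V'))).map_eq_zero_of_eq _
          (congrArg (res M i) he) hjk }).toAddMonoidHom

theorem resExt_wedge {V V' : X.Opens} (i : V' ≤ V) (e : Fin m → Γ(M, V)) :
    resExt M m i (wedge M m e) = wedge M m (fun k => res M i (e k)) :=
  letI : Module Γ(X, V) (Ext' M m V') := Module.compHom _ (resR i)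
  exteriorPower.alternatingMapLinearEquiv_apply_ιMulti _ _

theorem resExt_smul {V V' : X.Opens} (i : V' ≤ V) (c : Γ(X, V)) (x : Ext' M m V) :
    resExt M m i (c • x) = resR i c • resExt M m i x :=
  letI : Module Γ(X, V) (Ext' M m V') := Module.compHom _ (resR i)
  (exteriorPower.alternatingMapLinearEquiv (R := Γ(X, V)) (M := M.val.obj (op V)) _).map_smul c x

theorem ext_of_wedge {V : X.Opens} {A : Type u} [AddCommGroup A] {f g : Ext' M m V →+ A}
    (h : ∀ (c : Γ(X, V)) (e : Fin m → Γ(M, V)), f (c • wedge M m e) = g (c • wedge M m e)) : f = g := by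
  refine AddMonoidHom.ext fun x => ?_
  have hx : x ∈ Submodule.span Γ(X, V) (Set.range (exteriorPower.ιMulti Γ(X, V) m (M := M.val.obj (op V)))) := by
    rw [exteriorPower.ιMulti_span]
    trivial
  rw [Submodule.mem_span_set'] at hx
  obtain ⟨n, c, g', rfl⟩ := hx
  simp only [map_sum]
  refine Finset.sum_congr rfl fun j _ => ?_
  obtain ⟨e, he⟩ := (g' j).2
  rw [← he]
  exact h (c j) e

/-- The presheaf of exterior powers of sections. -/
def Fab : X.Opensᵒᵖ ⥤ AddCommGrpCat.{u} where
  obj V := AddCommGrpCat.of (Ext' M m V.unop)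
  map f := AddCommGrpCat.ofHom (resExt M m f.unop.le)
  map_id V := AddCommGrpCat.hom_ext (ext_of_wedge M m fun c e => by
    show resExt M m (le_refl V.unop) (c • wedge M m e) = c • wedge M m e
    rw [resExt_smul, resExt_wedge, resR_self]
    exact congrArg (c • wedge M m ·) (funext fun k => res_self _))
  map_comp f g := AddCommGrpCat.hom_ext (ext_of_wedge M m fun c e => by
    show resExt M m _ (c • wedge M m e) = resExt M m g.unop.le (resExt M m f.unop.le (c • wedge M m e))
    rw [resExt_smul, resExt_smul, resExt_wedge, resExt_smul, resExt_wedge, resExt_wedge, resR_resR]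
    exact congrArg (_ • wedge M m ·) (funext fun k => (res_res _ _ _).symm))

instance instModuleFab (V : X.Opensᵒᵖ) : Module (X.ringCatSheaf.obj.obj V) ((Fab M m).obj V) :=
  inferInstanceAs (Module Γ(X, V.unop) (Ext' M m V.unop))

/-- The exterior power presheaf of modules. -/
def P : CohB1.PMod X :=
  PresheafOfModules.ofPresheaf (R := X.ringCatSheaf.obj) (Fab M m) fun _ _ f r x => resExt_smul M m f.unop.le r x

/-- The exterior power. -/
def L : X.Modules := DCoh.shP.obj (P M m)

/-- The map from exterior powers of sections. -/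
def eta (V : X.Opens) : Ext' M m V →ₗ[Γ(X, V)] Γ(L M m, V) :=
  ((KFlatLib.unitShP (P M m)).app (op V)).hom

theorem eta_res {V V' : X.Opens} (i : V' ≤ V) (x : Ext' M m V) :
    res (L M m) i (eta M m V x) = eta M m V' (resExt M m i x) :=
  (PresheafOfModules.naturality_apply (KFlatLib.unitShP (P M m)) (homOfLE i).op x).symm

/-- The universal alternating maps. -/
def mu (V : X.Opens) : Γ(M, V) [⋀^Fin m]→ₗ[Γ(X, V)] Γ(L M m, V) :=
  (eta M m V).compAlternatingMap (exteriorPower.ιMulti Γ(X, V) m (M := M.val.obj (op V)))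

theorem mu_res (V V' : X.Opens) (i : V' ≤ V) (e : Fin m → Γ(M, V)) :
    res (L M m) i (mu M m V e) = mu M m V' (fun k => res M i (e k)) :=
  (eta_res M m i _).trans (congrArg _ (resExt_wedge M m i e))

theorem lift_eq_eta (V : X.Opens) : AltGlue.lift (mu M m) V = eta M m V :=
  exteriorPower.linearMap_ext (AlternatingMap.ext fun e => AltGlue.lift_ιMulti (mu M m) V e)

variable {M m}

/-- A frame gives a basis on smaller opens. -/
def frameBasis {U : X.Opens} {s : Fin m → Γ(M, U)} (hs : H23.Frame.IsFrame M s) {V : X.Opens} (h : V ≤ U) :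
    Module.Basis (Fin m) Γ(X, V) (M.val.obj (op V)) :=
  Module.Basis.ofEquivFun (LinearEquiv.ofBijective
    (Fintype.linearCombination Γ(X, V) fun k => (res M h (s k) : M.val.obj (op V))) (hs V h)).symm

theorem frameBasis_apply {U : X.Opens} {s : Fin m → Γ(M, U)} (hs : H23.Frame.IsFrame M s) {V : X.Opens}
    (h : V ≤ U) (k : Fin m) : frameBasis hs h k = res M h (s k) := by
  simp only [frameBasis, Module.Basis.coe_ofEquivFun, LinearEquiv.symm_symm, LinearEquiv.ofBijective_apply]
  exact (Fintype.linearCombination_apply_single _ _ _ _).trans (one_smul _ _)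

theorem bijective_smul_wedge {U : X.Opens} {s : Fin m → Γ(M, U)} (hs : H23.Frame.IsFrame M s) {V : X.Opens}
    (h : V ≤ U) : Function.Bijective fun r : Γ(X, V) => r • wedge M m (fun k => res M h (s k)) := by
  refine (congrArg Function.Bijective (funext fun r => ?_)).mp (BigOpen.bijective_smul_topWedge (frameBasis hs h))
  exact congrArg (r • wedge M m ·) (funext fun k => frameBasis_apply hs h k)

theorem eta_injective {U : X.Opens} {s : Fin m → Γ(M, U)} (hs : H23.Frame.IsFrame M s) {V : X.Opens}
    (h : V ≤ U) : Function.Injective (eta M m V) := by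
  refine (injective_iff_map_eq_zero _).2 fun x hx => ?_
  obtain ⟨r, rfl⟩ := (bijective_smul_wedge hs h).2 x
  suffices hr : r = 0 by rw [hr]; exact zero_smul _ _
  refine TopCat.Sheaf.eq_of_locally_eq' X.sheaf (fun p : {W : X.Opens // ∃ hW : W ≤ V, resR hW r = 0} => p.1) V
    (fun p => homOfLE p.2.choose) (fun y hy => ?_) _ _ fun p =>
      p.2.choose_spec.trans (map_zero (resR p.2.choose)).symm
  haveI := KFlatLib.isIso_stalk_unitShP (x := y) (P M m)
  have hinj := (ConcreteCategory.bijective_of_isIso ((KFlatLib.stalkP y).map (KFlatLib.unitShP (P M m)))).1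
  have h0 : KFlatLib.germP (P M m) V hy (r • wedge M m (fun k => res M h (s k)) : Ext' M m V) =
      KFlatLib.germP (P M m) V hy (0 : Ext' M m V) := by
    refine hinj ((KFlatLib.stalkModMap_germ (KFlatLib.unitShP (P M m)) V hy _).trans
      (Eq.trans ?_ (KFlatLib.stalkModMap_germ (KFlatLib.unitShP (P M m)) V hy _).symm))
    exact congrArg _ (hx.trans (map_zero (eta M m V)).symm)
  obtain ⟨W, hyW, i, j, hij⟩ := TopCat.Presheaf.germ_eq (C := AddCommGrpCat.{u}) (Fab M m) y hy hy _ _ h0
  change resExt M m i.le _ = resExt M m j.le 0 at hij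
  rw [map_zero, resExt_smul, resExt_wedge] at hij
  simp only [res_res] at hij
  refine Opens.mem_iSup.2 ⟨⟨W, i.le, ?_⟩, hyW⟩
  refine (bijective_smul_wedge hs (i.le.trans h)).1 ?_
  exact hij.trans (zero_smul _ _).symm

theorem eta_surjective {U : X.Opens} {s : Fin m → Γ(M, U)} (hs : H23.Frame.IsFrame M s) {V : X.Opens}
    (h : V ≤ U) : Function.Surjective (eta M m V) := by
  intro t
  have hloc : ∀ y ∈ V, ∃ (W : X.Opens) (hW : W ≤ V) (r : Γ(X, W)), y ∈ W ∧
      eta M m W (r • wedge M m (fun k => res M (hW.trans h) (s k))) = res (L M m) hW t := by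
    intro y hy
    haveI := KFlatLib.isIso_stalk_unitShP (x := y) (P M m)
    obtain ⟨a, ha⟩ := (ConcreteCategory.bijective_of_isIso ((KFlatLib.stalkP y).map (KFlatLib.unitShP (P M m)))).2
      (KFlatLib.germP (DCoh.toP.obj (L M m)) V hy t)
    obtain ⟨W', hyW', p, rfl⟩ := KFlatLib.exists_germP a
    have ha' := (KFlatLib.stalkModMap_germ (KFlatLib.unitShP (P M m)) W' hyW' p).symm.trans ha
    obtain ⟨W, hyW, i, j, hij⟩ := TopCat.Presheaf.germ_eq (C := AddCommGrpCat.{u}) (L M m).presheaf y hyW' hy _ _ ha'
    change res (L M m) i.le (eta M m W' p) = res (L M m) j.le t at hij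
    obtain ⟨r, hr⟩ := (bijective_smul_wedge hs (j.le.trans h)).2 (resExt M m i.le p)
    refine ⟨W, j.le, r, hyW, ?_⟩
    rw [← hij, eta_res]
    exact congrArg (eta M m W) hr
  choose W hW r hyW hr using hloc
  obtain ⟨c, hc, -⟩ := TopCat.Sheaf.existsUnique_gluing' X.sheaf (fun y : V => W y.1 y.2) V
    (fun y => homOfLE (hW y.1 y.2)) (fun y hy => Opens.mem_iSup.2 ⟨⟨y, hy⟩, hyW y hy⟩)
    (fun y => r y.1 y.2) fun a b => by
      show resR inf_le_left (r a.1 a.2) = resR inf_le_right (r b.1 b.2)
      refine (bijective_smul_wedge hs (inf_le_left.trans ((hW a.1 a.2).trans h))).1 (eta_injective hs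
        (inf_le_left.trans ((hW a.1 a.2).trans h)) ?_)
      have h1 := congrArg (res (L M m) (inf_le_left : W a.1 a.2 ⊓ W b.1 b.2 ≤ W a.1 a.2)) (hr a.1 a.2)
      have h2 := congrArg (res (L M m) (inf_le_right : W a.1 a.2 ⊓ W b.1 b.2 ≤ W b.1 b.2)) (hr b.1 b.2)
      simp only [eta_res, resExt_smul, resExt_wedge, res_res] at h1 h2
      exact h1.trans h2.symm
  refine ⟨c • wedge M m (fun k => res M h (s k)), eq_of_locally _ _ fun y hy => ⟨W y hy, hW y hy, hyW y hy, ?_⟩⟩
  refine (eta_res M m _ _).trans (Eq.trans ?_ (hr y hy))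
  rw [resExt_smul, resExt_wedge]
  simp only [res_res]
  exact congrArg (fun q => eta M m _ (q • wedge M m _)) (hc ⟨y, hy⟩)

theorem bijective_eta {U : X.Opens} {s : Fin m → Γ(M, U)} (hs : H23.Frame.IsFrame M s) {V : X.Opens}
    (h : V ≤ U) : Function.Bijective (eta M m V) :=
  ⟨eta_injective hs h, eta_surjective hs h⟩

theorem isFrame_wedge {U : X.Opens} {s : Fin m → Γ(M, U)} (hs : H23.Frame.IsFrame M s) :
    InvX.IsFrame (mu M m U s) := by
  intro V h
  refine (congrArg Function.Bijective (funext fun r => ?_)).mp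
    ((bijective_eta hs h).comp (bijective_smul_wedge hs h))
  refine ((eta M m V).map_smul r _).trans (congrArg (r • ·) ?_)
  exact (mu_res M m U V h s).symm

end Groth.Agent.H28.ExtBase
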