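import Groth.Agent.H28.FaceHomotopy2

/-! Connectedness of the fibres of the face projection of attractors. -/

universe u

open CategoryTheory CategoryTheory.Limits MonoidalCategory CartesianMonoidalCategory MonObj AlgebraicGeometry
open Opposite Magnet Polynomial

namespace Groth.Agent.H28.FaceConn

variable {S : Scheme.{u}} {M : Type} [AddCommGroup M] [AddGroup.FG M] {X : Over S}
variable {a : MonAct (AMonS S M) X} {N F : AddSubmonoid M}

theorem fibre_connected (hN : N.FG) (hF : IsFace N F) {ZN Z0 : Over S}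
    (eN : (attr a N).RepresentableBy ZN) (e0 : (attr a F).RepresentableBy Z0) (j : ZN ⟶ Z0)
    (hj : ∀ (T : Over S) (z : T ⟶ ZN), e0.homEquiv (z ≫ j) = (attrFace a hF).app (op T) (eN.homEquiv z)) :
    ∃ s : Z0 ⟶ ZN, s ≫ j = 𝟙 Z0 ∧ ∀ (K : Type u) [Field K] (k : Spec (CommRingCat.of K) ⟶ Z0.left),
      ConnectedSpace ↥(Limits.pullback j.left k) := by
  obtain ⟨δ, hnat, h0, h1, -, hr⟩ := FaceHomotopy2.exists_homotopy a hN hF
  have hrm : ∀ (T : Over S) (y : (attr a F).obj (op T)),
      (attrFace a hF).app (op T) ((attrMap a hF.le).app (op T) y) = y := fun T y => by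
    rw [← types_comp_apply ((attrMap a hF.le).app (op T)) ((attrFace a hF).app (op T)), ← NatTrans.comp_app,
      attrMap_comp_attrFace]
    rfl
  let s : Z0 ⟶ ZN := eN.homEquiv.symm ((attrMap a hF.le).app (op Z0) (e0.homEquiv (𝟙 Z0)))
  have hs : ∀ (T : Over S) (y : T ⟶ Z0),
      eN.homEquiv (y ≫ s) = (attrMap a hF.le).app (op T) (e0.homEquiv y) := fun T y => by
    rw [eN.homEquiv_comp, show eN.homEquiv s = _ from Equiv.apply_symm_apply _ _,
      ← NatTrans.naturality_apply, ← e0.homEquiv_comp, Category.comp_id]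
  have hsj : s ≫ j = 𝟙 Z0 := by
    apply e0.homEquiv.injective
    rw [hj, show eN.homEquiv s = _ from Equiv.apply_symm_apply _ _, hrm]
  refine ⟨s, hsj, fun K _ k => ?_⟩
  have hsl : s.left ≫ j.left = 𝟙 Z0.left := congrArg (fun φ : Z0 ⟶ Z0 => φ.left) hsj
  set P := Limits.pullback j.left k with hP
  let p0 : Spec (CommRingCat.of K) ⟶ P := pullback.lift (k ≫ s.left) (𝟙 _) (by
    rw [Category.assoc, hsl, Category.comp_id, Category.id_comp])
  let pt0 : P := p0 (IsLocalRing.closedPoint K)
  suffices hc : ∀ p : P, p ∈ connectedComponent pt0 by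
    rw [connectedSpace_iff_connectedComponent]
    exact ⟨pt0, Set.eq_univ_of_forall hc⟩
  intro p
  let L : CommRingCat.{u} := P.residueField p
  let q : Spec L ⟶ P := P.fromSpecResidueField p
  let T0 : Over S := Over.mk (q ≫ pullback.fst j.left k ≫ ZN.hom)
  let z : T0 ⟶ ZN := Over.homMk (q ≫ pullback.fst j.left k) (Category.assoc _ _ _)
  let A : CommRingCat.{u} := CommRingCat.of (L : Type u)[X]
  let π : Spec A ⟶ Spec L := Spec.map (CommRingCat.ofHom Polynomial.C)
  let T : Over S := Over.mk (π ≫ T0.hom)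
  let t : T ⟶ T0 := Over.homMk π rfl
  let c : Γ(T.left, ⊤) := (Scheme.ΓSpecIso A).inv Polynomial.X
  let h : T ⟶ ZN := eN.homEquiv.symm (δ T ((attr a N).map t.op (eN.homEquiv z)) c)
  have hhj : h ≫ j = t ≫ z ≫ j := by
    apply e0.homEquiv.injective
    rw [hj, show eN.homEquiv h = _ from Equiv.apply_symm_apply _ _, hr, e0.homEquiv_comp t, hj,
      NatTrans.naturality_apply]
  let H : Spec A ⟶ P := pullback.lift h.left (π ≫ q ≫ pullback.snd j.left k) (by
    rw [show h.left ≫ j.left = π ≫ (q ≫ pullback.fst j.left k) ≫ j.left from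
      congrArg (fun φ : T ⟶ Z0 => φ.left) hhj]
    simp only [Category.assoc, pullback.condition])
  -- the endpoints
  have heval : ∀ (l : L), ∃ e : T0 ⟶ T, e.left ≫ π = 𝟙 _ ∧
      e.left.appTop c = (Scheme.ΓSpecIso L).inv l := fun l => by
    let ev : Spec L ⟶ Spec A := Spec.map (CommRingCat.ofHom (Polynomial.evalRingHom l))
    have hev : ev ≫ π = 𝟙 _ := by
      refine (Spec.map_comp (CommRingCat.ofHom (Polynomial.C : L →+* (L : Type u)[X]))
        (CommRingCat.ofHom (Polynomial.evalRingHom l))).symm.trans ?_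
      rw [← Spec.map_id]
      congr 1
      ext x
      exact Polynomial.eval_C
    refine ⟨Over.homMk ev (by show ev ≫ π ≫ _ = _; rw [← Category.assoc, hev, Category.id_comp]),
      hev, ?_⟩
    show (Spec.map (CommRingCat.ofHom (Polynomial.evalRingHom l))).appTop
      ((Scheme.ΓSpecIso (CommRingCat.of (L : Type u)[X])).inv Polynomial.X) = _
    rw [← CommRingCat.comp_apply, ← Scheme.ΓSpecIso_inv_naturality, CommRingCat.comp_apply]
    congr 1
    exact Polynomial.eval_X
  have hend : ∀ (e : T0 ⟶ T), e.left ≫ π = 𝟙 _ → e ≫ t = 𝟙 T0 := fun e he => Over.OverMorphism.ext he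
  have hhe : ∀ (e : T0 ⟶ T), e.left ≫ π = 𝟙 _ →
      eN.homEquiv (e ≫ h) = δ T0 (eN.homEquiv z) (e.left.appTop c) := fun e he => by
    rw [eN.homEquiv_comp, show eN.homEquiv h = _ from Equiv.apply_symm_apply _ _, ← hnat,
      ← Functor.map_comp_apply, ← op_comp, hend e he, op_id, Functor.map_id_apply]
  obtain ⟨e1, he1, hc1⟩ := heval 1
  obtain ⟨e0', he0', hc0⟩ := heval 0
  have heq1 : e1.left ≫ H = q := by
    apply pullback.hom_ext
    · rw [Category.assoc, pullback.lift_fst]
      refine congrArg (fun φ : T0 ⟶ ZN => φ.left) (show e1 ≫ h = z from eN.homEquiv.injective ?_)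
      rw [hhe e1 he1, hc1, map_one, h1]
    · rw [Category.assoc, pullback.lift_snd, ← Category.assoc, he1, Category.id_comp]
  have heq0 : e0'.left ≫ H = (q ≫ pullback.snd j.left k) ≫ p0 := by
    apply pullback.hom_ext
    · rw [Category.assoc, pullback.lift_fst, Category.assoc, pullback.lift_fst]
      refine (congrArg (fun φ : T0 ⟶ ZN => φ.left) (show e0' ≫ h = (z ≫ j) ≫ s from
        eN.homEquiv.injective ?_)).trans ?_
      · rw [hhe e0' he0', hc0, map_zero, h0, hs, hj]
      · show (((q ≫ pullback.fst j.left k) ≫ j.left) ≫ s.left) = _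
        simp only [Category.assoc, pullback.condition_assoc]
    · rw [Category.assoc, pullback.lift_snd, ← Category.assoc, he0', Category.id_comp, Category.assoc,
        pullback.lift_snd, Category.comp_id]
  have hconn : _root_.IsConnected (Set.range H) := isConnected_range H.continuous
  let x0 : Spec L := IsLocalRing.closedPoint L
  have hp : p ∈ Set.range H :=
    ⟨_, (congrArg (fun φ : Spec L ⟶ P => φ x0) heq1).trans (P.fromSpecResidueField_apply p _)⟩
  have hp0 : pt0 ∈ Set.range H := by
    refine ⟨_, (congrArg (fun φ : Spec L ⟶ P => φ x0) heq0).trans ?_⟩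
    exact congrArg p0 (Subsingleton.elim _ _)
  exact hconn.isPreconnected.subset_connectedComponent hp0 hp

theorem connectedComponentsMap_bijective {ZN Z0 : Over S} (j : ZN ⟶ Z0) (s : Z0 ⟶ ZN) (hsj : s ≫ j = 𝟙 Z0)
    (hfib : ∀ (K : Type u) [Field K] (k : Spec (CommRingCat.of K) ⟶ Z0.left),
      ConnectedSpace ↥(Limits.pullback j.left k)) :
    Function.Bijective (Continuous.connectedComponentsMap (Scheme.Hom.continuous j.left)) := by
  have hsl : ∀ y : Z0.left, j.left (s.left y) = y := fun y => by
    rw [← Scheme.Hom.comp_apply, show s.left ≫ j.left = 𝟙 Z0.left from congrArg (fun φ : Z0 ⟶ Z0 => φ.left) hsj]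
    rfl
  have key : ∀ x : ZN.left, connectedComponent x = connectedComponent (s.left (j.left x)) := fun x => by
    let k := Z0.left.fromSpecResidueField (j.left x)
    haveI := hfib _ k
    have hk : ∀ w : Spec (Z0.left.residueField (j.left x)), k w = j.left x :=
      fun w => Z0.left.fromSpecResidueField_apply _ w
    obtain ⟨p, hp, -⟩ := Scheme.Pullback.exists_preimage_pullback (f := j.left) (g := k) x
      (IsLocalRing.closedPoint _) (hk _).symm
    obtain ⟨p', hp', -⟩ := Scheme.Pullback.exists_preimage_pullback (f := j.left) (g := k) (s.left (j.left x))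
      (IsLocalRing.closedPoint _) ((hsl _).trans (hk _).symm)
    exact connectedComponent_eq ((isPreconnected_range (pullback.fst j.left k).continuous).subset_connectedComponent
      ⟨p', hp'⟩ ⟨p, hp⟩) |>.symm
  constructor
  · rintro ⟨x⟩ ⟨y⟩ h
    refine ConnectedComponents.coe_eq_coe.mpr ?_
    rw [key x, key y]
    have h' : connectedComponent (j.left x) = connectedComponent (j.left y) := ConnectedComponents.coe_eq_coe.mp h
    refine connectedComponent_eq ?_
    refine (s.left.continuous.mapsTo_connectedComponent (j.left x)) ?_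
    rw [h']
    exact mem_connectedComponent
  · rintro ⟨y⟩
    exact ⟨ConnectedComponents.mk (s.left y), congrArg ConnectedComponents.mk (hsl y)⟩

end Groth.Agent.H28.FaceConn
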