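import Groth.Prelude.Def_Magnet4
import Mathlib.LinearAlgebra.FreeModule.PID
import Mathlib.GroupTheory.Finiteness
import Mathlib.RingTheory.Finiteness.Basic
import Mathlib.Algebra.Module.Torsion.Basic

/-! An integral functional vanishing exactly on a face of a finitely generated monoid. -/

open Magnet

namespace Groth.Agent.H28.FaceDeg

variable {A : Type*} [AddCommGroup A] [Module.Finite ℤ A]

theorem exists_pos_at (g : A) (hg : ∀ n : ℕ, n • g = 0 → n = 0) : ∃ μ : A →+ ℤ, 0 < μ g := by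
  classical
  let q := Submodule.mkQ (Submodule.torsion ℤ A)
  have hq : q g ≠ 0 := by
    intro h
    obtain ⟨⟨a, ha⟩, hag⟩ := (Submodule.Quotient.mk_eq_zero _).mp h
    have ha0 : a ≠ 0 := nonZeroDivisors.ne_zero ha
    replace hag : a • g = 0 := hag
    rcases Int.natAbs_eq a with h' | h'
    · rw [h', natCast_zsmul] at hag
      exact ha0 (Int.natAbs_eq_zero.mp (hg _ hag))
    · rw [h', neg_smul, natCast_zsmul, neg_eq_zero] at hag
      exact ha0 (Int.natAbs_eq_zero.mp (hg _ hag))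
  haveI : Module.IsTorsionFree ℤ (A ⧸ Submodule.torsion ℤ A) := inferInstance
  haveI : Module.Free ℤ (A ⧸ Submodule.torsion ℤ A) := Module.free_of_finite_type_torsion_free'
  let b := Module.Free.chooseBasis ℤ (A ⧸ Submodule.torsion ℤ A)
  obtain ⟨i, hi⟩ : ∃ i, b.repr (q g) i ≠ 0 := by
    by_contra h
    push Not at h
    exact hq (b.repr.injective (Finsupp.ext fun i => by rw [h i, map_zero, Finsupp.zero_apply]))
  let μ : A →+ ℤ := ((b.coord i).comp q).toAddMonoidHom
  have hμ : μ g = b.repr (q g) i := rfl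
  rcases lt_or_gt_of_ne hi with h | h
  · exact ⟨-μ, by rw [AddMonoidHom.neg_apply, hμ]; omega⟩
  · exact ⟨μ, hμ ▸ h⟩

variable {ι : Type*}

theorem exists_pos (s : Finset ι) : ∀ (v : ι → A),
    (∀ c : ι → ℕ, ∑ i ∈ s, c i • v i = 0 → ∀ i ∈ s, c i = 0) → ∃ ℓ : A →+ ℤ, ∀ i ∈ s, 0 < ℓ (v i) := by
  classical
  induction s using Finset.induction_on with
  | empty => exact fun v _ => ⟨0, by simp⟩
  | @insert a s ha ih =>
    intro v h
    have hs : ∀ c : ι → ℕ, ∑ i ∈ s, c i • v i = 0 → ∀ i ∈ s, c i = 0 := fun c hc i hi => by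
      have := h (Function.update c a 0) (by
        rw [Finset.sum_insert ha, Function.update_self, zero_smul, zero_add, ← hc]
        exact Finset.sum_congr rfl fun j hj => by rw [Function.update_of_ne (fun e : j = a => ha (e ▸ hj))])
        i (Finset.mem_insert_of_mem hi)
      rwa [Function.update_of_ne (fun e : i = a => ha (e ▸ hi))] at this
    obtain ⟨ℓ, hℓ⟩ := ih v hs
    obtain ⟨g, hg⟩ : ∃ g, g = v a := ⟨_, rfl⟩
    suffices hex : ∃ (μ : A →+ ℤ) (e : A →+ ℤ), 0 ≤ μ g ∧ 0 ≤ e g ∧ (0 < μ g ∨ 0 < e g) ∧ ∀ i ∈ s, 0 < μ (v i) by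
      obtain ⟨μ, e, h1, h2, h3, h4⟩ := hex
      let K : ℤ := ∑ i ∈ s, |e (v i)| + 1
      refine ⟨K • μ + e, fun i hi => ?_⟩
      have hK : 0 < K := by positivity
      rw [AddMonoidHom.add_apply, AddMonoidHom.coe_smul, Pi.smul_apply, smul_eq_mul]
      rcases Finset.mem_insert.mp hi with rfl | hi
      · rw [← hg]
        rcases h3 with h3 | h3 <;> nlinarith
      · have h5 : |e (v i)| + 1 ≤ K := by
          simp only [K]
          gcongr
          exact Finset.single_le_sum (f := fun j => |e (v j)|) (fun j _ => abs_nonneg _) hi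
        have := h4 i hi
        have := neg_abs_le (e (v i))
        nlinarith
    rcases lt_trichotomy (ℓ g) 0 with hlt | heq | hgt
    · let w : A →+ A := (-ℓ g) • AddMonoidHom.id A + (zmultiplesHom A g).comp ℓ
      have hw : ∀ x, w x = (-ℓ g) • x + ℓ x • g := fun x => rfl
      obtain ⟨μ, hμ⟩ := ih (fun i => w (v i)) fun c hc i hi => by
        have hm : (0 : ℤ) ≤ -ℓ g := by omega
        obtain ⟨m, hm'⟩ := Int.eq_ofNat_of_zero_le hm
        have := h (fun j => if j = a then (∑ i ∈ s, c i * (ℓ (v i)).toNat) else c j * m) (by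
          rw [Finset.sum_insert ha, if_pos rfl, ← hc, add_comm, Finset.sum_smul, ← hg]
          rw [← Finset.sum_add_distrib]
          refine Finset.sum_congr rfl fun j hj => ?_
          rw [if_neg (fun e : j = a => ha (e ▸ hj)), hw, smul_add, hm', natCast_zsmul, mul_smul, mul_smul]
          congr 1
          rw [← natCast_zsmul g (ℓ (v j)).toNat, Int.toNat_of_nonneg (hℓ j hj).le])
          i (Finset.mem_insert_of_mem hi)
        rw [if_neg (fun e : i = a => ha (e ▸ hi))] at this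
        rcases mul_eq_zero.mp this with h' | h'
        · exact h'
        · omega
      refine ⟨μ.comp w, -ℓ, ?_, ?_, Or.inr ?_, fun i hi => hμ i hi⟩
      · rw [AddMonoidHom.comp_apply, hw, neg_smul, neg_add_cancel, map_zero]
      · rw [AddMonoidHom.neg_apply]; omega
      · rw [AddMonoidHom.neg_apply]; omega
    · have hna : ∀ n : ℕ, n • g = 0 → n = 0 := fun n hn => by
        have := h (Function.update (fun _ => 0) a n) (by
          rw [Finset.sum_insert ha, Function.update_self, ← hg, hn, zero_add]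
          exact Finset.sum_eq_zero fun j hj => by rw [Function.update_of_ne (fun e : j = a => ha (e ▸ hj)), zero_smul])
          a (Finset.mem_insert_self a s)
        rwa [Function.update_self] at this
      obtain ⟨μ, hμ⟩ := exists_pos_at g hna
      exact ⟨ℓ, μ, heq.ge, hμ.le, Or.inr hμ, hℓ⟩
    · exact ⟨ℓ, 0, hgt.le, le_rfl, Or.inl hgt, hℓ⟩

/-- A grading of a finitely generated monoid vanishing exactly on a face. -/
theorem exists_deg {M : Type} [AddCommGroup M] [AddGroup.FG M] {N F : AddSubmonoid M} (hN : N.FG)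
    (hF : IsFace N F) : ∃ d : M →+ ℤ, (∀ x ∈ N, 0 ≤ d x) ∧ ∀ x ∈ N, d x = 0 ↔ x ∈ F := by
  classical
  let H := AddSubgroup.closure (F : Set M)
  have hH : ∀ x ∈ H, ∃ f₁ ∈ F, ∃ f₂ ∈ F, x + f₁ = f₂ := by
    intro x hx
    induction hx using AddSubgroup.closure_induction with
    | mem y hy => exact ⟨0, F.zero_mem, y, hy, add_zero y⟩
    | zero => exact ⟨0, F.zero_mem, 0, F.zero_mem, add_zero 0⟩
    | add y z _ _ hy hz =>
      obtain ⟨a, ha, b, hb, h1⟩ := hy
      obtain ⟨c, hc, d, hd, h2⟩ := hz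
      exact ⟨a + c, F.add_mem ha hc, b + d, F.add_mem hb hd, by rw [← h1, ← h2]; abel⟩
    | neg y _ hy =>
      obtain ⟨a, ha, b, hb, h1⟩ := hy
      exact ⟨b, hb, a, ha, by rw [← h1]; abel⟩
  haveI : Module.Finite ℤ M := Module.Finite.iff_addGroup_fg.mpr inferInstance
  haveI : Module.Finite ℤ (M ⧸ H) :=
    Module.Finite.of_surjective (QuotientAddGroup.mk' H).toIntLinearMap (QuotientAddGroup.mk'_surjective H)
  obtain ⟨s, hs⟩ := hN
  have hsN : ∀ x ∈ s, x ∈ N := fun x hx => hs ▸ AddSubmonoid.subset_closure hx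
  let s' := s.filter (· ∉ F)
  obtain ⟨ℓ, hℓ⟩ := exists_pos s' (fun x => QuotientAddGroup.mk' H x) fun c hc i hi => by
    have hc' : ∑ x ∈ s', c x • x ∈ H := by
      rw [← QuotientAddGroup.eq_zero_iff, ← QuotientAddGroup.mk'_apply, map_sum]
      simpa using hc
    obtain ⟨f₁, h₁, f₂, h₂, he⟩ := hH _ hc'
    have hmem : ∀ x ∈ s', c x • x ∈ N := fun x hx => N.nsmul_mem (hsN x (Finset.mem_filter.mp hx).1) _
    have hsum : ∑ x ∈ s', c x • x ∈ F :=
      (hF.mem_of_add_mem _ (sum_mem hmem) _ (hF.le h₁) (he ▸ h₂)).1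
    rw [← Finset.add_sum_erase _ _ hi] at hsum
    have hiF := (hF.mem_of_add_mem _ (hmem i hi) _ (sum_mem fun x hx => hmem x (Finset.mem_of_mem_erase hx)) hsum).1
    by_contra hne
    obtain ⟨k, hk⟩ := Nat.exists_eq_succ_of_ne_zero hne
    rw [hk, succ_nsmul] at hiF
    have hiN := hsN i (Finset.mem_filter.mp hi).1
    exact (Finset.mem_filter.mp hi).2 (hF.mem_of_add_mem _ (N.nsmul_mem hiN k) _ hiN hiF).2
  let d : M →+ ℤ := ℓ.comp (QuotientAddGroup.mk' H)
  have hdF : ∀ x ∈ F, d x = 0 := fun x hx => by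
    rw [AddMonoidHom.comp_apply, QuotientAddGroup.mk'_apply,
      (QuotientAddGroup.eq_zero_iff x).mpr (AddSubgroup.subset_closure hx), map_zero]
  have key : ∀ x ∈ N, 0 ≤ d x ∧ (d x = 0 → x ∈ F) := by
    intro x hx
    rw [← hs] at hx
    induction hx using AddSubmonoid.closure_induction with
    | mem y hy =>
      by_cases hyF : y ∈ F
      · exact ⟨(hdF y hyF).ge, fun _ => hyF⟩
      · have h1 : 0 < d y := hℓ y (Finset.mem_filter.mpr ⟨hy, hyF⟩)
        exact ⟨h1.le, fun h => absurd h h1.ne'⟩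
    | zero => exact ⟨(map_zero d).ge, fun _ => F.zero_mem⟩
    | add y z _ _ hy hz =>
      rw [map_add]
      exact ⟨add_nonneg hy.1 hz.1, fun h =>
        F.add_mem (hy.2 (by linarith [hy.1, hz.1])) (hz.2 (by linarith [hy.1, hz.1]))⟩
  exact ⟨d, fun x hx => (key x hx).1, fun x hx => ⟨(key x hx).2, hdF x⟩⟩

end Groth.Agent.H28.FaceDeg
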