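import Groth.Agent.H28.FaceThick
import Groth.Agent.H28.StableFace

/-! Equivariant maps out of `A(N) ×_S T` agreeing on the neighbourhoods of a face are equal. -/

universe u

open CategoryTheory CategoryTheory.Limits MonoidalCategory CartesianMonoidalCategory MonObj AlgebraicGeometry
open Opposite Magnet

namespace Groth.Agent.H28.FaceEq

open H23.CharPts H23.AttrComapGrp MagnetAff FacePow FaceThick

variable {S : Scheme.{u}} {M : Type} [AddCommGroup M]

theorem universallyOpen_hom [AddGroup.FG M] : UniversallyOpen (AMonS S M).hom := by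
  haveI : AddMonoid.FG M := AddGroup.fg_iff_addMonoid_fg.mp inferInstance
  haveI : Monoid.FG (Multiplicative M) := inferInstance
  let φ := CommRingCat.ofHom (algebraMap (ULift.{u} ℤ) (MonoidAlgebra (ULift.{u} ℤ) (Multiplicative M)))
  haveI hflat : Flat (AMon (ULift.{u} ℤ) M).hom := by
    show Flat (Spec.map φ)
    rw [HasRingHomProperty.Spec_iff (P := @Flat), CommRingCat.hom_ofHom, RingHom.flat_algebraMap_iff]
    infer_instance
  haveI hfp : LocallyOfFinitePresentation (AMon (ULift.{u} ℤ) M).hom := by
    show LocallyOfFinitePresentation (Spec.map φ)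
    rw [HasRingHomProperty.Spec_iff (P := @LocallyOfFinitePresentation), CommRingCat.hom_ofHom,
      RingHom.finitePresentation_algebraMap]
    haveI : IsNoetherianRing (ULift.{u} ℤ) := isNoetherianRing_of_ringEquiv ℤ ULift.ringEquiv.symm
    show Algebra.FinitePresentation (ULift.{u} ℤ) (MonoidAlgebra (ULift.{u} ℤ) (Multiplicative M))
    exact Algebra.FinitePresentation.of_finiteType.mp inferInstance
  exact inferInstanceAs (UniversallyOpen (Limits.pullback.snd (AMon (ULift.{u} ℤ) M).hom _))

theorem isOpenMap_snd [AddGroup.FG M] (Y : Over S) : IsOpenMap (snd (AMonS S M) Y).left := by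
  haveI := universallyOpen_hom (S := S) (M := M)
  haveI : UniversallyOpen (snd (AMonS S M) Y).left :=
    inferInstanceAs (UniversallyOpen (Limits.pullback.snd (AMonS S M).hom Y.hom))
  exact (snd (AMonS S M) Y).left.isOpenMap

/-- The involution `(g, y) ↦ (g⁻¹, g • y)`. -/
noncomputable def flip' {Y : Over S} (a : MonAct (AMonS S M) Y) : AMonS S M ⊗ Y ⟶ AMonS S M ⊗ Y :=
  lift (fst _ Y ≫ AMonS.map S (-(AddMonoidHom.id M))) a.act

theorem flip'_act {Y : Over S} (a : MonAct (AMonS S M) Y) : flip' a ≫ a.act = snd _ Y := by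
  have h : (fst (AMonS S M) Y ≫ AMonS.map S (-(AddMonoidHom.id M))) * fst (AMonS S M) Y = 1 := by
    refine chi_injective (MonoidHom.ext fun m => ?_)
    rw [chi_mul, chi_map, ← eq_one_of_map_zero (fst (AMonS S M) Y), chi_map, ← map_mul]
    congr 1
    exact Multiplicative.toAdd.injective (neg_add_cancel m.toAdd)
  have h2 := a.lift_mul_act (fst (AMonS S M) Y ≫ AMonS.map S (-(AddMonoidHom.id M))) (fst _ Y) (snd _ Y)
  rw [h, a.lift_one_act, lift_fst_snd, Category.id_comp] at h2
  exact h2.symm

theorem flip'_flip' {Y : Over S} (a : MonAct (AMonS S M) Y) : flip' a ≫ flip' a = 𝟙 _ := by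
  apply CartesianMonoidalCategory.hom_ext
  · simp only [flip', comp_lift, lift_fst, lift_fst_assoc, Category.id_comp, Category.assoc]
    refine chi_injective (MonoidHom.ext fun m => ?_)
    rw [← Category.assoc, chi_map, chi_map]
    congr 1
    exact Multiplicative.toAdd.injective (neg_neg m.toAdd)
  · rw [Category.assoc, Category.id_comp, show flip' a ≫ snd _ _ = a.act from lift_snd _ _]
    exact flip'_act a

theorem isOpenMap_act [AddGroup.FG M] {Y : Over S} (a : MonAct (AMonS S M) Y) : IsOpenMap a.act.left := by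
  have h : a.act.left = (flip' a).left ≫ (snd _ Y).left := by
    rw [← Over.comp_left]
    congr 1
    exact (lift_snd _ _).symm
  haveI : IsIso (flip' a) := ⟨⟨flip' a, flip'_flip' a, flip'_flip' a⟩⟩
  haveI : IsIso (flip' a).left := inferInstanceAs (IsIso ((Over.forget S).map (flip' a)))
  rw [h, Scheme.Hom.comp_base, TopCat.coe_comp]
  exact (isOpenMap_snd Y).comp (flip' a).left.isOpenEmbedding.isOpenMap

/-- The largest open containing a stable locally closed subset as a closed one is stable. -/
theorem coborder_stable [AddGroup.FG M] {Y : Over S} (a : MonAct (AMonS S M) Y) (s : Set Y.left)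
    (hs : a.act.left ⁻¹' s = (snd _ Y).left ⁻¹' s) :
    (snd _ Y).left ⁻¹' coborder s = a.act.left ⁻¹' coborder s := by
  rw [← coborder_preimage (isOpenMap_snd Y) (snd _ Y).left.continuous, ← hs,
    coborder_preimage (isOpenMap_act a) a.act.left.continuous]

variable {N Q : AddSubmonoid M}

theorem eq_of_jk [AddGroup.FG M] (hQ : IsFace N Q) (hN : N.FG) {T : Over S} [IsAffine T.left] {X : Over S}
    {aX : MonAct (AMonS S M) X} (F G : (attr aX N).obj (op T))
    (h : ∀ k, 1 ≤ k → jk N Q T k ≫ F.1 = jk N Q T k ≫ G.1) : F = G := by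
  refine Subtype.ext ?_
  let Y : Over S := AMonS S N ⊗ T
  let act := ((subAct S M N).prod (MonAct.trivial (AMonS S M) T))
  haveI : IsAffineHom (AMonS S N).hom := by
    haveI : IsAffine (AMon (ULift.{u} ℤ) N).left := inferInstanceAs (IsAffine (Spec _))
    exact MorphismProperty.pullback_snd _ _ (isAffineHom_of_isAffine _)
  haveI : IsAffine Y.left := by
    haveI : IsAffineHom (snd (AMonS S N) T).left :=
      inferInstanceAs (IsAffineHom (Limits.pullback.snd (AMonS S N).hom T.hom))
    exact isAffine_of_isAffineHom (snd (AMonS S N) T).left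
  let ii := equalizer.ι F.1.left G.1.left
  let s := Set.range ii
  have hmem : ∀ {V : Over S} (p : V ⟶ Y), p ≫ F.1 = p ≫ G.1 → Set.range p.left ⊆ s := by
    intro V p hp
    rintro _ ⟨v, rfl⟩
    refine ⟨equalizer.lift p.left (congrArg CommaMorphism.left hp) v, ?_⟩
    rw [← Scheme.Hom.comp_apply, equalizer.lift_ι]
  have h1 : ∀ z, (snd _ Y).left z ∈ s → act.act.left z ∈ s := by
    intro z hz
    let V : Over S := Over.mk (Limits.pullback.fst (snd (AMonS S M) Y).left ii ≫ (AMonS S M ⊗ Y).hom)
    let v : V ⟶ AMonS S M ⊗ Y := Over.homMk (Limits.pullback.fst _ _) rfl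
    have hv : v ≫ snd _ Y ≫ F.1 = v ≫ snd _ Y ≫ G.1 := Over.OverMorphism.ext (by
      simp only [v, Over.comp_left, Over.homMk_left, ← Category.assoc]
      rw [pullback.condition, Category.assoc, Category.assoc, equalizer.condition])
    obtain ⟨w, rfl⟩ : z ∈ Set.range v.left := by
      show z ∈ Set.range (Limits.pullback.fst (snd (AMonS S M) Y).left ii)
      rw [Scheme.Pullback.range_fst]
      exact hz
    refine hmem (v ≫ act.act) ?_ ⟨w, rfl⟩
    rw [Category.assoc, Category.assoc, F.2, G.2, ← Category.assoc, ← Category.assoc]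
    congr 1
    apply CartesianMonoidalCategory.hom_ext
    · simp
    · simpa using hv
  have hs : act.act.left ⁻¹' s = (snd _ Y).left ⁻¹' s := by
    refine Set.ext fun z => ⟨fun hz => ?_, h1 z⟩
    have h2 := h1 ((flip' act).left z) (by
      rw [← Scheme.Hom.comp_apply, ← Over.comp_left, show flip' act ≫ snd _ Y = act.act from lift_snd _ _]
      exact hz)
    rwa [← Scheme.Hom.comp_apply, ← Over.comp_left, flip'_act] at h2
  have htop : ii.coborderRange = ⊤ := by
    refine top_le_iff.mp fun z _ => ?_
    let t := (snd (AMonS S N) T).left z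
    let u : StableOpen.fieldPt T t ⟶ T := Over.homMk (T.left.fromSpecResidueField t) rfl
    obtain ⟨y, hy⟩ := StableOpen.exists_preimage (B := AMonS S N) z
    obtain ⟨e, he⟩ := StableFace.exists_face_point (S := S) N
    have hP := StableFace.stablePt N he (StableOpen.fieldPt T t) (T.left.residueField t) (Iso.refl _)
      ((AMonS S N ◁ u).left ⁻¹ᵁ ii.coborderRange) (fun x hx => ?_) (top_le_iff.mp fun x _ => ?_)
    · have : y ∈ (AMonS S N ◁ u).left ⁻¹ᵁ ii.coborderRange := by rw [hP]; trivial
      rw [← hy]
      exact this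
    · show (AMonS S N ◁ u).left (((subAct S M N).prod (MonAct.trivial (AMonS S M) _)).act.left x) ∈ coborder s
      rw [← Scheme.Hom.comp_apply, ← Over.comp_left, MonAct.prod_trivial_act_whiskerLeft, Over.comp_left,
        Scheme.Hom.comp_apply]
      refine (Set.ext_iff.mp (coborder_stable act s hs) _).mp ?_
      show (snd _ Y).left _ ∈ coborder s
      rw [← Scheme.Hom.comp_apply, ← Over.comp_left, whiskerLeft_snd, Over.comp_left, Scheme.Hom.comp_apply]
      exact hx
    · obtain ⟨p, hp⟩ := exists_factor N Q T 1 (lift (toUnit T ≫ e) (𝟙 T)) fun n hn => by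
        rw [lift_fst]
        exact (he T n.toAdd).2 fun hneg => ((Pk_one hQ).mp hn).2
          (hQ.mem_of_add_mem _ n.toAdd.2 _ hneg (by rw [add_neg_cancel]; exact Q.zero_mem)).1
      have hsec : lift (toUnit T ≫ e) (𝟙 T) ≫ F.1 = lift (toUnit T ≫ e) (𝟙 T) ≫ G.1 := by
        rw [← hp, Category.assoc, h 1 le_rfl, Category.assoc]
      refine subset_coborder (hmem _ hsec ⟨u.left x, ?_⟩)
      rw [← Scheme.Hom.comp_apply, ← Scheme.Hom.comp_apply, ← Over.comp_left, ← Over.comp_left]
      refine congrArg (fun q : StableOpen.fieldPt T t ⟶ AMonS S N ⊗ T => q.left x) ?_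
      apply CartesianMonoidalCategory.hom_ext <;> simp
  haveI : IsClosedImmersion ii := IsClosedImmersion.of_isPreimmersion ii (coborder_eq_univ_iff.mp (by
    have := congrArg (fun W : Y.left.Opens => (W : Set Y.left)) htop
    exact this))
  haveI : IsAffine (equalizer F.1.left G.1.left) := isAffine_of_isAffineHom ii
  have hsurj : Function.Surjective ii.appTop := (HasAffineProperty.iff_of_isAffine.mp (inferInstance : IsClosedImmersion ii)).2
  have hinj : Function.Injective ii.appTop := by
    refine (injective_iff_map_eq_zero ii.appTop.hom).mpr fun x hx => ?_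
    obtain ⟨y, rfl⟩ := (theta_iso N T).2.2 x
    rw [eq_of_rk T hQ hN (x := y) (y := 0) fun k hk => ?_, map_zero]
    have hk' := h k hk
    rw [map_zero]
    show (jk N Q T k).left.appTop (theta N T y) = 0
    rw [← equalizer.lift_ι (jk N Q T k).left (congrArg CommaMorphism.left hk'), Scheme.Hom.comp_appTop]
    show (equalizer.lift (jk N Q T k).left (congrArg CommaMorphism.left hk')).appTop (ii.appTop (theta N T y)) = 0
    exact (congrArg _ hx).trans (map_zero _)
  obtain ⟨g, hg⟩ := exists_hom_of_appTop (V := equalizer F.1.left G.1.left)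
    (RingEquiv.ofBijective ii.appTop.hom ⟨hinj, hsurj⟩).symm.toRingHom
  have hg' : g ≫ ii = 𝟙 _ := ext_of_isAffine (CommRingCat.hom_ext (RingHom.ext fun x => by
    refine (hg _).trans ?_
    exact (RingEquiv.ofBijective _ ⟨hinj, hsurj⟩).symm_apply_apply x))
  refine Over.OverMorphism.ext ?_
  rw [← Category.id_comp F.1.left, ← hg', Category.assoc, equalizer.condition, ← Category.assoc, hg', Category.id_comp]

end Groth.Agent.H28.FaceEq
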