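import Groth.Agent.H28.MagnetTheta
import Groth.Agent.H23.AttrComapGrp
import Groth.Agent.MagnetLib.Mono

/-! Membership in an attractor of a scheme affine over the base, read off coordinates. -/

universe u

open CategoryTheory CategoryTheory.Limits MonoidalCategory CartesianMonoidalCategory MonObj AlgebraicGeometry
open Opposite Magnet

namespace Groth.Agent.H28.MagnetAff

open H23.AttrComapGrp

variable {S : Scheme.{u}} {K : Type} [AddCommMonoid K]

theorem co_comp (W : Over S) [IsAffine W.left] {V V' : Over S} (h : AMonS S K ⊗ W ⟶ V) (v : V ⟶ V') :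
    co W (h ≫ v) = (co W h).comp v.left.appTop.hom := by
  rw [co_eq_iff]
  intro x
  rw [RingHom.comp_apply, theta_co]
  rfl

theorem exists_hom_of_appTop {W V : Scheme.{u}} [IsAffine V] (ψ : Γ(V, ⊤) →+* Γ(W, ⊤)) :
    ∃ f : W ⟶ V, ∀ v, f.appTop v = ψ v := by
  refine ⟨W.toSpecΓ ≫ Spec.map (CommRingCat.ofHom ψ) ≫ V.isoSpec.inv, fun v => ?_⟩
  haveI : IsIso V.isoSpec.hom.appTop := inferInstanceAs (IsIso (V.isoSpec.hom.app ⊤))
  have hinv : V.isoSpec.inv.appTop = (Scheme.ΓSpecIso Γ(V, ⊤)).inv ≫ 𝟙 _ := by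
    rw [← cancel_mono V.isoSpec.hom.appTop, ← Scheme.Hom.comp_appTop, Iso.hom_inv_id]
    simp [Scheme.isoSpec_hom, Scheme.toSpecΓ_appTop]
  have h : (W.toSpecΓ ≫ Spec.map (CommRingCat.ofHom ψ) ≫ V.isoSpec.inv).appTop = CommRingCat.ofHom ψ := by
    rw [Scheme.Hom.comp_appTop, Scheme.Hom.comp_appTop, hinv, Category.comp_id, ← Scheme.ΓSpecIso_inv_naturality,
      Category.assoc, Scheme.toSpecΓ_appTop]
    exact (congrArg (_ ≫ ·) (Scheme.ΓSpecIso _).inv_hom_id).trans (Category.comp_id _)
  exact ConcreteCategory.congr_hom h v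

variable {M : Type} [AddCommMonoid M] (N : AddSubmonoid M) {R : Type u} [CommRing R]

/-- `R[N] → R[M]`. -/
noncomputable abbrev inclN (R : Type u) [CommRing R] : MonoidAlgebra R (Multiplicative N) →+* MonoidAlgebra R (Multiplicative M) :=
  MonoidAlgebra.mapDomainRingHom R (AddMonoidHom.toMultiplicative N.subtype)

theorem inclN_injective : Function.Injective (inclN N R) :=
  MonoidAlgebra.mapDomain_injective (fun _ _ h => Multiplicative.toAdd.injective (Subtype.val_injective (congrArg Multiplicative.toAdd h)))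

theorem coeff_inclN (x : MonoidAlgebra R (Multiplicative N)) {m : M} (hm : m ∉ N) :
    (inclN N R x).coeff (Multiplicative.ofAdd m) = 0 := by
  induction x using MonoidAlgebra.induction_linear with
  | zero => simp
  | add a b ha hb => rw [map_add, MonoidAlgebra.coeff_add, Finsupp.add_apply, ha, hb, add_zero]
  | single n r =>
    classical
    rw [MonoidAlgebra.mapDomainRingHom_apply, MonoidAlgebra.mapDomain_single, MonoidAlgebra.coeff_single,
      Finsupp.single_apply, if_neg]
    intro h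
    have h' : (n.toAdd : M) = m := congrArg Multiplicative.toAdd h
    exact hm (h' ▸ n.toAdd.2)

theorem mem_range_inclN {x : MonoidAlgebra R (Multiplicative M)}
    (h : ∀ m ∉ N, x.coeff (Multiplicative.ofAdd m) = 0) : ∃ y, inclN N R y = x := by
  classical
  refine ⟨∑ m ∈ x.coeff.support, if hm : m.toAdd ∈ N then
    MonoidAlgebra.single (Multiplicative.ofAdd (⟨m.toAdd, hm⟩ : N)) (x.coeff m) else 0, ?_⟩
  rw [map_sum]
  conv_rhs => rw [← MonoidAlgebra.sum_coeff_single x]
  refine Finset.sum_congr rfl fun m hm => ?_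
  by_cases hmN : m.toAdd ∈ N
  · rw [dif_pos hmN, MonoidAlgebra.mapDomainRingHom_apply, MonoidAlgebra.mapDomain_single]
    rfl
  · exact absurd (h _ hmN) (Finsupp.mem_support_iff.mp hm)

theorem exists_lift_ringHom {B : Type u} [CommRing B] (g : B →+* MonoidAlgebra R (Multiplicative M))
    (h : ∀ b, ∀ m ∉ N, (g b).coeff (Multiplicative.ofAdd m) = 0) :
    ∃ ψ : B →+* MonoidAlgebra R (Multiplicative N), (inclN N R).comp ψ = g := by
  choose ψ hψ using fun b => mem_range_inclN N (h b)
  exact ⟨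
    { toFun := ψ
      map_one' := inclN_injective N (by rw [hψ, map_one, map_one])
      map_mul' := fun a b => inclN_injective N (by rw [hψ, map_mul, map_mul, hψ, hψ])
      map_zero' := inclN_injective N (by rw [hψ, map_zero, map_zero])
      map_add' := fun a b => inclN_injective N (by rw [hψ, map_add, map_add, hψ, hψ]) }, RingHom.ext hψ⟩

variable {X : Over S} (a : MonAct (AMonS S M) X)

/-- A point lies in the attractor. -/
def InAttr {T : Over S} (x : T ⟶ X) : Prop := ∃ φ : (attr a N).obj (op T), (attrToX a N).app (op T) φ = x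

theorem orbit_of_attr {T : Over S} (φ : (attr a N).obj (op T)) :
    (AMonS.map S N.subtype ▷ T) ≫ φ.1 = (AMonS S M ◁ (attrToX a N).app (op T) φ) ≫ a.act := by
  apply hom_ext_lift₂
  intro T' g t
  rw [lift_whiskerRight_assoc, lift_whiskerLeft_assoc]
  have h1 := (MonAct.mem_eqvHom_iff φ.1).mp φ.2 T' g 1 t
  rw [subAct_point, _root_.mul_one] at h1
  rw [h1]
  congr 2
  show _ = t ≫ lift (toUnit T ≫ η[AMonS S N]) (𝟙 T) ≫ φ.1
  rw [comp_lift_assoc, Category.comp_id, ← Category.assoc t, comp_toUnit, ← Hom.one_def]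

/-- For a separated scheme an extension of the orbit map is automatically equivariant. -/
theorem inAttr_iff [IsSeparated X.hom] {T : Over S} (x : T ⟶ X) :
    InAttr N a x ↔ ∃ φ : AMonS S N ⊗ T ⟶ X, (AMonS.map S N.subtype ▷ T) ≫ φ = (AMonS S M ◁ x) ≫ a.act := by
  constructor
  · rintro ⟨φ, rfl⟩
    exact ⟨φ.1, orbit_of_attr N a φ⟩
  rintro ⟨φ, hφ⟩
  have hφ' : ∀ (W : Over S) (g : W ⟶ AMonS S M) (t : W ⟶ T),
      lift (g ≫ AMonS.map S N.subtype) t ≫ φ = lift g (t ≫ x) ≫ a.act := fun W g t => by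
    rw [← lift_whiskerRight_assoc, hφ, lift_whiskerLeft_assoc]
  have heq : MonAct.IsEquivariant ((subAct S M N).prod (MonAct.trivial (AMonS S M) T)) a φ := by
    rw [MonAct.mem_eqvHom_iff]
    intro W g b t
    let A := AMonS S M
    let B := AMonS S N
    let F : B ⊗ (A ⊗ T) ⟶ X :=
      lift (((snd B (A ⊗ T) ≫ fst A T) ≫ AMonS.map S N.subtype) * fst B (A ⊗ T)) (snd B (A ⊗ T) ≫ snd A T) ≫ φ
    let G : B ⊗ (A ⊗ T) ⟶ X :=
      lift (snd B (A ⊗ T) ≫ fst A T) (lift (fst B (A ⊗ T)) (snd B (A ⊗ T) ≫ snd A T) ≫ φ) ≫ a.act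
    have hFG : F = G := by
      refine MagnetLib.ext_of_AMonS_map N.subtype Subtype.val_injective (A ⊗ T) _ _ ?_
      apply hom_ext_lift₂
      intro W' c w
      simp only [F, G, A, B, Category.assoc, lift_whiskerRight_assoc, comp_lift_assoc, MonObj.comp_mul,
        lift_fst_assoc, lift_snd_assoc, lift_fst]
      rw [← Category.assoc w (fst _ _), ← MonObj.mul_comp, hφ', hφ', MonAct.lift_mul_act]
    have h2 := congrArg (lift b (lift g t) ≫ ·) hFG
    simp only [F, G, A, B, Category.assoc, comp_lift_assoc, MonObj.comp_mul, lift_fst_assoc, lift_snd_assoc,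
      lift_fst, lift_snd] at h2
    rw [subAct_point]
    exact h2
  refine ⟨⟨φ, heq⟩, ?_⟩
  show lift (toUnit T ≫ η[AMonS S N]) (𝟙 T) ≫ φ = x
  have h1 : (1 : T ⟶ AMonS S M) ≫ AMonS.map S N.subtype = 1 := MonObj.one_comp _
  rw [← Hom.one_def, ← h1, hφ', MonAct.lift_one_act, Category.id_comp]

theorem InAttr.comp {T T' : Over S} {x : T ⟶ X} (h : InAttr N a x) (t : T' ⟶ T) : InAttr N a (t ≫ x) := by
  obtain ⟨φ, rfl⟩ := h
  exact ⟨(attr a N).map t.op φ, ConcreteCategory.congr_hom ((attrToX a N).naturality t.op) φ⟩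

variable (U : Over S) [IsAffine U.left] (j0 : U ⟶ X)

/-- The action in graph form. -/
noncomputable abbrev sigma : AMonS S M ⊗ U ⟶ X ⊗ U := lift ((AMonS S M ◁ j0) ≫ a.act) (snd _ _)

/-- Its coordinates. -/
noncomputable abbrev delta : RR (X ⊗ U) →+* MonoidAlgebra (RR U) (Multiplicative M) := co U (sigma a U j0)

variable [IsAffineHom X.hom]

theorem isAffine_graph : IsAffine (X ⊗ U).left := by
  haveI : IsAffineHom (snd X U).left := inferInstanceAs (IsAffineHom (pullback.snd X.hom U.hom))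
  exact isAffine_of_isAffineHom (snd X U).left

theorem inAttr_comp_iff {T : Over S} [IsAffine T.left] (t : T ⟶ U) :
    InAttr N a (t ≫ j0) ↔
      ∀ b, ∀ m ∉ N, t.left.appTop ((delta a U j0 b).coeff (Multiplicative.ofAdd m)) = 0 := by
  haveI := isAffine_graph U (X := X)
  haveI : IsSeparated X.hom := inferInstance
  have hco : co T ((AMonS S M ◁ t) ≫ sigma a U j0) =
      (MonoidAlgebra.mapRingHom (Multiplicative M) t.left.appTop.hom).comp (delta a U j0) := co_whisker U t _
  have hcoeff : ∀ b m, (co T ((AMonS S M ◁ t) ≫ sigma a U j0) b).coeff m = t.left.appTop ((delta a U j0 b).coeff m) := by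
    intro b m
    rw [hco, RingHom.comp_apply, MonoidAlgebra.coeff_mapRingHom]
  have hsig : (AMonS S M ◁ t) ≫ sigma a U j0 = lift ((AMonS S M ◁ (t ≫ j0)) ≫ a.act) (snd _ _ ≫ t) := by
    rw [comp_lift, ← MonoidalCategory.whiskerLeft_comp_assoc, whiskerLeft_snd]
  rw [inAttr_iff]
  constructor
  · rintro ⟨φ, hφ⟩ b m hm
    have h1 : (AMonS S M ◁ t) ≫ sigma a U j0 = (AMonS.map S N.subtype ▷ T) ≫ lift φ (snd _ _ ≫ t) := by
      rw [hsig, comp_lift, hφ, whiskerRight_snd_assoc]
    rw [← hcoeff, h1, co_map, RingHom.comp_apply]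
    exact coeff_inclN N _ hm
  · intro h
    obtain ⟨ψ, hψ⟩ := exists_lift_ringHom N (co T ((AMonS S M ◁ t) ≫ sigma a U j0))
      (fun b m hm => (hcoeff b _).trans (h b m hm))
    obtain ⟨f, hf⟩ := exists_hom_of_appTop ((theta N T).comp ψ)
    have hsnd : f ≫ (snd X U).left = (snd _ T ≫ t).left := by
      refine ext_of_isAffine (CommRingCat.hom_ext (RingHom.ext fun r => ?_))
      rw [Scheme.Hom.comp_appTop]
      refine (hf _).trans ?_
      have h1 : ψ ((snd X U).left.appTop r) = MonoidAlgebra.single 1 (t.left.appTop r) := by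
        refine inclN_injective N ?_
        refine (RingHom.congr_fun hψ _).trans ?_
        have h2 : co T ((AMonS S M ◁ t) ≫ sigma a U j0) ((snd X U).left.appTop r) = co T (snd _ T ≫ t) r := by
          rw [show snd _ T ≫ t = ((AMonS S M ◁ t) ≫ sigma a U j0) ≫ snd X U from by rw [hsig, lift_snd],
            co_comp T ((AMonS S M ◁ t) ≫ sigma a U j0) (snd X U)]
          rfl
        rw [h2, co_snd, MonoidAlgebra.mapDomainRingHom_apply, MonoidAlgebra.mapDomain_single, map_one]
      rw [RingHom.comp_apply]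
      refine (congrArg (theta N T) h1).trans ?_
      rw [theta_single, map_one, _root_.mul_one]
      rfl
    let φ' : AMonS S N ⊗ T ⟶ X ⊗ U := Over.homMk f (by
      rw [← Over.w (snd X U), ← Category.assoc, hsnd, Over.w (snd _ T ≫ t)])
    refine ⟨φ' ≫ fst X U, ?_⟩
    have h1 : (AMonS.map S N.subtype ▷ T) ≫ φ' = (AMonS S M ◁ t) ≫ sigma a U j0 := by
      refine Over.OverMorphism.ext (ext_of_isAffine (CommRingCat.hom_ext (RingHom.ext fun b => ?_)))
      rw [← theta_co T ((AMonS S M ◁ t) ≫ sigma a U j0) b, ← hψ, RingHom.comp_apply, ← RingHom.comp_apply (theta M T),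
        ← theta_map, RingHom.comp_apply]
      show (AMonS.map S N.subtype ▷ T).left.appTop (f.appTop b) = _
      rw [hf]
      rfl
    rw [reassoc_of% h1, ← Category.assoc, hsig, lift_fst]

end Groth.Agent.H28.MagnetAff
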