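import Groth.Agent.H23.CharPts

/-! Functions on `A(K)_S ×_S W` for affine `W`: the monoid algebra `Γ(W)[K]`, naturally in `K` and `W`. -/

universe u

open CategoryTheory CategoryTheory.Limits MonoidalCategory CartesianMonoidalCategory MonObj AlgebraicGeometry
open Opposite Magnet

namespace Groth.Agent.H28.MagnetAff

open H23.CharPts

variable {S : Scheme.{u}} {K K' : Type} [AddCommMonoid K] [AddCommMonoid K'] (W : Over S) {W' : Over S}

/-- Functions on `W`. -/
abbrev RR : Type u := Γ(W.left, ⊤)

variable (K) in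
/-- The canonical map from the monoid algebra. -/
@[irreducible] noncomputable def theta : MonoidAlgebra (RR W) (Multiplicative K) →+* Γ((AMonS S K ⊗ W).left, ⊤) :=
  MonoidAlgebra.liftNCRingHom (snd (AMonS S K) W).left.appTop.hom (chi (fst (AMonS S K) W))
    (fun _ _ => Commute.all _ _)

theorem theta_single (m : Multiplicative K) (r : RR W) :
    theta K W (MonoidAlgebra.single m r) =
      (snd (AMonS S K) W).left.appTop.hom r * chi (fst (AMonS S K) W) m := by
  unfold theta
  exact MonoidAlgebra.liftNC_single _ _ _ _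

theorem theta_map (f : K' →+ K) :
    (AMonS.map S f ▷ W).left.appTop.hom.comp (theta K' W) =
      (theta K W).comp (MonoidAlgebra.mapDomainRingHom (RR W) (AddMonoidHom.toMultiplicative f)) := by
  refine MonoidAlgebra.ringHom_ext (fun r => ?_) (fun m => ?_)
  · rw [RingHom.comp_apply, RingHom.comp_apply, MonoidAlgebra.mapDomainRingHom_apply, MonoidAlgebra.mapDomain_single,
      theta_single, theta_single, map_one, map_one, map_one, _root_.mul_one, _root_.mul_one]
    show ((AMonS.map S f ▷ W) ≫ snd _ _).left.appTop r = _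
    rw [whiskerRight_snd]
  · rw [RingHom.comp_apply, RingHom.comp_apply, MonoidAlgebra.mapDomainRingHom_apply, MonoidAlgebra.mapDomain_single,
      theta_single, theta_single, map_one, map_one, _root_.one_mul, _root_.one_mul]
    erw [← chi_comp (AMonS.map S f ▷ W) (fst _ W)]
    rw [whiskerRight_fst, chi_map]

theorem theta_whisker (u : W' ⟶ W) :
    (AMonS S K ◁ u).left.appTop.hom.comp (theta K W) =
      (theta K W').comp (MonoidAlgebra.mapRingHom _ u.left.appTop.hom) := by
  refine MonoidAlgebra.ringHom_ext (fun r => ?_) (fun m => ?_)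
  · rw [RingHom.comp_apply, RingHom.comp_apply, MonoidAlgebra.mapRingHom_single,
      theta_single, theta_single, map_one, map_one, _root_.mul_one, _root_.mul_one]
    show ((AMonS S K ◁ u) ≫ snd _ _).left.appTop r = _
    rw [whiskerLeft_snd]
    rfl
  · rw [RingHom.comp_apply, RingHom.comp_apply, MonoidAlgebra.mapRingHom_single,
      theta_single, theta_single, map_one, map_one, map_one, _root_.one_mul, _root_.one_mul]
    erw [← chi_comp (AMonS S K ◁ u) (fst _ W)]
    rw [whiskerLeft_fst]

variable [IsAffine W.left]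

variable (K) in
theorem theta_iso :
    IsAffine (AMonS S K ⊗ W).left ∧ Function.Bijective (theta K W) := by
  let B := CommRingCat.of (MonoidAlgebra (RR W) (Multiplicative K))
  let p : Spec B ⟶ W.left :=
    Spec.map (CommRingCat.ofHom (MonoidAlgebra.singleOneRingHom : RR W →+* B)) ≫ W.left.isoSpec.inv
  let V : Over S := Over.mk (p ≫ W.hom)
  let pW : V ⟶ W := Over.homMk p rfl
  obtain ⟨z, hz⟩ := exists_chi_eq (S := S) (T := V) (M := K)
    ((Scheme.ΓSpecIso B).inv.hom.toMonoidHom.comp (MonoidAlgebra.of _ _))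
  let ω : V ⟶ AMonS S K ⊗ W := lift z pW
  let u : (AMonS S K ⊗ W).left ⟶ Spec B :=
    (AMonS S K ⊗ W).left.toSpecΓ ≫ Spec.map (CommRingCat.ofHom (theta K W))
  have hu : ∀ b, u.appTop ((Scheme.ΓSpecIso B).inv b) = theta K W b := fun b => by
    have h1 : (Scheme.ΓSpecIso B).inv ≫ u.appTop = CommRingCat.ofHom (theta K W) := by
      simp only [u, Scheme.Hom.comp_appTop]
      rw [← Category.assoc, ← Scheme.ΓSpecIso_inv_naturality, Category.assoc, Scheme.toSpecΓ_appTop]
      exact (congrArg (_ ≫ ·) (Scheme.ΓSpecIso _).inv_hom_id).trans (Category.comp_id _)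
    exact ConcreteCategory.congr_hom h1 b
  have hp : ∀ r : RR W, p.appTop r = (Scheme.ΓSpecIso B).inv (MonoidAlgebra.single 1 r) := fun r => by
    have h1 : p.appTop = CommRingCat.ofHom (MonoidAlgebra.singleOneRingHom : RR W →+* B) ≫ (Scheme.ΓSpecIso B).inv := by
      simp only [p, Scheme.Hom.comp_appTop]
      haveI : IsIso W.left.isoSpec.hom.appTop := inferInstanceAs (IsIso (W.left.isoSpec.hom.app ⊤))
      have hinv : W.left.isoSpec.inv.appTop = (Scheme.ΓSpecIso Γ(W.left, ⊤)).inv ≫ 𝟙 _ := by
        rw [← cancel_mono W.left.isoSpec.hom.appTop, ← Scheme.Hom.comp_appTop, Iso.hom_inv_id]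
        simp [Scheme.isoSpec_hom, Scheme.toSpecΓ_appTop]
      rw [hinv, Category.comp_id, ← Scheme.ΓSpecIso_inv_naturality]
    exact ConcreteCategory.congr_hom h1 r
  have h2 : u ≫ p = (snd (AMonS S K) W).left := by
    refine ext_of_isAffine (CommRingCat.hom_ext (RingHom.ext fun r => ?_))
    rw [Scheme.Hom.comp_appTop]
    show u.appTop (p.appTop r) = _
    rw [hp, hu, theta_single, map_one, _root_.mul_one]
  let u' : AMonS S K ⊗ W ⟶ V := Over.homMk u (by
    show u ≫ p ≫ W.hom = _
    rw [← Category.assoc, h2]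
    exact Over.w _)
  have hfst : u' ≫ z = fst (AMonS S K) W := by
    refine chi_injective (MonoidHom.ext fun m => ?_)
    rw [chi_comp, hz]
    show u.appTop ((Scheme.ΓSpecIso B).inv (MonoidAlgebra.single m 1)) = _
    rw [hu, theta_single, map_one, _root_.one_mul]
  have e1 : u' ≫ ω = 𝟙 _ := by
    apply CartesianMonoidalCategory.hom_ext
    · rw [Category.assoc, lift_fst, hfst, Category.id_comp]
    · rw [Category.assoc, lift_snd, Category.id_comp]
      exact Over.OverMorphism.ext h2
  have e2 : ω.left ≫ u = 𝟙 _ := by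
    refine ext_of_isAffine (CommRingCat.hom_ext ?_)
    rw [Scheme.Hom.comp_appTop, Scheme.Hom.id_appTop]
    have hB : Function.Surjective ((Scheme.ΓSpecIso B).inv.hom) :=
      (ConcreteCategory.bijective_of_isIso (Scheme.ΓSpecIso B).inv).2
    apply RingHom.ext fun c => ?_
    obtain ⟨b, rfl⟩ := hB c
    show ω.left.appTop (u.appTop ((Scheme.ΓSpecIso B).inv b)) = (Scheme.ΓSpecIso B).inv b
    rw [hu]
    refine RingHom.congr_fun (?_ : ω.left.appTop.hom.comp (theta K W) = (Scheme.ΓSpecIso B).inv.hom) b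
    refine MonoidAlgebra.ringHom_ext (fun r => ?_) (fun m => ?_)
    · rw [RingHom.comp_apply, theta_single, map_one, _root_.mul_one]
      show (ω ≫ snd _ _).left.appTop r = _
      rw [lift_snd]
      exact hp r
    · rw [RingHom.comp_apply, theta_single, map_one, _root_.one_mul]
      erw [← chi_comp ω (fst _ W)]
      rw [lift_fst, hz]
      rfl
  let e : (AMonS S K ⊗ W).left ≅ Spec B := ⟨u, ω.left, congrArg Over.Hom.left e1, e2⟩
  haveI : IsIso u := e.isIso_hom
  haveI : IsIso u.appTop := inferInstanceAs (IsIso (u.app ⊤))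
  refine ⟨IsAffine.of_isIso u, ?_⟩
  have h : (theta K W : MonoidAlgebra (RR W) (Multiplicative K) → _) = u.appTop ∘ (Scheme.ΓSpecIso B).inv :=
    funext fun b => (hu b).symm
  rw [h]
  exact (ConcreteCategory.bijective_of_isIso u.appTop).comp (ConcreteCategory.bijective_of_isIso _)

instance : IsAffine (AMonS S K ⊗ W).left := (theta_iso K W).1

/-- `theta` as an equivalence. -/
noncomputable def thetaEquiv (K : Type) [AddCommMonoid K] :
    MonoidAlgebra (RR W) (Multiplicative K) ≃+* Γ((AMonS S K ⊗ W).left, ⊤) :=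
  RingEquiv.ofBijective (theta K W) (theta_iso K W).2

/-- Coordinates of a morphism out of `A(K) ×_S W`. -/
@[irreducible] noncomputable def co {V : Over S} (h : AMonS S K ⊗ W ⟶ V) :
    RR V →+* MonoidAlgebra (RR W) (Multiplicative K) :=
  (thetaEquiv W K).symm.toRingHom.comp h.left.appTop.hom

theorem theta_co {V : Over S} (h : AMonS S K ⊗ W ⟶ V) (v : RR V) : theta K W (co W h v) = h.left.appTop v := by
  unfold co
  exact (thetaEquiv W K).apply_symm_apply _

theorem co_eq_iff {V : Over S} (h : AMonS S K ⊗ W ⟶ V) (φ : RR V →+* MonoidAlgebra (RR W) (Multiplicative K)) :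
    co W h = φ ↔ ∀ v, theta K W (φ v) = h.left.appTop v :=
  ⟨fun e v => e ▸ theta_co W h v, fun e => RingHom.ext fun v => (theta_iso K W).2.1 ((theta_co W h v).trans (e v).symm)⟩

theorem co_map {V : Over S} (f : K' →+ K) (h : AMonS S K' ⊗ W ⟶ V) :
    co W ((AMonS.map S f ▷ W) ≫ h) =
      (MonoidAlgebra.mapDomainRingHom (RR W) (AddMonoidHom.toMultiplicative f)).comp (co W h) := by
  rw [co_eq_iff]
  intro v
  rw [RingHom.comp_apply, ← RingHom.comp_apply (theta K W), ← theta_map, RingHom.comp_apply, theta_co]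
  rfl

theorem co_whisker {V : Over S} [IsAffine W'.left] (u : W' ⟶ W) (h : AMonS S K ⊗ W ⟶ V) :
    co W' ((AMonS S K ◁ u) ≫ h) = ((MonoidAlgebra.mapRingHom (Multiplicative K) u.left.appTop.hom).comp (co W h) : RR V →+* MonoidAlgebra (RR W') (Multiplicative K)) := by
  rw [co_eq_iff]
  intro v
  rw [RingHom.comp_apply, ← RingHom.comp_apply (theta K W'), ← theta_whisker, RingHom.comp_apply, theta_co]
  rfl

theorem co_snd {V : Over S} (t : W ⟶ V) (v : RR V) :
    co W (snd (AMonS S K) W ≫ t) v = MonoidAlgebra.single 1 (t.left.appTop v) := by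
  refine (theta_iso K W).2.1 ?_
  rw [theta_co, theta_single, map_one, _root_.mul_one]
  rfl

end Groth.Agent.H28.MagnetAff
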