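import Groth.Agent.H28.FacePow
import Groth.Agent.H28.MagnetTheta
import Groth.Agent.H28.MagnetCrit
import Groth.Agent.MorLib.FormallyEtaleHom

/-! Infinitesimal neighbourhoods of `A(Q) ×_S T` in `A(N) ×_S T` for a face `Q`. -/

universe u

open CategoryTheory CategoryTheory.Limits MonoidalCategory CartesianMonoidalCategory MonObj AlgebraicGeometry
open Opposite Magnet

namespace Groth.Agent.H28.FaceThick

open H23.CharPts MagnetAff FacePow

/-- Unique lifts along square-zero thickenings of affine schemes. -/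
theorem existsUnique_lift {W₀ W X Y : Scheme.{u}} [IsAffine W₀] [IsAffine W] (t : W₀ ⟶ W)
    (hsurj : Function.Surjective t.appTop.hom) (hsq : RingHom.ker t.appTop.hom ^ 2 = ⊥) (f : X ⟶ Y)
    (hf : MoreMor.IsFormallyEtaleHom f) (a : W₀ ⟶ X) (b : W ⟶ Y) (w : t ≫ b = a ≫ f) :
    ∃! l : W ⟶ X, t ≫ l = a ∧ l ≫ f = b := by
  let A := Γ(W, ⊤)
  let I : Ideal A := RingHom.ker t.appTop.hom
  let ψ : CommRingCat.of (A ⧸ I) ⟶ Γ(W₀, ⊤) := (RingHom.quotientKerEquivOfSurjective hsurj).toCommRingCatIso.hom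
  have hψ : CommRingCat.ofHom (Ideal.Quotient.mk I) ≫ ψ = t.appTop := by
    ext x
    exact RingHom.quotientKerEquivOfSurjective_apply_mk hsurj x
  let e' : Spec (CommRingCat.of A) ≅ W := W.isoSpec.symm
  let e : Spec (CommRingCat.of (A ⧸ I)) ≅ W₀ := (asIso (Spec.map ψ)).symm ≪≫ W₀.isoSpec.symm
  have he : e.hom ≫ t = Spec.map (CommRingCat.ofHom (Ideal.Quotient.mk I)) ≫ e'.hom := by
    simp only [e, e', Iso.trans_hom, Iso.symm_hom, asIso_inv, Category.assoc, IsIso.inv_comp_eq]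
    rw [← Scheme.isoSpec_inv_naturality, ← hψ, Spec.map_comp_assoc]
  obtain ⟨l, ⟨hl1, hl2⟩, hl⟩ := hf A I hsq (e.hom ≫ a) (e'.hom ≫ b)
    (by rw [← reassoc_of% he, w, Category.assoc])
  refine ⟨e'.inv ≫ l, ⟨?_, ?_⟩, fun m ⟨hm1, hm2⟩ => ?_⟩
  · rw [← cancel_epi e.hom, reassoc_of% he, e'.hom_inv_id_assoc, hl1]
  · rw [Category.assoc, hl2, e'.inv_hom_id_assoc]
  · have := hl (e'.hom ≫ m) ⟨by rw [← reassoc_of% he, hm1], by rw [Category.assoc, hm2]⟩
    rw [← this, e'.inv_hom_id_assoc]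

variable {S : Scheme.{u}} {M : Type} [AddCommGroup M] (N Q : AddSubmonoid M)

theorem ringMap_face {hQ : IsFace N Q} {W : Over S} (x : W ⟶ AMonS S Q) :
    ringMap (x ≫ AMonS.faceMap S hQ) =
      CommRingCat.ofHom (faceAlgHom (ULift.{u} ℤ) hQ).toRingHom ≫ ringMap x := by
  have h : toSp (x ≫ AMonS.faceMap S hQ) = toSp x ≫ (AMon.faceMap (ULift.{u} ℤ) hQ).left :=
    (Category.assoc _ _ _).trans ((congrArg (x.left ≫ ·) (pullback.lift_fst _ _ _)).trans (Category.assoc _ _ _).symm)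
  rw [ringMap, ringMap, h]
  refine (congrArg (_ ≫ ·) (Scheme.Hom.comp_appTop _ _)).trans ((Category.assoc _ _ _).symm.trans ?_)
  refine (congrArg (· ≫ (toSp x).appTop) ?_).trans (Category.assoc _ _ _)
  exact (Scheme.ΓSpecIso_inv_naturality _).symm

theorem chi_face_mem {hQ : IsFace N Q} {W : Over S} (x : W ⟶ AMonS S Q) (n : N) (hn : (n : M) ∈ Q) :
    chi (x ≫ AMonS.faceMap S hQ) (Multiplicative.ofAdd n) = chi x (Multiplicative.ofAdd (⟨n, hn⟩ : Q)) := by
  rw [chi_apply, chi_apply, ringMap_face]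
  show (ringMap x).hom (faceAlgHom (ULift.{u} ℤ) hQ (MonoidAlgebra.single _ 1)) = _
  rw [faceAlgHom_single_of_mem _ hQ n hn]

theorem chi_face_notMem {hQ : IsFace N Q} {W : Over S} (x : W ⟶ AMonS S Q) (n : N) (hn : (n : M) ∉ Q) :
    chi (x ≫ AMonS.faceMap S hQ) (Multiplicative.ofAdd n) = 0 := by
  rw [chi_apply, ringMap_face]
  show (ringMap x).hom (faceAlgHom (ULift.{u} ℤ) hQ (MonoidAlgebra.single _ 1)) = _
  rw [faceAlgHom_single_of_not_mem _ hQ n hn, map_zero]

variable (T : Over S) [IsAffine T.left] (k : ℕ)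

/-- The ring of the neighbourhood. -/
noncomputable abbrev Qk : CommRingCat.{u} := CommRingCat.of (MonoidAlgebra (RR T) (Multiplicative N) ⧸ Ik N Q (RR T) k)

theorem exists_jS : ∃ f : Spec (Qk N Q T k) ⟶ (AMonS S N ⊗ T).left, ∀ x,
    f.appTop (theta N T x) = (Scheme.ΓSpecIso (Qk N Q T k)).inv (Ideal.Quotient.mk (Ik N Q (RR T) k) x) := by
  obtain ⟨f, hf⟩ := exists_hom_of_appTop (V := (AMonS S N ⊗ T).left)
    ((Scheme.ΓSpecIso (Qk N Q T k)).inv.hom.comp ((Ideal.Quotient.mk (Ik N Q (RR T) k)).comp (thetaEquiv T N).symm.toRingHom))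
  refine ⟨f, fun x => (hf _).trans ?_⟩
  show (Scheme.ΓSpecIso (Qk N Q T k)).inv (Ideal.Quotient.mk _ ((thetaEquiv T N).symm (thetaEquiv T N x))) = _
  rw [RingEquiv.symm_apply_apply]

/-- The neighbourhood. -/
noncomputable def thick : Over S := Over.mk ((exists_jS N Q T k).choose ≫ (AMonS S N ⊗ T).hom)

/-- Its inclusion. -/
noncomputable def jk : thick N Q T k ⟶ AMonS S N ⊗ T := Over.homMk (exists_jS N Q T k).choose rfl

instance : IsAffine (thick N Q T k).left := inferInstanceAs (IsAffine (Spec _))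

/-- Restriction of coordinates. -/
noncomputable def rk : MonoidAlgebra (RR T) (Multiplicative N) →+* RR (thick N Q T k) :=
  (jk N Q T k).left.appTop.hom.comp (theta N T)

theorem rk_surjective : Function.Surjective (rk N Q T k) := by
  intro y
  obtain ⟨z, hz⟩ := (ConcreteCategory.bijective_of_isIso (Scheme.ΓSpecIso (Qk N Q T k)).inv).2 y
  obtain ⟨x, rfl⟩ := Ideal.Quotient.mk_surjective z
  exact ⟨x, ((exists_jS N Q T k).choose_spec x).trans hz⟩

theorem rk_eq_zero_iff {x : MonoidAlgebra (RR T) (Multiplicative N)} : rk N Q T k x = 0 ↔ x ∈ Ik N Q (RR T) k := by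
  have h : rk N Q T k x = (Scheme.ΓSpecIso (Qk N Q T k)).inv (Ideal.Quotient.mk (Ik N Q (RR T) k) x) :=
    (exists_jS N Q T k).choose_spec x
  rw [h]
  constructor
  · intro h'
    exact Ideal.Quotient.eq_zero_iff_mem.mp
      ((ConcreteCategory.bijective_of_isIso (Scheme.ΓSpecIso (Qk N Q T k)).inv).1 (h'.trans (map_zero _).symm))
  · intro h'
    rw [Ideal.Quotient.eq_zero_iff_mem.mpr h']
    exact map_zero _

theorem rk_single (n : Multiplicative N) (r : RR T) :
    rk N Q T k (MonoidAlgebra.single n r) =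
      (jk N Q T k ≫ snd _ T).left.appTop r * chi (jk N Q T k ≫ fst _ T) n := by
  rw [rk, RingHom.comp_apply, theta_single, map_mul, chi_comp]
  rfl

theorem chi_jk {n : Multiplicative N} (hn : (n.toAdd : M) ∈ Pk N Q k) : chi (jk N Q T k ≫ fst _ T) n = 0 := by
  have h := (rk_eq_zero_iff N Q T k).mpr (single_mem_Ik N Q (RR T) hn 1)
  rwa [rk_single, map_one, _root_.one_mul] at h

variable {N Q T k} in
theorem hom_ext_thick {W : Over S} {v v' : W ⟶ thick N Q T k} (h : v ≫ jk N Q T k = v' ≫ jk N Q T k) : v = v' := by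
  refine Over.OverMorphism.ext (ext_of_isAffine (CommRingCat.hom_ext (RingHom.ext fun y => ?_)))
  obtain ⟨x, rfl⟩ := rk_surjective N Q T k y
  exact congrArg (fun q => q.left.appTop (theta N T x)) h

theorem exists_factor {W : Over S} (w : W ⟶ AMonS S N ⊗ T)
    (hw : ∀ n : Multiplicative N, (n.toAdd : M) ∈ Pk N Q k → chi (w ≫ fst _ T) n = 0) :
    ∃ v : W ⟶ thick N Q T k, v ≫ jk N Q T k = w := by
  let φ : MonoidAlgebra (RR T) (Multiplicative N) →+* RR W := w.left.appTop.hom.comp (theta N T)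
  have hle : Ik N Q (RR T) k ≤ RingHom.ker φ := by
    rw [Ik, Ideal.span_le]
    rintro _ ⟨n, hn, rfl⟩
    show w.left.appTop (theta N T (MonoidAlgebra.single n 1)) = 0
    rw [theta_single, map_one, _root_.one_mul, ← chi_comp]
    exact hw n hn
  let ψ : RR (thick N Q T k) →+* RR W := (rk N Q T k).liftOfSurjective (rk_surjective N Q T k)
    ⟨φ, fun x hx => hle ((rk_eq_zero_iff N Q T k).mp hx)⟩
  have hψ : ∀ x, ψ (rk N Q T k x) = φ x := fun x => RingHom.liftOfRightInverse_comp_apply _ _ _ _ x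
  obtain ⟨f, hf⟩ := exists_hom_of_appTop (V := (thick N Q T k).left) ψ
  have hfw : f ≫ (jk N Q T k).left = w.left := by
    refine ext_of_isAffine (CommRingCat.hom_ext (RingHom.ext fun y => ?_))
    obtain ⟨x, rfl⟩ := (theta_iso N T).2.2 y
    exact (hf _).trans (hψ x)
  refine ⟨Over.homMk f ?_, Over.OverMorphism.ext hfw⟩
  rw [← Over.w (jk N Q T k), ← Category.assoc, hfw, Over.w w]

theorem exists_tr : ∃ t : thick N Q T k ⟶ thick N Q T (k + 1), t ≫ jk N Q T (k + 1) = jk N Q T k :=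
  exists_factor N Q T (k + 1) (jk N Q T k) fun n hn => chi_jk N Q T k (Pk_anti hn)

/-- The transition map. -/
noncomputable def tr : thick N Q T k ⟶ thick N Q T (k + 1) := (exists_tr N Q T k).choose

theorem tr_jk : tr N Q T k ≫ jk N Q T (k + 1) = jk N Q T k := (exists_tr N Q T k).choose_spec

theorem appTop_tr (x : MonoidAlgebra (RR T) (Multiplicative N)) :
    (tr N Q T k).left.appTop (rk N Q T (k + 1) x) = rk N Q T k x :=
  congrArg (fun q => q.left.appTop (theta N T x)) (tr_jk N Q T k)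

theorem tr_surjective : Function.Surjective (tr N Q T k).left.appTop.hom := fun y => by
  obtain ⟨x, rfl⟩ := rk_surjective N Q T k y
  exact ⟨rk N Q T (k + 1) x, appTop_tr N Q T k x⟩

theorem ker_tr_sq (hk : 1 ≤ k) : RingHom.ker (tr N Q T k).left.appTop.hom ^ 2 = ⊥ := by
  have h : RingHom.ker (tr N Q T k).left.appTop.hom = (Ik N Q (RR T) k).map (rk N Q T (k + 1)) := by
    refine le_antisymm (fun y hy => ?_) (Ideal.map_le_iff_le_comap.mpr fun x hx => ?_)
    · obtain ⟨x, rfl⟩ := rk_surjective N Q T (k + 1) y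
      rw [RingHom.mem_ker, appTop_tr, rk_eq_zero_iff] at hy
      exact Ideal.mem_map_of_mem _ hy
    · rw [Ideal.mem_comap, RingHom.mem_ker, appTop_tr, rk_eq_zero_iff]
      exact hx
  rw [h, ← Ideal.map_pow, Ideal.map_eq_bot_iff_le_ker]
  exact fun x hx => (rk_eq_zero_iff N Q T (k + 1)).mpr (Ik_sq N Q (RR T) hk hx)

/-- A functorial map of neighbourhoods. -/
theorem exists_map (T' : Over S) [IsAffine T'.left] (G : AMonS S N ⊗ T' ⟶ AMonS S N ⊗ T)
    (hG : ∀ (W : Over S) (w : W ⟶ AMonS S N ⊗ T') (n : Multiplicative N), chi (w ≫ fst _ T') n = 0 →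
      chi (w ≫ G ≫ fst _ T) n = 0) :
    ∃ v : thick N Q T' k ⟶ thick N Q T k, v ≫ jk N Q T k = jk N Q T' k ≫ G :=
  exists_factor N Q T k _ fun n hn => by
    rw [Category.assoc]
    exact hG _ _ n (chi_jk N Q T' k hn)

variable {N Q}

theorem exists_face_iso (hQ : IsFace N Q) :
    ∃ (p : thick N Q T 1 ⟶ AMonS S Q ⊗ T) (q : AMonS S Q ⊗ T ⟶ thick N Q T 1),
      p ≫ (AMonS.faceMap S hQ ▷ T) = jk N Q T 1 ∧ q ≫ jk N Q T 1 = AMonS.faceMap S hQ ▷ T ∧ q ≫ p = 𝟙 _ := by
  obtain ⟨q, hq⟩ := exists_factor N Q T 1 (AMonS.faceMap S hQ ▷ T) fun n hn => by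
    rw [whiskerRight_fst, ← ofAdd_toAdd n, chi_face_notMem N Q _ _ ((Pk_one hQ).mp hn).2]
  let p : thick N Q T 1 ⟶ AMonS S Q ⊗ T :=
    lift ((jk N Q T 1 ≫ fst _ T) ≫ AMonS.map S (AddSubmonoid.inclusion hQ.le)) (jk N Q T 1 ≫ snd _ T)
  have hp : p ≫ (AMonS.faceMap S hQ ▷ T) = jk N Q T 1 := by
    rw [lift_whiskerRight]
    apply CartesianMonoidalCategory.hom_ext
    · rw [lift_fst]
      refine chi_injective (MonoidHom.ext fun n => ?_)
      obtain ⟨n, rfl⟩ := Multiplicative.ofAdd.surjective n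
      by_cases hn : (n : M) ∈ Q
      · rw [chi_face_mem N Q _ n hn, chi_map]
        rfl
      · rw [chi_face_notMem N Q _ n hn]
        exact (chi_jk N Q T 1 ((Pk_one hQ).mpr ⟨n.2, hn⟩)).symm
    · rw [lift_snd]
  refine ⟨p, q, hp, hq, ?_⟩
  have h1 : q ≫ p = (AMonS.faceMap S hQ ▷ T) ≫ (AMonS.map S (AddSubmonoid.inclusion hQ.le) ▷ T) := by
    rw [comp_lift, ← Category.assoc, ← Category.assoc, ← Category.assoc, hq, whiskerRight_fst, whiskerRight_snd]
    apply CartesianMonoidalCategory.hom_ext <;> simp [Category.assoc]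
  rw [h1, ← comp_whiskerRight, AMonS.faceMap_comp_map, id_whiskerRight]

/-- Morphisms to an affine scheme are determined on the neighbourhoods. -/
theorem ext_thick (hQ : IsFace N Q) (hN : N.FG) {V : Over S} [IsAffine V.left] {F G : AMonS S N ⊗ T ⟶ V}
    (h : ∀ k, 1 ≤ k → jk N Q T k ≫ F = jk N Q T k ≫ G) : F = G := by
  refine Over.OverMorphism.ext (ext_of_isAffine (CommRingCat.hom_ext (RingHom.ext fun v => ?_)))
  obtain ⟨x, hx⟩ := (theta_iso N T).2.2 (F.left.appTop v)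
  obtain ⟨y, hy⟩ := (theta_iso N T).2.2 (G.left.appTop v)
  refine hx.symm.trans ((congrArg (theta N T) (eq_of_forall_sub_mem N Q (RR T) hQ hN fun k => ?_)).trans hy)
  refine Ik_le N Q (RR T) (Nat.le_succ k) ((rk_eq_zero_iff N Q T (k + 1)).mp ?_)
  rw [map_sub, sub_eq_zero]
  show (jk N Q T (k + 1)).left.appTop (theta N T x) = (jk N Q T (k + 1)).left.appTop (theta N T y)
  rw [hx, hy]
  exact congrArg (fun q => q.left.appTop v) (h (k + 1) (Nat.le_add_left 1 k))

theorem eq_of_rk (hQ : IsFace N Q) (hN : N.FG) {x y : MonoidAlgebra (RR T) (Multiplicative N)}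
    (h : ∀ k, 1 ≤ k → rk N Q T k x = rk N Q T k y) : x = y := by
  refine eq_of_forall_sub_mem N Q (RR T) hQ hN fun k => ?_
  refine Ik_le N Q (RR T) (Nat.le_succ k) ((rk_eq_zero_iff N Q T (k + 1)).mp ?_)
  rw [map_sub, sub_eq_zero]
  exact h (k + 1) (Nat.le_add_left 1 k)

variable (N Q) in
theorem exists_tr1 (hk : 1 ≤ k) : ∃ v : thick N Q T 1 ⟶ thick N Q T k, v ≫ jk N Q T k = jk N Q T 1 :=
  exists_factor N Q T k _ fun n hn => chi_jk N Q T 1 (Pk_antitone hk hn)

/-- Maps into a formally étale scheme are determined by level one and their composite. -/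
theorem ext_etale {U X : Over S} (f : U ⟶ X) (hf : MoreMor.IsFormallyEtaleHom f.left) {k : ℕ} (hk : 1 ≤ k) :
    ∀ {a b : thick N Q T k ⟶ U},
      (∀ v : thick N Q T 1 ⟶ thick N Q T k, v ≫ jk N Q T k = jk N Q T 1 → v ≫ a = v ≫ b) → a ≫ f = b ≫ f → a = b := by
  induction k, hk using Nat.le_induction with
  | base =>
    intro a b h1 _
    have := h1 (𝟙 _) (Category.id_comp _)
    rwa [Category.id_comp, Category.id_comp] at this
  | succ k hk ih =>
    intro a b h1 hab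
    have hl : tr N Q T k ≫ a = tr N Q T k ≫ b := ih
      (fun v hv => by
        rw [← Category.assoc, ← Category.assoc]
        exact h1 _ (by rw [Category.assoc, tr_jk, hv]))
      (by rw [Category.assoc, hab, Category.assoc])
    obtain ⟨l, -, hl'⟩ := existsUnique_lift (tr N Q T k).left (tr_surjective N Q T k) (ker_tr_sq N Q T k hk) f.left hf
      (tr N Q T k ≫ a).left (a ≫ f).left (by simp)
    refine Over.OverMorphism.ext ((hl' a.left ⟨by simp, by simp⟩).trans (hl' b.left ⟨?_, ?_⟩).symm)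
    · rw [hl]; simp
    · rw [hab]; simp

theorem exists_lift_etale {U X : Over S} (f : U ⟶ X) (hf : MoreMor.IsFormallyEtaleHom f.left) (b : AMonS S N ⊗ T ⟶ X)
    (a₁ : thick N Q T 1 ⟶ U) (h₁ : a₁ ≫ f = jk N Q T 1 ≫ b) {k : ℕ} (hk : 1 ≤ k) :
    ∃ a : thick N Q T k ⟶ U, a ≫ f = jk N Q T k ≫ b ∧
      ∀ v : thick N Q T 1 ⟶ thick N Q T k, v ≫ jk N Q T k = jk N Q T 1 → v ≫ a = a₁ := by
  induction k, hk using Nat.le_induction with
  | base =>
    refine ⟨a₁, h₁, fun v hv => ?_⟩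
    rw [show v = 𝟙 _ from hom_ext_thick (hv.trans (Category.id_comp _).symm), Category.id_comp]
  | succ k hk ih =>
    obtain ⟨a, haf, ha1⟩ := ih
    obtain ⟨l, ⟨hl1, hl2⟩, -⟩ := existsUnique_lift (tr N Q T k).left (tr_surjective N Q T k) (ker_tr_sq N Q T k hk) f.left hf
      a.left (jk N Q T (k + 1) ≫ b).left (by rw [← Over.comp_left, ← Over.comp_left, haf, ← Category.assoc, tr_jk])
    refine ⟨Over.homMk l (by rw [← Over.w f, ← Category.assoc, hl2, Over.w (jk N Q T (k + 1) ≫ b)]),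
      Over.OverMorphism.ext hl2, fun v hv => ?_⟩
    obtain ⟨v', hv'⟩ := exists_tr1 N Q T k hk
    have hvv : v = v' ≫ tr N Q T k := hom_ext_thick (by rw [hv, Category.assoc, tr_jk, hv'])
    rw [hvv, Category.assoc, ← ha1 v' hv']
    congr 1
    exact Over.OverMorphism.ext hl1

end Groth.Agent.H28.FaceThick
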