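import Groth.Agent.H28.FaceDeg
import Groth.Agent.H28.FaceThick

/-! The contraction of an attractor onto a face, along the fibres of the face projection. -/

universe u

open CategoryTheory CategoryTheory.Limits MonoidalCategory CartesianMonoidalCategory MonObj AlgebraicGeometry
open Opposite Magnet

namespace Groth.Agent.H28.FaceHomotopy2

open H23.CharPts H23.AttrComapGrp FaceThick

theorem exists_homotopy {S : Scheme.{u}} {M : Type} [AddCommGroup M] [AddGroup.FG M] {X : Over S}
    (a : MonAct (AMonS S M) X) {N F : AddSubmonoid M} (hN : N.FG) (hF : IsFace N F) :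
    ∃ δ : ∀ T : Over S, (attr a N).obj (op T) → Γ(T.left, ⊤) → (attr a N).obj (op T),
      (∀ (T T' : Over S) (t : T' ⟶ T) (x : (attr a N).obj (op T)) (c : Γ(T.left, ⊤)),
          δ T' ((attr a N).map t.op x) (t.left.appTop c) = (attr a N).map t.op (δ T x c)) ∧
      (∀ (T : Over S) (x : (attr a N).obj (op T)),
          δ T x 0 = (attrMap a hF.le).app (op T) ((attrFace a hF).app (op T) x)) ∧
      (∀ (T : Over S) (x : (attr a N).obj (op T)), δ T x 1 = x) ∧
      (∀ (T : Over S) (y : (attr a F).obj (op T)) (c : Γ(T.left, ⊤)),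
          δ T ((attrMap a hF.le).app (op T) y) c = (attrMap a hF.le).app (op T) y) ∧
      (∀ (T : Over S) (x : (attr a N).obj (op T)) (c : Γ(T.left, ⊤)),
          (attrFace a hF).app (op T) (δ T x c) = (attrFace a hF).app (op T) x) := by
  obtain ⟨d, hd, hd0⟩ := FaceDeg.exists_deg hN hF
  let e : N → ℕ := fun n => (d n).toNat
  have he : ∀ n m : N, e (n + m) = e n + e m := fun n m => by
    simp only [e, AddSubmonoid.coe_add, map_add]
    exact Int.toNat_add (hd n n.2) (hd m m.2)
  have he0 : ∀ n : N, (n : M) ∈ F → e n = 0 := fun n hn => by simp [e, (hd0 n n.2).mpr hn]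
  have he1 : ∀ n : N, (n : M) ∉ F → e n ≠ 0 := fun n hn h => hn ((hd0 n n.2).mp (by
    have h1 := hd n n.2
    simp only [e] at h
    omega))
  choose pt hpt using fun (T : Over S) (c : Γ(T.left, ⊤)) => exists_chi_eq (S := S) (T := T) (M := N)
    { toFun := fun n => c ^ e n.toAdd
      map_one' := by
        show c ^ e 0 = 1
        rw [he0 0 F.zero_mem, pow_zero]
      map_mul' := fun n m => by rw [← pow_add, ← he]; rfl }
  have hpt' : ∀ (T : Over S) (c : Γ(T.left, ⊤)) (n : N), chi (pt T c) (Multiplicative.ofAdd n) = c ^ e n :=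
    fun T c n => by rw [hpt]; rfl
  have hδ : ∀ (T : Over S) (x : (attr a N).obj (op T)) (c : Γ(T.left, ⊤)),
      MonAct.IsEquivariant ((subAct S M N).prod (MonAct.trivial (AMonS S M) T)) a
        (lift (fst (AMonS S N) T * (snd (AMonS S N) T ≫ pt T c)) (snd (AMonS S N) T) ≫ x.1) := by
    intro T x c
    rw [MonAct.mem_eqvHom_iff]
    intro W g b t
    have h := (MonAct.mem_eqvHom_iff x.1).mp x.2 W g (b * (t ≫ pt T c)) t
    rw [subAct_point] at h ⊢
    simp only [comp_lift_assoc, MonObj.comp_mul, lift_fst, lift_snd, lift_snd_assoc]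
    rw [_root_.mul_assoc]
    exact h
  let δ : ∀ T : Over S, (attr a N).obj (op T) → Γ(T.left, ⊤) → (attr a N).obj (op T) :=
    fun T x c => ⟨lift (fst (AMonS S N) T * (snd (AMonS S N) T ≫ pt T c)) (snd (AMonS S N) T) ≫ x.1, hδ T x c⟩
  refine ⟨δ, fun T T' t x c => Subtype.ext ?_, fun T x => Subtype.ext ?_, fun T x => Subtype.ext ?_,
    fun T y c => Subtype.ext ?_, fun T x c => Subtype.ext ?_⟩
  · show lift _ _ ≫ (AMonS S N ◁ t) ≫ x.1 =
      (AMonS S N ◁ t) ≫ lift (fst (AMonS S N) T * (snd (AMonS S N) T ≫ pt T c)) (snd (AMonS S N) T) ≫ x.1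
    rw [lift_whiskerLeft_assoc, comp_lift_assoc, MonObj.comp_mul, whiskerLeft_fst, whiskerLeft_snd,
      whiskerLeft_snd_assoc,
      show t ≫ pt T c = pt T' (t.left.appTop c) from chi_injective (MonoidHom.ext fun n => by
        obtain ⟨n, rfl⟩ := Multiplicative.ofAdd.surjective n
        rw [chi_comp, hpt', hpt', map_pow])]
  · show _ = (AMonS.map S (AddSubmonoid.inclusion hF.le) ▷ T) ≫ (AMonS.faceMap S hF ▷ T) ≫ x.1
    rw [← comp_whiskerRight_assoc]
    show lift _ _ ≫ x.1 = _
    congr 1
    apply CartesianMonoidalCategory.hom_ext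
    · rw [lift_fst, whiskerRight_fst]
      refine chi_injective (MonoidHom.ext fun n => ?_)
      obtain ⟨n, rfl⟩ := Multiplicative.ofAdd.surjective n
      rw [chi_mul, chi_comp, hpt', ← Category.assoc]
      by_cases hn : (n : M) ∈ F
      · rw [he0 n hn, pow_zero, map_one, _root_.mul_one, chi_face_mem N F _ n hn, chi_map]
        rfl
      · rw [zero_pow (he1 n hn), map_zero, mul_zero, chi_face_notMem N F _ n hn]
    · rw [lift_snd, whiskerRight_snd]
  · show lift _ _ ≫ x.1 = x.1
    rw [show snd (AMonS S N) T ≫ pt T 1 = 1 from chi_injective (MonoidHom.ext fun n => by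
      obtain ⟨n, rfl⟩ := Multiplicative.ofAdd.surjective n
      rw [chi_comp, hpt', one_pow, map_one, ← eq_one_of_map_zero (snd (AMonS S N) T ≫ pt T 1), chi_map]
      exact (map_one _).symm), _root_.mul_one, lift_fst_snd, Category.id_comp]
  · show lift _ _ ≫ (AMonS.map S (AddSubmonoid.inclusion hF.le) ▷ T) ≫ y.1 =
      (AMonS.map S (AddSubmonoid.inclusion hF.le) ▷ T) ≫ y.1
    rw [← Category.assoc, lift_whiskerRight]
    congr 1
    apply CartesianMonoidalCategory.hom_ext
    · rw [lift_fst, whiskerRight_fst, MonObj.mul_comp,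
        show (snd (AMonS S N) T ≫ pt T c) ≫ AMonS.map S (AddSubmonoid.inclusion hF.le) = 1 from
          chi_injective (MonoidHom.ext fun n => by
            obtain ⟨n, rfl⟩ := Multiplicative.ofAdd.surjective n
            rw [chi_map, chi_comp, ← eq_one_of_map_zero (snd (AMonS S N) T ≫ pt T c), chi_map]
            refine Eq.trans ?_ (map_one (chi (snd (AMonS S N) T ≫ pt T c))).symm
            show (snd (AMonS S N) T).left.appTop (chi (pt T c) (Multiplicative.ofAdd (AddSubmonoid.inclusion hF.le n))) = 1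
            rw [hpt', he0 _ n.2, pow_zero, map_one]), _root_.mul_one]
    · rw [lift_snd, whiskerRight_snd]
  · show (AMonS.faceMap S hF ▷ T) ≫ lift _ _ ≫ x.1 = (AMonS.faceMap S hF ▷ T) ≫ x.1
    rw [← Category.assoc]
    congr 1
    apply CartesianMonoidalCategory.hom_ext
    · rw [Category.assoc, lift_fst, MonObj.comp_mul, whiskerRight_fst, whiskerRight_snd_assoc]
      refine chi_injective (MonoidHom.ext fun n => ?_)
      obtain ⟨n, rfl⟩ := Multiplicative.ofAdd.surjective n
      rw [chi_mul, chi_comp (snd (AMonS S F) T) (pt T c), hpt']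
      by_cases hn : (n : M) ∈ F
      · rw [he0 n hn, pow_zero, map_one, _root_.mul_one]
      · rw [chi_face_notMem N F _ n hn, zero_mul]
    · rw [Category.assoc, lift_snd]

end Groth.Agent.H28.FaceHomotopy2
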