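import Groth.Agent.H28.MagnetRep
import Groth.Prelude.Def_Magnet3

/-! Coordinates of an action are homogeneous; attractors along a map of monoids. -/

universe u

open CategoryTheory CategoryTheory.Limits MonoidalCategory CartesianMonoidalCategory MonObj AlgebraicGeometry
open Opposite Magnet

namespace Groth.Agent.H28.MagnetAff

open H23.CharPts

variable {S : Scheme.{u}} {M : Type} [AddCommMonoid M]

/-- `r·eᵐ ↦ (r·eᵐ)·eᵐ`. -/
noncomputable def diag2 (R : Type u) [CommRing R] :
    MonoidAlgebra R (Multiplicative M) →+* MonoidAlgebra (MonoidAlgebra R (Multiplicative M)) (Multiplicative M) :=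
  MonoidAlgebra.liftNCRingHom ((MonoidAlgebra.singleOneRingHom).comp MonoidAlgebra.singleOneRingHom)
    { toFun := fun m => MonoidAlgebra.single m (MonoidAlgebra.single m 1)
      map_one' := rfl
      map_mul' := fun m m' => by rw [MonoidAlgebra.single_mul_single, MonoidAlgebra.single_mul_single, _root_.mul_one] }
    (fun _ _ => Commute.all _ _)

theorem diag2_single (R : Type u) [CommRing R] (m : Multiplicative M) (r : R) :
    diag2 R (MonoidAlgebra.single m r) = MonoidAlgebra.single m (MonoidAlgebra.single m r) := by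
  refine (MonoidAlgebra.liftNC_single _ _ _ _).trans ?_
  show MonoidAlgebra.single 1 (MonoidAlgebra.single 1 r) * MonoidAlgebra.single m (MonoidAlgebra.single m 1) = _
  rw [MonoidAlgebra.single_mul_single, MonoidAlgebra.single_mul_single, _root_.one_mul, _root_.mul_one]

theorem coeff_diag2 (R : Type u) [CommRing R] (m : Multiplicative M) (x : MonoidAlgebra R (Multiplicative M)) :
    (diag2 R x).coeff m = MonoidAlgebra.single m (x.coeff m) := by
  classical
  induction x using MonoidAlgebra.induction_linear with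
  | zero => simp
  | add a b ha hb =>
    rw [map_add, MonoidAlgebra.coeff_add, Finsupp.add_apply, ha, hb, MonoidAlgebra.coeff_add, Finsupp.add_apply,
      MonoidAlgebra.single_add]
  | single n r =>
    rw [diag2_single]
    by_cases h : n = m
    · subst h; simp
    · simp [Finsupp.single_eq_of_ne (Ne.symm h)]

variable {X : Over S} (a : MonAct (AMonS S M) X) (T : Over S) [IsAffine T.left] [IsAffineHom X.hom]

/-- The action on `X ×_S T` over `T`. -/
noncomputable abbrev sigW : AMonS S M ⊗ (X ⊗ T) ⟶ X ⊗ T :=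
  lift ((AMonS S M ◁ fst X T) ≫ a.act) (snd _ (X ⊗ T) ≫ snd X T)

instance : IsAffine (X ⊗ T).left := isAffine_graph T

theorem co_sigW_assoc (b : RR (X ⊗ T)) :
    MonoidAlgebra.mapRingHom (Multiplicative M) (co (X ⊗ T) (sigW a T)) (co (X ⊗ T) (sigW a T) b) =
      diag2 _ (co (X ⊗ T) (sigW a T) b) := by
  let W := X ⊗ T
  let A := AMonS S M
  let p : A ⊗ (A ⊗ W) ⟶ A ⊗ W := lift (fst A (A ⊗ W) * (snd A (A ⊗ W) ≫ fst A W)) (snd A (A ⊗ W) ≫ snd A W)
  have hp : (A ◁ sigW a T) ≫ sigW a T = p ≫ sigW a T := by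
    apply hom_ext_lift₂
    intro W' g z
    rw [← lift_comp_fst_snd z]
    simp only [p, sigW, A, W, lift_whiskerLeft_assoc, comp_lift, comp_lift_assoc, MonObj.comp_mul, lift_fst, lift_snd,
      lift_fst_assoc, lift_snd_assoc, lift_whiskerLeft, Category.assoc, MonAct.lift_mul_act]
  have hθ : Function.Injective ((theta M (A ⊗ W)).comp (MonoidAlgebra.mapRingHom (Multiplicative M) (theta M W))) := by
    refine (theta_iso M (A ⊗ W)).2.1.comp fun x y h => MonoidAlgebra.ext (Finsupp.ext fun m => (theta_iso M W).2.1 ?_)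
    have := congrArg (fun q => q.coeff m) h
    rwa [MonoidAlgebra.coeff_mapRingHom, MonoidAlgebra.coeff_mapRingHom] at this
  apply hθ
  have e1 : (theta M (A ⊗ W)).comp ((MonoidAlgebra.mapRingHom (Multiplicative M) (theta M W)).comp
      (MonoidAlgebra.mapRingHom (Multiplicative M) (co W (sigW a T)))) =
      (A ◁ sigW a T).left.appTop.hom.comp (theta M W) := by
    rw [theta_whisker, ← MonoidAlgebra.mapRingHom_comp]
    congr 2
    exact RingHom.ext fun v => theta_co W (sigW a T) v
  have e2 : (theta M (A ⊗ W)).comp ((MonoidAlgebra.mapRingHom (Multiplicative M) (theta M W)).comp (diag2 (RR W))) =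
      p.left.appTop.hom.comp (theta M W) := by
    refine MonoidAlgebra.ringHom_ext (fun r => ?_) (fun m => ?_)
    · simp only [RingHom.comp_apply]
      rw [diag2_single, MonoidAlgebra.mapRingHom_single, theta_single, theta_single, map_one, map_one, _root_.mul_one,
        _root_.mul_one]
      show (snd A (A ⊗ W) ≫ snd A W).left.appTop r = (p ≫ snd A W).left.appTop r
      rw [lift_snd]
    · simp only [RingHom.comp_apply]
      rw [diag2_single, MonoidAlgebra.mapRingHom_single, theta_single, theta_single, map_one, _root_.one_mul]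
      erw [← chi_comp p (fst A W), ← chi_comp (snd A (A ⊗ W)) (fst A W)]
      rw [lift_fst, chi_mul, mul_comm]
  show (theta M (A ⊗ W)).comp ((MonoidAlgebra.mapRingHom (Multiplicative M) (theta M W)).comp
      (MonoidAlgebra.mapRingHom (Multiplicative M) (co W (sigW a T)))) (co W (sigW a T) b) =
    (theta M (A ⊗ W)).comp ((MonoidAlgebra.mapRingHom (Multiplicative M) (theta M W)).comp (diag2 (RR W)))
      (co W (sigW a T) b)
  rw [e1, e2, RingHom.comp_apply, RingHom.comp_apply, theta_co]
  show ((A ◁ sigW a T) ≫ sigW a T).left.appTop b = (p ≫ sigW a T).left.appTop b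
  rw [hp]

theorem delta_eq (x : T ⟶ X) (b : RR (X ⊗ T)) :
    delta a T x b = MonoidAlgebra.mapRingHom (Multiplicative M) (lift x (𝟙 T)).left.appTop.hom (co (X ⊗ T) (sigW a T) b) := by
  have h : sigma a T x = (AMonS S M ◁ lift x (𝟙 T)) ≫ sigW a T := by
    rw [comp_lift, ← MonoidalCategory.whiskerLeft_comp_assoc, lift_fst, whiskerLeft_snd_assoc, lift_snd, Category.comp_id]
  show co T (sigma a T x) b = _
  rw [h, co_whisker (X ⊗ T) (lift x (𝟙 T))]
  rfl

/-- Every coefficient of `δ b` is the only coefficient of some `δ b'`. -/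
theorem exists_delta_single (x : T ⟶ X) (b : RR (X ⊗ T)) (m : Multiplicative M) :
    ∃ b', delta a T x b' = MonoidAlgebra.single m ((delta a T x b).coeff m) := by
  refine ⟨(co (X ⊗ T) (sigW a T) b).coeff m, ?_⟩
  have h := congrArg (fun q => q.coeff m) (co_sigW_assoc a T b)
  simp only [MonoidAlgebra.coeff_mapRingHom, coeff_diag2] at h
  rw [delta_eq, delta_eq, h, MonoidAlgebra.mapRingHom_single, MonoidAlgebra.coeff_mapRingHom]

omit [IsAffineHom X.hom] [IsAffine T.left] in
theorem attrToX_comap {Z : Type} [AddCommMonoid Z] (f : M →+ Z) (Y : AddSubmonoid Z)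
    (φ : (attr a (Y.comap f)).obj (op T)) :
    (attrToX (a.restrict (AMonS.map S f)) Y).app (op T) ((attrComap a f Y).app (op T) φ) =
      (attrToX a (Y.comap f)).app (op T) φ := by
  show lift (toUnit T ≫ η[AMonS S Y]) (𝟙 T) ≫ ((attrComap a f Y).app (op T) φ).1 = lift (toUnit T ≫ η[AMonS S (Y.comap f)]) (𝟙 T) ≫ φ.1
  rw [attrComap_app_coe, lift_whiskerRight_assoc, Category.assoc, IsMonHom.one_hom]

omit [IsAffine T.left] in
theorem inAttr_comap {Z : Type} [AddCommMonoid Z] (f : M →+ Z) (Y : AddSubmonoid Z) (x : T ⟶ X)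
    (h : InAttr Y (a.restrict (AMonS.map S f)) x) : InAttr (Y.comap f) a x := by
  refine inAttr_of_cover _ a x T.left.affineCover fun i => ?_
  let T' : Over S := Over.mk (T.left.affineCover.f i ≫ T.hom)
  let u : T' ⟶ T := Over.homMk (T.left.affineCover.f i) rfl
  haveI : IsAffine T'.left := inferInstanceAs (IsAffine (T.left.affineCover.X i))
  have h' := h.comp _ _ u
  show InAttr _ a (u ≫ x)
  generalize hy : u ≫ x = y at h' ⊢
  rw [← Category.id_comp y] at h' ⊢
  rw [inAttr_comp_iff] at h' ⊢
  intro b m hm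
  obtain ⟨b', hb'⟩ := exists_delta_single a T' y b (Multiplicative.ofAdd m)
  have hres : delta (a.restrict (AMonS.map S f)) T' y =
      (MonoidAlgebra.mapDomainRingHom (RR T') (AddMonoidHom.toMultiplicative f)).comp (delta a T' y) := by
    show co T' _ = _
    rw [← co_map]
    congr 1
    rw [comp_lift, whiskerRight_snd, ← whisker_exchange_assoc]
    rfl
  have h2 := h' b' (f m) hm
  rw [hres, RingHom.comp_apply, hb', MonoidAlgebra.mapDomainRingHom_apply, MonoidAlgebra.mapDomain_single,
    MonoidAlgebra.coeff_single] at h2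
  rw [← h2]
  exact congrArg _ (Finsupp.single_eq_same (a := Multiplicative.ofAdd (f m))).symm

theorem isIso_attrComap {Z : Type} [AddCommMonoid Z] (f : M →+ Z) (Y : AddSubmonoid Z) :
    IsIso (attrComap a f Y) := by
  haveI : IsSeparated X.hom := inferInstance
  haveI : ∀ W, IsIso ((attrComap a f Y).app W) := fun W => by
    refine (ConcreteCategory.isIso_iff_bijective _).mpr ⟨fun φ φ' h => ?_, fun ψ => ?_⟩
    · refine InAttr.eq _ a (T := unop W) rfl ?_
      rw [← attrToX_comap a (unop W) f Y φ, ← attrToX_comap a (unop W) f Y φ']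
      exact congrArg _ h.symm
    · obtain ⟨φ, hφ⟩ := inAttr_comap a (unop W) f Y _ ⟨ψ, rfl⟩
      exact ⟨φ, InAttr.eq _ _ (T := unop W) ((attrToX_comap a (unop W) f Y φ).trans hφ) rfl⟩
  exact NatIso.isIso_of_isIso_app _

end Groth.Agent.H28.MagnetAff
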