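import Groth.Agent.H28.FaceThick
import Groth.Agent.H28.MagnetAssoc
import Groth.Agent.H23.AttrComapGrp

/-! Lifting equivariant maps along formally étale maps from an affine scheme, given on a face. -/

universe u

open CategoryTheory CategoryTheory.Limits MonoidalCategory CartesianMonoidalCategory MonObj AlgebraicGeometry
open Opposite Magnet

namespace Groth.Agent.H28.FaceLift

open H23.CharPts H23.AttrComapGrp MagnetAff FacePow FaceThick

variable {S : Scheme.{u}} {M : Type} [AddCommGroup M] {N Q : AddSubmonoid M}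
variable (N) in
/-- The action on `A(N)` read off over `A(M) × T`. -/
noncomputable abbrev actMap (T : Over S) : AMonS S N ⊗ (AMonS S M ⊗ T) ⟶ AMonS S N ⊗ T :=
  lift (((snd (AMonS S N) (AMonS S M ⊗ T) ≫ fst _ T) ≫ AMonS.map S N.subtype) * fst _ _)
    (snd (AMonS S N) (AMonS S M ⊗ T) ≫ snd _ T)

variable (N) in
/-- Forgetting the torus. -/
noncomputable abbrev prMap (T : Over S) : AMonS S N ⊗ (AMonS S M ⊗ T) ⟶ AMonS S N ⊗ T :=
  AMonS S N ◁ snd (AMonS S M) T

variable (T : Over S) [IsAffine T.left]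

variable (N) in
/-- Coordinates of `actMap`. -/
noncomputable def phiAct : MonoidAlgebra (RR T) (Multiplicative N) →+* MonoidAlgebra (RR (AMonS S M ⊗ T)) (Multiplicative N) :=
  MonoidAlgebra.liftNCRingHom
    (MonoidAlgebra.singleOneRingHom.comp (snd (AMonS S M) T).left.appTop.hom)
    { toFun := fun n => MonoidAlgebra.single n (chi (fst (AMonS S M) T) (AddMonoidHom.toMultiplicative N.subtype n))
      map_one' := by rw [map_one, map_one]; rfl
      map_mul' := fun a b => by rw [map_mul, map_mul, MonoidAlgebra.single_mul_single] }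
    (fun _ _ => Commute.all _ _)

theorem phiAct_single (n : Multiplicative N) (r : RR T) :
    phiAct N T (MonoidAlgebra.single n r) =
      MonoidAlgebra.single n (theta M T (MonoidAlgebra.single (AddMonoidHom.toMultiplicative N.subtype n) r)) := by
  refine (MonoidAlgebra.liftNC_single _ _ _ _).trans ?_
  show MonoidAlgebra.single 1 _ * MonoidAlgebra.single n _ = _
  rw [MonoidAlgebra.single_mul_single, _root_.one_mul, theta_single]

theorem coeff_phiAct (x : MonoidAlgebra (RR T) (Multiplicative N)) (n : Multiplicative N) :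
    (phiAct N T x).coeff n = theta M T (MonoidAlgebra.single (AddMonoidHom.toMultiplicative N.subtype n) (x.coeff n)) := by
  classical
  induction x using MonoidAlgebra.induction_linear with
  | zero => simp
  | add a b ha hb => rw [map_add, MonoidAlgebra.coeff_add, Finsupp.add_apply, ha, hb, MonoidAlgebra.coeff_add,
      Finsupp.add_apply, MonoidAlgebra.single_add, map_add]
  | single m r =>
    rw [phiAct_single]
    by_cases h : m = n
    · subst h; simp
    · simp [Finsupp.single_eq_of_ne (Ne.symm h)]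

theorem theta_actMap :
    (actMap N T).left.appTop.hom.comp (theta N T) = (theta N (AMonS S M ⊗ T)).comp (phiAct N T) := by
  refine MonoidAlgebra.ringHom_ext (fun r => ?_) (fun n => ?_)
  · simp only [RingHom.comp_apply, phiAct_single, theta_single, map_one, _root_.mul_one]
    show (actMap N T ≫ snd _ T).left.appTop r = (snd (AMonS S N) (AMonS S M ⊗ T) ≫ snd _ T).left.appTop r
    rw [lift_snd]
  · rw [RingHom.comp_apply, RingHom.comp_apply, phiAct_single, theta_single, theta_single, map_one, _root_.one_mul]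
    erw [← chi_comp (actMap N T) (fst _ T)]
    rw [lift_fst, chi_mul, chi_map, theta_single, map_one, _root_.one_mul, chi_comp]

variable (U : Over S) [IsAffineHom U.hom] (aU : MonAct (AMonS S M) U)

/-- Representatives at level `k` of a morphism into `U ×_S T`. -/
theorem exists_rep {k : ℕ} (b : thick N Q T k ⟶ U ⊗ T) (v : RR (U ⊗ T)) :
    ∃ y, rk N Q T k y = b.left.appTop v := rk_surjective N Q T k _

variable {U}

theorem coeff_eq_zero {k : ℕ} (b : thick N Q T k ⟶ U ⊗ T)
    (vact vpr : thick N Q (AMonS S M ⊗ T) k ⟶ thick N Q T k)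
    (hvact : vact ≫ jk N Q T k = jk N Q _ k ≫ actMap N T) (hvpr : vpr ≫ jk N Q T k = jk N Q _ k ≫ prMap N T)
    (hFG : vact ≫ b = lift (jk N Q _ k ≫ snd _ (AMonS S M ⊗ T) ≫ fst _ T) (vpr ≫ b) ≫ sigW aU T)
    (v : RR (U ⊗ T)) (y : MonoidAlgebra (RR T) (Multiplicative N)) (hy : rk N Q T k y = b.left.appTop v)
    (n : N) (hn : (n : M) ∉ Pk N Q k)
    (hsupp : (co (U ⊗ T) (sigW aU T) v).coeff (Multiplicative.ofAdd (n : M)) = 0) :
    y.coeff (Multiplicative.ofAdd n) = 0 := by
  classical
  let W := U ⊗ T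
  let δv := co W (sigW aU T) v
  have hY : ∀ c : RR W, ∃ z, rk N Q T k z = b.left.appTop c := exists_rep T U b
  choose Y hY using hY
  let z : MonoidAlgebra (RR ((AMonS S M) ⊗ T)) (Multiplicative N) := ∑ m ∈ δv.coeff.support,
    MonoidAlgebra.mapRingHom (Multiplicative N) (snd (AMonS S M) T).left.appTop.hom (Y (δv.coeff m)) *
      MonoidAlgebra.single 1 (chi (fst (AMonS S M) T) m)
  let w : thick N Q ((AMonS S M) ⊗ T) k ⟶ (AMonS S M) ⊗ W := lift (jk N Q _ k ≫ snd _ ((AMonS S M) ⊗ T) ≫ fst _ T) (vpr ≫ b)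
  have hact : rk N Q ((AMonS S M) ⊗ T) k (phiAct N T y) = (vact ≫ b).left.appTop v := by
    rw [show (vact ≫ b).left.appTop v = vact.left.appTop (b.left.appTop v) from rfl, ← hy]
    show (jk N Q ((AMonS S M) ⊗ T) k).left.appTop (theta N ((AMonS S M) ⊗ T) (phiAct N T y)) = _
    rw [← RingHom.comp_apply (theta N ((AMonS S M) ⊗ T)), ← theta_actMap]
    exact (congrArg (fun q => q.left.appTop (theta N T y)) hvact).symm
  have hw : ∀ (m : Multiplicative M) (c : RR W),
      rk N Q ((AMonS S M) ⊗ T) k (MonoidAlgebra.mapRingHom (Multiplicative N) (snd (AMonS S M) T).left.appTop.hom (Y c) *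
        MonoidAlgebra.single 1 (chi (fst (AMonS S M) T) m)) = w.left.appTop (theta M W (MonoidAlgebra.single m c)) := by
    intro m c
    rw [theta_single, map_mul, map_mul]
    congr 1
    · show (jk N Q ((AMonS S M) ⊗ T) k).left.appTop (theta N ((AMonS S M) ⊗ T) _) = (w ≫ snd (AMonS S M) W).left.appTop c
      rw [lift_snd, ← RingHom.comp_apply (theta N ((AMonS S M) ⊗ T)), ← theta_whisker,
        show (vpr ≫ b).left.appTop c = vpr.left.appTop (b.left.appTop c) from rfl, ← hY c]
      exact (congrArg (fun q => q.left.appTop (theta N T (Y c))) hvpr).symm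
    · rw [rk_single, map_one, _root_.mul_one]
      erw [← chi_comp w (fst (AMonS S M) W)]
      rw [lift_fst, chi_comp, chi_comp]
      rfl
  have hz : rk N Q ((AMonS S M) ⊗ T) k z = (w ≫ sigW aU T).left.appTop v := by
    rw [show (w ≫ sigW aU T).left.appTop v = w.left.appTop ((sigW aU T).left.appTop v) from rfl,
      ← theta_co W (sigW aU T) v]
    rw [show co W (sigW aU T) v = δv from rfl]
    conv_rhs => rw [← MonoidAlgebra.sum_coeff_single δv, Finsupp.sum]
    rw [map_sum, map_sum, map_sum]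
    exact Finset.sum_congr rfl fun m _ => hw m _
  have hk : phiAct N T y - z ∈ Ik N Q (RR ((AMonS S M) ⊗ T)) k := by
    rw [← rk_eq_zero_iff, map_sub, sub_eq_zero, hact, hz, hFG]
  have h0 := (mem_Ik N Q _).mp hk (Multiplicative.ofAdd n) hn
  rw [MonoidAlgebra.coeff_sub, Finsupp.sub_apply, sub_eq_zero, coeff_phiAct] at h0
  have hz' : z.coeff (Multiplicative.ofAdd n) = theta M T (∑ m ∈ δv.coeff.support,
      MonoidAlgebra.single m ((Y (δv.coeff m)).coeff (Multiplicative.ofAdd n))) := by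
    simp only [z, MonoidAlgebra.coeff_sum, Finsupp.finset_sum_apply, map_sum]
    refine Finset.sum_congr rfl fun m _ => ?_
    rw [MonoidAlgebra.coeff_mul_single_one, MonoidAlgebra.coeff_mapRingHom, theta_single]
  rw [hz'] at h0
  have h1 := congrArg (fun q => q.coeff (Multiplicative.ofAdd (n : M))) ((theta_iso M T).2.1 h0)
  simp only [MonoidAlgebra.coeff_single, MonoidAlgebra.coeff_sum, Finsupp.finset_sum_apply] at h1
  rw [Finset.sum_eq_zero] at h1
  · rw [← h1]
    exact Finsupp.single_eq_same.symm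
  · intro m hm
    refine Finsupp.single_eq_of_ne ?_
    rintro rfl
    exact Finsupp.mem_support_iff.mp hm hsupp

variable {X : Over S} (aX : MonAct (AMonS S M) X) (f : U ⟶ X) (hf : MonAct.IsEquivariant aU aX f)
  (het : MoreMor.IsFormallyEtaleHom f.left) (hQ : IsFace N Q) (hN : N.FG)

include het hQ in
theorem jk_comp_eq {F G : AMonS S N ⊗ T ⟶ U} (hf' : F ≫ f = G ≫ f)
    (hface : (AMonS.faceMap S hQ ▷ T) ≫ F = (AMonS.faceMap S hQ ▷ T) ≫ G) {k : ℕ} (hk : 1 ≤ k) :
    jk N Q T k ≫ F = jk N Q T k ≫ G := by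
  obtain ⟨p, q, hp, -, -⟩ := exists_face_iso T hQ
  refine ext_etale T f het hk (fun v hv => ?_) (by rw [Category.assoc, Category.assoc, hf'])
  rw [← Category.assoc, hv, ← Category.assoc, hv, ← hp, Category.assoc, hface, Category.assoc]

include het hQ hN in
theorem unique_affine {F G : AMonS S N ⊗ T ⟶ U} (hf' : F ≫ f = G ≫ f)
    (hface : (AMonS.faceMap S hQ ▷ T) ≫ F = (AMonS.faceMap S hQ ▷ T) ≫ G) : F = G := by
  have h : lift F (snd (AMonS S N) T) = lift G (snd (AMonS S N) T) := ext_thick T hQ hN fun k hk => by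
    rw [comp_lift, comp_lift, jk_comp_eq T f het hQ hf' hface hk]
  simpa using congrArg (· ≫ fst U T) h

theorem face_point {W : Over S} (g : W ⟶ AMonS S M) (c : W ⟶ AMonS S Q) :
    ((g ≫ AMonS.map S Q.subtype) * c) ≫ AMonS.faceMap S hQ =
      (g ≫ AMonS.map S N.subtype) * (c ≫ AMonS.faceMap S hQ) := by
  have h := (MonAct.isEquivariant_iff _ _ _).mp (isEquivariant_faceMapS S hQ) W g c
  rw [← Category.assoc, subAct_point, subAct_point] at h
  exact h

include hf het hQ hN in
theorem exists_affine (φ : (attr aX N).obj (op T)) (ψ : (attr aU Q).obj (op T))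
    (hc : (AMonS.faceMap S hQ ▷ T) ≫ φ.1 = ψ.1 ≫ f) :
    ∃ χ : (attr aU N).obj (op T), (∀ k, 1 ≤ k → jk N Q T k ≫ χ.1 ≫ f = jk N Q T k ≫ φ.1) ∧
      (AMonS.faceMap S hQ ▷ T) ≫ χ.1 = ψ.1 := by
  classical
  let W := U ⊗ T
  obtain ⟨p, q, hp, hq, hqp⟩ := exists_face_iso T hQ
  obtain ⟨p', q', hp', hq', hqp'⟩ := exists_face_iso ((AMonS S M) ⊗ T) hQ
  have hpq' : p' ≫ q' = 𝟙 _ := hom_ext_thick (by rw [Category.assoc, hq', hp', Category.id_comp])
  have ha0 : (p ≫ ψ.1) ≫ f = jk N Q T 1 ≫ φ.1 := by rw [Category.assoc, ← hc, ← Category.assoc, hp]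
  choose a haf ha1 using fun (k : ℕ) (hk : 1 ≤ k) => exists_lift_etale T f het φ.1 (p ≫ ψ.1) ha0 hk
  have hcompat : ∀ {k l : ℕ} (hk : 1 ≤ k) (hl : 1 ≤ l) (v : thick N Q T k ⟶ thick N Q T l),
      v ≫ jk N Q T l = jk N Q T k → v ≫ a l hl = a k hk := fun {k l} hk hl v hv => by
    refine ext_etale T f het hk (fun w hw => ?_) (by rw [Category.assoc, haf, ← Category.assoc, hv, haf])
    rw [← Category.assoc, ha1 l hl _ (by rw [Category.assoc, hv, hw]), ha1 k hk w hw]
  let b : ∀ k, 1 ≤ k → (thick N Q T k ⟶ W) := fun k hk => lift (a k hk) (jk N Q T k ≫ snd _ T)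
  have hkey : ∀ (k : ℕ) (hk : 1 ≤ k) (v : RR W) (y : MonoidAlgebra (RR T) (Multiplicative N)),
      rk N Q T k y = (b k hk).left.appTop v → ∀ n : N, (n : M) ∉ Pk N Q k →
        (co W (sigW aU T) v).coeff (Multiplicative.ofAdd (n : M)) = 0 → y.coeff (Multiplicative.ofAdd n) = 0 := by
    intro k hk v y hy n hn hs
    obtain ⟨vact, hvact⟩ := exists_map N Q T k ((AMonS S M) ⊗ T) (actMap N T) (fun V w m hm => by
      rw [lift_fst, MonObj.comp_mul, chi_mul, hm, mul_zero])
    obtain ⟨vpr, hvpr⟩ := exists_map N Q T k ((AMonS S M) ⊗ T) (prMap N T) (fun V w m hm => by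
      rw [whiskerLeft_fst]
      exact hm)
    refine coeff_eq_zero T aU (b k hk) vact vpr hvact hvpr ?_ v y hy n hn hs
    apply CartesianMonoidalCategory.hom_ext
    · simp only [b, sigW, comp_lift, Category.assoc, lift_fst, lift_whiskerLeft_assoc]
      refine ext_etale ((AMonS S M) ⊗ T) f het hk (fun w hw => ?_) ?_
      · suffices hq'' : q' ≫ w ≫ vact ≫ a k hk =
            q' ≫ w ≫ lift (jk N Q ((AMonS S M) ⊗ T) k ≫ snd _ ((AMonS S M) ⊗ T) ≫ fst (AMonS S M) T) (vpr ≫ a k hk) ≫ aU.act by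
          have := congrArg (p' ≫ ·) hq''
          simp only [← Category.assoc, hpq', Category.id_comp] at this
          simpa only [Category.assoc] using this
        rw [← Category.assoc w]
        have hs1 : ∀ (u : thick N Q ((AMonS S M) ⊗ T) k ⟶ thick N Q T k) (G : AMonS S N ⊗ ((AMonS S M) ⊗ T) ⟶ AMonS S N ⊗ T)
            (G' : AMonS S Q ⊗ ((AMonS S M) ⊗ T) ⟶ AMonS S Q ⊗ T), u ≫ jk N Q T k = jk N Q _ k ≫ G →
            (AMonS.faceMap S hQ ▷ ((AMonS S M) ⊗ T)) ≫ G = G' ≫ (AMonS.faceMap S hQ ▷ T) →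
            q' ≫ (w ≫ u) ≫ a k hk = G' ≫ ψ.1 := by
          intro u G G' hu hG
          obtain ⟨t, ht⟩ := exists_tr1 N Q T k hk
          have h1 : q' ≫ w ≫ u = (G' ≫ q) ≫ t := hom_ext_thick (by
            rw [Category.assoc, Category.assoc, hu, ← Category.assoc w, hw, ← Category.assoc, hq', hG,
              Category.assoc, ht, Category.assoc, hq])
          rw [← Category.assoc q', h1, Category.assoc, ha1 k hk t ht, Category.assoc, ← Category.assoc q, hqp,
            Category.id_comp]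
        rw [hs1 vact (actMap N T) (lift (((snd (AMonS S Q) ((AMonS S M) ⊗ T) ≫ fst (AMonS S M) T) ≫ AMonS.map S Q.subtype) * fst _ _)
            (snd (AMonS S Q) ((AMonS S M) ⊗ T) ≫ snd (AMonS S M) T)) hvact (by
          rw [lift_whiskerRight, face_point hQ, comp_lift, MonObj.comp_mul]
          simp only [Category.assoc, whiskerRight_fst, whiskerRight_snd_assoc])]
        rw [comp_lift_assoc w, comp_lift_assoc q']
        have hpr : q' ≫ w ≫ vpr ≫ a k hk = lift (fst (AMonS S Q) ((AMonS S M) ⊗ T)) (snd _ ((AMonS S M) ⊗ T) ≫ snd (AMonS S M) T) ≫ ψ.1 := by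
          rw [← Category.assoc w]
          exact hs1 vpr (prMap N T) _ hvpr (by
            apply CartesianMonoidalCategory.hom_ext <;> simp [prMap, -whiskerRight_tensor])
        have hg : q' ≫ w ≫ jk N Q ((AMonS S M) ⊗ T) k ≫ snd _ ((AMonS S M) ⊗ T) ≫ fst (AMonS S M) T = snd (AMonS S Q) ((AMonS S M) ⊗ T) ≫ fst (AMonS S M) T := by
          rw [← Category.assoc w, hw, ← Category.assoc q', hq', whiskerRight_snd_assoc]
        rw [hg, hpr]
        have h2 := (MonAct.mem_eqvHom_iff ψ.1).mp ψ.2 _ (snd (AMonS S Q) ((AMonS S M) ⊗ T) ≫ fst (AMonS S M) T)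
          (fst _ _) (snd _ ((AMonS S M) ⊗ T) ≫ snd (AMonS S M) T)
        rw [subAct_point] at h2
        exact h2
      · rw [Category.assoc, haf, ← Category.assoc, hvact, Category.assoc, Category.assoc, hf, lift_whiskerLeft_assoc,
          Category.assoc, haf, ← Category.assoc vpr, hvpr, Category.assoc, ← comp_lift_assoc]
        congr 1
        have h2 := (MonAct.mem_eqvHom_iff φ.1).mp φ.2 _ (snd (AMonS S N) ((AMonS S M) ⊗ T) ≫ fst (AMonS S M) T) (fst _ _) (snd (AMonS S N) ((AMonS S M) ⊗ T) ≫ snd (AMonS S M) T)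
        rw [subAct_point] at h2
        rw [h2]
        congr 2
    · simp only [b, sigW, comp_lift, Category.assoc, lift_snd, lift_snd_assoc]
      rw [← Category.assoc, hvact, ← Category.assoc vpr, hvpr]
      simp [Category.assoc]
  choose Y hY using fun (k : ℕ) (hk : 1 ≤ k) (v : RR W) => exists_rep T U (b k hk) v
  have hcons : ∀ {k l : ℕ} (hk : 1 ≤ k) (hl : 1 ≤ l) (_ : k ≤ l) (v : RR W) (n : Multiplicative N),
      (n.toAdd : M) ∉ Pk N Q k → (Y l hl v).coeff n = (Y k hk v).coeff n := by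
    intro k l hk hl hkl v n hn
    obtain ⟨t, ht⟩ := exists_factor N Q T l (jk N Q T k) fun m hm => chi_jk N Q T k (Pk_antitone hkl hm)
    have h1 : rk N Q T k (Y l hl v) = rk N Q T k (Y k hk v) := by
      rw [hY k hk v]
      have h2 : t ≫ b l hl = b k hk := by
        simp only [b, comp_lift]
        rw [hcompat hk hl t ht, ← Category.assoc, ht]
      rw [← h2, show (t ≫ b l hl).left.appTop v = t.left.appTop ((b l hl).left.appTop v) from rfl, ← hY l hl v]
      exact (congrArg (fun q => q.left.appTop (theta N T (Y l hl v))) ht).symm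
    have h3 : Y l hl v - Y k hk v ∈ Ik N Q (RR T) k := by rw [← rk_eq_zero_iff, map_sub, h1, sub_self]
    have := (mem_Ik N Q _).mp h3 n hn
    rwa [MonoidAlgebra.coeff_sub, Finsupp.sub_apply, sub_eq_zero] at this
  choose kn hkn using fun n : Multiplicative N => exists_notMem hQ hN (n.toAdd : M)
  have hinj : Function.Injective (AddMonoidHom.toMultiplicative N.subtype) := fun x y h =>
    Multiplicative.toAdd.injective (Subtype.val_injective (congrArg Multiplicative.toAdd h))
  have hH : ∀ v, ∃ x : MonoidAlgebra (RR T) (Multiplicative N), ∀ k hk, rk N Q T k x = (b k hk).left.appTop v := by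
    intro v
    let s : Finset (Multiplicative N) :=
      (co W (sigW aU T) v).coeff.support.preimage _ hinj.injOn
    refine ⟨∑ n ∈ s, MonoidAlgebra.single n ((Y (kn n + 1) (Nat.le_add_left 1 _) v).coeff n), fun k hk => ?_⟩
    rw [← hY k hk v, ← sub_eq_zero, ← map_sub, rk_eq_zero_iff, mem_Ik]
    intro n hn
    rw [MonoidAlgebra.coeff_sub, Finsupp.sub_apply, sub_eq_zero, MonoidAlgebra.coeff_sum, Finsupp.finset_sum_apply]
    simp only [MonoidAlgebra.coeff_single]
    by_cases hns : n ∈ s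
    · rw [Finset.sum_eq_single n (fun m _ hm => Finsupp.single_eq_of_ne (Ne.symm hm)) (fun h => absurd hns h),
        Finsupp.single_eq_same]
      rcases le_total (kn n + 1) k with h | h
      · exact (hcons _ hk h v n (fun h' => hkn n (Pk_anti h'))).symm
      · exact hcons hk _ h v n hn
    · rw [Finset.sum_eq_zero fun m hm => Finsupp.single_eq_of_ne (by rintro rfl; exact hns hm)]
      refine (hkey k hk v _ (hY k hk v) n.toAdd hn ?_).symm
      by_contra h
      exact hns (Finset.mem_preimage.mpr (Finsupp.mem_support_iff.mpr h))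
  choose H hH using hH
  let Hhom : RR W →+* MonoidAlgebra (RR T) (Multiplicative N) :=
    { toFun := H
      map_one' := eq_of_rk T hQ hN fun k hk => by rw [hH 1 k hk, map_one, map_one]
      map_mul' := fun x y => eq_of_rk T hQ hN fun k hk => by rw [hH _ k hk, map_mul, map_mul, hH x k hk, hH y k hk]
      map_zero' := eq_of_rk T hQ hN fun k hk => by rw [hH 0 k hk, map_zero, map_zero]
      map_add' := fun x y => eq_of_rk T hQ hN fun k hk => by rw [hH _ k hk, map_add, map_add, hH x k hk, hH y k hk] }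
  obtain ⟨f0, hf0⟩ := exists_hom_of_appTop (V := W.left) ((theta N T).comp Hhom)
  have hsnd : f0 ≫ (snd U T).left = (snd (AMonS S N) T).left := by
    refine ext_of_isAffine (CommRingCat.hom_ext (RingHom.ext fun r => ?_))
    refine (hf0 _).trans ((congrArg (theta N T) (eq_of_rk T hQ hN (y := MonoidAlgebra.single 1 r) fun k hk => ?_)).trans ?_)
    · show rk N Q T k (H _) = _
      rw [hH, rk_single, map_one, _root_.mul_one]
      exact congrArg (fun q => q.left.appTop r) (lift_snd (a k hk) (jk N Q T k ≫ snd _ T))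
    · rw [theta_single, map_one, _root_.mul_one]
  let χW : (AMonS S N) ⊗ T ⟶ W := Over.homMk f0 (by rw [← Over.w (snd U T), ← Category.assoc, hsnd, Over.w (snd (AMonS S N) T)])
  have hχW : ∀ k hk, jk N Q T k ≫ χW = b k hk := fun k hk => by
    refine Over.OverMorphism.ext (ext_of_isAffine (CommRingCat.hom_ext (RingHom.ext fun v => ?_)))
    show (jk N Q T k).left.appTop (f0.appTop v) = _
    rw [hf0]
    exact hH v k hk
  let χ := χW ≫ fst U T
  have hχ : ∀ k hk, jk N Q T k ≫ χ = a k hk := fun k hk => by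
    simp only [χ]
    rw [← Category.assoc, hχW k hk, lift_fst]
  have hface : (AMonS.faceMap S hQ ▷ T) ≫ χ = ψ.1 := by
    rw [← hq, Category.assoc, hχ 1 le_rfl]
    have := ha1 1 le_rfl (𝟙 _) (Category.id_comp _)
    rw [Category.id_comp] at this
    rw [this, ← Category.assoc, hqp, Category.id_comp]
  have hfχ : ∀ k, 1 ≤ k → jk N Q T k ≫ χ ≫ f = jk N Q T k ≫ φ.1 := fun k hk => by
    rw [← Category.assoc, hχ k hk, haf]
  clear_value χ
  have heq : MonAct.IsEquivariant ((subAct S M N).prod (MonAct.trivial (AMonS S M) T)) aU χ := by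
    rw [MonAct.mem_eqvHom_iff]
    intro V g c t
    let F : (AMonS S N) ⊗ ((AMonS S M) ⊗ T) ⟶ U := actMap N T ≫ χ
    let G : (AMonS S N) ⊗ ((AMonS S M) ⊗ T) ⟶ U := lift (snd (AMonS S N) ((AMonS S M) ⊗ T) ≫ fst (AMonS S M) T) (prMap N T ≫ χ) ≫ aU.act
    have hFG : lift F (snd (AMonS S N) ((AMonS S M) ⊗ T)) = lift G (snd (AMonS S N) ((AMonS S M) ⊗ T)) := ext_thick ((AMonS S M) ⊗ T) hQ hN fun k hk => by
      rw [comp_lift, comp_lift]
      congr 1
      refine ext_etale ((AMonS S M) ⊗ T) f het hk (fun v hv => ?_) ?_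
      · rw [← Category.assoc v, hv, ← Category.assoc v, hv, ← hp', Category.assoc, Category.assoc]
        congr 1
        simp only [F, G]
        have e1 : (AMonS.faceMap S hQ ▷ ((AMonS S M) ⊗ T)) ≫ actMap N T ≫ χ =
            lift (((snd (AMonS S Q) ((AMonS S M) ⊗ T) ≫ fst (AMonS S M) T) ≫ AMonS.map S Q.subtype) * fst _ _)
              (snd (AMonS S Q) ((AMonS S M) ⊗ T) ≫ snd (AMonS S M) T) ≫ ψ.1 := by
          rw [← hface, lift_whiskerRight_assoc, face_point hQ, comp_lift_assoc, MonObj.comp_mul]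
          simp only [Category.assoc, whiskerRight_fst, whiskerRight_snd_assoc]
        have e2 : (AMonS.faceMap S hQ ▷ ((AMonS S M) ⊗ T)) ≫ prMap N T ≫ χ =
            lift (fst (AMonS S Q) ((AMonS S M) ⊗ T)) (snd _ ((AMonS S M) ⊗ T) ≫ snd (AMonS S M) T) ≫ ψ.1 := by
          rw [← hface, lift_whiskerRight_assoc, ← Category.assoc]
          congr 1
          apply CartesianMonoidalCategory.hom_ext <;> simp [prMap, -whiskerRight_tensor]
        rw [e1, comp_lift_assoc (AMonS.faceMap S hQ ▷ (AMonS S M ⊗ T)) (snd (AMonS S N) (AMonS S M ⊗ T) ≫ fst _ T),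
          whiskerRight_snd_assoc, e2]
        have h2 := (MonAct.mem_eqvHom_iff ψ.1).mp ψ.2 _ (snd (AMonS S Q) ((AMonS S M) ⊗ T) ≫ fst (AMonS S M) T)
          (fst _ _) (snd _ ((AMonS S M) ⊗ T) ≫ snd (AMonS S M) T)
        rw [subAct_point] at h2
        exact h2
      · obtain ⟨vact, hvact⟩ := exists_map N Q T k ((AMonS S M) ⊗ T) (actMap N T) (fun V w m hm => by
          rw [lift_fst, MonObj.comp_mul, chi_mul, hm, mul_zero])
        obtain ⟨vpr, hvpr⟩ := exists_map N Q T k ((AMonS S M) ⊗ T) (prMap N T) (fun V w m hm => by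
          rw [whiskerLeft_fst]
          exact hm)
        have e1 : jk N Q ((AMonS S M) ⊗ T) k ≫ actMap N T ≫ χ ≫ f = jk N Q ((AMonS S M) ⊗ T) k ≫ actMap N T ≫ φ.1 := by
          rw [← reassoc_of% hvact, hfχ k hk, ← Category.assoc, hvact, Category.assoc]
        have e2 : jk N Q ((AMonS S M) ⊗ T) k ≫ prMap N T ≫ χ ≫ f = jk N Q ((AMonS S M) ⊗ T) k ≫ prMap N T ≫ φ.1 := by
          rw [← reassoc_of% hvpr, hfχ k hk, ← Category.assoc, hvpr, Category.assoc]
        rw [Category.assoc, Category.assoc]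
        show jk N Q ((AMonS S M) ⊗ T) k ≫ (actMap N T ≫ χ) ≫ f = jk N Q ((AMonS S M) ⊗ T) k ≫ (lift _ (prMap N T ≫ χ) ≫ aU.act) ≫ f
        rw [Category.assoc, Category.assoc, hf, lift_whiskerLeft_assoc, Category.assoc, e1,
          comp_lift_assoc (jk N Q (AMonS S M ⊗ T) k) (snd (AMonS S N) (AMonS S M ⊗ T) ≫ fst _ T), e2,
          ← comp_lift_assoc]
        congr 1
        have h2 := (MonAct.mem_eqvHom_iff φ.1).mp φ.2 _ (snd (AMonS S N) ((AMonS S M) ⊗ T) ≫ fst (AMonS S M) T) (fst _ _) (snd (AMonS S N) ((AMonS S M) ⊗ T) ≫ snd (AMonS S M) T)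
        rw [subAct_point] at h2
        rw [h2]
        congr 2
    have h3 : F = G := by simpa using congrArg (· ≫ fst U ((AMonS S M) ⊗ T)) hFG
    have h4 := congrArg (lift c (lift g t) ≫ ·) h3
    simp only [F, G, actMap, prMap, Category.assoc, comp_lift_assoc, MonObj.comp_mul, lift_fst_assoc,
      lift_snd_assoc, lift_fst, lift_snd, lift_whiskerLeft_assoc] at h4
    rw [subAct_point]
    exact h4
  exact ⟨⟨χ, heq⟩, hfχ, hface⟩

end Groth.Agent.H28.FaceLift
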