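import Groth.Prelude.Def_Magnet4
import Mathlib.Order.WellQuasiOrder
import Mathlib.GroupTheory.Finiteness
import Mathlib.Algebra.MonoidAlgebra.Ideal

/-! Powers of the complement of a face, as monomial ideals. -/

universe u

open Magnet

namespace Groth.Agent.H28.FacePow

variable {M : Type} [AddCommGroup M] {N Q : AddSubmonoid M}

variable (N Q) in
/-- Elements of `N` which are sums of `k` elements outside the face and an element of `N`. -/
def Pk : ℕ → Set M
  | 0 => N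
  | k + 1 => {x | ∃ a ∈ N, a ∉ Q ∧ ∃ b ∈ Pk k, x = a + b}

theorem Pk_le {k : ℕ} : ∀ {x : M}, x ∈ Pk N Q k → x ∈ N := by
  induction k with
  | zero => exact fun h => h
  | succ k ih =>
    rintro x ⟨a, ha, -, b, hb, rfl⟩
    exact N.add_mem ha (ih hb)

theorem Pk_add_right {k : ℕ} : ∀ {x n : M}, n ∈ N → x ∈ Pk N Q k → n + x ∈ Pk N Q k := by
  induction k with
  | zero => exact fun hn h => N.add_mem hn h
  | succ k ih =>
    rintro x n hn ⟨a, ha, haQ, b, hb, rfl⟩
    exact ⟨a, ha, haQ, n + b, ih hn hb, by abel⟩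

theorem Pk_anti {k : ℕ} {x : M} (h : x ∈ Pk N Q (k + 1)) : x ∈ Pk N Q k := by
  obtain ⟨a, ha, -, b, hb, rfl⟩ := h
  exact Pk_add_right ha hb

theorem Pk_antitone {k l : ℕ} (hkl : k ≤ l) {x : M} (h : x ∈ Pk N Q l) : x ∈ Pk N Q k := by
  induction hkl with
  | refl => exact h
  | step _ ih => exact ih (Pk_anti h)

theorem Pk_add {k : ℕ} : ∀ {l : ℕ} {x y : M}, x ∈ Pk N Q k → y ∈ Pk N Q l → x + y ∈ Pk N Q (k + l) := by
  induction k with
  | zero =>
    intro l x y hx hy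
    rw [Nat.zero_add]
    exact Pk_add_right hx hy
  | succ k ih =>
    rintro l x y ⟨a, ha, haQ, b, hb, rfl⟩ hy
    rw [Nat.succ_add]
    exact ⟨a, ha, haQ, b + y, ih hb hy, add_assoc _ _ _⟩

theorem Pk_one (hQ : IsFace N Q) {x : M} : x ∈ Pk N Q 1 ↔ x ∈ N ∧ x ∉ Q := by
  constructor
  · rintro ⟨a, ha, haQ, b, hb, rfl⟩
    exact ⟨N.add_mem ha hb, fun h => haQ (hQ.mem_of_add_mem a ha b hb h).1⟩
  · rintro ⟨hx, hxQ⟩
    exact ⟨x, hx, hxQ, 0, N.zero_mem, (add_zero x).symm⟩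

theorem exists_repr {s : Finset M} (hs : AddSubmonoid.closure (s : Set M) = N) {x : M} (hx : x ∈ N) :
    ∃ c : s → ℕ, x = ∑ g : s, c g • (g : M) := by
  classical
  rw [← hs] at hx
  induction hx using AddSubmonoid.closure_induction with
  | mem g hg =>
    refine ⟨Pi.single ⟨g, hg⟩ 1, ?_⟩
    rw [Finset.sum_eq_single ⟨g, hg⟩ (fun b _ hb => by rw [Pi.single_eq_of_ne hb, zero_smul]) (by simp)]
    simp
  | zero => exact ⟨0, by simp⟩
  | add a b _ _ ha hb =>
    obtain ⟨c, rfl⟩ := ha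
    obtain ⟨d, rfl⟩ := hb
    exact ⟨c + d, by simp [add_smul, Finset.sum_add_distrib]⟩

open Classical in
theorem exists_weight (hQ : IsFace N Q) {s : Finset M} (hs : AddSubmonoid.closure (s : Set M) = N) {k : ℕ} :
    ∀ {x : M}, x ∈ Pk N Q k → ∃ c : s → ℕ, x = ∑ g : s, c g • (g : M) ∧ k ≤ ∑ g : s, if (g : M) ∈ Q then 0 else c g := by
  induction k with
  | zero =>
    intro x hx
    obtain ⟨c, hc⟩ := exists_repr hs hx
    exact ⟨c, hc, Nat.zero_le _⟩
  | succ k ih =>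
    rintro x ⟨a, ha, haQ, b, hb, rfl⟩
    obtain ⟨c, rfl, hck⟩ := ih hb
    obtain ⟨d, rfl⟩ := exists_repr hs ha
    have hd : 1 ≤ ∑ g : s, if (g : M) ∈ Q then 0 else d g := by
      by_contra h
      apply haQ
      have h0 : ∀ g : s, (if (g : M) ∈ Q then 0 else d g) = 0 := fun g =>
        (Finset.sum_eq_zero_iff.mp (Nat.lt_one_iff.mp (not_le.mp h))) g (Finset.mem_univ g)
      refine AddSubmonoid.sum_mem Q fun g _ => ?_
      by_cases hg : (g : M) ∈ Q
      · exact Q.nsmul_mem hg _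
      · have := h0 g
        rw [if_neg hg] at this
        rw [this, zero_smul]
        exact Q.zero_mem
    refine ⟨d + c, by simp [add_smul, Finset.sum_add_distrib], ?_⟩
    have : (∑ g : s, if (g : M) ∈ Q then 0 else (d + c) g) =
        (∑ g : s, if (g : M) ∈ Q then 0 else d g) + ∑ g : s, if (g : M) ∈ Q then 0 else c g := by
      rw [← Finset.sum_add_distrib]
      exact Finset.sum_congr rfl fun g _ => by split <;> simp
    omega

/-- For a finitely generated monoid no element is in all powers. -/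
theorem exists_notMem (hQ : IsFace N Q) (hN : N.FG) (x : M) : ∃ k, x ∉ Pk N Q k := by
  classical
  obtain ⟨s, hs⟩ := hN
  by_contra h
  push Not at h
  choose c hc hck using fun k => exists_weight hQ hs (h k)
  let w : (s → ℕ) → ℕ := fun c => ∑ g : s, if (g : M) ∈ Q then 0 else c g
  let j : ℕ → ℕ := fun n => Nat.rec 0 (fun _ i => w (c i) + 1) n
  have hj : ∀ m n, m < n → w (c (j m)) < w (c (j n)) := by
    have h1 : ∀ n, w (c (j n)) < w (c (j (n + 1))) := fun n => lt_of_lt_of_le (Nat.lt_succ_self _) (hck _)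
    exact fun m n hmn => strictMono_nat_of_lt_succ h1 hmn
  obtain ⟨m, n, hmn, hle⟩ := wellQuasiOrdered_le (fun i => c (j i) : ℕ → (s → ℕ))
  have hlt : (∑ g : s, if (g : M) ∈ Q then 0 else c (j m) g) < ∑ g : s, if (g : M) ∈ Q then 0 else c (j n) g :=
    hj m n hmn
  obtain ⟨g₀, -, hg₀⟩ := Finset.exists_lt_of_sum_lt hlt
  by_cases hgQ : (g₀ : M) ∈ Q
  · rw [if_pos hgQ, if_pos hgQ] at hg₀
    exact lt_irrefl _ hg₀
  rw [if_neg hgQ, if_neg hgQ] at hg₀
  let d : s → ℕ := c (j n) - c (j m)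
  have hd : ∑ g : s, d g • (g : M) = 0 := by
    have h2 : c (j n) = c (j m) + d := funext fun g => (Nat.add_sub_cancel' (hle g)).symm
    have h1 := (hc (j n)).symm.trans (hc (j m))
    rw [h2] at h1
    simp only [Pi.add_apply, add_smul, Finset.sum_add_distrib] at h1
    exact add_eq_left.mp h1
  have hmem : ∀ g : s, (g : M) ∈ N := fun g => hs ▸ AddSubmonoid.subset_closure g.2
  obtain ⟨e, he⟩ : ∃ e, d g₀ = e + 1 := ⟨d g₀ - 1, by
    have : 0 < d g₀ := Nat.sub_pos_of_lt hg₀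
    omega⟩
  rw [← Finset.add_sum_erase _ _ (Finset.mem_univ g₀), he, succ_nsmul', add_assoc] at hd
  exact hgQ (hQ.mem_of_add_mem _ (hmem g₀) _
    (N.add_mem (N.nsmul_mem (hmem g₀) _) (AddSubmonoid.sum_mem _ fun g _ => N.nsmul_mem (hmem g) _))
    (hd ▸ Q.zero_mem)).1

/-! ### The ideals -/

variable (N Q) (R : Type u) [CommRing R]

/-- The ideal of monomials in `Pk`. -/
noncomputable def Ik (k : ℕ) : Ideal (MonoidAlgebra R (Multiplicative N)) :=
  Ideal.span (MonoidAlgebra.of R (Multiplicative N) '' {n | (n.toAdd : M) ∈ Pk N Q k})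

theorem mem_Ik {k : ℕ} {x : MonoidAlgebra R (Multiplicative N)} :
    x ∈ Ik N Q R k ↔ ∀ n, (n.toAdd : M) ∉ Pk N Q k → x.coeff n = 0 := by
  classical
  rw [Ik, MonoidAlgebra.mem_ideal_span_of_image]
  constructor
  · intro h n hn
    by_contra hne
    obtain ⟨m', hm', d, rfl⟩ := h n (Finsupp.mem_support_iff.mpr hne)
    exact hn (Pk_add_right d.toAdd.2 hm')
  · intro h n hn
    refine ⟨n, ?_, 1, (_root_.one_mul n).symm⟩
    by_contra hne
    exact Finsupp.mem_support_iff.mp hn (h n hne)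

theorem single_mem_Ik {k : ℕ} {n : Multiplicative N} (hn : (n.toAdd : M) ∈ Pk N Q k) (r : R) :
    MonoidAlgebra.single n r ∈ Ik N Q R k := by
  classical
  rw [mem_Ik]
  intro m hm
  rw [MonoidAlgebra.coeff_single, Finsupp.single_eq_of_ne]
  rintro rfl
  exact hm hn

theorem Ik_le {k l : ℕ} (h : k ≤ l) : Ik N Q R l ≤ Ik N Q R k :=
  Ideal.span_mono (Set.image_mono fun _ hn => Pk_antitone h hn)

theorem Ik_mul (k l : ℕ) : Ik N Q R k * Ik N Q R l ≤ Ik N Q R (k + l) := by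
  rw [Ik, Ik, Ik, Ideal.span_mul_span', Ideal.span_le]
  rintro _ ⟨_, ⟨m, hm, rfl⟩, _, ⟨m', hm', rfl⟩, rfl⟩
  exact Ideal.subset_span ⟨m * m', Pk_add hm hm', map_mul _ _ _⟩

theorem Ik_sq {k : ℕ} (hk : 1 ≤ k) : Ik N Q R k ^ 2 ≤ Ik N Q R (k + 1) :=
  (pow_two (Ik N Q R k)).symm ▸ (Ik_mul N Q R k k).trans (Ik_le N Q R (by omega))

theorem eq_of_forall_sub_mem (hQ : IsFace N Q) (hN : N.FG) {x y : MonoidAlgebra R (Multiplicative N)}
    (h : ∀ k, x - y ∈ Ik N Q R k) : x = y := by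
  refine MonoidAlgebra.ext (Finsupp.ext fun n => ?_)
  obtain ⟨k, hk⟩ := exists_notMem hQ hN (n.toAdd : M)
  exact sub_eq_zero.mp ((mem_Ik N Q R).mp (h k) n hk)

end Groth.Agent.H28.FacePow
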