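import Groth.Agent.H28.SmoothLift

/-! Equivariant push-outs of affine schemes along surjections of rings of functions. -/

universe u

open CategoryTheory CategoryTheory.Limits MonoidalCategory CartesianMonoidalCategory MonObj AlgebraicGeometry
open Opposite Magnet

namespace Groth.Agent.H28.FacePush

open H23.CharPts MagnetAff EqvAvg

theorem isFibreProd_congr {A A' B C A₁ A₁' B₁ C₁ : Type u} [CommRing A] [CommRing A'] [CommRing B] [CommRing C]
    [CommRing A₁] [CommRing A₁'] [CommRing B₁] [CommRing C₁] {p : A' →+* A} {q : B →+* A} {α : C →+* A'} {β : C →+* B}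
    {p₁ : A₁' →+* A₁} {q₁ : B₁ →+* A₁} {α₁ : C₁ →+* A₁'} {β₁ : C₁ →+* B₁}
    (h : RingPO.IsFibreProd p q α β) {eA : A →+* A₁} {eA' : A' →+* A₁'} {eB : B →+* B₁} {eC : C →+* C₁}
    (hA : Function.Bijective eA) (hA' : Function.Bijective eA') (hB : Function.Bijective eB)
    (hC : Function.Bijective eC) (hp : p₁.comp eA' = eA.comp p) (hq : q₁.comp eB = eA.comp q)
    (hα : α₁.comp eC = eA'.comp α) (hβ : β₁.comp eC = eB.comp β) : RingPO.IsFibreProd p₁ q₁ α₁ β₁ := by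
  have hp' := fun x => RingHom.congr_fun hp x
  have hq' := fun x => RingHom.congr_fun hq x
  have hα' := fun x => RingHom.congr_fun hα x
  have hβ' := fun x => RingHom.congr_fun hβ x
  simp only [RingHom.comp_apply] at hp' hq' hα' hβ'
  refine ⟨fun a => ?_, fun z => ?_, fun z z' h1 h2 => ?_, fun b a hab => ?_⟩
  · obtain ⟨a, rfl⟩ := hA.2 a
    obtain ⟨x, rfl⟩ := h.surj a
    exact ⟨eA' x, hp' x⟩
  · obtain ⟨z, rfl⟩ := hC.2 z
    rw [hα', hp', hβ', hq', h.comm]
  · obtain ⟨z, rfl⟩ := hC.2 z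
    obtain ⟨z', rfl⟩ := hC.2 z'
    rw [hα', hα'] at h1
    rw [hβ', hβ'] at h2
    rw [h.ext z z' (hA'.1 h1) (hB.1 h2)]
  · obtain ⟨b, rfl⟩ := hB.2 b
    obtain ⟨a, rfl⟩ := hA'.2 a
    rw [hp', hq'] at hab
    obtain ⟨z, h1, h2⟩ := h.exists_of_eq b a (hA.1 hab)
    exact ⟨eC z, by rw [hα', h1], by rw [hβ', h2]⟩

theorem isFibreProd_mapRingHom {G : Type} [CommMonoid G] {A A' B C : Type u} [CommRing A] [CommRing A'] [CommRing B]
    [CommRing C] {p : A' →+* A} {q : B →+* A} {α : C →+* A'} {β : C →+* B} (h : RingPO.IsFibreProd p q α β) :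
    RingPO.IsFibreProd (MonoidAlgebra.mapRingHom G p) (MonoidAlgebra.mapRingHom G q)
      (MonoidAlgebra.mapRingHom G α) (MonoidAlgebra.mapRingHom G β) := by
  classical
  refine ⟨mapRingHom_surjective h.surj, fun z => ?_, fun z z' h1 h2 => ?_, fun b a hab => ?_⟩
  · refine MonoidAlgebra.ext (Finsupp.ext fun m => ?_)
    simp only [MonoidAlgebra.coe_mapRingHom, MonoidAlgebra.coeff_map, Finsupp.mapRange_apply]
    exact h.comm _
  · refine MonoidAlgebra.ext (Finsupp.ext fun m => ?_)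
    have k1 := congrArg (fun w => w.coeff m) h1
    have k2 := congrArg (fun w => w.coeff m) h2
    simp only [MonoidAlgebra.coe_mapRingHom, MonoidAlgebra.coeff_map, Finsupp.mapRange_apply] at k1 k2
    exact h.ext _ _ k1 k2
  · have hm : ∀ m : G, ∃ z, α z = a.coeff m ∧ β z = b.coeff m := fun m => by
      refine h.exists_of_eq _ _ ?_
      have k := congrArg (fun w => w.coeff m) hab
      simp only [MonoidAlgebra.coe_mapRingHom, MonoidAlgebra.coeff_map, Finsupp.mapRange_apply] at k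
      exact k
    choose z hz1 hz2 using hm
    let s := a.coeff.support ∪ b.coeff.support
    refine ⟨∑ m ∈ s, MonoidAlgebra.single m (z m), ?_, ?_⟩
    · simp only [map_sum, MonoidAlgebra.mapRingHom_single, hz1]
      exact (Finset.sum_subset Finset.subset_union_left fun m _ hm => by
        simp [Finsupp.notMem_support_iff.mp hm]).symm.trans a.sum_coeff_single
    · simp only [map_sum, MonoidAlgebra.mapRingHom_single, hz2]
      exact (Finset.sum_subset Finset.subset_union_right fun m _ hm => by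
        simp [Finsupp.notMem_support_iff.mp hm]).symm.trans b.sum_coeff_single

variable {S : Scheme.{u}} {W U₁ U₂ P : Over S} [IsAffine W.left] [IsAffine U₁.left] [IsAffine U₂.left] [IsAffine P.left]
  {a : W ⟶ U₁} {b : W ⟶ U₂} {ν₁ : U₁ ⟶ P} {ν₂ : U₂ ⟶ P}

variable (a b ν₁ ν₂) in
/-- A push-out of affine schemes given by a fibre product of rings with a surjection. -/
def IsPO : Prop :=
  RingPO.IsFibreProd a.left.appTop.hom b.left.appTop.hom ν₁.left.appTop.hom ν₂.left.appTop.hom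

omit [IsAffine W.left] [IsAffine U₁.left] [IsAffine U₂.left] [IsAffine P.left] in
theorem toSpecΓ_cancel {Z Z' : Scheme.{u}} {X : Scheme.{u}} (f : Z ⟶ Z') (g : Z' ⟶ X) [IsAffine Z'] :
    Z.toSpecΓ ≫ Spec.map f.appTop ≫ Z'.isoSpec.inv ≫ g = f ≫ g := by
  rw [← Scheme.toSpecΓ_naturality_assoc]
  show f ≫ Z'.isoSpec.hom ≫ _ = _
  rw [Iso.hom_inv_id_assoc]

theorem IsPO.condition (h : IsPO a b ν₁ ν₂) : a ≫ ν₁ = b ≫ ν₂ :=
  Over.OverMorphism.ext (ext_of_isAffine (CommRingCat.hom_ext (RingHom.ext fun z => by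
    simpa using h.comm z)))

theorem IsPO.hom_ext (h : IsPO a b ν₁ ν₂) {X : Over S} {k k' : P ⟶ X} (h₁ : ν₁ ≫ k = ν₁ ≫ k')
    (h₂ : ν₂ ≫ k = ν₂ ≫ k') : k = k' := by
  apply Over.OverMorphism.ext
  rw [← cancel_epi P.left.isoSpec.inv]
  refine RingPO.IsFibreProd.hom_ext h ?_ ?_
  · rw [← cancel_epi U₁.left.toSpecΓ]
    exact (toSpecΓ_cancel ν₁.left k.left).trans ((congrArg Over.Hom.left h₁).trans (toSpecΓ_cancel ν₁.left k'.left).symm)
  · rw [← cancel_epi U₂.left.toSpecΓ]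
    exact (toSpecΓ_cancel ν₂.left k.left).trans ((congrArg Over.Hom.left h₂).trans (toSpecΓ_cancel ν₂.left k'.left).symm)

theorem IsPO.exists_desc (h : IsPO a b ν₁ ν₂) {X : Over S} (f₁ : U₁ ⟶ X) (f₂ : U₂ ⟶ X) (w : a ≫ f₁ = b ≫ f₂) :
    ∃ k : P ⟶ X, ν₁ ≫ k = f₁ ∧ ν₂ ≫ k = f₂ := by
  obtain ⟨d, h1, h2⟩ := RingPO.IsFibreProd.exists_desc h (U₁.left.isoSpec.inv ≫ f₁.left) (U₂.left.isoSpec.inv ≫ f₂.left) (by
    rw [← cancel_epi W.left.toSpecΓ]
    exact (toSpecΓ_cancel a.left f₁.left).trans ((congrArg Over.Hom.left w).trans (toSpecΓ_cancel b.left f₂.left).symm))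
  let k := P.left.isoSpec.hom ≫ d
  have hk1 : ν₁.left ≫ k = f₁.left := by
    show ν₁.left ≫ P.left.toSpecΓ ≫ d = _
    rw [Scheme.toSpecΓ_naturality_assoc]
    exact (congrArg (U₁.left.toSpecΓ ≫ ·) h1).trans (U₁.left.isoSpec.hom_inv_id_assoc _)
  have hk2 : ν₂.left ≫ k = f₂.left := by
    show ν₂.left ≫ P.left.toSpecΓ ≫ d = _
    rw [Scheme.toSpecΓ_naturality_assoc]
    exact (congrArg (U₂.left.toSpecΓ ≫ ·) h2).trans (U₂.left.isoSpec.hom_inv_id_assoc _)
  refine ⟨Over.homMk k ?_, Over.OverMorphism.ext hk1, Over.OverMorphism.ext hk2⟩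
  rw [← cancel_epi P.left.isoSpec.inv]
  refine RingPO.IsFibreProd.hom_ext h ?_ ?_
  · rw [← cancel_epi U₁.left.toSpecΓ]
    refine (toSpecΓ_cancel ν₁.left _).trans (Eq.trans ?_ (toSpecΓ_cancel ν₁.left _).symm)
    rw [← Category.assoc, hk1, Over.w f₁, Over.w ν₁]
  · rw [← cancel_epi U₂.left.toSpecΓ]
    refine (toSpecΓ_cancel ν₂.left _).trans (Eq.trans ?_ (toSpecΓ_cancel ν₂.left _).symm)
    rw [← Category.assoc, hk2, Over.w f₂, Over.w ν₂]

theorem IsPO.isPushout (h : IsPO a b ν₁ ν₂) : IsPushout a b ν₁ ν₂ :=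
  ⟨⟨h.condition⟩, ⟨PushoutCocone.IsColimit.mk _
    (fun s => (h.exists_desc s.inl s.inr s.condition).choose)
    (fun s => (h.exists_desc s.inl s.inr s.condition).choose_spec.1)
    (fun s => (h.exists_desc s.inl s.inr s.condition).choose_spec.2)
    (fun s m h₁ h₂ => h.hom_ext (h₁.trans (h.exists_desc s.inl s.inr s.condition).choose_spec.1.symm)
      (h₂.trans (h.exists_desc s.inl s.inr s.condition).choose_spec.2.symm))⟩⟩

theorem IsPO.whisker (h : IsPO a b ν₁ ν₂) (K : Type) [AddCommMonoid K] :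
    IsPO (AMonS S K ◁ a) (AMonS S K ◁ b) (AMonS S K ◁ ν₁) (AMonS S K ◁ ν₂) :=
  isFibreProd_congr (isFibreProd_mapRingHom (G := Multiplicative K) h) (theta_iso K W).2 (theta_iso K U₁).2
    (theta_iso K U₂).2 (theta_iso K P).2 (theta_whisker U₁ a) (theta_whisker U₂ b) (theta_whisker P ν₁)
    (theta_whisker P ν₂)

omit [IsAffine W.left] [IsAffine U₁.left] [IsAffine U₂.left] [IsAffine P.left] in
theorem appTop_comp_apply {X Y Z : Over S} (f : X ⟶ Y) (g : Y ⟶ Z) (z : Γ(Z.left, ⊤)) :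
    (f ≫ g).left.appTop z = f.left.appTop (g.left.appTop z) := rfl

omit [IsAffine P.left] in
/-- The push-out exists. -/
theorem exists_isPO {V : Over S} [IsAffine V.left] (g₁ : U₁ ⟶ V) (g₂ : U₂ ⟶ V) (w : a ≫ g₁ = b ≫ g₂)
    (ha : Function.Surjective a.left.appTop.hom) (hg₂ : Function.Surjective g₂.left.appTop.hom)
    (r₁ : V ⟶ U₁) (r₀ : U₂ ⟶ W) (hr₁ : g₁ ≫ r₁ = 𝟙 U₁) (hr₀ : g₂ ≫ r₁ = r₀ ≫ a) :
    ∃ (P : Over S) (_ : IsAffine P.left) (ν₁ : U₁ ⟶ P) (ν₂ : U₂ ⟶ P) (j : P ⟶ V),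
      IsPO a b ν₁ ν₂ ∧ ν₁ ≫ j = g₁ ∧ ν₂ ≫ j = g₂ ∧ Mono j ∧ Function.Surjective j.left.appTop.hom := by
  let D : Subring (RR U₁ × RR U₂) :=
    RingHom.eqLocus (a.left.appTop.hom.comp (RingHom.fst _ _)) (b.left.appTop.hom.comp (RingHom.snd _ _))
  let α : D →+* RR U₁ := (RingHom.fst _ _).comp D.subtype
  let β : D →+* RR U₂ := (RingHom.snd _ _).comp D.subtype
  have hD : RingPO.IsFibreProd a.left.appTop.hom b.left.appTop.hom α β :=
    ⟨ha, fun z => z.2, fun z z' h1 h2 => Subtype.ext (Prod.ext h1 h2),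
      fun q p hpq => ⟨⟨(p, q), hpq⟩, rfl, rfl⟩⟩
  let ψ : RR V →+* D := (g₁.left.appTop.hom.prod g₂.left.appTop.hom).codRestrict D fun v => by
    show a.left.appTop (g₁.left.appTop v) = b.left.appTop (g₂.left.appTop v)
    rw [← appTop_comp_apply, ← appTop_comp_apply, w]
  have hψ : Function.Surjective ψ := by
    rintro ⟨⟨p, q⟩, hpq : a.left.appTop p = b.left.appTop q⟩
    obtain ⟨q', rfl⟩ := hg₂ q
    let d := p - g₁.left.appTop q'
    have hd : a.left.appTop d = 0 := by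
      show a.left.appTop (p - g₁.left.appTop q') = 0
      rw [map_sub, hpq, ← appTop_comp_apply a g₁, w, appTop_comp_apply, sub_self]
    refine ⟨q' + r₁.left.appTop d, Subtype.ext (Prod.ext ?_ ?_)⟩
    · show g₁.left.appTop (q' + r₁.left.appTop d) = p
      rw [map_add, ← appTop_comp_apply g₁ r₁, hr₁]
      show g₁.left.appTop q' + d = p
      simp only [d]
      abel
    · show g₂.left.appTop (q' + r₁.left.appTop d) = g₂.left.appTop q'
      rw [map_add, ← appTop_comp_apply g₂ r₁, hr₀, appTop_comp_apply, hd, map_zero, add_zero]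
  let DR : CommRingCat.{u} := CommRingCat.of D
  let φj : Spec DR ⟶ V.left := Spec.map (CommRingCat.ofHom ψ) ≫ V.left.isoSpec.inv
  let P : Over S := Over.mk (φj ≫ V.hom)
  haveI : IsAffine P.left := inferInstanceAs (IsAffine (Spec DR))
  let j : P ⟶ V := Over.homMk φj rfl
  have hj₁ : hspec (CommRingCat.ofHom α) ≫ φj = g₁.left :=
    ((Category.assoc _ _ _).symm.trans (congrArg (· ≫ V.left.isoSpec.inv) (hspec_comp _ _))).trans (hspec_appTop g₁.left)
  have hj₂ : hspec (CommRingCat.ofHom β) ≫ φj = g₂.left :=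
    ((Category.assoc _ _ _).symm.trans (congrArg (· ≫ V.left.isoSpec.inv) (hspec_comp _ _))).trans (hspec_appTop g₂.left)
  let ν₁ : U₁ ⟶ P := Over.homMk (hspec (CommRingCat.ofHom α))
    ((Category.assoc _ _ _).symm.trans ((congrArg (· ≫ V.hom) hj₁).trans (Over.w g₁)))
  let ν₂ : U₂ ⟶ P := Over.homMk (hspec (CommRingCat.ofHom β))
    ((Category.assoc _ _ _).symm.trans ((congrArg (· ≫ V.hom) hj₂).trans (Over.w g₂)))
  let eD := Scheme.ΓSpecIso DR
  have hinv : ∀ {Z : Scheme.{u}} (φ : DR ⟶ Γ(Z, ⊤)) (z : D), (hspec φ).appTop (eD.inv z) = φ z := fun {Z} φ z => by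
    have h1 : eD.inv ≫ (hspec φ).appTop = φ := by
      rw [hspec, Scheme.Hom.comp_appTop, ← Category.assoc, ← Scheme.ΓSpecIso_inv_naturality, Category.assoc,
        Scheme.toSpecΓ_appTop]
      exact (congrArg (_ ≫ ·) (Scheme.ΓSpecIso _).inv_hom_id).trans (Category.comp_id _)
    exact ConcreteCategory.congr_hom h1 z
  haveI : Mono j := by
    haveI : IsClosedImmersion (Spec.map (CommRingCat.ofHom ψ)) := IsClosedImmersion.spec_of_surjective _ hψ
    haveI : Mono j.left := inferInstanceAs (Mono (_ ≫ _))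
    exact Over.mono_of_mono_left j
  refine ⟨P, inferInstance, ν₁, ν₂, j, ?_, Over.OverMorphism.ext hj₁, Over.OverMorphism.ext hj₂, inferInstance, ?_⟩
  · exact isFibreProd_congr (eA := RingHom.id _) (eA' := RingHom.id _) (eB := RingHom.id _) (eC := eD.inv.hom) hD
      Function.bijective_id Function.bijective_id Function.bijective_id (ConcreteCategory.bijective_of_isIso eD.inv)
      rfl rfl (RingHom.ext fun z => hinv _ z) (RingHom.ext fun z => hinv _ z)
  · haveI : IsClosedImmersion φj := by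
      haveI : IsClosedImmersion (Spec.map (CommRingCat.ofHom ψ)) := IsClosedImmersion.spec_of_surjective _ hψ
      exact inferInstanceAs (IsClosedImmersion (_ ≫ _))
    exact (IsClosedImmersion.isAffine_surjective_of_isAffine φj).2

section Act

variable {V : Over S} [IsAffine V.left] {M : Type} [AddCommGroup M] {g₁ : U₁ ⟶ V} {g₂ : U₂ ⟶ V} {j : P ⟶ V}

/-- Equivariance on a push-out. -/
theorem IsPO.isEquivariant_of (h : IsPO a b ν₁ ν₂) {a₁ : MonAct (AMonS S M) U₁} {a₂ : MonAct (AMonS S M) U₂}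
    {aP : MonAct (AMonS S M) P} {X : Over S} {aX : MonAct (AMonS S M) X} {k : P ⟶ X}
    (hν₁ : MonAct.IsEquivariant a₁ aP ν₁) (hν₂ : MonAct.IsEquivariant a₂ aP ν₂)
    (h₁ : MonAct.IsEquivariant a₁ aX (ν₁ ≫ k)) (h₂ : MonAct.IsEquivariant a₂ aX (ν₂ ≫ k)) :
    MonAct.IsEquivariant aP aX k := by
  refine (h.whisker M).hom_ext ?_ ?_
  · rw [← reassoc_of% (show a₁.act ≫ ν₁ = (AMonS S M ◁ ν₁) ≫ aP.act from hν₁), ← MonoidalCategory.whiskerLeft_comp_assoc]
    exact h₁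
  · rw [← reassoc_of% (show a₂.act ≫ ν₂ = (AMonS S M ◁ ν₂) ≫ aP.act from hν₂), ← MonoidalCategory.whiskerLeft_comp_assoc]
    exact h₂

/-- The action on a push-out inside `V`. -/
theorem IsPO.exists_act (h : IsPO a b ν₁ ν₂) [Mono j] (hj₁ : ν₁ ≫ j = g₁) (hj₂ : ν₂ ≫ j = g₂)
    (aW : MonAct (AMonS S M) W) (a₁ : MonAct (AMonS S M) U₁) (a₂ : MonAct (AMonS S M) U₂) (aV : MonAct (AMonS S M) V)
    (hea : MonAct.IsEquivariant aW a₁ a) (heb : MonAct.IsEquivariant aW a₂ b)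
    (heg₁ : MonAct.IsEquivariant a₁ aV g₁) (heg₂ : MonAct.IsEquivariant a₂ aV g₂) :
    ∃ aP : MonAct (AMonS S M) P, MonAct.IsEquivariant a₁ aP ν₁ ∧ MonAct.IsEquivariant a₂ aP ν₂ ∧
      MonAct.IsEquivariant aP aV j := by
  obtain ⟨act, k₁, k₂⟩ := (h.whisker M).exists_desc (a₁.act ≫ ν₁) (a₂.act ≫ ν₂) (by
    rw [← reassoc_of% (show aW.act ≫ a = (AMonS S M ◁ a) ≫ a₁.act from hea),
      ← reassoc_of% (show aW.act ≫ b = (AMonS S M ◁ b) ≫ a₂.act from heb), h.condition])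
  have hj : act ≫ j = (AMonS S M ◁ j) ≫ aV.act := by
    refine (h.whisker M).hom_ext ?_ ?_
    · rw [reassoc_of% k₁, hj₁, ← MonoidalCategory.whiskerLeft_comp_assoc, hj₁]
      exact heg₁
    · rw [reassoc_of% k₂, hj₂, ← MonoidalCategory.whiskerLeft_comp_assoc, hj₂]
      exact heg₂
  refine ⟨MonAct.mk' act (fun T x => ?_) (fun T g g' x => ?_), k₁.symm, k₂.symm, hj⟩
  · rw [← cancel_mono j, Category.assoc, hj, lift_whiskerLeft_assoc, MonAct.lift_one_act]
  · simp only [← cancel_mono j, Category.assoc, hj, lift_whiskerLeft_assoc]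
    rw [MonAct.lift_mul_act]

end Act

end Groth.Agent.H28.FacePush

namespace Groth.Agent.H28.FacePush

variable {S : Scheme.{u}} {M : Type} [AddCommGroup M]

theorem isEquivariant_whiskerRight {B B' T : Over S} {ρ : MonAct (AMonS S M) B} {ρ' : MonAct (AMonS S M) B'}
    {ψ : B ⟶ B'} (h : MonAct.IsEquivariant ρ ρ' ψ) :
    MonAct.IsEquivariant (ρ.prod (MonAct.trivial (AMonS S M) T)) (ρ'.prod (MonAct.trivial (AMonS S M) T)) (ψ ▷ T) := by
  rw [MonAct.isEquivariant_iff] at h ⊢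
  intro T' g z
  rw [← lift_comp_fst_snd z, MonAct.lift_prod_act_assoc, MonAct.lift_trivial_act, lift_whiskerRight, lift_whiskerRight,
    MonAct.lift_prod_act, MonAct.lift_trivial_act, Category.assoc, h]

end Groth.Agent.H28.FacePush
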