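import Groth.Agent.H23.AttrComapGrp
import Groth.Agent.H23.AMonSpec
import Groth.Agent.MagnetLib.Mono
import Mathlib.AlgebraicGeometry.AffineTransitionLimit

/-! Attractors of directed unions of magnets. -/

universe u

open CategoryTheory CategoryTheory.Limits MonoidalCategory CartesianMonoidalCategory MonObj AlgebraicGeometry
open Opposite Magnet

namespace Groth.Agent.H28.MagnetUnion

open H23.AttrComapGrp H23.AMonSpec

variable {M : Type} [AddCommMonoid M] {J : Type} [Preorder J] (N : J → AddSubmonoid M) (hN : Monotone N)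

/-- The index category. -/
abbrev Idx (J : Type) : Type u := ULift.{u} Jᵒᵈ

/-- The magnet at an index. -/
abbrev sub (i : Idx.{u} J) : AddSubmonoid M := N (OrderDual.ofDual i.down)

variable (R : Type u) [CommRing R]

/-- Inclusion on monoid algebras. -/
noncomputable abbrev incl {A B : AddSubmonoid M} (h : A ≤ B) :
    MonoidAlgebra R (Multiplicative A) →+* MonoidAlgebra R (Multiplicative B) :=
  MonoidAlgebra.mapDomainRingHom R (AddMonoidHom.toMultiplicative (AddSubmonoid.inclusion h))

theorem incl_single {A B : AddSubmonoid M} (h : A ≤ B) (x : Multiplicative A) (r : R) :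
    incl R h (MonoidAlgebra.single x r) = MonoidAlgebra.single (Multiplicative.ofAdd (AddSubmonoid.inclusion h x.toAdd)) r :=
  MonoidAlgebra.mapDomain_single

include hN in
theorem sub_mono {i j : Idx.{u} J} (f : i ⟶ j) : sub N j ≤ sub N i := hN (show i ≤ j from f.down.down)

/-- The diagram of monoid algebras. -/
noncomputable def diag : Idx.{u} J ⥤ CommRingCat.{u}ᵒᵖ where
  obj i := op (CommRingCat.of (MonoidAlgebra R (Multiplicative (sub N i))))
  map {i j} f := (CommRingCat.ofHom (incl R (sub_mono N hN f))).op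
  map_id i := Quiver.Hom.unop_inj (CommRingCat.hom_ext (MonoidAlgebra.ringHom_ext (fun r => incl_single R _ _ r)
    (fun x => incl_single R _ _ _)))
  map_comp {i j k} f g := Quiver.Hom.unop_inj (CommRingCat.hom_ext (MonoidAlgebra.ringHom_ext
    (fun r => by simp [incl_single]) (fun x => by simp [incl_single]; rfl)))

/-- The union cone. -/
noncomputable def cone : Cone (diag N hN R) where
  pt := op (CommRingCat.of (MonoidAlgebra R (Multiplicative (⨆ i, N i : AddSubmonoid M))))
  π := { app := fun i => (CommRingCat.ofHom (incl R (le_iSup N (OrderDual.ofDual i.down)))).op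
         naturality := fun i j f => Quiver.Hom.unop_inj (CommRingCat.hom_ext (MonoidAlgebra.ringHom_ext
           (fun r => by simp [diag]) (fun x => by simp [diag]; rfl))) }

variable [IsDirected J (· ≤ ·)] [Nonempty J]

instance : Nonempty (Idx.{u} J) := ⟨⟨OrderDual.toDual (Classical.arbitrary J)⟩⟩

instance : IsCofiltered (Idx.{u} J) := by
  haveI : IsCodirectedOrder (Idx.{u} J) := ⟨fun a b => by
    obtain ⟨c, h1, h2⟩ := directed_of (· ≤ ·) (OrderDual.ofDual a.down) (OrderDual.ofDual b.down)
    exact ⟨⟨OrderDual.toDual c⟩, h1, h2⟩⟩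
  haveI : IsCofilteredOrEmpty (Idx.{u} J) := inferInstance
  exact ⟨⟩

theorem exists_mem (hN : Monotone N) (m : (⨆ i, N i : AddSubmonoid M)) : ∃ i : Idx.{u} J, (m : M) ∈ sub N i := by
  obtain ⟨i, hi⟩ := (AddSubmonoid.mem_iSup_of_directed hN.directed_le).mp m.2
  exact ⟨⟨OrderDual.toDual i⟩, hi⟩

theorem exists_isLimit : Nonempty (IsLimit (cone N hN R)) := by
  classical
  haveI := hN.directed_le
  have key : ∀ s : Cone (diag N hN R), ∃ d : MonoidAlgebra R (Multiplicative (⨆ i, N i : AddSubmonoid M)) →+* s.pt.unop,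
      ∀ i, d.comp (incl R (le_iSup N (OrderDual.ofDual i.down))) = (s.π.app i).unop.hom := by
    intro s
    let v : ∀ i : Idx.{u} J, MonoidAlgebra R (Multiplicative (sub N i)) →+* s.pt.unop := fun i => (s.π.app i).unop.hom
    have hv : ∀ {i j : Idx.{u} J} (f : i ⟶ j), v j = (v i).comp (incl R (sub_mono N hN f)) := fun f =>
      congrArg (fun q => q.unop.hom) (s.w f).symm
    have hsame : ∀ (i j : Idx.{u} J) (m : M) (hi : m ∈ sub N i) (hj : m ∈ sub N j) (r : R),
        v i (MonoidAlgebra.single (Multiplicative.ofAdd ⟨m, hi⟩) r) =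
          v j (MonoidAlgebra.single (Multiplicative.ofAdd ⟨m, hj⟩) r) := by
      intro i j m hi hj r
      let k := IsCofiltered.min i j
      rw [hv (IsCofiltered.minToLeft i j), hv (IsCofiltered.minToRight i j), RingHom.comp_apply, RingHom.comp_apply,
        incl_single, incl_single]
      rfl
    let i₀ : Idx.{u} J := Classical.arbitrary _
    let w : (⨆ i, N i : AddSubmonoid M) → s.pt.unop := fun m =>
      v (exists_mem N hN m).choose (MonoidAlgebra.single (Multiplicative.ofAdd ⟨m.1, (exists_mem N hN m).choose_spec⟩) 1)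
    have hw : ∀ (i : Idx.{u} J) (m : (⨆ i, N i : AddSubmonoid M)) (hi : (m : M) ∈ sub N i),
        w m = v i (MonoidAlgebra.single (Multiplicative.ofAdd ⟨m.1, hi⟩) 1) := fun i m hi => hsame _ _ _ _ _ _
    let χ : Multiplicative (⨆ i, N i : AddSubmonoid M) →* s.pt.unop :=
      { toFun := fun m => w m.toAdd
        map_one' := by
          rw [hw i₀ _ (sub N i₀).zero_mem]
          exact map_one (v i₀)
        map_mul' := fun a b => by
          obtain ⟨i, hi⟩ := exists_mem.{u} N hN a.toAdd
          obtain ⟨j, hj⟩ := exists_mem.{u} N hN b.toAdd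
          let k := IsCofiltered.min i j
          have ha := sub_mono N hN (IsCofiltered.minToLeft i j) hi
          have hb := sub_mono N hN (IsCofiltered.minToRight i j) hj
          rw [hw k _ ha, hw k _ hb, hw k _ ((sub N k).add_mem ha hb), ← map_mul, MonoidAlgebra.single_mul_single,
            _root_.one_mul]
          rfl }
    refine ⟨MonoidAlgebra.liftNCRingHom ((v i₀).comp MonoidAlgebra.singleOneRingHom) χ (fun _ _ => Commute.all _ _),
      fun i => MonoidAlgebra.ringHom_ext (fun r => ?_) (fun x => ?_)⟩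
    · rw [RingHom.comp_apply, incl_single]
      simp only [MonoidAlgebra.liftNCRingHom, toAdd_one, map_zero, ofAdd_zero]
      erw [MonoidAlgebra.liftNC_single]
      rw [map_one, _root_.mul_one]
      exact hsame i₀ i 0 (sub N i₀).zero_mem (sub N i).zero_mem r
    · rw [RingHom.comp_apply, incl_single]
      simp only [MonoidAlgebra.liftNCRingHom]
      erw [MonoidAlgebra.liftNC_single]
      show _ * w _ = v i _
      rw [AddMonoidHom.coe_coe, map_one, _root_.one_mul]
      exact hw i _ x.toAdd.2
  choose d hd using key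
  refine ⟨{
    lift := fun s => (CommRingCat.ofHom (d s)).op
    fac := fun s i => Quiver.Hom.unop_inj (CommRingCat.hom_ext (hd s i))
    uniq := fun s m hm => Quiver.Hom.unop_inj (CommRingCat.hom_ext (MonoidAlgebra.ringHom_ext (fun r => ?_) fun x => ?_)) }⟩
  · let i₀ : Idx.{u} J := Classical.arbitrary _
    have h1 := (congrArg (fun q => q.unop.hom) (hm i₀)).trans (hd s i₀).symm
    have h2 := RingHom.congr_fun h1 (MonoidAlgebra.single 1 r)
    exact (congrArg m.unop.hom (incl_single R (le_iSup N _) _ _)).symm.trans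
      (h2.trans (congrArg (d s) (incl_single R (le_iSup N _) _ _)))
  · obtain ⟨i, hi⟩ := exists_mem.{u} N hN x.toAdd
    have h1 := (congrArg (fun q => q.unop.hom) (hm i)).trans (hd s i).symm
    have h2 := RingHom.congr_fun h1 (MonoidAlgebra.single (Multiplicative.ofAdd ⟨x.toAdd.1, hi⟩) 1)
    exact (congrArg m.unop.hom (incl_single R (le_iSup N _) _ _)).symm.trans
      (h2.trans (congrArg (d s) (incl_single R (le_iSup N _) _ _)))

include hN in
/-- Every point of the attractor of the union comes from a member. -/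
theorem exists_lift {S : Scheme.{u}} {X : Over S} [IsSeparated X.hom] [LocallyOfFinitePresentation X.hom]
    (a : MonAct (AMonS S M) X) (T : Over S) [IsAffine T.left] (φ : (attr a (⨆ i, N i)).obj (op T)) :
    ∃ (i : J) (ψ : (attr a (N i)).obj (op T)), (attrMap a (le_iSup N i)).app (op T) ψ = φ := by
  obtain ⟨e, he⟩ := H23.AMonSpec.exists_iso T
  let R := (Γ(T.left, ⊤) : Type u)
  have hnat : ∀ {A B : AddSubmonoid M} (h : A ≤ B),
      (e B).hom ≫ (AMonS.map S (AddSubmonoid.inclusion h) ▷ T).left =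
        Spec.map (CommRingCat.ofHom (incl R h)) ≫ (e A).hom := fun {A B} h =>
    he A B (AMon.map (ULift.{u} ℤ) (AddSubmonoid.inclusion h)) _ _ (AMon.map_left _ _)
      (MonoidAlgebra.ringHom_ext (fun r => by simp) fun x => by simp) (fun r => by simp [incl_single])
  have hw : ∀ {A B : AddSubmonoid M} (h : A ≤ B),
      Spec.map (CommRingCat.ofHom (incl R h)) ≫ (e A).hom ≫ (AMonS S A ⊗ T).hom = (e B).hom ≫ (AMonS S B ⊗ T).hom :=
    fun {A B} h => by
      rw [← Category.assoc, ← hnat h, Category.assoc]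
      exact congrArg ((e B).hom ≫ ·) (Over.w _)
  let D := diag N hN R ⋙ Scheme.Spec
  let t : D ⟶ (Functor.const (Idx.{u} J)).obj S :=
    { app := fun i => (e (sub N i)).hom ≫ (AMonS S (sub N i) ⊗ T).hom
      naturality := fun i j f => (hw (sub_mono N hN f)).trans (Category.comp_id _).symm }
  have hc : IsLimit (Scheme.Spec.mapCone (cone N hN R)) :=
    isLimitOfPreserves _ (exists_isLimit N hN R).some
  haveI : ∀ {i j : Idx.{u} J} (f : i ⟶ j), IsAffineHom (D.map f) := fun f =>
    inferInstanceAs (IsAffineHom (Spec.map _))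
  haveI : ∀ i, CompactSpace (D.obj i) := fun i =>
    inferInstanceAs (CompactSpace (Spec (CommRingCat.of (MonoidAlgebra R (Multiplicative (sub N i))))))
  haveI : ∀ i, QuasiSeparatedSpace (D.obj i) := fun i =>
    inferInstanceAs (QuasiSeparatedSpace (Spec (CommRingCat.of (MonoidAlgebra R (Multiplicative (sub N i))))))
  obtain ⟨i, g, hg, hgf⟩ := Scheme.exists_π_app_comp_eq_of_locallyOfFinitePresentation D t X.hom
    (Scheme.Spec.mapCone (cone N hN R)) hc ((e _).hom ≫ φ.1.left) (by
      ext j
      refine (hw (le_iSup N (OrderDual.ofDual j.down))).trans ?_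
      refine ((congrArg ((e _).hom ≫ ·) (Over.w φ.1)).symm.trans ?_)
      exact (Category.assoc _ _ _).symm)
  let j := OrderDual.ofDual i.down
  let ψ : AMonS S (N j) ⊗ T ⟶ X := Over.homMk ((e (sub N i)).inv ≫ g) (by
    refine (Category.assoc _ _ _).trans ((congrArg ((e (sub N i)).inv ≫ ·) hgf).trans ?_)
    exact Iso.inv_hom_id_assoc _ _)
  have hψ : (AMonS.map S (AddSubmonoid.inclusion (le_iSup N j)) ▷ T) ≫ ψ = φ.1 := by
    apply Over.OverMorphism.ext
    rw [← cancel_epi (e _).hom]
    refine Eq.trans ?_ hg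
    show (e _).hom ≫ (AMonS.map S _ ▷ T).left ≫ (e (sub N i)).inv ≫ g = _
    rw [← Category.assoc, hnat (le_iSup N j)]
    refine (Category.assoc _ _ _).trans ?_
    exact congrArg (Spec.map _ ≫ ·) (Iso.hom_inv_id_assoc _ _)
  have hψ' : ∀ (W : Over S) (b : W ⟶ AMonS S (⨆ i, N i : AddSubmonoid M)) (t : W ⟶ T),
      lift (b ≫ AMonS.map S (AddSubmonoid.inclusion (le_iSup N j))) t ≫ ψ = lift b t ≫ φ.1 := fun W b t => by
    rw [← lift_whiskerRight_assoc, hψ]
  refine ⟨j, ⟨ψ, ?_⟩, Subtype.ext hψ⟩
  rw [MonAct.mem_eqvHom_iff]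
  intro W g b t
  let A := AMonS S M
  let B := AMonS S (N j)
  let F : B ⊗ (A ⊗ T) ⟶ X :=
    lift (((snd B (A ⊗ T) ≫ fst A T) ≫ AMonS.map S (N j).subtype) * fst B (A ⊗ T)) (snd B (A ⊗ T) ≫ snd A T) ≫ ψ
  let G : B ⊗ (A ⊗ T) ⟶ X :=
    lift (snd B (A ⊗ T) ≫ fst A T) (lift (fst B (A ⊗ T)) (snd B (A ⊗ T) ≫ snd A T) ≫ ψ) ≫ a.act
  have hFG : F = G := by
    refine MagnetLib.ext_of_AMonS_map (AddSubmonoid.inclusion (le_iSup N j)) (Set.inclusion_injective (le_iSup N j)) (A ⊗ T) _ _ ?_
    apply hom_ext_lift₂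
    intro W' c w
    have hsub : (N j).subtype = (AddSubmonoid.subtype (⨆ i, N i : AddSubmonoid M)).comp (AddSubmonoid.inclusion (le_iSup N j)) := rfl
    simp only [F, G, A, B, Category.assoc, lift_whiskerRight_assoc, comp_lift_assoc, MonObj.comp_mul, lift_fst_assoc,
      lift_snd_assoc, lift_fst]
    rw [hsub, AMonS.map_comp, ← Category.assoc w (fst _ _), ← Category.assoc (w ≫ fst _ _) (AMonS.map S _),
      ← MonObj.mul_comp, hψ', hψ']
    have h1 := (MonAct.mem_eqvHom_iff φ.1).mp φ.2 W' (w ≫ fst _ _) c (w ≫ snd _ _)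
    rw [subAct_point] at h1
    simpa [Category.assoc] using h1
  have h2 := congrArg (lift b (lift g t) ≫ ·) hFG
  simp only [F, G, A, B, Category.assoc, comp_lift_assoc, MonObj.comp_mul, lift_fst_assoc, lift_snd_assoc, lift_fst, lift_snd] at h2
  rw [subAct_point]
  exact h2

end Groth.Agent.H28.MagnetUnion
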