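import Groth.Agent.H28.FaceLift
import Groth.Agent.H28.FaceEq
import Groth.Agent.H28.MagnetUnion
import Groth.Agent.AlgSpLib.FlatUnramFEHom

/-! Attractors along a face are cartesian for étale morphisms from affine schemes. -/

universe u

open CategoryTheory CategoryTheory.Limits MonoidalCategory CartesianMonoidalCategory MonObj AlgebraicGeometry
open Opposite Magnet

namespace Groth.Agent.H28.FaceSquare

open H23.CharPts H23.AttrComapGrp MagnetAff FaceThick FaceLift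

variable {S : Scheme.{u}} {M : Type} [AddCommGroup M] {N Q : AddSubmonoid M} {U X : Over S}
  (aU : MonAct (AMonS S M) U) (aX : MonAct (AMonS S M) X) (f : U ⟶ X) (hf : MonAct.IsEquivariant aU aX f)
  (hQ : IsFace N Q)

include hf in
/-- The lifting property at `T`. -/
def Lifts (T : Over S) : Prop :=
  ∀ (φ : (attr aX N).obj (op T)) (ψ : (attr aU Q).obj (op T)),
    (AMonS.faceMap S hQ ▷ T) ≫ φ.1 = ψ.1 ≫ f →
    ∃! χ : (attr aU N).obj (op T), χ.1 ≫ f = φ.1 ∧ (AMonS.faceMap S hQ ▷ T) ≫ χ.1 = ψ.1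

variable [IsAffineHom U.hom]

include hf in
theorem lifts_of_fg [AddGroup.FG M] [Etale f.left] (hN : N.FG) (T : Over S) [IsAffine T.left] :
    Lifts aU aX f hQ T (N := N) := by
  have het : MoreMor.IsFormallyEtaleHom f.left := AlgSpLib.FlatUnramFE.isFormallyEtaleHom f.left
  intro φ ψ hc
  obtain ⟨χ, hk, hface⟩ := exists_affine T aU aX f hf het hQ hN φ ψ hc
  have h := FaceEq.eq_of_jk hQ hN (T := T) (aX := aX) ⟨χ.1 ≫ f, χ.2.comp hf⟩ φ hk
  refine ⟨χ, ⟨congrArg Subtype.val h, hface⟩, fun χ' h' => Subtype.ext ?_⟩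
  exact unique_affine T f het hQ hN (h'.1.trans (congrArg Subtype.val h).symm) (h'.2.trans hface.symm)

include hf in
omit [IsAffineHom U.hom] in
/-- The lifting property is local on `T`. -/
theorem lifts_of_affine (h : ∀ (W : Over S) [IsAffine W.left], Lifts aU aX f hQ W (N := N)) (T : Over S) :
    Lifts aU aX f hQ T (N := N) := by
  let P := AMonS S N
  have hcov : ∀ (T : Over S) (𝒱 : T.left.OpenCover) (i : 𝒱.I₀),
      (P ◁ (Over.homMk (𝒱.f i) rfl : Over.mk (𝒱.f i ≫ T.hom) ⟶ T)).left =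
        (Scheme.Pullback.openCoverOfRight 𝒱 P.hom T.hom).f i := fun T 𝒱 i => by
    apply pullback.hom_ext
    · erw [Over.whiskerLeft_left_fst (Over.homMk (𝒱.f i) rfl : Over.mk (𝒱.f i ≫ T.hom) ⟶ T)]
    · erw [Over.whiskerLeft_left_snd (Over.homMk (𝒱.f i) rfl : Over.mk (𝒱.f i ≫ T.hom) ⟶ T)]
  have huniq : ∀ (T : Over S) (χ χ' : (attr aU N).obj (op T)), χ.1 ≫ f = χ'.1 ≫ f →
      (AMonS.faceMap S hQ ▷ T) ≫ χ.1 = (AMonS.faceMap S hQ ▷ T) ≫ χ'.1 → χ = χ' := by
    intro T χ χ' h1 h2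
    apply Subtype.ext
    apply Over.OverMorphism.ext
    refine (Scheme.Pullback.openCoverOfRight T.left.affineCover P.hom T.hom).hom_ext _ _ fun i => ?_
    rw [← hcov T T.left.affineCover i]
    let W : Over S := Over.mk (T.left.affineCover.f i ≫ T.hom)
    let u : W ⟶ T := Over.homMk (T.left.affineCover.f i) rfl
    haveI : IsAffine W.left := inferInstanceAs (IsAffine (T.left.affineCover.X i))
    let ψW : (attr aU Q).obj (op W) := (attrFace aU hQ).app (op W) ((attr aU N).map u.op χ)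
    have := (h W ((MonAct.eqvHom.postcomp (subAct S M N) f hf).app (op W) ((attr aU N).map u.op χ)) ψW
      ((Category.assoc _ _ _).symm)).unique (y₁ := (attr aU N).map u.op χ) (y₂ := (attr aU N).map u.op χ')
      ⟨rfl, rfl⟩ ⟨by
        show ((P ◁ u) ≫ χ'.1) ≫ f = ((P ◁ u) ≫ χ.1) ≫ f
        rw [Category.assoc, Category.assoc, h1], by
        show (AMonS.faceMap S hQ ▷ W) ≫ (P ◁ u) ≫ χ'.1 = (AMonS.faceMap S hQ ▷ W) ≫ (P ◁ u) ≫ χ.1
        rw [← whisker_exchange_assoc, ← whisker_exchange_assoc, h2]⟩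
    exact congrArg (fun q => q.1.left) this
  intro φ ψ hc
  let 𝒱 := T.left.affineCover
  let Wi : 𝒱.I₀ → Over S := fun i => Over.mk (𝒱.f i ≫ T.hom)
  let u : ∀ i, Wi i ⟶ T := fun i => Over.homMk (𝒱.f i) rfl
  choose χ hχ using fun i => @h (Wi i) (inferInstanceAs (IsAffine (T.left.affineCover.X i)))
    ((attr aX N).map (u i).op φ) ((attr aU Q).map (u i).op ψ) (by
      show (AMonS.faceMap S hQ ▷ Wi i) ≫ (P ◁ u i) ≫ φ.1 = ((AMonS S Q ◁ u i) ≫ ψ.1) ≫ f
      rw [← whisker_exchange_assoc, hc, Category.assoc])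
  let k : ∀ i, P ⊗ Wi i ⟶ U := fun i => (χ i).1
  have hcompat : ∀ i j, pullback.fst (P ◁ u i).left (P ◁ u j).left ≫ (k i).left =
      pullback.snd (P ◁ u i).left (P ◁ u j).left ≫ (k j).left := by
    intro i j
    let V : Over S := Over.mk (pullback.fst (P ◁ u i).left (P ◁ u j).left ≫ (P ⊗ Wi i).hom)
    let p : V ⟶ P ⊗ Wi i := Over.homMk (pullback.fst _ _) rfl
    let q : V ⟶ P ⊗ Wi j := Over.homMk (pullback.snd _ _) (by
      show _ = pullback.fst _ _ ≫ _
      rw [← Over.w (P ◁ u j), ← Over.w (P ◁ u i), ← Category.assoc, ← Category.assoc, pullback.condition])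
    have hpq : p ≫ (P ◁ u i) = q ≫ (P ◁ u j) := Over.OverMorphism.ext pullback.condition
    have hfst : p ≫ fst _ _ = q ≫ fst _ _ := by
      have := congrArg (· ≫ fst _ _) hpq
      simpa using this
    let D : Over S := Over.mk ((pullback.fst (u i).left (u j).left) ≫ (Wi i).hom)
    let d₁ : D ⟶ Wi i := Over.homMk (pullback.fst _ _) rfl
    let d₂ : D ⟶ Wi j := Over.homMk (pullback.snd _ _) (by
      show _ = pullback.fst _ _ ≫ _
      rw [← Over.w (u j), ← Over.w (u i), ← Category.assoc, ← Category.assoc, pullback.condition])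
    have hd : d₁ ≫ u i = d₂ ≫ u j := Over.OverMorphism.ext pullback.condition
    have hD : (P ◁ d₁) ≫ k i = (P ◁ d₂) ≫ k j := by
      have h1 : ((P ◁ d₁) ≫ k i) ≫ f = ((P ◁ d₂) ≫ k j) ≫ f := by
        rw [Category.assoc, Category.assoc, (hχ i).1.1, (hχ j).1.1]
        show (P ◁ d₁) ≫ (P ◁ u i) ≫ φ.1 = (P ◁ d₂) ≫ (P ◁ u j) ≫ φ.1
        rw [← MonoidalCategory.whiskerLeft_comp_assoc, ← MonoidalCategory.whiskerLeft_comp_assoc, hd]
      have h2 : (AMonS.faceMap S hQ ▷ D) ≫ (P ◁ d₁) ≫ k i = (AMonS.faceMap S hQ ▷ D) ≫ (P ◁ d₂) ≫ k j := by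
        rw [← whisker_exchange_assoc, ← whisker_exchange_assoc, (hχ i).1.2, (hχ j).1.2]
        show (_ ◁ d₁) ≫ (_ ◁ u i) ≫ ψ.1 = (_ ◁ d₂) ≫ (_ ◁ u j) ≫ ψ.1
        rw [← MonoidalCategory.whiskerLeft_comp_assoc, ← MonoidalCategory.whiskerLeft_comp_assoc, hd]
      exact congrArg Subtype.val (huniq D ((attr aU N).map d₁.op (χ i)) ((attr aU N).map d₂.op (χ j)) h1 h2)
    let w : V ⟶ D := Over.homMk (pullback.lift (p ≫ snd _ _).left (q ≫ snd _ _).left (by
      have h0 : (p ≫ snd _ _) ≫ u i = (q ≫ snd _ _) ≫ u j := by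
        have h1 : (p ≫ (P ◁ u i)) ≫ snd _ _ = (q ≫ (P ◁ u j)) ≫ snd _ _ := by rw [hpq]
        simpa using h1
      exact congrArg Over.Hom.left h0)) (by
      show pullback.lift _ _ _ ≫ pullback.fst _ _ ≫ _ = _
      rw [pullback.lift_fst_assoc]
      exact Over.w (p ≫ snd _ _))
    have hp : p = lift (p ≫ fst _ _) w ≫ (P ◁ d₁) := by
      rw [lift_whiskerLeft, show w ≫ d₁ = p ≫ snd _ _ from Over.OverMorphism.ext (pullback.lift_fst _ _ _), lift_comp_fst_snd]
    have hq : q = lift (p ≫ fst _ _) w ≫ (P ◁ d₂) := by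
      rw [lift_whiskerLeft, show w ≫ d₂ = q ≫ snd _ _ from Over.OverMorphism.ext (pullback.lift_snd _ _ _), hfst, lift_comp_fst_snd]
    have : p ≫ k i = q ≫ k j := by rw [hp, hq, Category.assoc, Category.assoc, hD]
    exact congrArg Over.Hom.left this
  let 𝒰 := Scheme.Pullback.openCoverOfRight 𝒱 P.hom T.hom
  let kk : (P ⊗ T).left ⟶ U.left := Scheme.Cover.glueMorphisms 𝒰 (fun i => (k i).left) (fun i j => by
    have := hcompat i j
    revert this
    generalize (P ◁ u i).left = f1, (show (P ◁ u i).left = _ from hcov T 𝒱 i) = e1,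
      (P ◁ u j).left = f2, (show (P ◁ u j).left = _ from hcov T 𝒱 j) = e2
    subst e1; subst e2
    exact id)
  have hkk : ∀ i, (P ◁ u i).left ≫ kk = (k i).left := fun i => by
    rw [show (P ◁ u i).left = _ from hcov T 𝒱 i]
    exact Scheme.Cover.ι_glueMorphisms 𝒰 _ _ i
  let χ₀ : P ⊗ T ⟶ U := Over.homMk kk (𝒰.hom_ext _ _ fun i => by
    refine (congrArg (· ≫ kk ≫ U.hom) (hcov T 𝒱 i).symm).trans ?_
    refine ((Category.assoc _ _ _).symm.trans (congrArg (· ≫ U.hom) (hkk i))).trans ?_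
    exact ((Over.w (k i)).trans (Over.w (P ◁ u i)).symm).trans (congrArg (· ≫ (P ⊗ T).hom) (hcov T 𝒱 i)))
  have h0 : ∀ i, (P ◁ u i) ≫ χ₀ = k i := fun i => Over.OverMorphism.ext (hkk i)
  have hext : ∀ {Y : Over S} (B : Over S) {a b : B ⊗ T ⟶ Y}, (∀ i, (B ◁ u i) ≫ a = (B ◁ u i) ≫ b) → a = b := by
    intro Y B a b hab
    apply Over.OverMorphism.ext
    refine (Scheme.Pullback.openCoverOfRight 𝒱 B.hom T.hom).hom_ext _ _ fun i => ?_
    have hu : (B ◁ u i).left = (Scheme.Pullback.openCoverOfRight 𝒱 B.hom T.hom).f i := by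
      apply pullback.hom_ext
      · erw [Over.whiskerLeft_left_fst (u i)]
      · erw [Over.whiskerLeft_left_snd (u i)]
    rw [← hu]
    exact congrArg Over.Hom.left (hab i)
  have heq : MonAct.IsEquivariant ((subAct S M N).prod (MonAct.trivial (AMonS S M) T)) aU χ₀ := by
    unfold MonAct.IsEquivariant
    have hA : ∀ {Y : Over S} {a b : AMonS S M ⊗ (P ⊗ T) ⟶ Y},
        (∀ i, (AMonS S M ◁ (P ◁ u i)) ≫ a = (AMonS S M ◁ (P ◁ u i)) ≫ b) → a = b := by
      intro Y a b hab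
      have : (α_ _ _ _).hom ≫ a = (α_ _ _ _).hom ≫ b := hext (AMonS S M ⊗ P) fun i => by
        rw [MonoidalCategory.associator_naturality_right_assoc, MonoidalCategory.associator_naturality_right_assoc, hab i]
      exact (cancel_epi _).mp this
    refine hA fun i => ?_
    rw [← MonAct.prod_trivial_act_whiskerLeft_assoc, h0, (χ i).2, ← MonoidalCategory.whiskerLeft_comp_assoc, h0]
  refine ⟨⟨χ₀, heq⟩, ⟨hext P fun i => ?_, hext (AMonS S Q) fun i => ?_⟩, fun χ' h' => huniq T χ' _ ?_ ?_⟩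
  · rw [← Category.assoc, h0]
    exact (hχ i).1.1
  · rw [whisker_exchange_assoc, h0]
    exact (hχ i).1.2
  · rw [h'.1]
    exact (hext P fun i => by rw [← Category.assoc (P ◁ u i) χ₀, h0]; exact (hχ i).1.1.symm)
  · rw [h'.2]
    exact (hext (AMonS S Q) fun i => by rw [whisker_exchange_assoc, h0]; exact (hχ i).1.2.symm)

theorem face_inclusion {N' Q' : AddSubmonoid M} (hQ' : IsFace N' Q') (hN : N' ≤ N) (hQQ : Q' ≤ Q)
    (hinter : ∀ x, x ∈ N' → x ∈ Q → x ∈ Q') :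
    AMonS.faceMap S hQ ≫ AMonS.map S (AddSubmonoid.inclusion hN) =
      AMonS.map S (AddSubmonoid.inclusion hQQ) ≫ AMonS.faceMap S hQ' := by
  refine chi_injective (MonoidHom.ext fun n => ?_)
  obtain ⟨n, rfl⟩ := Multiplicative.ofAdd.surjective n
  rw [chi_map]
  have h0 : AMonS.faceMap S hQ = 𝟙 _ ≫ AMonS.faceMap S hQ := (Category.id_comp _).symm
  by_cases hn : (n : M) ∈ Q'
  · rw [chi_face_mem N' Q' _ n hn, h0]
    erw [chi_face_mem N Q (𝟙 _) (AddSubmonoid.inclusion hN n) (hQQ hn)]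
    rw [← Category.id_comp (AMonS.map S (AddSubmonoid.inclusion hQQ)), chi_map]
    rfl
  · rw [chi_face_notMem N' Q' _ n hn, h0]
    exact chi_face_notMem N Q (𝟙 _) (AddSubmonoid.inclusion hN n) fun h => hn (hinter _ n.2 h)

include hf in
theorem lifts_of_union [AddGroup.FG M] [Etale f.left] [IsSeparated X.hom] [LocallyOfFinitePresentation X.hom]
    (T : Over S) [IsAffine T.left] : Lifts aU aX f hQ T (N := N) := by
  classical
  haveI : LocallyOfFinitePresentation U.hom := by rw [← Over.w f]; infer_instance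
  let Ni : Finset M → AddSubmonoid M := fun s => AddSubmonoid.closure ((s : Set M) ∩ (N : Set M))
  let Qi : Finset M → AddSubmonoid M := fun s => Q ⊓ Ni s
  have hNi : Monotone Ni := fun s t h => AddSubmonoid.closure_mono (Set.inter_subset_inter_left _ h)
  have hQi : Monotone Qi := fun s t h => inf_le_inf_left _ (hNi h)
  have hle : ∀ s, Ni s ≤ N := fun s => AddSubmonoid.closure_le.mpr Set.inter_subset_right
  have hfg : ∀ s, (Ni s).FG := fun s => ⟨s.filter (· ∈ N), congrArg AddSubmonoid.closure (by ext x; simp)⟩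
  have hone : ∀ x ∈ N, x ∈ Ni {x} := fun x hx => AddSubmonoid.subset_closure ⟨by simp, hx⟩
  have hN : N = ⨆ s, Ni s := le_antisymm (fun x hx => le_iSup Ni {x} (hone x hx)) (iSup_le hle)
  have hQe : Q = ⨆ s, Qi s := le_antisymm
    (fun x hx => le_iSup Qi {x} ⟨hx, hone x (hQ.le hx)⟩) (iSup_le fun s => inf_le_left)
  have hint : ∀ s x, x ∈ Ni s → x ∈ Q → x ∈ Qi s := fun s x h1 h2 => ⟨h2, h1⟩
  have hQs : ∀ s, IsFace (Ni s) (Qi s) := fun s =>
    ⟨inf_le_right, fun x hx y hy h => ⟨⟨(hQ.mem_of_add_mem x (hle s hx) y (hle s hy) h.1).1, hx⟩,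
      ⟨(hQ.mem_of_add_mem x (hle s hx) y (hle s hy) h.1).2, hy⟩⟩⟩
  clear_value Ni Qi
  subst hN
  subst hQe
  intro φ ψ hc
  have hsq : ∀ (s : Finset M) (Y : Over S) (v : AMonS S (Ni s) ⊗ T ⟶ Y),
      (AMonS.faceMap S hQ ▷ T) ≫ (AMonS.map S (AddSubmonoid.inclusion (le_iSup Ni s)) ▷ T) ≫ v =
      (AMonS.map S (AddSubmonoid.inclusion (le_iSup Qi s)) ▷ T) ≫ (AMonS.faceMap S (hQs s) ▷ T) ≫ v := by
    intro s Y v
    rw [← comp_whiskerRight_assoc, ← comp_whiskerRight_assoc,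
      face_inclusion hQ (hQs s) (le_iSup Ni s) (le_iSup Qi s) fun x hx hx' => ?_]
    exact hint s x hx hx'
  have htr : ∀ {A : Finset M → AddSubmonoid M} (hA : Monotone A) {Y : Over S} {s t : Finset M}
      (hst : s ≤ t) (v : AMonS S (A s) ⊗ T ⟶ Y),
      (AMonS.map S (AddSubmonoid.inclusion (le_iSup A t)) ▷ T) ≫ (AMonS.map S (AddSubmonoid.inclusion (hA hst)) ▷ T) ≫ v =
        (AMonS.map S (AddSubmonoid.inclusion (le_iSup A s)) ▷ T) ≫ v := by
    intro A hA Y s t hst v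
    rw [← comp_whiskerRight_assoc, ← AMonS.map_comp]
    rfl
  obtain ⟨i, φi, hφi⟩ := MagnetUnion.exists_lift Ni hNi aX T φ
  obtain ⟨j, ψj, hψj⟩ := MagnetUnion.exists_lift Qi hQi aU T ψ
  let φk := (attrMap aX (hNi (show i ≤ i ∪ j from Finset.subset_union_left))).app (op T) φi
  let ψk := (attrMap aU (hQi (show j ≤ i ∪ j from Finset.subset_union_right))).app (op T) ψj
  have hφk : (AMonS.map S (AddSubmonoid.inclusion (le_iSup Ni (i ∪ j))) ▷ T) ≫ φk.1 = φ.1 :=
    (htr hNi Finset.subset_union_left φi.1).trans (congrArg Subtype.val hφi)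
  have hψk : (AMonS.map S (AddSubmonoid.inclusion (le_iSup Qi (i ∪ j))) ▷ T) ≫ ψk.1 = ψ.1 :=
    (htr hQi Finset.subset_union_right ψj.1).trans (congrArg Subtype.val hψj)
  have hinj : ∀ {Y : Over S} [IsSeparated Y.hom] {A B : AddSubmonoid M} (h : A ≤ B) {v v' : AMonS S A ⊗ T ⟶ Y},
      (AMonS.map S (AddSubmonoid.inclusion h) ▷ T) ≫ v = (AMonS.map S (AddSubmonoid.inclusion h) ▷ T) ≫ v' → v = v' :=
    fun h v v' e => MagnetLib.ext_of_AMonS_map _ (Set.inclusion_injective h) T v v' e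
  have hck : (AMonS.faceMap S (hQs (i ∪ j)) ▷ T) ≫ φk.1 = ψk.1 ≫ f := by
    apply hinj (le_iSup Qi (i ∪ j))
    rw [← hsq, hφk, hc, ← Category.assoc, hψk]
  obtain ⟨χk, ⟨hχf, hχq⟩, -⟩ := lifts_of_fg aU aX f hf (hQs (i ∪ j)) (hfg _) T φk ψk hck
  refine ⟨(attrMap aU (le_iSup Ni (i ∪ j))).app (op T) χk, ⟨?_, ?_⟩, fun χ' h' => ?_⟩
  · show ((AMonS.map S _ ▷ T) ≫ χk.1) ≫ f = φ.1
    rw [Category.assoc, hχf, hφk]
  · show (AMonS.faceMap S hQ ▷ T) ≫ (AMonS.map S _ ▷ T) ≫ χk.1 = ψ.1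
    rw [hsq, hχq, hψk]
  · obtain ⟨l, χl, hχl⟩ := MagnetUnion.exists_lift Ni hNi aU T χ'
    let m := (i ∪ j) ∪ l
    let χm := (attrMap aU (hNi (show i ∪ j ≤ m from Finset.subset_union_left))).app (op T) χk
    let χm' := (attrMap aU (hNi (show l ≤ m from Finset.subset_union_right))).app (op T) χl
    have hm : (AMonS.map S (AddSubmonoid.inclusion (le_iSup Ni m)) ▷ T) ≫ χm.1 = (AMonS.map S (AddSubmonoid.inclusion (le_iSup Ni (i ∪ j))) ▷ T) ≫ χk.1 :=
      htr hNi Finset.subset_union_left χk.1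
    have hm' : (AMonS.map S (AddSubmonoid.inclusion (le_iSup Ni m)) ▷ T) ≫ χm'.1 = χ'.1 :=
      (htr hNi Finset.subset_union_right χl.1).trans (congrArg Subtype.val hχl)
    have h1 : χm'.1 ≫ f = χm.1 ≫ f := by
      apply hinj (le_iSup Ni m)
      rw [← Category.assoc, hm', ← Category.assoc, hm, Category.assoc, hχf, hφk, h'.1]
    have h2 : (AMonS.faceMap S (hQs m) ▷ T) ≫ χm'.1 = (AMonS.faceMap S (hQs m) ▷ T) ≫ χm.1 := by
      apply hinj (le_iSup Qi m)
      rw [← hsq, ← hsq, hm', hm, h'.2, hsq, hχq, hψk]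
    have hcm : (AMonS.faceMap S (hQs m) ▷ T) ≫ χm.1 ≫ f = ((attrFace aU (hQs m)).app (op T) χm).1 ≫ f :=
      (Category.assoc _ _ _).symm
    obtain ⟨c₀, -, huniq⟩ := lifts_of_fg aU aX f hf (hQs m) (hfg _) T
      ((MonAct.eqvHom.postcomp _ f hf).app (op T) χm) ((attrFace aU (hQs m)).app (op T) χm) hcm
    have e := (huniq χm' ⟨h1, h2⟩).trans (huniq χm ⟨rfl, rfl⟩).symm
    apply Subtype.ext
    rw [← hm', e, hm]
    rfl

end Groth.Agent.H28.FaceSquare
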