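import Groth.Agent.H28.A1Hom
import Groth.Agent.KFlatLib.Scheme.Pullback
import Groth.Agent.FDescent.StalkFinite
import Groth.Agent.QCoh.ExtendFT
import Groth.Agent.QCoh.Qcqs

/-!
# Extending coherent modules from a localisation
-/

set_option autoImplicit false
set_option linter.style.haveILetI false
set_option linter.unusedSectionVars false
set_option backward.isDefEq.respectTransparency false
set_option backward.isDefEq.respectTransparency.types false
set_option maxHeartbeats 1000000

universe u

open CategoryTheory CategoryTheory.Limits AlgebraicGeometry TopologicalSpace Opposite ZeroObject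

noncomputable section

namespace Groth.Agent.H28.FibExt

open Groth.Agent Groth.Agent.KFlatLib Groth.Agent.H28.A1Hom

variable {X' X : Scheme.{u}} (h : X' ⟶ X)

/-- The stalk of a direct image to the stalk. -/
def sp (M : X'.Modules) (x : X') :
    (stalkAb (h x)).obj ((Scheme.Modules.pushforward h).obj M) ⟶ (stalkAb x).obj M :=
  TopCat.Presheaf.stalkPushforward AddCommGrpCat.{u} h.base M.presheaf x

theorem sp_germ (M : X'.Modules) (x : X') (V : X.Opens) (hV : h x ∈ V)
    (t : Γ((Scheme.Modules.pushforward h).obj M, V)) :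
    sp h M x (((Scheme.Modules.pushforward h).obj M).presheaf.germ V (h x) hV t) =
      M.presheaf.germ (h ⁻¹ᵁ V) x hV t :=
  TopCat.Presheaf.stalkPushforward_germ_apply AddCommGrpCat.{u} h.base M.presheaf V x hV t

theorem sp_natural {M N : X'.Modules} (f : M ⟶ N) (x : X') :
    (stalkAb (h x)).map ((Scheme.Modules.pushforward h).map f) ≫ sp h N x = sp h M x ≫ (stalkAb x).map f := by
  refine TopCat.Presheaf.stalk_hom_ext _ fun V hV => ?_
  refine AddCommGrpCat.hom_ext (AddMonoidHom.ext fun t => ?_)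
  show sp h N x ((stalkAb (h x)).map _ (((Scheme.Modules.pushforward h).obj M).presheaf.germ V (h x) hV t)) =
    (stalkAb x).map f (sp h M x (((Scheme.Modules.pushforward h).obj M).presheaf.germ V (h x) hV t))
  rw [sp_germ]
  erw [TopCat.Presheaf.stalkFunctor_map_germ_apply, TopCat.Presheaf.stalkFunctor_map_germ_apply, sp_germ]
  rfl

instance isIso_sp [IsPreimmersion h] (M : X'.Modules) (x : X') : IsIso (sp h M x) :=
  TopCat.Presheaf.stalkPushforward.stalkPushforward_iso_of_isInducing _ h.isEmbedding.isInducing _ x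

/-- A lattice: a map into the direct image which is an isomorphism over the image. -/
def IsLat {F : X.Modules} {G : X'.Modules} (p : F ⟶ (Scheme.Modules.pushforward h).obj G) : Prop :=
  ∀ x : X', IsIso ((stalkAb (h x)).map p)

section Unit

variable [IsPreimmersion h] (hh : ∀ x, Function.Bijective (h.stalkMap x)) (F : X.Modules) (x : X')

/-- The unit on stalks. -/
def b : (stalkAb (h x)).obj F ⟶ (stalkAb x).obj ((Scheme.Modules.pullback h).obj F) :=
  (stalkAb (h x)).map ((Scheme.Modules.pullbackPushforwardAdjunction h).unit.app F) ≫ sp h _ x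

theorem b_germ (V : X.Opens) (hV : h x ∈ V) (s : Γ(F, V)) :
    b h F x (F.presheaf.germ V (h x) hV s) = ((Scheme.Modules.pullback h).obj F).presheaf.germ (h ⁻¹ᵁ V) x hV
      (((Scheme.Modules.pullbackPushforwardAdjunction h).unit.app F).app V s) := by
  show sp h _ x ((stalkAb (h x)).map _ _) = _
  erw [TopCat.Presheaf.stalkFunctor_map_germ_apply, sp_germ]
  rfl

theorem b_smul (a : X.presheaf.stalk (h x)) (m : F.presheaf.stalk (h x)) :
    (show ((Scheme.Modules.pullback h).obj F).presheaf.stalk x from b h F x (a • m)) =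
      h.stalkMap x a • (show ((Scheme.Modules.pullback h).obj F).presheaf.stalk x from b h F x m) := by
  obtain ⟨U, hU, r, rfl⟩ := X.presheaf.exists_germ_eq (x := h x) a
  obtain ⟨W, i, hW, s, rfl⟩ := exists_germP_common (P := DCoh.toP.obj F) hU m
  rw [← X.presheaf.germ_res_apply i (h x) hW r]
  have e : F.presheaf.germ W (h x) hW (X.presheaf.map i.op r • (show Γ(F, W) from s)) =
      X.presheaf.germ W (h x) hW (X.presheaf.map i.op r) • F.presheaf.germ W (h x) hW s :=
    PresheafOfModules.germ_smul (M := F.val) (h x) W hW _ _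
  refine ((congrArg (fun t => b h F x t) e).symm).trans ?_
  refine (b_germ h F x W hW _).trans (Eq.trans ?_
    (congrArg (fun t : ((Scheme.Modules.pullback h).obj F).presheaf.stalk x => h.stalkMap x (X.presheaf.germ W (h x) hW (X.presheaf.map i.op r)) • t) (b_germ h F x W hW s)).symm)
  rw [Scheme.Hom.germ_stalkMap_apply, Scheme.Modules.Hom.app_smul]
  exact PresheafOfModules.germ_smul (M := ((Scheme.Modules.pullback h).obj F).val) x (h ⁻¹ᵁ W) hW _ _

include hh in
theorem b_surjective : Function.Surjective (b h F x) := by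
  let P := (Scheme.Modules.pullback h).obj F
  let K : Submodule (X'.presheaf.stalk x) (P.presheaf.stalk x) :=
    { carrier := Set.range (fun m => (show P.presheaf.stalk x from b h F x m))
      add_mem' := fun {u v} ⟨m, hm⟩ ⟨m', hm'⟩ => ⟨m + m', by rw [← hm, ← hm']; exact map_add _ _ _⟩
      zero_mem' := ⟨0, map_zero _⟩
      smul_mem' := fun c v ⟨m, hm⟩ => by
        obtain ⟨a, rfl⟩ := (hh x).2 c
        exact ⟨a • (show F.presheaf.stalk (h x) from m), (b_smul h F x a m).trans (congrArg _ hm)⟩ }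
  suffices K = ⊤ by
    intro v
    exact (this.ge (Submodule.mem_top : (show P.presheaf.stalk x from v) ∈ ⊤) :)
  let φ : (DerSch.stalkFunctor X' x).obj P ⟶ ModuleCat.of (X'.presheaf.stalk x) (P.presheaf.stalk x ⧸ K) :=
    ModuleCat.ofHom K.mkQ
  let ψ := (skyAdj x).homEquiv _ _ φ
  have h0 : ((Scheme.Modules.pullbackPushforwardAdjunction h).homEquiv _ _) ψ = 0 := by
    refine SheafOfModules.hom_ext (PresheafOfModules.Hom.ext (funext fun V => ModuleCat.hom_ext ?_))
    refine LinearMap.ext fun s => funext fun hV => ?_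
    show φ (P.presheaf.germ (h ⁻¹ᵁ V.unop) x hV.down
      (((Scheme.Modules.pullbackPushforwardAdjunction h).unit.app F).app V.unop s)) = 0
    exact (Submodule.Quotient.mk_eq_zero K).2 ⟨F.presheaf.germ V.unop (h x) hV.down s, b_germ h F x _ hV.down s⟩
  have hψ : ψ = 0 := ((Scheme.Modules.pullbackPushforwardAdjunction h).homEquiv _ _).injective
    (h0.trans (by simp [Adjunction.homEquiv_unit]))
  have hφ : φ = 0 := ((skyAdj x).homEquiv _ _).injective
    ((show (skyAdj x).homEquiv _ _ φ = 0 from hψ).trans (SheafOfModules.hom_ext (PresheafOfModules.Hom.ext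
      (funext fun V => ModuleCat.hom_ext (LinearMap.ext fun s => funext fun hV => rfl)))))
  rw [eq_top_iff]
  intro v _
  exact (Submodule.Quotient.mk_eq_zero K).1 (show φ v = 0 by rw [hφ]; rfl)

include hh in
theorem b_injective : Function.Injective (b h F x) := by
  let σ : X.presheaf.stalk (h x) ≃+* X'.presheaf.stalk x := RingEquiv.ofBijective (h.stalkMap x).hom (hh x)
  let N₀ := (DerSch.stalkFunctor X (h x)).obj F
  let N : ModuleCat.{u} (X'.presheaf.stalk x) := (ModuleCat.restrictScalars σ.symm.toRingHom).obj N₀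
  let γ₀ : N₀ ⟶ (ModuleCat.restrictScalars (h.stalkMap x).hom).obj N :=
    ModuleCat.ofHom (Y := (ModuleCat.restrictScalars (h.stalkMap x).hom).obj N)
      { toFun := fun m => (m : N₀)
        map_add' := fun _ _ => rfl
        map_smul' := fun a m => by
          show a • (m : N₀) = σ.symm (σ a) • (m : N₀)
          rw [RingEquiv.symm_apply_apply] }
  let δ : F ⟶ (Scheme.Modules.pushforward h).obj ((sky x).obj N) :=
    (skyAdj (h x)).homEquiv _ _ γ₀ ≫ (skyPushforwardIso h x).inv.app N
  let ψ := ((Scheme.Modules.pullbackPushforwardAdjunction h).homEquiv _ _).symm δ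
  have hψ : (Scheme.Modules.pullbackPushforwardAdjunction h).unit.app F ≫ (Scheme.Modules.pushforward h).map ψ = δ := by
    exact (Adjunction.homEquiv_unit _ _ _ _).symm.trans (Equiv.apply_symm_apply _ _)
  let γ := ((skyAdj x).homEquiv _ _).symm ψ
  have key : ∀ m, γ (b h F x m) = (show N from m) := by
    intro m
    obtain ⟨V, hV, s, rfl⟩ := TopCat.Presheaf.exists_germ_eq (F := F.presheaf) m
    rw [b_germ]
    have hγ : (skyAdj x).homEquiv _ _ γ = ψ := Equiv.apply_symm_apply _ _
    let u : Γ((Scheme.Modules.pullback h).obj F, h ⁻¹ᵁ V) :=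
      ((Scheme.Modules.pullbackPushforwardAdjunction h).unit.app F).app V s
    refine (show _ = (ψ.app (h ⁻¹ᵁ V) u : (sky x).obj N |>.val.obj (op (h ⁻¹ᵁ V))) ⟨hV⟩ from
      congrFun (congrArg (fun q : (Scheme.Modules.pullback h).obj F ⟶ (sky x).obj N => q.app (h ⁻¹ᵁ V) u) hγ) ⟨hV⟩).trans ?_
    have e := congrArg (fun q : F ⟶ (Scheme.Modules.pushforward h).obj ((sky x).obj N) => q.app V s) hψ
    exact congrFun e ⟨hV⟩
  intro m m' hm
  exact ((key m).symm.trans (congrArg (fun t => γ t) hm)).trans (key m')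

include hh in
/-- The unit is a lattice. -/
theorem isLat_unit : IsLat h ((Scheme.Modules.pullbackPushforwardAdjunction h).unit.app F) := fun x => by
  haveI : IsIso (b h F x) :=
    (ConcreteCategory.isIso_iff_bijective _).2 ⟨b_injective h hh F x, b_surjective h hh F x⟩
  haveI : IsIso ((stalkAb (h x)).map ((Scheme.Modules.pullbackPushforwardAdjunction h).unit.app F) ≫
      sp h ((Scheme.Modules.pullback h).obj F) x) := ‹IsIso (b h F x)›
  exact IsIso.of_isIso_comp_right ((stalkAb (h x)).map _) (sp h _ x)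

end Unit

variable [IsPreimmersion h] (hh : ∀ x, Function.Bijective (h.stalkMap x))
  [AlgebraicGeometry.IsNoetherian X] [AlgebraicGeometry.IsNoetherian X'] [QuasiCompact h]

theorem isQCoh_push {G : X'.Modules} (hG : Coh.IsCoh G) : Coh.IsQCoh ((Scheme.Modules.pushforward h).obj G) :=
  QCoh.isQCoh_pushforward h hG.1

/-- The image of a coherent module in a quasi-coherent one. -/
theorem exists_image {F H : X.Modules} (hF : Coh.IsCoh F) (hH : Coh.IsQCoh H) (p : F ⟶ H) :
    ∃ (I : X.Modules) (e : F ⟶ I) (m : I ⟶ H), Coh.IsCoh I ∧ Epi e ∧ Mono m ∧ e ≫ m = p := by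
  refine ⟨cokernel (kernel.ι p), cokernel.π _, cokernel.desc _ p (kernel.condition p),
    QCoh.isCoh_cokernel (QCoh.isQCoh_kernel hF.1 hH p) hF _, inferInstance,
    inferInstanceAs (Mono (Abelian.factorThruCoimage p)), cokernel.π_desc _ _ _⟩

include hh in
theorem exists_surj {G : X'.Modules} (hG : Coh.IsCoh G) (x : X') :
    ∃ (U : X'.Opens) (F : X.Modules) (p : F ⟶ (Scheme.Modules.pushforward h).obj G),
      x ∈ U ∧ Coh.IsCoh F ∧ ∀ z ∈ U, Epi ((stalkAb (h z)).map p) := by
  classical
  have hq := isQCoh_push h hG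
  obtain ⟨_, ⟨V, hV, rfl⟩, hxV, -⟩ := X.isBasis_affineOpens.exists_subset_of_mem_open (Set.mem_univ (h x)) isOpen_univ
  haveI : SheafOfModules.IsFiniteType (R := X'.ringCatSheaf) G := hG.2
  obtain ⟨T, hT⟩ := (FDescent.finite_stalk G x).fg_top
  have hlift : ∀ v : G.presheaf.stalk x, ∃ (W : X.Opens) (hW : h x ∈ W)
      (t : Γ((Scheme.Modules.pushforward h).obj G, W)), IsAffineOpen W ∧ G.presheaf.germ (h ⁻¹ᵁ W) x hW t = v := by
    intro v
    obtain ⟨m, hm⟩ := ((ConcreteCategory.isIso_iff_bijective (sp h G x)).1 inferInstance).2 v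
    obtain ⟨W₀, hW₀, t, rfl⟩ := TopCat.Presheaf.exists_germ_eq (F := ((Scheme.Modules.pushforward h).obj G).presheaf) m
    obtain ⟨_, ⟨W, hW, rfl⟩, hxW, hle⟩ := X.isBasis_affineOpens.exists_subset_of_mem_open hW₀ W₀.isOpen
    refine ⟨W, hxW, ((Scheme.Modules.pushforward h).obj G).presheaf.map (homOfLE hle).op t, hW, ?_⟩
    refine Eq.trans ?_ hm
    rw [sp_germ]
    exact TopCat.Presheaf.germ_res_apply G.presheaf ((TopologicalSpace.Opens.map h.base).map (homOfLE hle)) x _ t
  choose W hxW t hW ht using hlift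
  have hsub : ∀ v, ∃ (F : X.Modules) (p : F ⟶ (Scheme.Modules.pushforward h).obj G) (g : Γ(F, W v)),
      Coh.IsCoh F ∧ p.app (W v) g = t v := by
    intro v
    obtain ⟨N, hN, hs⟩ := QCoh.exists_ftOn_contains hq (hW v)
      (KZ.extStep (W v)) {t v} (Set.finite_singleton _)
    obtain ⟨g, hg⟩ := N.exists_app_eq (hs rfl)
    exact ⟨N.toModules, N.ι, g, ⟨QCoh.isQCoh_of_ftOn hq hN, QCoh.isFT_of_ftOn hq hN⟩, hg⟩
  have hfin : ∀ T' : Finset (G.presheaf.stalk x), ∃ (F : X.Modules) (p : F ⟶ (Scheme.Modules.pushforward h).obj G),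
      Coh.IsCoh F ∧ ∀ v ∈ T', v ∈ Set.range ((stalkAb (h x)).map p ≫ sp h G x) := by
    intro T'
    induction T' using Finset.induction_on with
    | empty =>
      obtain ⟨F, p, g, hF, -⟩ := hsub 0
      exact ⟨F, p, hF, fun v hv => absurd hv (Finset.notMem_empty v)⟩
    | @insert v T' _ ih =>
      obtain ⟨F, p, hF, hp⟩ := ih
      obtain ⟨F', p', g, hF', hg⟩ := hsub v
      refine ⟨F ⊞ F', biprod.desc p p', KZ.isCoh_biprod hF hF', fun w hw => ?_⟩
      rcases Finset.mem_insert.1 hw with rfl | hw'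
      · refine ⟨(stalkAb (h x)).map biprod.inr (F'.presheaf.germ (W w) (h x) (hxW w) g), ?_⟩
        rw [← ConcreteCategory.comp_apply, ← Category.assoc, ← Functor.map_comp, biprod.inr_desc]
        show sp h G x ((stalkAb (h x)).map p' _) = w
        erw [TopCat.Presheaf.stalkFunctor_map_germ_apply, sp_germ]
        exact (congrArg _ hg).trans (ht w)
      · obtain ⟨m, hm⟩ := hp w hw'
        refine ⟨(stalkAb (h x)).map biprod.inl m, ?_⟩
        rw [← ConcreteCategory.comp_apply, ← Category.assoc, ← Functor.map_comp, biprod.inl_desc]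
        exact hm
  obtain ⟨F, p, hF, hp⟩ := hfin T
  let q := ((Scheme.Modules.pullbackPushforwardAdjunction h).homEquiv _ _).symm p
  have hq' : (Scheme.Modules.pullbackPushforwardAdjunction h).unit.app F ≫ (Scheme.Modules.pushforward h).map q = p := by
    exact (Adjunction.homEquiv_unit _ _ _ _).symm.trans (Equiv.apply_symm_apply _ _)
  have htri : ∀ z, (stalkAb (h z)).map p ≫ sp h G z = b h F z ≫ (stalkAb z).map q := fun z => by
    rw [← hq', Functor.map_comp, Category.assoc, sp_natural, b, Category.assoc]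
  have hPc := ZClosLib.isCoh_pullback h hF
  have hC := QCoh.isCoh_cokernel hPc.1 hG q
  refine ⟨⟨(CohB1.support (cokernel q))ᶜ, (QCoh.isClosed_support_of_isFT hC.1 hC.2).isOpen_compl⟩, F, p, ?_, hF,
    fun z hz => ?_⟩
  · intro hx
    refine hx ?_
    have hs : Function.Surjective ((stalkAb x).map q) := by
      let L : (DerSch.stalkFunctor X' x).obj _ ⟶ (DerSch.stalkFunctor X' x).obj G := (DerSch.stalkFunctor X' x).map q
      have hr : ∀ v ∈ T, v ∈ LinearMap.range L.hom := fun v hv => by
        obtain ⟨m, hm⟩ := hp v hv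
        rw [htri] at hm
        exact ⟨b h F x m, hm⟩
      have : LinearMap.range L.hom = ⊤ := by
        rw [eq_top_iff, ← hT]
        exact Submodule.span_le.2 hr
      exact LinearMap.range_eq_top.1 this
    haveI : Epi ((stalkAb x).map q) := (AddCommGrpCat.epi_iff_surjective _).2 hs
    exact not_not.1 (not_mem_support ((isZero_cokernel_of_epi ((stalkAb x).map q)).of_iso (PreservesCokernel.iso (stalkAb x) q)))
  · have hz0 : IsZero ((stalkAb z).obj (cokernel q)) := subsingleton_stalkAb hz
    haveI : Epi ((stalkAb z).map q) :=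
      Preadditive.epi_of_isZero_cokernel' (f := (stalkAb z).map q) _
        (cokernelIsCokernel ((stalkAb z).map q)) (hz0.of_iso (PreservesCokernel.iso (stalkAb z) q).symm)
    haveI : IsIso (b h F z) :=
      (ConcreteCategory.isIso_iff_bijective _).2 ⟨b_injective h hh F z, b_surjective h hh F z⟩
    haveI : Epi ((stalkAb (h z)).map p ≫ sp h G z) := by rw [htri]; infer_instance
    rw [show (stalkAb (h z)).map p = ((stalkAb (h z)).map p ≫ sp h G z) ≫ inv (sp h G z) by simp]
    infer_instance

include hh in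
theorem exists_lattice {G : X'.Modules} (hG : Coh.IsCoh G) :
    ∃ (F : X.Modules) (p : F ⟶ (Scheme.Modules.pushforward h).obj G), Coh.IsCoh F ∧ Mono p ∧ IsLat h p := by
  classical
  choose U Fx px hxU hFx hpx using fun x => exists_surj h hh hG x
  obtain ⟨T, hT⟩ := isCompact_univ.elim_finite_subcover (fun x => ((U x : Set X'))) (fun x => (U x).isOpen)
    (fun x _ => Set.mem_iUnion.2 ⟨x, hxU x⟩)
  have hfin : ∀ T' : Finset X', ∃ (F : X.Modules) (p : F ⟶ (Scheme.Modules.pushforward h).obj G),
      Coh.IsCoh F ∧ ∀ v ∈ T', ∀ z ∈ U v, Epi ((stalkAb (h z)).map p) := by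
    intro T'
    induction T' using Finset.induction_on with
    | empty => exact ⟨0, 0, KZ.isCoh_zero, fun v hv => absurd hv (Finset.notMem_empty v)⟩
    | @insert v T' _ ih =>
      obtain ⟨F, p, hF, hp⟩ := ih
      refine ⟨F ⊞ Fx v, biprod.desc p (px v), KZ.isCoh_biprod hF (hFx v), fun w hw z hz => ?_⟩
      rcases Finset.mem_insert.1 hw with rfl | hw'
      · haveI := hpx w z hz
        haveI : Epi ((stalkAb (h z)).map (biprod.inr : Fx w ⟶ F ⊞ Fx w) ≫ (stalkAb (h z)).map (biprod.desc p (px w))) := by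
          rw [← Functor.map_comp, biprod.inr_desc]; infer_instance
        exact epi_of_epi ((stalkAb (h z)).map (biprod.inr : Fx w ⟶ F ⊞ Fx w)) _
      · haveI := hp w hw' z hz
        haveI : Epi ((stalkAb (h z)).map (biprod.inl : F ⟶ F ⊞ Fx v) ≫ (stalkAb (h z)).map (biprod.desc p (px v))) := by
          rw [← Functor.map_comp, biprod.inl_desc]; infer_instance
        exact epi_of_epi ((stalkAb (h z)).map (biprod.inl : F ⟶ F ⊞ Fx v)) _
  obtain ⟨F, p, hF, hp⟩ := hfin T
  obtain ⟨I, e, m, hI, _, _, hem⟩ := exists_image hF (isQCoh_push h hG) p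
  refine ⟨I, m, hI, inferInstance, fun z => ?_⟩
  obtain ⟨v, hv⟩ := Set.mem_iUnion.1 (hT (Set.mem_univ z))
  obtain ⟨hvT, hzv⟩ := Set.mem_iUnion.1 hv
  haveI := hp v hvT z hzv
  haveI : Epi ((stalkAb (h z)).map e ≫ (stalkAb (h z)).map m) := by rw [← Functor.map_comp, hem]; infer_instance
  haveI : Epi ((stalkAb (h z)).map m) := epi_of_epi ((stalkAb (h z)).map e) _
  exact isIso_of_mono_of_epi _

/-- Lattices of the same module differ off the image. -/
theorem sub_mem {G : X'.Modules} (hG : Coh.IsCoh G) {F F' : X.Modules} (hF : Coh.IsCoh F) (hF' : Coh.IsCoh F')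
    {p : F ⟶ (Scheme.Modules.pushforward h).obj G} {p' : F' ⟶ (Scheme.Modules.pushforward h).obj G}
    (hp : IsLat h p) (hp' : IsLat h p') : cc F - cc F' ∈ Sup (Set.range h)ᶜ := by
  obtain ⟨I, e, m, hI, _, _, hem⟩ := exists_image (KZ.isCoh_biprod hF hF') (isQCoh_push h hG) (biprod.desc p p')
  have h1 : ∀ (z : X') {K : X.Modules} (i : K ⟶ F ⊞ F'), IsIso ((stalkAb (h z)).map (i ≫ biprod.desc p p')) →
      IsIso ((stalkAb (h z)).map (i ≫ e)) := fun z K i hi => by
    rw [← hem, ← Category.assoc, Functor.map_comp] at hi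
    haveI : Epi ((stalkAb (h z)).map m) := epi_of_epi ((stalkAb (h z)).map (i ≫ e)) _
    haveI : IsIso ((stalkAb (h z)).map m) := isIso_of_mono_of_epi _
    exact IsIso.of_isIso_comp_right _ ((stalkAb (h z)).map m)
  have a : cc F - cc I ∈ Sup (Set.range h)ᶜ := mem_of_map hF hI (biprod.inl ≫ e) fun y hy => by
    obtain ⟨z, rfl⟩ := not_not.1 hy
    exact h1 z _ (by rw [biprod.inl_desc]; exact hp z)
  have b' : cc F' - cc I ∈ Sup (Set.range h)ᶜ := mem_of_map hF' hI (biprod.inr ≫ e) fun y hy => by
    obtain ⟨z, rfl⟩ := not_not.1 hy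
    exact h1 z _ (by rw [biprod.inr_desc]; exact hp' z)
  have := (Sup (Set.range h)ᶜ).sub_mem a b'
  rwa [sub_sub_sub_cancel_right] at this

include hh in
/-- Classes of coherent modules on the localisation give classes modulo the complement. -/
theorem exists_psi :
    ∃ ψ : SGA6.Kcoh X' →+ SGA6.Kcoh X ⧸ Sup (X := X) (Set.range h)ᶜ, ∀ F : X.Modules, Coh.IsCoh F →
      ψ (cc ((Scheme.Modules.pullback h).obj F)) = QuotientAddGroup.mk (cc F) := by
  classical
  have hex : ∀ G : X'.Modules, ∃ F : X.Modules, Coh.IsCoh G →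
      ∃ p : F ⟶ (Scheme.Modules.pushforward h).obj G, Coh.IsCoh F ∧ Mono p ∧ IsLat h p := fun G =>
    if hG : Coh.IsCoh G then
      let ⟨F, p, hp⟩ := exists_lattice h hh hG
      ⟨F, fun _ => ⟨p, hp⟩⟩
    else ⟨0, fun h' => absurd h' hG⟩
  choose E hE using hex
  have mk_eq : ∀ {G : X'.Modules}, Coh.IsCoh G → ∀ {F : X.Modules}, Coh.IsCoh F →
      ∀ {p : F ⟶ (Scheme.Modules.pushforward h).obj G}, IsLat h p →
      (QuotientAddGroup.mk (cc (E G)) : SGA6.Kcoh X ⧸ Sup (X := X) (Set.range h)ᶜ) = QuotientAddGroup.mk (cc F) :=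
    fun {G} hG {F} hF {p} hp => by
      obtain ⟨q, hq, _, hql⟩ := hE G hG
      exact QuotientAddGroup.eq_iff_sub_mem.2 (sub_mem h hG hq hF hql hp)
  obtain ⟨ψ, hψ⟩ := KZ.exists_liftSub (fun M : X'.Modules => Coh.IsCoh M)
    (fun G => (QuotientAddGroup.mk (cc (E G)) : SGA6.Kcoh X ⧸ Sup (X := X) (Set.range h)ᶜ)) fun S hS c₁ c₂ c₃ => by
      obtain ⟨p₂, hF₂, _, hl₂⟩ := hE _ c₂
      let P := Scheme.Modules.pushforward h
      haveI := (Scheme.Modules.pullbackPushforwardAdjunction h).isRightAdjoint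
      haveI := hS.mono_f
      haveI := hS.epi_g
      obtain ⟨F₃, e, p₃, hF₃, _, _, he⟩ := exists_image hF₂ (isQCoh_push h c₃) (p₂ ≫ P.map S.g)
      have hF₁ : Coh.IsCoh (kernel e) := QCoh.isCoh_kernel hF₂ hF₃ e
      have hw : (kernel.ι e ≫ p₂) ≫ P.map S.g = 0 := by
        rw [Category.assoc, ← he, kernel.condition_assoc, zero_comp]
      let hlim := KernelFork.mapIsLimit _ hS.fIsKernel P
      obtain ⟨p₁', hp₁⟩ := KernelFork.IsLimit.lift' hlim (kernel.ι e ≫ p₂) hw
      let p₁ : kernel e ⟶ P.obj S.X₁ := p₁'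
      have hp₁' : p₁ ≫ P.map S.f = kernel.ι e ≫ p₂ := hp₁
      have hs1 : ∀ z : X', Mono ((stalkAb (h z)).map (P.map S.f)) := fun z => by
        haveI : Mono ((stalkAb (h z)).map (P.map S.f) ≫ sp h S.X₂ z) := by rw [sp_natural]; infer_instance
        exact mono_of_mono _ (sp h S.X₂ z)
      have hl₃ : IsLat h p₃ := fun z => by
        haveI := hl₂ z
        haveI : Epi ((stalkAb (h z)).map (P.map S.g)) := by
          rw [show (stalkAb (h z)).map (P.map S.g) = sp h S.X₂ z ≫ (stalkAb z).map S.g ≫ inv (sp h S.X₃ z) by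
            rw [← Category.assoc, ← sp_natural, Category.assoc, IsIso.hom_inv_id, Category.comp_id]]
          infer_instance
        haveI : Epi ((stalkAb (h z)).map e ≫ (stalkAb (h z)).map p₃) := by
          rw [← Functor.map_comp, he, Functor.map_comp]; infer_instance
        haveI : Epi ((stalkAb (h z)).map p₃) := epi_of_epi ((stalkAb (h z)).map e) _
        exact isIso_of_mono_of_epi _
      have hl₁ : IsLat h p₁ := fun z => by
        haveI := hl₂ z
        haveI := hl₃ z
        haveI := hs1 z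
        refine (ConcreteCategory.isIso_iff_bijective _).2 ⟨?_, fun a => ?_⟩
        · haveI : Mono ((stalkAb (h z)).map (kernel.ι e)) := (stalkAb (h z)).map_mono _
          haveI : Mono ((stalkAb (h z)).map p₂) := IsIso.mono_of_iso _
          haveI : Mono ((stalkAb (h z)).map (kernel.ι e) ≫ (stalkAb (h z)).map p₂) := mono_comp _ _
          haveI : Mono ((stalkAb (h z)).map p₁ ≫ (stalkAb (h z)).map (P.map S.f)) := by
            rw [← Functor.map_comp, hp₁', Functor.map_comp]; infer_instance
          haveI : Mono ((stalkAb (h z)).map p₁) := mono_of_mono _ ((stalkAb (h z)).map (P.map S.f))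
          exact (AddCommGrpCat.mono_iff_injective _).1 inferInstance
        · obtain ⟨c, hc⟩ := ((ConcreteCategory.isIso_iff_bijective _).1 (hl₂ z)).2 ((stalkAb (h z)).map (P.map S.f) a)
          have hce : (stalkAb (h z)).map e c = 0 := by
            refine ((ConcreteCategory.isIso_iff_bijective _).1 (hl₃ z)).1 ?_
            rw [map_zero, ← ConcreteCategory.comp_apply, ← Functor.map_comp, he, Functor.map_comp,
              ConcreteCategory.comp_apply, hc, ← ConcreteCategory.comp_apply, ← Functor.map_comp, ← Functor.map_comp,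
              S.zero, Functor.map_zero, Functor.map_zero]
            rfl
          have hex : ((ShortComplex.mk (kernel.ι e) e (kernel.condition e)).map (stalkAb (h z))).Exact :=
            (ShortComplex.exact_of_f_is_kernel (ShortComplex.mk (kernel.ι e) e (kernel.condition e))
              (kernelIsKernel e)).map (stalkAb (h z))
          obtain ⟨d, hd⟩ := (ShortComplex.ab_exact_iff _).1 hex c hce
          refine ⟨d, ((AddCommGrpCat.mono_iff_injective _).1 (hs1 z)) ?_⟩
          rw [← hc, ← ConcreteCategory.comp_apply, ← Functor.map_comp, hp₁', Functor.map_comp,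
            ConcreteCategory.comp_apply]
          exact congrArg _ hd
      rw [mk_eq c₁ hF₁ hl₁, mk_eq c₃ hF₃ hl₃, ← QuotientAddGroup.mk_add]
      refine congrArg QuotientAddGroup.mk ?_
      haveI : Mono (cokernel.desc (kernel.ι e) e (kernel.condition e)) :=
        inferInstanceAs (Mono (Abelian.factorThruCoimage e))
      haveI : Epi (cokernel.desc (kernel.ι e) e (kernel.condition e)) :=
        epi_of_epi_fac (cokernel.π_desc (kernel.ι e) e (kernel.condition e))
      haveI : IsIso (cokernel.desc (kernel.ι e) e (kernel.condition e)) := isIso_of_mono_of_epi _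
      have hS' := KZ.clSub_ses (fun M : X.Modules => Coh.IsCoh M) (KZ.shortExact_of_mono (kernel.ι e)) hF₁ hF₂
        (QCoh.isCoh_cokernel hF₁.1 hF₂ _)
      exact hS'.trans (congrArg _ (PBCohPush.clc_iso (asIso (cokernel.desc (kernel.ι e) e (kernel.condition e)))
        (QCoh.isCoh_cokernel hF₁.1 hF₂ _) hF₃))
  refine ⟨ψ, fun F hF => ?_⟩
  rw [hψ _ (ZClosLib.isCoh_pullback h hF)]
  exact mk_eq (ZClosLib.isCoh_pullback h hF) hF (isLat_unit h hh F)

end Groth.Agent.H28.FibExt
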