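import Groth.Agent.H28.FibExt
import Groth.Agent.AssTensor5.Fibre
import Groth.Agent.KExact.ClosedBC
import Groth.Agent.RelPC17.DimOne
import Groth.Agent.EtDiv.GenStalk
import Groth.Agent.H28.PushLocFree
import Groth.Agent.QCoh.DevissageP

/-!
# Generation of `K_•` from fibrewise generation
-/

set_option autoImplicit false
set_option linter.style.haveILetI false
set_option linter.unusedSectionVars false
set_option backward.isDefEq.respectTransparency false
set_option backward.isDefEq.respectTransparency.types false
set_option maxHeartbeats 1000000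

universe u

open CategoryTheory CategoryTheory.Limits AlgebraicGeometry TopologicalSpace Opposite

noncomputable section

namespace Groth.Agent.H28.FibGen

open Groth.Agent Groth.Agent.KFlatLib Groth.Agent.H28.A1Hom

/-- At a generic point of a reduced scheme the local ring is a field. -/
theorem isField_stalk {T : Scheme.{u}} [IsReduced T] {η : T} (hη : ∀ z : T, z ⤳ η → z = η) :
    IsField (T.presheaf.stalk η) := by
  haveI : Subsingleton (Spec (T.presheaf.stalk η)) := ⟨fun a b => (T.fromSpecStalk η).isEmbedding.injective (by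
    have ha := Set.mem_range_self (f := T.fromSpecStalk η) a
    have hb := Set.mem_range_self (f := T.fromSpecStalk η) b
    rw [Scheme.range_fromSpecStalk] at ha hb
    exact (hη _ ha).trans (hη _ hb).symm)⟩
  refine IsLocalRing.isField_iff_maximalIdeal_eq.2 ?_
  refine eq_bot_iff.2 fun a ha => ?_
  have h0 : IsNilpotent a := by
    rw [nilpotent_iff_mem_prime]
    intro J hJ
    have : (⟨J, hJ⟩ : PrimeSpectrum (T.presheaf.stalk η)) = ⟨IsLocalRing.maximalIdeal _, inferInstance⟩ :=
      Subsingleton.elim (α := Spec (T.presheaf.stalk η)) _ _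
    rw [show J = IsLocalRing.maximalIdeal _ from congrArg PrimeSpectrum.asIdeal this]
    exact ha
  exact h0.eq_zero

variable {X S : Scheme.{u}} [AlgebraicGeometry.IsNoetherian X] [AlgebraicGeometry.IsNoetherian S]

/-- Sup is monotone. -/
theorem Sup_mono {W W' : Set X} (h : W ⊆ W') : Sup W ≤ Sup W' :=
  AddSubgroup.closure_mono fun _ ⟨M, hM, hs, hc⟩ => ⟨M, hM, hs.trans h, hc⟩

variable (f : X ⟶ S) [Flat f] {m : ℕ} (E : Fin m → X.Modules) (hE : ∀ i, FlatMod.IsFinLocFree (E i))
  (R : AddSubgroup (SGA6.Kcoh X))
  (hR : ∀ (i : Fin m) (N : S.Modules), Coh.IsCoh N →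
    cc ((DCoh.tensorBi.obj (E i)).obj ((Scheme.Modules.pullback f).obj N)) ∈ R)
  (hfib : ∀ s : S, AddSubgroup.closure (Set.range (fun i : Fin m =>
      KZero.clSub (fun M : (f.fiber s).Modules => Coh.IsCoh M) ((Scheme.Modules.pullback (f.fiberι s)).obj (E i)))) = ⊤)

include hE hR hfib in
theorem Sup_le (T : Closeds S) : Sup (f ⁻¹' (T : Set S)) ≤ R := by
  induction T using WellFoundedLT.induction with
  | _ T ih =>
  rcases (T : Set S).eq_empty_or_nonempty with h0 | h0
  · intro c hc
    rw [h0, Set.preimage_empty] at hc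
    rw [sup_empty hc]
    exact R.zero_mem
  let I : S.IdealSheafData := Scheme.IdealSheafData.vanishingIdeal T
  let Ts := I.subscheme
  let t : Ts ⟶ S := I.subschemeι
  haveI : IsReduced Ts := H23.RedSub.isReduced_subscheme fun U => H23.RedSub.isRadical_vanishingIdeal T U
  have hrt : Set.range t = (T : Set S) := H23.RedSub.range_vanishingIdeal T
  haveI : IsLocallyNoetherian Ts := LocallyOfFiniteType.isLocallyNoetherian t
  haveI : CompactSpace Ts := t.isClosedEmbedding.compactSpace
  haveI : AlgebraicGeometry.IsNoetherian Ts := ⟨⟩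
  haveI : Nonempty Ts := by
    obtain ⟨x, hx⟩ := h0
    obtain ⟨z, -⟩ := hrt.ge hx
    exact ⟨z⟩
  let C' := irreducibleComponent (Classical.arbitrary Ts)
  have hCc : IsClosed C' := isClosed_irreducibleComponent
  obtain ⟨η, hη⟩ := QuasiSober.sober isIrreducible_irreducibleComponent hCc
  have hgen : ∀ z : Ts, z ⤳ η → z = η := fun z hz => by
    have hsub : C' ⊆ closure {z} := hη.def.symm.subset.trans (closure_minimal (Set.singleton_subset_iff.2 hz.mem_closure) isClosed_closure)
    have heq : closure {z} = C' := (irreducibleComponent_mem_irreducibleComponents (Classical.arbitrary Ts)).eq_of_ge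
      isIrreducible_singleton.closure hsub
    exact (heq.trans hη.def.symm : closure {z} = closure {η}) |> fun h => (inseparable_iff_closure_eq.2 h).eq
  let s := t η
  obtain ⟨g, hg⟩ := H23.RedSub.exists_lift_closed (S.fromSpecResidueField s) t (by
    rw [Scheme.range_fromSpecResidueField]
    exact Set.singleton_subset_iff.2 ⟨η, rfl⟩)
  haveI : IsPreimmersion (g ≫ t) := by rw [hg]; infer_instance
  haveI : IsPreimmersion g := IsPreimmersion.of_comp g t
  have hgη : ∀ z, g z = η := fun z => t.isClosedEmbedding.injective (by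
    have : (g ≫ t) z = s := by
      rw [hg]
      have h1 := Set.mem_range_self (f := S.fromSpecResidueField s) z
      rw [Scheme.range_fromSpecResidueField] at h1
      exact h1
    exact this)
  have hgflat : Flat g := Flat.of_stalkMap g fun z => by
    have hF : IsField (Ts.presheaf.stalk (g z)) := by rw [hgη z]; exact isField_stalk hgen
    letI := hF.toField
    letI := (g.stalkMap z).hom.toAlgebra
    exact RingHom.flat_algebraMap_iff.2 (Module.Flat.of_free (R := Ts.presheaf.stalk (g z)))
  let iX : pullback f t ⟶ X := pullback.fst f t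
  let fT : pullback f t ⟶ Ts := pullback.snd f t
  haveI : IsLocallyNoetherian (pullback f t) := LocallyOfFiniteType.isLocallyNoetherian iX
  haveI : CompactSpace ↥(pullback f t) := iX.isClosedEmbedding.compactSpace
  haveI : AlgebraicGeometry.IsNoetherian (pullback f t) := ⟨⟩
  haveI : IsLocallyNoetherian (f.fiber s) := AssTensor5.isLocallyNoetherian_fiber f s
  haveI : CompactSpace ↥(f.fiber s) := by
    haveI : TopologicalSpace.NoetherianSpace ↥(f.fiber s) := (f.fiberι s).isEmbedding.isInducing.noetherianSpace
    infer_instance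
  haveI : AlgebraicGeometry.IsNoetherian (f.fiber s) := ⟨⟩
  let h : f.fiber s ⟶ pullback f t := pullback.lift (f.fiberι s) (f.fiberToSpecResidueField s ≫ g)
    (by rw [Category.assoc, hg]; exact f.fiber_fac s)
  have hfst : h ≫ iX = f.fiberι s := pullback.lift_fst _ _ _
  have hsq : IsPullback h (f.fiberToSpecResidueField s) fT g := by
    refine IsPullback.of_right ?_ (pullback.lift_snd _ _ _) (IsPullback.of_hasPullback f t)
    rw [hfst, hg]
    exact IsPullback.of_hasPullback f (S.fromSpecResidueField s)
  haveI : IsPreimmersion h := MorphismProperty.of_isPullback hsq.flip ‹IsPreimmersion g›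
  haveI : Flat h := MorphismProperty.of_isPullback hsq.flip hgflat
  have hh : ∀ x, Function.Bijective (h.stalkMap x) := fun x => EtDiv.stalkMap_bijective_of_flat h x
  haveI : QuasiCompact h := inferInstance
  obtain ⟨ψ, hψ⟩ := FibExt.exists_psi h hh
  haveI : IsAffineHom iX := inferInstance
  haveI := ClosedShriek.preservesFiniteColimits_push iX
  haveI := (Scheme.Modules.pullbackPushforwardAdjunction iX).isRightAdjoint
  haveI : PreservesFiniteLimits (Scheme.Modules.pushforward iX) := inferInstance
  haveI : (Scheme.Modules.pushforward iX).Additive :=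
    (Scheme.Modules.pullbackPushforwardAdjunction iX).right_adjoint_additive
  let P := SGA6.mapSub (Scheme.Modules.pushforward iX) (fun M : (pullback f t).Modules => Coh.IsCoh M)
    (fun M : X.Modules => Coh.IsCoh M) (fun M hM => QCoh.isCoh_push iX hM)
  have hP : ∀ N, Coh.IsCoh N → P (cc N) = cc ((Scheme.Modules.pushforward iX).obj N) := fun N hN =>
    GenBasis.mapSub_clSub (Scheme.Modules.pushforward iX) _ _ _ hN
  have hgenR : ∀ i, P (cc ((Scheme.Modules.pullback iX).obj (E i))) ∈ R := fun i => by
    have hEi := PushLocFree.isCoh_of_isFinLocFree (hE i)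
    have hc := ZClosLib.isCoh_pullback iX hEi
    have hO : Coh.IsCoh (Coh.structureModule Ts) := QCoh.isCoh_structureModule'
    have hN : Coh.IsCoh ((Scheme.Modules.pushforward t).obj (Coh.structureModule Ts)) := QCoh.isCoh_push t hO
    rw [hP _ hc]
    have hmem := hR i _ hN
    obtain ⟨e₀⟩ := RelPC17.DimOne.nonempty_push_iso f t iX fT (IsPullback.of_hasPullback f t)
    obtain ⟨e₁⟩ := KExact.nonempty_tensorPushIso iX
    obtain ⟨e₂⟩ := H23.PicMul.comm (E i) ((Scheme.Modules.pushforward iX).obj (Coh.structureModule _))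
    let e : (DCoh.tensorBi.obj (E i)).obj ((Scheme.Modules.pullback f).obj
        ((Scheme.Modules.pushforward t).obj (Coh.structureModule Ts))) ≅
        (Scheme.Modules.pushforward iX).obj ((Scheme.Modules.pullback iX).obj (E i)) :=
      (DCoh.tensorBi.obj (E i)).mapIso e₀ ≪≫ e₂ ≪≫ e₁.app (E i)
    exact (congrArg (· ∈ R) (PBCohPush.clc_iso e (CurveTensor.isCoh_tensor (hE i) (ZClosLib.isCoh_pullback f hN))
      (QCoh.isCoh_push iX hc))).mp hmem
  have hVR : ∀ c ∈ Sup (X := pullback f t) (Set.range h)ᶜ, P c ∈ R := by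
    intro c hc
    induction hc using AddSubgroup.closure_induction with
    | mem c hc =>
      obtain ⟨M, hM, hs, rfl⟩ := hc
      have hpM : Coh.IsCoh ((Scheme.Modules.pushforward iX).obj M) := QCoh.isCoh_push iX hM
      rw [hP M hM]
      let Z : Set S := closure (f '' CohB1.support ((Scheme.Modules.pushforward iX).obj M))
      have hcl : IsClosed (CohB1.support M) := QCoh.isClosed_support_of_isFT hM.1 hM.2
      have hsupp : CohB1.support ((Scheme.Modules.pushforward iX).obj M) ⊆ iX '' CohB1.support M := by
        intro y hy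
        obtain ⟨z, rfl⟩ := QCoh.support_push_subset iX hM.1 hy
        refine ⟨z, fun hz => hy ?_, rfl⟩
        haveI : Subsingleton ((stalkAb z).obj M) := hz
        exact (asIso (FibExt.sp iX M z)).addCommGroupIsoToAddEquiv.toEquiv.subsingleton
      have hηZ : s ∉ Z := by
        intro hsZ
        obtain ⟨𝒞, hfin, hclo, hirr, hunion⟩ := NoetherianSpace.exists_finite_set_isClosed_irreducible hcl
        haveI : Finite 𝒞 := hfin
        choose w hw using fun c : 𝒞 => QuasiSober.sober (hirr c.1 c.2) (hclo c.1 c.2)
        have h1 : Z ⊆ ⋃ c : 𝒞, closure {f (iX (w c))} := by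
          refine closure_minimal ?_ (isClosed_iUnion_of_finite fun c => isClosed_closure)
          rintro _ ⟨y, hy, rfl⟩
          obtain ⟨z, hz, rfl⟩ := hsupp hy
          rw [hunion] at hz
          obtain ⟨c, hc, hzc⟩ := hz
          refine Set.mem_iUnion.2 ⟨⟨c, hc⟩, specializes_iff_mem_closure.1 ?_⟩
          exact ((hw ⟨c, hc⟩).specializes hzc).map (iX ≫ f).continuous
        obtain ⟨c, hcs⟩ := Set.mem_iUnion.1 (h1 hsZ)
        have hz' : f (iX (w c)) = t (fT (w c)) := by
          rw [← Scheme.Hom.comp_apply, ← Scheme.Hom.comp_apply, pullback.condition]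
        have hsp : fT (w c) ⤳ η := t.isClosedEmbedding.isInducing.specializes_iff.1 (by
          rw [← hz']; exact specializes_iff_mem_closure.2 hcs)
        have hwM : w c ∈ CohB1.support M := by
          rw [hunion]; exact ⟨c.1, c.2, (hw c).mem⟩
        refine hs hwM ?_
        obtain ⟨v, hv, -⟩ := Scheme.exists_preimage_of_isPullback hsq (w c)
          (IsLocalRing.closedPoint _) ((hgen _ hsp).trans (hgη _).symm)
        exact ⟨v, hv⟩
      have hZT : (⟨Z, isClosed_closure⟩ : Closeds S) < T := by
        refine lt_of_le_of_ne (closure_minimal ?_ T.isClosed) fun he => hηZ ?_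
        · rintro _ ⟨y, hy, rfl⟩
          obtain ⟨z, -, rfl⟩ := hsupp hy
          rw [← hrt, ← Scheme.Hom.comp_apply, pullback.condition]
          exact ⟨_, rfl⟩
        · have : (T : Set S) = Z := (congrArg SetLike.coe he).symm
          rw [← this, ← hrt]
          exact ⟨η, rfl⟩
      exact ih _ hZT (AddSubgroup.subset_closure ⟨_, hpM, fun y hy => subset_closure ⟨y, hy, rfl⟩, rfl⟩)
    | zero => rw [map_zero]; exact R.zero_mem
    | add _ _ _ _ ha hb => rw [map_add]; exact R.add_mem ha hb
    | neg _ _ ha => rw [map_neg]; exact R.neg_mem ha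
  let Q : AddSubgroup (SGA6.Kcoh (pullback f t)) := R.comap P
  have hall : ∀ N : (pullback f t).Modules, Coh.IsCoh N → P (cc N) ∈ R := fun N hN => by
    have hq : ∀ y, ψ y ∈ Q.map (QuotientAddGroup.mk' (Sup (Set.range h)ᶜ)) := by
      have htop : (⊤ : AddSubgroup (SGA6.Kcoh (f.fiber s))) ≤
          (Q.map (QuotientAddGroup.mk' (Sup (Set.range h)ᶜ))).comap ψ := by
        rw [← hfib s]
        refine (AddSubgroup.closure_le _).2 ?_
        rintro _ ⟨i, rfl⟩
        have hEi := PushLocFree.isCoh_of_isFinLocFree (hE i)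
        have hc := ZClosLib.isCoh_pullback iX hEi
        refine ⟨cc ((Scheme.Modules.pullback iX).obj (E i)), hgenR i, ?_⟩
        refine (hψ _ hc).symm.trans (congrArg ψ ?_)
        exact PBCohPush.clc_iso ((Scheme.Modules.pullbackComp h iX).app _ ≪≫ (Scheme.Modules.pullbackCongr hfst).app _)
          (ZClosLib.isCoh_pullback h hc) (ZClosLib.isCoh_pullback (f.fiberι s) hEi)
      exact fun y => htop (AddSubgroup.mem_top y)
    obtain ⟨q, hqQ, hq'⟩ := hq (cc ((Scheme.Modules.pullback h).obj N))
    rw [hψ N hN] at hq'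
    have hd := QuotientAddGroup.eq_iff_sub_mem.1 hq'
    have := R.sub_mem hqQ (hVR _ hd)
    rwa [map_sub, sub_sub_cancel] at this
  refine (AddSubgroup.closure_le _).2 ?_
  rintro _ ⟨M, hM, hs, rfl⟩
  have hrange : Set.range iX = f ⁻¹' (T : Set S) := by
    rw [← hrt]
    exact Scheme.Pullback.range_fst f t
  have hm : cc M ∈ KZ.Localization.Im iX := KZ.Localization.clSub_mem_Im iX hM (hs.trans hrange.ge)
  refine (AddSubgroup.closure_le _).2 ?_ hm
  rintro _ ⟨N, hN, rfl⟩
  exact (congrArg (· ∈ R) (hP N hN)).mp (hall N hN)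

include hE hR hfib in
theorem eq_top : R = ⊤ := by
  refine eq_top_iff.2 fun c _ => Sup_le f E hE R hR hfib ⊤ ?_
  refine QuotientAddGroup.induction_on c fun z => ?_
  induction z using FreeAbelianGroup.induction_on with
  | zero => exact (Sup _).zero_mem
  | of M =>
    exact AddSubgroup.subset_closure ⟨M.1, M.2, fun _ _ => trivial, (KZ.clSub_of_prop _ M.2).symm⟩
  | neg M h => exact (Sup _).neg_mem h
  | add a b ha hb => exact (Sup _).add_mem ha hb

end Groth.Agent.H28.FibGen
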