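import Groth.Agent.Lambda.Elem
import Groth.Agent.Lambda.SymmEval
import Groth.Agent.H28.AugNilp
import Groth.Agent.H28.PBFil
import Groth.Agent.H28.DefCalc
import Groth.Agent.S3795

/-!
# The γ-filtration built from finitely many positive elements
-/

set_option autoImplicit false
set_option linter.style.haveILetI false
set_option linter.unusedSectionVars false

universe v w

open MvPolynomial Finset LambdaRing

noncomputable section

namespace Groth.Agent.H28.FinFil

open Groth.Agent Groth.Agent.Lambda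

variable {K : Type v} [CommRing K] [LambdaOps K] (P : PosStructure K)

/-- `γ^i(e - ε(e))`. -/
abbrev gen (p : ℕ × K) : K := LambdaRing.gamma p.1 (p.2 - ((P.aug p.2).toNat : K))

/-- The products of weight `≥ n` of `γ^i(e - ε(e))`, `e ∈ S`, span `G S n`. -/
def G (S : Set K) (n : ℕ) : AddSubgroup K :=
  AddSubgroup.closure {y | ∃ l : List (ℕ × K), (∀ p ∈ l, p.2 ∈ S) ∧ n ≤ (l.map Prod.fst).sum ∧
    y = (l.map (gen P)).prod}

variable {P}

theorem mono {S T : Set K} (hST : S ⊆ T) {m n : ℕ} (h : m ≤ n) : G P S n ≤ G P T m :=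
  AddSubgroup.closure_mono fun _ ⟨l, hl, hs, hy⟩ => ⟨l, fun p hp => hST (hl p hp), h.trans hs, hy⟩

theorem gen_mem {S : Set K} {e : K} (he : e ∈ S) (i : ℕ) : gen P (i, e) ∈ G P S i :=
  AddSubgroup.subset_closure ⟨[(i, e)], by simp [he], by simp, by simp⟩

theorem one_mem (S : Set K) : (1 : K) ∈ G P S 0 :=
  AddSubgroup.subset_closure ⟨[], by simp, by simp, by simp⟩

theorem mul_mem {S : Set K} {m n : ℕ} {x y : K} (hx : x ∈ G P S m) (hy : y ∈ G P S n) :
    x * y ∈ G P S (m + n) := by
  induction hx using AddSubgroup.closure_induction with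
  | mem x hx =>
    induction hy using AddSubgroup.closure_induction with
    | mem y hy =>
      obtain ⟨l, hl, hs, rfl⟩ := hx
      obtain ⟨l', hl', hs', rfl⟩ := hy
      refine AddSubgroup.subset_closure ⟨l ++ l', fun p hp => ?_, ?_, ?_⟩
      · rcases List.mem_append.1 hp with h | h
        exacts [hl p h, hl' p h]
      · rw [List.map_append, List.sum_append]; omega
      · rw [List.map_append, List.prod_append]
    | zero => rw [mul_zero]; exact zero_mem _
    | add a b _ _ ha hb => rw [mul_add]; exact add_mem ha hb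
    | neg a _ ha => rw [mul_neg]; exact neg_mem ha
  | zero => rw [zero_mul]; exact zero_mem _
  | add a b _ _ ha hb => rw [add_mul]; exact add_mem ha hb
  | neg a _ ha => rw [neg_mul]; exact neg_mem ha

theorem natCast_mul_mem {S : Set K} {n : ℕ} (c : ℕ) {x : K} (hx : x ∈ G P S n) : (c : K) * x ∈ G P S n := by
  rw [← nsmul_eq_mul]; exact AddSubgroup.nsmul_mem _ hx c

theorem pow_mul_mem {S : Set K} {n : ℕ} (j i : ℕ) {x : K} (hx : x ∈ G P S n) :
    (j : K) ^ i * x ∈ G P S n := by
  rw [← Nat.cast_pow]; exact natCast_mul_mem _ hx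

/-! ### Every element of the γ-filtration has finitely many generators -/

theorem gamma_sub_mem {e g : K} (he : e ∈ P.pos) (hg : g ∈ P.pos) (heq : P.aug e = P.aug g) (r : ℕ) :
    LambdaRing.gamma r (e - g) ∈ G P {e, g} r := by
  induction r using Nat.strong_induction_on with
  | _ r ih =>
    have h := Lambda.gamma_add r (e - g) (g - ((P.aug g).toNat : K))
    rw [sum_range_succ, Nat.sub_self, Lambda.gamma_zero, mul_one, sub_add_sub_cancel] at h
    rw [eq_sub_of_add_eq' h.symm]
    refine sub_mem ?_ (sum_mem fun i hi => ?_)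
    · have h' := gen_mem (P := P) (S := {e, g}) (e := e) (by simp) r
      rwa [gen, heq] at h'
    · rw [mem_range] at hi
      exact mono subset_rfl (by omega) (mul_mem (ih i hi) (gen_mem (P := P) (S := {e, g}) (e := g) (by simp) (r - i)))

theorem exists_finite {n : ℕ} (hn : n ≠ 0) {x : K} (hx : x ∈ gammaFiltration P n) :
    ∃ S : Finset K, (∀ e ∈ S, e ∈ P.pos) ∧ x ∈ G P (S : Set K) n := by
  classical
  rw [gammaFiltration_of_ne_zero P hn] at hx
  induction hx using AddSubgroup.closure_induction with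
  | mem y hy =>
    obtain ⟨l, hl, hsum, rfl⟩ := hy
    suffices h : ∃ S : Finset K, (∀ e ∈ S, e ∈ P.pos) ∧
        (l.map fun p => LambdaRing.gamma p.1 p.2).prod ∈ G P (S : Set K) (l.map Prod.fst).sum by
      obtain ⟨S, hS, h⟩ := h
      exact ⟨S, hS, mono subset_rfl hsum h⟩
    clear hsum
    induction l with
    | nil => exact ⟨∅, by simp, one_mem _⟩
    | cons p l ih =>
      obtain ⟨S, hS, h⟩ := ih fun q hq => hl q (List.mem_cons_of_mem _ hq)
      obtain ⟨e, g, he, hg, hp⟩ := P.exists_sub p.2
      have heq : P.aug e = P.aug g := by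
        rw [← sub_eq_zero, ← map_sub, ← hp]; exact hl p List.mem_cons_self
      refine ⟨S ∪ {e, g}, fun a ha => ?_, ?_⟩
      · rcases Finset.mem_union.1 ha with h | h
        · exact hS a h
        · rcases Finset.mem_insert.1 h with rfl | h
          · exact he
          · rw [Finset.mem_singleton.1 h]; exact hg
      · simp only [List.map_cons, List.prod_cons, List.sum_cons]
        refine mul_mem (mono ?_ le_rfl (hp ▸ gamma_sub_mem he hg heq p.1)) (mono ?_ le_rfl h)
        · intro a ha; simp only [Finset.coe_union, Finset.coe_insert, Finset.coe_singleton]; exact Or.inr ha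
        · intro a ha; simp only [Finset.coe_union]; exact Or.inl ha
  | zero => exact ⟨∅, by simp, zero_mem _⟩
  | add a b _ _ ha hb =>
    obtain ⟨S, hS, ha⟩ := ha
    obtain ⟨T, hT, hb⟩ := hb
    refine ⟨S ∪ T, fun c hc => (Finset.mem_union.1 hc).elim (hS c) (hT c), add_mem ?_ ?_⟩
    · exact mono (by simp) le_rfl ha
    · exact mono (by simp) le_rfl hb
  | neg a _ ha =>
    obtain ⟨S, hS, ha⟩ := ha
    exact ⟨S, hS, neg_mem ha⟩

/-! ### Symmetric functions of the roots -/

theorem aeval_gamma_mem {S : Set K} {e : K} (he : e ∈ S) {n r : ℕ} (hn : (P.aug e).toNat = n)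
    (Q : MvPolynomial (Fin n) ℤ) (hQ : ∀ d ∈ Q.support, r ≤ Finsupp.weight (esymmWeight n) d) :
    aeval (fun k : Fin n => LambdaRing.gamma ((k : ℕ) + 1) (e - (n : K))) Q ∈ G P S r := by
  rw [Q.as_sum, map_sum]
  refine sum_mem fun d hd => ?_
  rw [aeval_monomial, eq_intCast, ← zsmul_eq_mul]
  refine AddSubgroup.zsmul_mem _ (mono subset_rfl (hQ d hd) ?_) _
  rw [Finsupp.weight_apply, Finsupp.sum, Finsupp.prod]
  induction d.support using Finset.cons_induction with
  | empty => simpa using one_mem S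
  | cons a s ha ih =>
    rw [prod_cons, sum_cons]
    refine mul_mem ?_ ih
    generalize d a = t
    induction t with
    | zero => simpa using one_mem S
    | succ t iht =>
      rw [pow_succ, succ_nsmul]
      refine mul_mem iht ?_
      have h := gen_mem (P := P) he ((a : ℕ) + 1)
      rw [gen, hn] at h
      simpa [esymmWeight] using h

theorem mem_of_eq_symmetric {S : Set K} {e : K} (hmem : e ∈ S) {L : PosLambdaRing.{v}} {f : K →+* L.carrier}
    (hf : IsExtension P L.posStr f) {n : ℕ} (hn : (P.aug e).toNat = n) {u : Fin n → L.carrier}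
    (hu : ∀ i, L.posStr.IsLine (u i)) (he : ∑ i, u i = f e)
    {p : MvPolynomial (Fin n) ℤ} (hp : p.IsSymmetric) {r : ℕ}
    (hpr : p ∈ idealOfVars (Fin n) ℤ ^ r) {z : K}
    (hz : f z = aeval (fun i => u i - 1) p) : z ∈ G P S r := by
  obtain ⟨Q, hQ, hQw⟩ := exists_esymmEval_eq_of_le_degree (Fintype.card_fin n).le hp r
    (component_eq_zero_of_mem_pow hpr)
  suffices z = aeval (fun k : Fin n => LambdaRing.gamma ((k : ℕ) + 1) (e - (n : K))) Q from
    this ▸ aeval_gamma_mem hmem hn Q hQw
  apply hf.injective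
  rw [hz, ← hQ, esymmEval, ← AlgHom.comp_apply, comp_aeval,
    show f (aeval (fun k : Fin n => LambdaRing.gamma ((k : ℕ) + 1) (e - (n : K))) Q) =
      f.toIntAlgHom (aeval (fun k : Fin n => LambdaRing.gamma ((k : ℕ) + 1) (e - (n : K))) Q) from rfl,
    ← AlgHom.comp_apply, comp_aeval]
  congr 2
  funext k
  show aeval _ _ = f _
  rw [aeval_esymm_of_fun, Lambda.map_gamma hf.isLambdaHom, map_sub, map_natCast, ← he]
  have h := gamma_lines_sum_sub_card (P := L.posStr) (s := (Finset.univ : Finset (Fin n)).val.map u)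
    (by
      intro x hx
      obtain ⟨i, -, rfl⟩ := Multiset.mem_map.mp hx
      exact hu i) ((k : ℕ) + 1)
  rw [Multiset.map_map, Multiset.card_map, Finset.card_val, Finset.card_univ, Fintype.card_fin] at h
  exact h.symm

theorem adams_gen (hK : HasSplitting K P) (j : ℕ) {S : Set K} {e : K} (heS : e ∈ S) (he : e ∈ P.pos) (i : ℕ) :
    adams P j (gen P (i, e)) - (j : K) ^ i * gen P (i, e) ∈ G P S (i + 1) := by
  obtain ⟨L, f, hf, hL, s, hs, hse, hcard⟩ := exists_split hK he
  obtain ⟨n, u, hn, hu⟩ := exists_enum s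
  have hcn : (P.aug e).toNat = n := by rw [← hcard, hn]
  simp only [gen, hcn]
  have hul : ∀ a, L.posStr.IsLine (u a) := fun a =>
    hs _ (by rw [← hu]; exact Multiset.mem_map_of_mem u (Finset.mem_univ_val a))
  have hsum : ∑ a, u a = f e := by rw [← hse, Finset.sum_eq_multiset_sum, hu]
  set p : MvPolynomial (Fin n) ℤ :=
    (∑ T ∈ (Finset.univ : Finset (Fin n)).powersetCard i, ∏ a ∈ T, ((1 + X a) ^ j - 1)) -
      (j : MvPolynomial (Fin n) ℤ) ^ i * esymm (Fin n) ℤ i with hp
  refine mem_of_eq_symmetric heS hf hcn hul hsum (p := p) ?_ ?_ ?_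
  · intro g
    rw [hp, map_sub, map_mul, map_pow, map_natCast, esymm_isSymmetric (Fin n) ℤ i g, map_sum]
    congr 1
    refine Finset.sum_equiv (g.finsetCongr) (fun T => by simp) fun T _ => ?_
    simp [map_prod, Finset.prod_map]
  · rw [hp, esymm, mul_sum, ← sum_sub_distrib]
    refine sum_mem fun T hT => ?_
    have hX : ∀ a : Fin n, (X a : MvPolynomial (Fin n) ℤ) ∈ idealOfVars (Fin n) ℤ :=
      fun a => Ideal.subset_span ⟨a, rfl⟩
    rw [show (j : MvPolynomial (Fin n) ℤ) ^ i * ∏ a ∈ T, X a = ∏ a ∈ T, (j : MvPolynomial (Fin n) ℤ) * X a by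
        rw [prod_mul_distrib, prod_const, (mem_powersetCard.mp hT).2],
      ← (mem_powersetCard.mp hT).2]
    have hsq : ∀ a : Fin n, (1 + X a : MvPolynomial (Fin n) ℤ) ^ j - 1 - (j : MvPolynomial (Fin n) ℤ) * X a ∈
        idealOfVars (Fin n) ℤ ^ 2 := by
      intro a
      clear hp p
      induction j with
      | zero => simp
      | succ j ihj =>
        rw [show (1 + X a : MvPolynomial (Fin n) ℤ) ^ (j + 1) - 1 - ((j + 1 : ℕ) : MvPolynomial (Fin n) ℤ) * X a =
          ((1 + X a) ^ j - 1 - (j : MvPolynomial (Fin n) ℤ) * X a) * (1 + X a) +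
            (j : MvPolynomial (Fin n) ℤ) * (X a * X a) by push_cast; ring]
        exact add_mem (Ideal.mul_mem_right _ _ ihj)
          (Ideal.mul_mem_left _ _ (by rw [sq]; exact Ideal.mul_mem_mul (hX a) (hX a)))
    refine prod_sub_prod_mem_pow T (fun a _ => ?_) (fun a _ => Ideal.mul_mem_left _ _ (hX a))
      fun a _ => hsq a
    have := add_mem (Ideal.pow_le_self two_ne_zero (hsq a)) (Ideal.mul_mem_left _ (j : MvPolynomial (Fin n) ℤ) (hX a))
    simpa using this
  · have hl := gamma_lines_sum_sub_card (P := L.posStr) hs i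
    rw [hse, hn] at hl
    have key : LambdaRing.gamma i (f e - (n : L.carrier)) =
        ∑ T ∈ (Finset.univ : Finset (Fin n)).powersetCard i, ∏ a ∈ T, (u a - 1) := by
      rw [hl, ← hu, Multiset.map_map, Finset.esymm_map_val]
      simp only [Function.comp_apply]
    rw [hp, map_sub, map_mul, map_pow, map_natCast, Lambda.map_adams hf.isLambdaHom hf.aug_comp,
      Lambda.map_gamma hf.isLambdaHom, map_sub, map_natCast, key, map_sub, map_mul, map_pow, map_natCast,
      aeval_esymm_of_fun, Finset.esymm_map_val, map_sum]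
    congr 1
    rw [← adamsHom_apply, map_sum]
    refine sum_congr rfl fun T _ => ?_
    rw [adamsHom_apply, map_prod]
    have hr := map_prod (adamsRingHom hL j) (fun a => u a - 1) T
    exact hr.trans (prod_congr rfl fun a _ => by
      show adams L.posStr j (u a - 1) = _
      rw [map_sub, map_one, map_pow, map_add, map_one, aeval_X, ← adamsHom_apply, map_sub,
        adamsHom_apply, adamsHom_apply, adams_line (hul a), adams_one, add_sub_cancel])

theorem adams_mem (hK : HasSplitting K P) (j : ℕ) {S : Set K} (hS : ∀ e ∈ S, e ∈ P.pos) {n : ℕ} {x : K}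
    (hx : x ∈ G P S n) : adams P j x ∈ G P S n ∧ adams P j x - (j : K) ^ n * x ∈ G P S (n + 1) := by
  induction hx using AddSubgroup.closure_induction with
  | mem y hy =>
    obtain ⟨l, hl, hsum, rfl⟩ := hy
    have key : (l.map (gen P)).prod ∈ G P S (l.map Prod.fst).sum ∧
        adams P j (l.map (gen P)).prod ∈ G P S (l.map Prod.fst).sum ∧
        adams P j (l.map (gen P)).prod - (j : K) ^ (l.map Prod.fst).sum * (l.map (gen P)).prod ∈
          G P S ((l.map Prod.fst).sum + 1) := by
      clear hsum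
      induction l with
      | nil => simpa [adams_one] using one_mem S
      | cons p l ih =>
        obtain ⟨h1, h2, h3⟩ := ih fun q hq => hl q (List.mem_cons_of_mem p hq)
        have hpS := hl p List.mem_cons_self
        simp only [List.map_cons, List.prod_cons, List.sum_cons]
        have hA : gen P p ∈ G P S p.1 := gen_mem hpS p.1
        have hB : adams P j (gen P p) - (j : K) ^ p.1 * gen P p ∈ G P S (p.1 + 1) :=
          adams_gen hK j hpS (hS _ hpS) p.1
        have hC : adams P j (gen P p) ∈ G P S p.1 := by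
          have := add_mem (mono subset_rfl (Nat.le_succ p.1) hB) (pow_mul_mem j p.1 hA)
          rwa [sub_add_cancel] at this
        set A := gen P p
        set B := (l.map (gen P)).prod
        set t := (l.map Prod.fst).sum
        rw [adams_mul hK]
        refine ⟨mul_mem hA h1, mul_mem hC h2, ?_⟩
        rw [pow_add, show adams P j A * adams P j B - (j : K) ^ p.1 * (j : K) ^ t * (A * B) =
            (j : K) ^ t * ((adams P j A - (j : K) ^ p.1 * A) * B) +
              (adams P j A) * (adams P j B - (j : K) ^ t * B) by ring]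
        exact add_mem (mono subset_rfl (by omega) (pow_mul_mem j t (mul_mem hB h1)))
          (mono subset_rfl (by omega) (mul_mem hC h3))
    obtain ⟨h1, h2, h3⟩ := key
    refine ⟨mono subset_rfl hsum h2, ?_⟩
    rcases eq_or_lt_of_le hsum with h | h
    · exact h ▸ h3
    · exact sub_mem (mono subset_rfl h h2) (pow_mul_mem j n (mono subset_rfl h h1))
  | zero => simp [show adams P j (0 : K) = 0 from map_zero (adamsHom P j), zero_mem]
  | add y z _ _ hy hz =>
    rw [adams_add, mul_add, add_sub_add_comm]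
    exact ⟨add_mem hy.1 hz.1, add_mem hy.2 hz.2⟩
  | neg y _ hy =>
    rw [show adams P j (-y) = -adams P j y from map_neg (adamsHom P j) y, mul_neg, neg_sub_neg, ← neg_sub]
    exact ⟨neg_mem hy.1, neg_mem hy.2⟩

theorem bott_mem (hK : HasSplitting K P) (j : ℕ) {S : Set K} {C : K} {d : ℕ}
    (hC : C = 0 ∧ d = 0 ∨ C ∈ S ∧ C ∈ P.pos ∧ P.aug C = d) :
    KRR.bott P j C - (j : K) ^ d ∈ G P S 1 := by
  rcases hC with ⟨rfl, rfl⟩ | ⟨hS, hpos, haug⟩
  · have h0 : (P.aug (0 : K)).toNat = 0 := by simp
    rw [KRR.bott, DefCalc.bottPoly_cast h0 j fun i => LambdaOps.lam i (0 : K), DefCalc.bottPoly_zero, map_one,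
      pow_zero, sub_self]
    exact zero_mem _
  obtain ⟨L, f, hf, hL, s, hs, hse, hcard⟩ := exists_split hK hpos
  obtain ⟨m, u, hm, hu⟩ := exists_enum s
  have hmm : (P.aug C).toNat = m := by rw [← hcard, hm]
  have hmd : m = d := by rw [← hmm, haug, Int.toNat_natCast]
  subst hmd
  have hul : ∀ a, L.posStr.IsLine (u a) := fun a =>
    hs _ (by rw [← hu]; exact Multiset.mem_map_of_mem u (Finset.mem_univ_val a))
  have hsum : ∑ a, u a = f C := by rw [← hse, Finset.sum_eq_multiset_sum, hu]
  refine mem_of_eq_symmetric hS hf hmm hul hsum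
    (p := (∏ a : Fin m, ∑ k ∈ range j, (1 + X a) ^ k) - (j : MvPolynomial (Fin m) ℤ) ^ m) ?_ ?_ ?_
  · intro g
    simp only [map_sub, map_prod, map_sum, map_pow, map_add, map_one, map_natCast, rename_X]
    congr 1
    exact Fintype.prod_equiv g _ _ fun _ => rfl
  · refine (mem_pow_idealOfVars_iff' 1 _).2 fun x hx => ?_
    obtain rfl : x = 0 := (Finsupp.degree_eq_zero_iff x).1 (by omega)
    rw [← constantCoeff_eq]
    simp [map_prod, map_sum, map_sub, map_pow, map_add]
  · have h := bott_lines (P := L.posStr) j (f C) u hul hsum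
      (by rw [hf.aug_comp, hmm])
    rw [map_sub, map_pow, map_natCast, DefCalc.map_bott f hf.isLambdaHom hf.aug_comp, h]
    simp [map_prod, map_sum, map_sub, map_pow]

/-! ### Vanishing -/

theorem vanish (hK : HasSplitting K P) {u : K} (hu : KRR.IsAmpleElt P u) (S : Finset K)
    (hS : ∀ e ∈ S, e ∈ P.pos) : ∃ M : ℕ, ∀ n, M ≤ n → G P (S : Set K) n = ⊥ := by
  classical
  let R := (S.sup fun e => (P.aug e).toNat) + 1
  let T : Finset K := (S ×ˢ Finset.Icc 1 R).image fun p => gen P (p.2, p.1)
  have hnil : Ideal.span (T : Set K) ≤ nilradical K := Ideal.span_le.2 fun c hc => by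
    obtain ⟨⟨e, i⟩, hp, rfl⟩ := Finset.mem_image.1 (Finset.mem_coe.1 hc)
    obtain ⟨he, hi⟩ := Finset.mem_product.1 hp
    rw [Finset.mem_Icc] at hi
    refine mem_nilradical.2 (AugNilp.isNilpotent hu (Lambda.aug_gamma hK ?_ (by omega)))
    rw [map_sub, map_natCast, aug_toNat (hS e he), sub_self]
  obtain ⟨N, hN⟩ := Ideal.exists_pow_le_of_le_radical_of_fg (J := (⊥ : Ideal K)) hnil
    (Submodule.fg_span T.finite_toSet)
  refine ⟨R * N, fun n hn => ?_⟩
  have key : ∀ (l : List (ℕ × K)) (k : ℕ), (∀ p ∈ l, p.2 ∈ S) → R * k ≤ (l.map Prod.fst).sum →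
      (l.map (gen P)).prod ∈ Ideal.span (T : Set K) ^ k := by
    intro l
    induction l with
    | nil =>
      intro k _ hk
      have hk0 : k = 0 := by simpa [R] using hk
      simp [hk0]
    | cons p l ih =>
      intro k hl hk
      simp only [List.map_cons, List.prod_cons, List.sum_cons] at hk ⊢
      have hl' := fun q hq => hl q (List.mem_cons_of_mem p hq)
      have hp := hl p List.mem_cons_self
      rcases eq_or_ne p.1 0 with h0 | h0
      · exact Ideal.mul_mem_left _ _ (ih k hl' (by omega))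
      rcases le_or_gt p.1 R with hle | hgt
      · rcases k with _ | k
        · rw [pow_zero, Ideal.one_eq_top]; trivial
        rw [pow_succ']
        refine Ideal.mul_mem_mul (Ideal.subset_span ?_) (ih k hl' (by rw [Nat.mul_succ] at hk; omega))
        exact Finset.mem_coe.2 (Finset.mem_image.2
          ⟨(p.2, p.1), Finset.mem_product.2 ⟨hp, Finset.mem_Icc.2 ⟨by omega, hle⟩⟩, rfl⟩)
      · have hz : gen P p = 0 := by
          refine PBFil.gamma_sub_eq_zero (P := P) (Or.inr ⟨hS _ hp, (aug_toNat (hS _ hp)).symm⟩) ?_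
          have := Finset.le_sup (f := fun e => (P.aug e).toNat) hp
          simp only [R] at hgt
          omega
        rw [hz, zero_mul]; exact zero_mem _
  rw [G, AddSubgroup.closure_eq_bot_iff]
  rintro _ ⟨l, hl, hs, rfl⟩
  simpa using hN (key l N hl (hn.trans hs))

/-! ### Descending induction -/

theorem push_mem {KY : Type w} [CommRing KY] [LambdaOps KY] {PY : PosStructure KY} (hKY : HasSplitting KY PY)
    (hK : HasSplitting K P) {u : K} (hu : KRR.IsAmpleElt P u) (h : K →+ KY) {C : K} {d : ℕ}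
    (hC : C = 0 ∧ d = 0 ∨ C ∈ P.pos ∧ P.aug C = d)
    (hh : ∀ x, adams PY 2 (h x) = h (KRR.bott P 2 C * adams P 2 x)) (n : ℕ) (x : K)
    (hx : x ∈ gammaFiltration P n) :
    ∃ N : ℕ, 1 ≤ N ∧ (N : KY) * h x ∈ gammaFiltration PY (n + d) := by
  classical
  -- finitely many generators
  obtain ⟨S₀, hS₀, hx₀⟩ : ∃ S : Finset K, (∀ e ∈ S, e ∈ P.pos) ∧ x ∈ G P (S : Set K) n := by
    rcases eq_or_ne n 0 with rfl | hn
    · obtain ⟨e, g, he, hg, hp⟩ := P.exists_sub x
      refine ⟨{e, g}, by simp [he, hg], ?_⟩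
      have hcast : ∀ a ∈ ({e, g} : Finset K), a ∈ G P (({e, g} : Finset K) : Set K) 0 := fun a ha => by
        have h1 := gen_mem (P := P) (S := (({e, g} : Finset K) : Set K)) (Finset.mem_coe.2 ha) 1
        have h2 := add_mem (mono subset_rfl (Nat.zero_le 1) h1)
          (natCast_mul_mem (P.aug a).toNat (one_mem (P := P) (({e, g} : Finset K) : Set K)))
        simpa [gen, Lambda.gamma_one] using h2
      rw [hp]
      exact sub_mem (hcast e (by simp)) (hcast g (by simp))
    · exact exists_finite hn hx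
  let S : Finset K := if d = 0 then S₀ else insert C S₀
  have hS : ∀ e ∈ S, e ∈ P.pos := fun e he => by
    by_cases hd : d = 0
    · simp only [S, hd, if_true] at he; exact hS₀ e he
    · simp only [S, hd, if_false, Finset.mem_insert] at he
      rcases he with rfl | he
      · exact (hC.resolve_left fun h => hd h.2).1
      · exact hS₀ e he
  have hsub : (S₀ : Set K) ⊆ (S : Set K) := fun e he => by
    simp only [S]; split_ifs
    · exact he
    · exact Finset.mem_coe.2 (Finset.mem_insert_of_mem (Finset.mem_coe.1 he))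
  have hbott : KRR.bott P 2 C - (2 : K) ^ d ∈ G P (S : Set K) 1 := by
    have := bott_mem hK 2 (S := (S : Set K)) (C := C) (d := d) ?_
    · simpa using this
    rcases hC with hC | ⟨hpos, haug⟩
    · exact Or.inl hC
    · refine Or.inr ⟨?_, hpos, haug⟩
      have hd : d ≠ 0 := by rintro rfl; exact absurd (P.aug_pos C hpos) (by simp [haug])
      simp [S, hd]
  obtain ⟨M, hM⟩ := vanish hK hu S hS
  -- descending induction
  suffices H : ∀ k n x, M ≤ n + k → x ∈ G P (S : Set K) n →
      ∃ N : ℕ, 1 ≤ N ∧ (N : KY) * h x ∈ gammaFiltration PY (n + d) from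
    H M n x (by omega) (mono hsub le_rfl hx₀)
  intro k
  induction k with
  | zero =>
    intro n x hn hx
    rw [hM n (by omega), AddSubgroup.mem_bot] at hx
    exact ⟨1, le_rfl, by rw [hx, map_zero, mul_zero]; exact zero_mem _⟩
  | succ k ih =>
    intro n x hn hx
    obtain ⟨h1, h2⟩ := adams_mem hK 2 (fun e he => hS e he) hx
    have hw : (KRR.bott P 2 C - (2 : K) ^ d) * adams P 2 x + (2 : K) ^ d * (adams P 2 x - (2 : K) ^ n * x) ∈
        G P (S : Set K) (n + 1) :=
      add_mem (mono subset_rfl (by omega) (mul_mem hbott h1)) (by simpa using pow_mul_mem 2 d h2)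
    obtain ⟨N, hN, hmem⟩ := ih (n + 1) _ (by omega) hw
    refine Groth.Agent.S3795.result KY PY hKY 2 le_rfl (n + d) (h x) ⟨N, hN, ?_⟩
    have e : adams PY 2 (h x) - ((2 : ℕ) : KY) ^ (n + d) * h x = h ((KRR.bott P 2 C - (2 : K) ^ d) * adams P 2 x +
        (2 : K) ^ d * (adams P 2 x - (2 : K) ^ n * x)) := by
      rw [hh, ← Nat.cast_pow, ← nsmul_eq_mul, ← map_nsmul, ← map_sub]
      congr 1
      rw [nsmul_eq_mul]
      push_cast
      ring
    rw [e, show n + d + 1 = n + 1 + d by omega]
    exact hmem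

end Groth.Agent.H28.FinFil

end
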