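import Groth.Prelude.Def_BlowUp2
import Groth.Agent.ModPairLib.Basic
import Mathlib.AlgebraicGeometry.Morphisms.SchemeTheoreticallyDominant
import Mathlib.RingTheory.DiscreteValuationRing.Basic

/-!
# Flat closures along discrete valuation rings
-/

set_option autoImplicit false
set_option linter.style.haveILetI false
set_option backward.isDefEq.respectTransparency false
set_option backward.isDefEq.respectTransparency.types false

universe u

open CategoryTheory CategoryTheory.Limits AlgebraicGeometry TopologicalSpace Opposite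

noncomputable section

namespace Groth.Agent.H28.FlatCl

variable {R : Type u} [CommRing R] [IsDomain R]

/-- The inclusion of the generic point. -/
abbrev genI (R : Type u) [CommRing R] : Spec (CommRingCat.of (FractionRing R)) ⟶ Spec (CommRingCat.of R) :=
  Spec.map (CommRingCat.ofHom (algebraMap R (FractionRing R)))

theorem genI_apply (x : Spec (CommRingCat.of (FractionRing R))) :
    (genI R) x = (⟨⊥, Ideal.isPrime_bot⟩ : PrimeSpectrum R) := by
  apply PrimeSpectrum.ext
  show Ideal.comap (algebraMap R (FractionRing R)) x.asIdeal = ⊥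
  rw [show x.asIdeal = ⊥ from (Ideal.eq_bot_or_top x.asIdeal).resolve_right x.2.ne_top,
    ← RingHom.ker_eq_comap_bot]
  exact (RingHom.injective_iff_ker_eq_bot _).1 (IsFractionRing.injective R (FractionRing R))

instance : IsSchemeTheoreticallyDominant (genI R) := by
  haveI : IsDominant (genI R) := by
    rw [isDominant_iff]
    exact (PrimeSpectrum.denseRange_comap_iff_ker_le_nilRadical _).2
      (((RingHom.injective_iff_ker_eq_bot _).1 (IsFractionRing.injective R (FractionRing R))).trans_le bot_le)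
  exact .of_isDominant _

variable {S : Scheme.{u}} {𝓘 : S.IdealSheafData} {f : Spec (CommRingCat.of R) ⟶ S}

theorem comap_genI_eq_top (hf : f.base ⟨⊥, Ideal.isPrime_bot⟩ ∉ (𝓘.support : Set ↥S)) :
    𝓘.comap (genI R ≫ f) = ⊤ := by
  rw [← Scheme.IdealSheafData.support_eq_bot_iff, Scheme.IdealSheafData.support_comap, eq_bot_iff]
  intro x hx
  refine hf ?_
  have h : (genI R ≫ f) x ∈ (𝓘.support : Set ↥S) := hx
  rw [Scheme.Hom.comp_apply, genI_apply] at h
  exact h

theorem isEffCartier_comap [IsPrincipalIdealRing R]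
    (hf : f.base ⟨⊥, Ideal.isPrime_bot⟩ ∉ (𝓘.support : Set ↥S)) : BlowUp.IsEffCartierIdeal (𝓘.comap f) := by
  let U : (Spec (CommRingCat.of R)).affineOpens := ⟨⊤, isAffineOpen_top _⟩
  let e : R ≃+* Γ(Spec (CommRingCat.of R), ⊤) :=
    (Scheme.ΓSpecIso (CommRingCat.of R)).symm.commRingCatIsoToRingEquiv
  haveI : IsPrincipalIdealRing Γ(Spec (CommRingCat.of R), U.1) :=
    IsPrincipalIdealRing.of_surjective e.toRingHom e.surjective
  haveI : IsDomain Γ(Spec (CommRingCat.of R), U.1) := e.toMulEquiv.isDomain_iff.1 inferInstance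
  obtain ⟨t, ht⟩ := (IsPrincipalIdealRing.principal ((𝓘.comap f).ideal U)).principal
  refine fun x => ⟨U, trivial, t, mem_nonZeroDivisors_of_ne_zero fun h0 => hf ?_, ht⟩
  have hbot : 𝓘.comap f = ⊥ := Scheme.IdealSheafData.ext_of_isAffine (by
    rw [Scheme.IdealSheafData.ideal_bot, Pi.bot_apply]
    exact ht.trans (by rw [h0]; exact Submodule.span_singleton_eq_bot.2 rfl))
  have : (⟨⊥, Ideal.isPrime_bot⟩ : PrimeSpectrum R) ∈ ((𝓘.comap f).support : Set ↥(Spec (CommRingCat.of R))) := by
    rw [hbot, Scheme.IdealSheafData.support_bot]; trivial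
  rw [Scheme.IdealSheafData.support_comap] at this
  exact this

/-- Sections killed by a power of a centre vanish where the centre is the unit ideal. -/
theorem le_ker_of_killed {Y T : Scheme.{u}} (E J : Y.IdealSheafData) (k : T ⟶ Y) (hk : E.comap k = ⊤)
    (hJ : ∀ (V : Y.affineOpens) (a : Γ(Y, V.1)), a ∈ J.ideal V →
      ∃ n : ℕ, ∀ c : Γ(Y, V.1), c ∈ (E ^ n).ideal V → c * a = 0) :
    J ≤ k.ker := by
  refine Scheme.IdealSheafData.le_ofIdeals_iff.2 fun V a ha => ?_
  obtain ⟨n, hn⟩ := hJ V a ha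
  rw [RingHom.mem_ker]
  refine T.IsSheaf.section_ext fun x hx => ?_
  obtain ⟨_, ⟨W, hW, rfl⟩, hxW, hWV : W ≤ k ⁻¹ᵁ V.1⟩ :=
    T.isBasis_affineOpens.exists_subset_of_mem_open hx (k ⁻¹ᵁ V.1).isOpen
  refine ⟨W, hWV, hxW, ?_⟩
  have htop : ((E ^ n).ideal V).map (k.appLE V.1 W hWV).hom = ⊤ := by
    rw [Scheme.IdealSheafData.ideal_pow, Pi.pow_apply, Ideal.map_pow,
      ← ModPairLib.ideal_comap E k V ⟨W, hW⟩ hWV, hk, Scheme.IdealSheafData.ideal_top, Pi.top_apply,
      Ideal.top_pow]
  have hz : ((E ^ n).ideal V).map (k.appLE V.1 W hWV).hom ≤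
      (⊥ : Ideal Γ(T, W)).colon {(k.appLE V.1 W hWV).hom a} := by
    refine Ideal.map_le_iff_le_comap.2 fun c hc => ?_
    rw [Ideal.mem_comap, Submodule.mem_colon_singleton, Submodule.mem_bot, smul_eq_mul, ← map_mul, hn c hc, map_zero]
  have h1 := Submodule.mem_colon_singleton.1 (hz (htop ▸ (Submodule.mem_top : (1 : Γ(T, W)) ∈ (⊤ : Ideal _))))
  rw [Submodule.mem_bot, one_smul] at h1
  exact h1.trans (map_zero _).symm

end Groth.Agent.H28.FlatCl
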