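import Groth.Agent.H28.GrOps
import Groth.Agent.Lambda.Todd
import Groth.Agent.Lambda.Elem
import Groth.Agent.H28.DefCalc
import Mathlib.RingTheory.PowerSeries.Exp

/-!
# Multiplicative genera in `ℚGr K` and Bott classes
-/

set_option autoImplicit false
set_option linter.unusedSectionVars false
set_option backward.isDefEq.respectTransparency false
set_option backward.isDefEq.respectTransparency.types false
set_option maxHeartbeats 1000000

universe u

open Finset LambdaRing MvPolynomial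
open scoped TensorProduct

noncomputable section

namespace Groth.Agent.H28.GrGenus

open Groth.Agent Groth.Agent.Lambda Groth.Agent.H28.GrOps

/-! ### One variable -/

/-- `Σ_{k ≤ d} B'_k t^k X^k / k!`, that is `β_{≤ d}(t X)`. -/
def Gs (d : ℕ) (t : ℚ) : Polynomial ℚ :=
  ∑ k ∈ range (d + 1), Polynomial.C (bernoulli' k / (k.factorial : ℚ) * t ^ k) * Polynomial.X ^ k

theorem aeval_Gs {B : Type*} [CommRing B] [Algebra ℚ B] (d : ℕ) (t : ℚ) (x : B) :
    Polynomial.aeval x (Gs d t) = Polynomial.aeval (algebraMap ℚ B t * x) (KGr.toddTrunc d) := by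
  simp only [Gs, KGr.toddTrunc, map_sum, map_mul, map_pow, Polynomial.aeval_C, Polynomial.aeval_X, mul_pow]
  exact sum_congr rfl fun k _ => by ring

theorem Gs_one (d : ℕ) : Gs d 1 = KGr.toddTrunc d := by simp [Gs, KGr.toddTrunc]

open PowerSeries in
theorem series_identity (j : ℕ) :
    rescale (-(j : ℚ)) (bernoulli'PowerSeries ℚ) * ∑ k ∈ range j, exp ℚ ^ k =
      PowerSeries.C (j : ℚ) * rescale (-1 : ℚ) (bernoulli'PowerSeries ℚ) := by
  set H := rescale (-1 : ℚ) (bernoulli'PowerSeries ℚ)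
  have hE : exp ℚ * rescale (-1 : ℚ) (exp ℚ) = 1 := exp_mul_exp_neg_eq_one
  have h1 : H * (exp ℚ - 1) = PowerSeries.X := by
    have h := congrArg (fun f => rescale (-1 : ℚ) f * exp ℚ) (bernoulli'PowerSeries_mul_exp_sub_one ℚ)
    simp only [map_mul, map_sub, map_one, rescale_X] at h
    rw [map_neg, map_one] at h
    linear_combination -1 * h + (H + PowerSeries.X) * hE
  have h2 : rescale (-(j : ℚ)) (bernoulli'PowerSeries ℚ) * (exp ℚ ^ j - 1) = PowerSeries.C (j : ℚ) * PowerSeries.X := by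
    have h := congrArg (rescale (j : ℚ)) h1
    rw [map_mul, map_sub, map_one, rescale_X, ← exp_pow_eq_rescale_exp, rescale_rescale] at h
    rwa [show (-1 : ℚ) * (j : ℚ) = -(j : ℚ) by ring] at h
  have hne : exp ℚ - 1 ≠ 0 := fun h => by
    have := congrArg (PowerSeries.coeff 1) h
    simp [coeff_exp] at this
  refine mul_right_cancel₀ hne ?_
  rw [mul_assoc, geom_sum_mul, h2, mul_assoc, h1]

theorem coe_sub_series {p : Polynomial ℚ} {f : PowerSeries ℚ} {d : ℕ}
    (h : ∀ k, k ≤ d → p.coeff k = PowerSeries.coeff k f) :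
    (p : PowerSeries ℚ) - f ∈ Ideal.span {(PowerSeries.X : PowerSeries ℚ) ^ (d + 1)} := by
  rw [Ideal.mem_span_singleton, PowerSeries.X_pow_dvd_iff]
  intro k hk
  rw [map_sub, Polynomial.coeff_coe, h k (by omega), sub_self]

theorem coeff_Gs (d : ℕ) (t : ℚ) {k : ℕ} (hk : k ≤ d) :
    (Gs d t).coeff k = PowerSeries.coeff k (PowerSeries.rescale t (bernoulli'PowerSeries ℚ)) := by
  rw [PowerSeries.coeff_rescale, bernoulli'PowerSeries, PowerSeries.coeff_mk, Gs, Polynomial.finsetSum_coeff,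
    sum_eq_single k]
  · rw [Polynomial.coeff_C_mul_X_pow, if_pos rfl, Algebra.algebraMap_self, RingHom.id_apply, mul_comm]
  · intro i _ hi; rw [Polynomial.coeff_C_mul_X_pow, if_neg (Ne.symm hi)]
  · intro h; simp at h; omega

theorem coeff_expD (d : ℕ) {k : ℕ} (hk : k ≤ d) :
    (expD d (Polynomial.X : Polynomial ℚ)).coeff k = PowerSeries.coeff k (PowerSeries.exp ℚ) := by
  rw [expD, Polynomial.finsetSum_coeff, sum_eq_single k]
  · rw [← Polynomial.C_eq_algebraMap, Polynomial.coeff_C_mul_X_pow, if_pos rfl, PowerSeries.coeff_exp]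
    simp
  · intro i _ hi; rw [← Polynomial.C_eq_algebraMap, Polynomial.coeff_C_mul_X_pow, if_neg (Ne.symm hi)]
  · intro h; simp at h; omega

/-- `β(-jX) Σ_{k<j} exp(kX) ≡ j β(-X)`. -/
theorem bott_dvd (d j : ℕ) : (Polynomial.X : Polynomial ℚ) ^ (d + 1) ∣
    Gs d (-(j : ℚ)) * (∑ k ∈ range j, expD d (Polynomial.X : Polynomial ℚ) ^ k) - Polynomial.C (j : ℚ) * Gs d (-1) := by
  rw [Polynomial.X_pow_dvd_iff]
  intro k hk
  let Q := Ideal.Quotient.mk (Ideal.span {(PowerSeries.X : PowerSeries ℚ) ^ (d + 1)})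
  have hG : ∀ t, Q (Gs d t : PowerSeries ℚ) = Q (PowerSeries.rescale t (bernoulli'PowerSeries ℚ)) := fun t =>
    Ideal.Quotient.eq.2 (coe_sub_series fun k hk => coeff_Gs d t hk)
  have hE : Q ((expD d (Polynomial.X : Polynomial ℚ) : Polynomial ℚ) : PowerSeries ℚ) = Q (PowerSeries.exp ℚ) :=
    Ideal.Quotient.eq.2 (coe_sub_series fun k hk => coeff_expD d hk)
  have key : Q ((Gs d (-(j : ℚ)) * (∑ k ∈ range j, expD d (Polynomial.X : Polynomial ℚ) ^ k) -
      Polynomial.C (j : ℚ) * Gs d (-1) : Polynomial ℚ) : PowerSeries ℚ) = 0 := by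
    have h := congrArg Q (series_identity j)
    rw [map_mul, map_mul, map_sum] at h
    rw [← Polynomial.coeToPowerSeries.ringHom_apply, map_sub, map_mul, map_mul, map_sum]
    simp only [map_pow, Polynomial.coeToPowerSeries.ringHom_apply, Polynomial.coe_C, map_sub, map_mul, map_sum, hG, hE]
    simp only [map_pow] at h
    rw [h, sub_self]
  rw [Ideal.Quotient.eq_zero_iff_mem, Ideal.mem_span_singleton, PowerSeries.X_pow_dvd_iff] at key
  rw [← Polynomial.coeff_coe]
  exact key k hk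

section Ideals

variable {B : Type*} [CommRing B] [Algebra ℚ B] {I : Ideal B}

theorem aeval_mem_of_dvd {d : ℕ} {p : Polynomial ℚ} (h : Polynomial.X ^ (d + 1) ∣ p) {x : B} (hx : x ∈ I) :
    Polynomial.aeval x p ∈ I ^ (d + 1) := by
  obtain ⟨c, rfl⟩ := h
  rw [map_mul, map_pow, Polynomial.aeval_X]
  exact Ideal.mul_mem_right _ _ (Ideal.pow_mem_pow hx _)

theorem map_expD {C : Type*} [CommRing C] [Algebra ℚ C] (φ : B →ₐ[ℚ] C) (d : ℕ) (x : B) :
    φ (expD d x) = expD d (φ x) := by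
  simp [expD, map_sum]

theorem expD_sub_one_mem {x : B} (hx : x ∈ I) (d : ℕ) : expD d x - 1 ∈ I := by
  rw [expD, sum_range_succ', pow_zero, Nat.factorial_zero, Nat.cast_one, div_one, map_one, one_mul, add_sub_cancel_right]
  exact sum_mem fun k _ => Ideal.mul_mem_left _ _ (Ideal.pow_mem_of_mem I hx _ (Nat.succ_pos k))

end Ideals

/-- The partial logarithm `Σ_{k<n} l_{k+1} X^{k+1}`. -/
def Lsum (l : ℕ → ℚ) (n : ℕ) : Polynomial ℚ :=
  ∑ k ∈ range n, Polynomial.C (l (k + 1)) * Polynomial.X ^ (k + 1)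

theorem exists_log (d : ℕ) (G : Polynomial ℚ) (hG : G.coeff 0 = 1) :
    ∀ n, n ≤ d → ∃ l : ℕ → ℚ, Polynomial.X ^ (n + 1) ∣ expD d (Lsum l n) - G := by
  intro n
  induction n with
  | zero =>
    intro _
    refine ⟨0, ?_⟩
    rw [Lsum, sum_range_zero, expD_zero, pow_one, Polynomial.X_dvd_iff]
    simp [hG]
  | succ n ih =>
    intro hn
    obtain ⟨l, hl⟩ := ih (by omega)
    let c := -(expD d (Lsum l n) - G).coeff (n + 1)
    refine ⟨Function.update l (n + 1) c, ?_⟩
    have hLs : Lsum (Function.update l (n + 1) c) (n + 1) = Lsum l n + Polynomial.C c * Polynomial.X ^ (n + 1) := by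
      rw [Lsum, sum_range_succ, Function.update_self, Lsum]
      congr 1
      exact sum_congr rfl fun k hk => by rw [mem_range] at hk; rw [Function.update_of_ne (by omega)]
    let J := Ideal.span {(Polynomial.X : Polynomial ℚ)}
    let Q := Ideal.Quotient.mk (Ideal.span {(Polynomial.X : Polynomial ℚ) ^ (n + 1 + 1)})
    have hJ : J ^ (d + 1) ≤ Ideal.span {(Polynomial.X : Polynomial ℚ) ^ (n + 1 + 1)} := by
      rw [Ideal.span_singleton_pow, Ideal.span_singleton_le_span_singleton]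
      exact pow_dvd_pow _ (by omega)
    have hx : Lsum l n ∈ J := sum_mem fun k _ => Ideal.mul_mem_left _ _
      (Ideal.pow_mem_of_mem _ (Ideal.mem_span_singleton_self _) _ (Nat.succ_pos k))
    have hy : Polynomial.C c * Polynomial.X ^ (n + 1) ∈ J :=
      Ideal.mul_mem_left _ _ (Ideal.pow_mem_of_mem _ (Ideal.mem_span_singleton_self _) _ (Nat.succ_pos n))
    have h1 : Q (expD d (Lsum l n + Polynomial.C c * Polynomial.X ^ (n + 1))) =
        Q (expD d (Lsum l n)) * Q (expD d (Polynomial.C c * Polynomial.X ^ (n + 1))) := by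
      rw [← map_mul]; exact Ideal.Quotient.eq.2 (hJ (expD_add_sub_mem hx hy d))
    have h2 : Q (expD d (Polynomial.C c * Polynomial.X ^ (n + 1))) = Q (1 + Polynomial.C c * Polynomial.X ^ (n + 1)) := by
      refine Ideal.Quotient.eq.2 ?_
      obtain ⟨d', rfl⟩ : ∃ d', d = d' + 1 := ⟨d - 1, by omega⟩
      rw [expD, sum_range_succ', sum_range_succ']
      simp only [pow_zero, Nat.factorial_zero, Nat.factorial_one, Nat.cast_one, div_one, map_one, one_mul, mul_one,
        zero_add, pow_one]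
      rw [show ∀ a b : Polynomial ℚ, a + b + 1 - (1 + b) = a from fun a b => by ring]
      refine sum_mem fun k _ => Ideal.mul_mem_left _ _ ?_
      rw [mul_pow, ← pow_mul]
      exact Ideal.mul_mem_left _ _ (Ideal.mem_span_singleton.2 (pow_dvd_pow _ (by nlinarith)))
    have h3 : (expD d (Lsum l n) - 1) * (Polynomial.C c * Polynomial.X ^ (n + 1)) ∈
        Ideal.span {(Polynomial.X : Polynomial ℚ) ^ (n + 1 + 1)} := by
      rw [pow_succ', ← Ideal.span_singleton_mul_span_singleton]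
      exact Ideal.mul_mem_mul (expD_sub_one_mem (I := J) hx d) (Ideal.mul_mem_left _ _ (Ideal.mem_span_singleton_self _))
    obtain ⟨w, hw⟩ := hl
    have h4 : expD d (Lsum l n) - G + Polynomial.C c * Polynomial.X ^ (n + 1) ∈
        Ideal.span {(Polynomial.X : Polynomial ℚ) ^ (n + 1 + 1)} := by
      rw [Ideal.mem_span_singleton, Polynomial.X_pow_dvd_iff]
      intro k hk
      rw [Polynomial.coeff_add, Polynomial.coeff_C_mul_X_pow]
      rcases eq_or_ne k (n + 1) with rfl | h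
      · simp [c]
      · rw [if_neg h, add_zero, hw, Polynomial.coeff_X_pow_mul', if_neg (by omega)]
    rw [← Ideal.mem_span_singleton, ← Ideal.Quotient.eq]
    show Q _ = Q G
    rw [hLs, h1, h2, ← map_mul]
    refine Ideal.Quotient.eq.2 ?_
    convert add_mem h3 h4 using 1
    ring

theorem coeff_zero_toddTrunc (d : ℕ) : (KGr.toddTrunc d).coeff 0 = 1 := by
  rw [KGr.toddTrunc, Polynomial.finsetSum_coeff, sum_eq_single 0]
  · simp
  · intro b _ hb
    rw [Polynomial.coeff_C_mul, Polynomial.coeff_X_pow, if_neg (Ne.symm hb), mul_zero]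
  · simp

/-- The coefficients of `log β`. -/
def lb (d : ℕ) : ℕ → ℚ :=
  Classical.choose (exists_log d (KGr.toddTrunc d) (coeff_zero_toddTrunc d) d le_rfl)

theorem lb_spec (d : ℕ) : Polynomial.X ^ (d + 1) ∣ expD d (Lsum (lb d) d) - KGr.toddTrunc d :=
  Classical.choose_spec (exists_log d (KGr.toddTrunc d) (coeff_zero_toddTrunc d) d le_rfl)

/-! ### Power sums -/

variable {K : Type u} [CommRing K] [LambdaOps K] {P : PosStructure K}

/-- `Σ_k t^k l_k p_k` in the elementary symmetric functions. -/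
def lpoly (d m : ℕ) (t : ℚ) : MvPolynomial (Fin m) ℚ :=
  ∑ k ∈ range d, MvPolynomial.C (lb d (k + 1) * t ^ (k + 1)) *
    psiS (genSer fun i : Fin m => (X i : MvPolynomial (Fin m) ℚ)) (k + 1)

/-- `Σ_k t^k l_k k! ch_k(e)`. -/
def logSum (P : PosStructure K) (d : ℕ) (t : ℚ) (e : K) : KGr.Gr P :=
  ∑ k ∈ range d, algebraMap ℚ (KGr.Gr P) (lb d (k + 1) * t ^ (k + 1) * ((k + 1).factorial : ℚ)) * chC P e (k + 1)

/-- The genus of `β(t X)`. -/
def gen (P : PosStructure K) (d : ℕ) (t : ℚ) (e : K) : KGr.Gr P := expD d (logSum P d t e)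

theorem logSum_add (d : ℕ) (t : ℚ) (a b : K) : logSum P d t (a + b) = logSum P d t a + logSum P d t b := by
  simp only [logSum, chC_add, mul_add, sum_add_distrib]

theorem logSum_intCast (d : ℕ) (t : ℚ) (c : ℤ) : logSum P d t (c : K) = 0 := by
  refine sum_eq_zero fun k _ => ?_
  rw [chC, psG_intCast, grK_zero, mul_zero, mul_zero]

theorem logSum_nsmul (d : ℕ) (t : ℚ) (c : ℕ) (a : K) : logSum P d t ((c : K) * a) = (c : KGr.Gr P) * logSum P d t a := by
  induction c with
  | zero => rw [Nat.cast_zero, Nat.cast_zero, zero_mul, zero_mul, ← Int.cast_zero, logSum_intCast]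
  | succ c ih => rw [Nat.cast_succ, add_mul, one_mul, logSum_add, ih, Nat.cast_succ, add_mul, one_mul]

theorem logSum_mem (d : ℕ) (t : ℚ) (e : K) : logSum P d t e ∈ ideal P 1 :=
  sum_mem fun k _ => Ideal.mul_mem_left _ _ (GrOps.anti P (Nat.succ_pos k) (chC_mem P e (k + 1)))

theorem gen_sub_one_mem (d : ℕ) (t : ℚ) (e : K) : gen P d t e - 1 ∈ W P 1 :=
  expD_sub_one_mem (B := KGr.Gr P) (I := ideal P 1) (logSum_mem d t e) d

set_option backward.isDefEq.respectTransparency true in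
set_option backward.isDefEq.respectTransparency.types true in
theorem expD_add {d : ℕ} (hd : gammaFiltration P (d + 1) = ⊥) {x y : KGr.Gr P} (hx : x ∈ ideal P 1)
    (hy : y ∈ ideal P 1) : expD d (x + y) = expD d x * expD d y :=
  sub_eq_zero.1 (eq_zero_of_mem_pow hd (@expD_add_sub_mem (KGr.Gr P) inferInstance inferInstance (ideal P 1) x y hx hy d))

theorem gen_add {d : ℕ} (hd : gammaFiltration P (d + 1) = ⊥) (t : ℚ) (a b : K) :
    gen P d t (a + b) = gen P d t a * gen P d t b := by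
  rw [gen, logSum_add, expD_add hd (logSum_mem d t a) (logSum_mem d t b), gen, gen]

theorem gen_intCast (d : ℕ) (t : ℚ) (c : ℤ) : gen P d t (c : K) = 1 := by rw [gen, logSum_intCast, expD_zero]

theorem gen_nsmul {d : ℕ} (hd : gammaFiltration P (d + 1) = ⊥) (t : ℚ) (c : ℕ) (a : K) :
    gen P d t ((c : K) * a) = gen P d t a ^ c := by
  induction c with
  | zero => rw [Nat.cast_zero, zero_mul, pow_zero, ← Int.cast_zero, gen_intCast]
  | succ c ih => rw [Nat.cast_succ, add_mul, one_mul, gen_add hd, ih, pow_succ]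

theorem logSum_dual (d : ℕ) (t : ℚ) {e e' : K}
    (h : ∀ k, chC P e' k = algebraMap ℚ (KGr.Gr P) ((-1) ^ k) * chC P e k) :
    logSum P d t e' = logSum P d (-t) e := by
  refine sum_congr rfl fun k _ => ?_
  rw [h, ← mul_assoc, ← map_mul]
  congr 2
  rw [neg_pow t (k + 1)]
  ring

theorem theta_lpoly (e : K) (d m : ℕ) (t : ℚ) (hm : ∀ i, m < i → KGr.chern P i e = 0) :
    theta P e m (lpoly d m t) = logSum P d t e := by
  rw [lpoly, map_sum]
  refine sum_congr rfl fun k _ => ?_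
  rw [map_mul, algHom_psiS (R := ℚ) (A := MvPolynomial (Fin m) ℚ) (B := KGr.Gr P) (theta P e m) _ (k + 1), theta, aeval_C]
  have hser : (genSer fun i : Fin m => aeval (fun k : Fin m => KGr.chern P ((k : ℕ) + 1) e) (X i : MvPolynomial (Fin m) ℚ)) =
      chernSeries P e := by
    ext i
    simp only [genSer, chernSeries, PowerSeries.coeff_mk, aeval_X]
    split_ifs with h h'
    · rw [h, KGr.chern, gamma_zero, grK_one]
    · simp [show i - 1 + 1 = i by omega]
    · rw [hm i (by omega)]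
  rw [hser, psiS_chernSeries P e (Nat.succ_ne_zero k), chC, ← mul_assoc, ← map_mul, mul_assoc _ _ (1 / _),
    mul_one_div_cancel (Nat.cast_ne_zero.2 (Nat.factorial_ne_zero _)), mul_one]

theorem esymmEval_lpoly (d m : ℕ) (t : ℚ) :
    esymmEval (Fin m) ℚ m (lpoly d m t) =
      ∑ a : Fin m, Polynomial.aeval (algebraMap ℚ (MvPolynomial (Fin m) ℚ) t * X a) (Lsum (lb d) d) := by
  rw [lpoly, map_sum]
  simp only [Lsum, map_sum, map_mul, map_pow, Polynomial.aeval_C, Polynomial.aeval_X]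
  rw [sum_comm]
  refine sum_congr rfl fun k _ => ?_
  rw [esymmEval, aeval_C, algHom_psiS]
  have hser : (fun i : Fin m => aeval (fun i : Fin m => esymm (Fin m) ℚ ((i : ℕ) + 1)) (X i : MvPolynomial (Fin m) ℚ)) =
      fun i : Fin m => ((Finset.univ : Finset (Fin m)).val.map fun a => (X a : MvPolynomial (Fin m) ℚ)).esymm ((i : ℕ) + 1) :=
    funext fun i => by simp [MvPolynomial.esymm_eq_multiset_esymm]
  rw [hser, genSer_esymm _ (by simp), psiS_mk_esymm _ (Nat.succ_ne_zero k), Multiset.map_map, aeval_C]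
  show _ * ∑ a : Fin m, (X a : MvPolynomial (Fin m) ℚ) ^ (k + 1) = _
  rw [mul_sum]
  exact sum_congr rfl fun a _ => by ring

/-- The polynomial of `gen`. -/
theorem exists_gen (e : K) (d m : ℕ) (t : ℚ) (hm : ∀ i, m < i → KGr.chern P i e = 0) :
    ∃ Q : MvPolynomial (Fin m) ℚ, theta P e m Q = gen P d t e ∧
      esymmEval (Fin m) ℚ m Q - ∏ a : Fin m, Polynomial.aeval (X a) (Gs d t) ∈ idealOfVars (Fin m) ℚ ^ (d + 1) := by
  refine ⟨expD d (lpoly d m t), by rw [map_expD (B := MvPolynomial (Fin m) ℚ) (C := KGr.Gr P) (theta P e m), theta_lpoly e d m t hm, gen], ?_⟩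
  rw [map_expD, esymmEval_lpoly]
  set I := idealOfVars (Fin m) ℚ
  let x : Fin m → MvPolynomial (Fin m) ℚ := fun a => algebraMap ℚ _ t * X a
  have hxI : ∀ a, x a ∈ I := fun a => Ideal.mul_mem_left _ _ (Ideal.subset_span ⟨a, rfl⟩)
  have hL : ∀ a, Polynomial.aeval (x a) (Lsum (lb d) d) ∈ I := fun a => by
    rw [Lsum, map_sum]
    refine sum_mem fun k _ => ?_
    rw [map_mul, map_pow, Polynomial.aeval_X]
    exact Ideal.mul_mem_left _ _ (Ideal.pow_mem_of_mem I (hxI a) _ (Nat.succ_pos k))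
  refine Ideal.Quotient.eq.1 ?_
  rw [Ideal.Quotient.eq.2 (expD_sum_sub_mem (Finset.univ : Finset (Fin m)) hL d), map_prod, map_prod]
  refine prod_congr rfl fun a _ => ?_
  rw [aeval_Gs]
  refine Ideal.Quotient.eq.2 ?_
  have := aeval_mem_of_dvd (lb_spec d) (hxI a)
  rwa [map_sub, map_expD] at this

theorem tdK_eq {d : ℕ} (hd : gammaFiltration P (d + 1) = ⊥) (x : K) : KGr.tdK P d x = gen P d 1 x := by
  have hm : ∀ i, d < i → KGr.chern P i x = 0 := fun i hi => by
    have := gammaFiltration_anti (show d + 1 ≤ i by omega) (gamma_mem_sub_aug P x i)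
    rw [hd, AddSubgroup.mem_bot] at this
    rw [KGr.chern, this, grK_zero]
  obtain ⟨Q, hQ, hQ'⟩ := exists_gen (P := P) x d d 1 hm
  rw [← hQ]
  refine theta_congr hd x ?_
  have h := congrArg Subtype.val (AlgEquiv.apply_symm_apply (esymmAlgEquiv (Fin d) ℚ (Fintype.card_fin d))
    ⟨∏ i : Fin d, Polynomial.aeval (X i) (KGr.toddTrunc d), KGr.isSymmetric_prod_aeval d (KGr.toddTrunc d)⟩)
  have e : esymmEval (Fin d) ℚ d (KGr.toddPoly d) = ∏ i : Fin d, Polynomial.aeval (X i) (KGr.toddTrunc d) := by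
    refine Eq.trans ?_ h
    show _ = ((esymmAlgHom (Fin d) ℚ d) _ : MvPolynomial (Fin d) ℚ)
    rw [esymmAlgHom_apply]
    rfl
  rw [e, ← neg_mem_iff, neg_sub]
  simpa only [Gs_one] using hQ'

/-! ### Bott classes -/

variable (hK : HasSplitting K P)

theorem R_gen {d : ℕ} (hd' : gammaFiltration P (d + 1) = ⊥) (j : ℕ) (t : ℚ) (e : K) :
    R hK hd' j (gen P d t e) = gen P d ((j : ℚ) * t) e := by
  rw [gen, gen, map_expD (B := KGr.Gr P) (C := KGr.Gr P) (GrOps.R hK hd' j), logSum, map_sum, logSum]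
  congr 1
  refine sum_congr rfl fun k _ => ?_
  rw [map_mul, AlgHom.commutes, R_chC hK hd', ← mul_assoc, ← map_mul]
  congr 2
  ring

include hK in
theorem exists_bottPoly {e : K} (he : e ∈ P.pos) (j : ℕ) :
    ∃ Q : MvPolynomial (Fin (P.aug e).toNat) ℤ,
      KRR.bott P j e = aeval (fun k : Fin (P.aug e).toNat => LambdaRing.gamma ((k : ℕ) + 1) (e - (P.aug e : K))) Q ∧
      esymmEval (Fin (P.aug e).toNat) ℤ (P.aug e).toNat Q = ∏ a, ∑ k ∈ range j, (1 + X a) ^ k := by
  obtain ⟨L, f, hf, hL, s, hs, hse, hcard⟩ := exists_split hK he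
  obtain ⟨n, v, hn, hv⟩ := exists_enum s
  have hcn : (P.aug e).toNat = n := by rw [← hcard, hn]
  rw [← aug_toNat he, Int.toNat_natCast, hcn]
  have hvl : ∀ a, L.posStr.IsLine (v a) := fun a =>
    hs _ (by rw [← hv]; exact Multiset.mem_map_of_mem v (Finset.mem_univ_val a))
  have hsum : ∑ a, v a = f e := by rw [← hse, Finset.sum_eq_multiset_sum, hv]
  have hsym : (∏ a : Fin n, ∑ k ∈ range j, (1 + X a : MvPolynomial (Fin n) ℤ) ^ k).IsSymmetric := by
    intro g
    simp only [map_prod, map_sum, map_pow, map_add, map_one, rename_X]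
    exact Fintype.prod_equiv g _ _ fun _ => rfl
  obtain ⟨Q, hQ⟩ := exists_esymmEval_eq (R := ℤ) (σ := Fin n) (N := n) (by simp) hsym
  refine ⟨Q, ?_, hQ⟩
  apply hf.injective
  rw [show f (aeval (fun k : Fin n => LambdaRing.gamma ((k : ℕ) + 1) (e - ((n : ℤ) : K))) Q) =
      f.toIntAlgHom (aeval (fun k : Fin n => LambdaRing.gamma ((k : ℕ) + 1) (e - ((n : ℤ) : K))) Q) from rfl,
    ← AlgHom.comp_apply, comp_aeval, DefCalc.map_bott f hf.isLambdaHom hf.aug_comp,
    bott_lines (P := L.posStr) j (f e) v hvl hsum (by rw [hf.aug_comp, hcn])]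
  have h2 : (∏ a, ∑ k ∈ range j, v a ^ k) = aeval (fun a => v a - 1) (esymmEval (Fin n) ℤ n Q) := by
    rw [hQ]; simp [map_prod, map_sum]
  rw [h2, esymmEval, ← AlgHom.comp_apply, comp_aeval]
  congr 2
  funext k
  show aeval _ _ = f _
  rw [aeval_esymm_of_fun, Lambda.map_gamma hf.isLambdaHom, map_sub, map_intCast, Int.cast_natCast, ← hsum]
  have h := gamma_lines_sum_sub_card (P := L.posStr) (s := (Finset.univ : Finset (Fin n)).val.map v)
    (by
      intro x hx
      obtain ⟨i, -, rfl⟩ := Multiset.mem_map.mp hx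
      exact hvl i) ((k : ℕ) + 1)
  rw [Multiset.map_map, Multiset.card_map, Finset.card_val, Finset.card_univ, Fintype.card_fin] at h
  exact h.symm

include hK in
/-- `ψ^j(T e) · ch θ^j(e) = j^r T e` for the genus `T` of `β(-X)`. -/
theorem bott_gen {d : ℕ} (hd : gammaFiltration P (d + 1) = ⊥) (j : ℕ) {e : K} {r : ℕ}
    (he : e = 0 ∧ r = 0 ∨ e ∈ P.pos ∧ P.aug e = r) :
    R hK hd j (gen P d (-1) e) * KGr.chK P d (KRR.bott P j e) =
      algebraMap ℚ (KGr.Gr P) ((j : ℚ) ^ r) * gen P d (-1) e := by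
  classical
  rw [R_gen hK hd, mul_neg_one]
  rcases he with ⟨rfl, rfl⟩ | ⟨hpos, haug⟩
  · have h0 : (P.aug (0 : K)).toNat = 0 := by simp
    rw [KRR.bott, DefCalc.bottPoly_cast h0 j fun i => LambdaOps.lam i (0 : K), DefCalc.bottPoly_zero, map_one,
      chK_one, pow_zero, map_one, one_mul, mul_one]
    exact ((Int.cast_zero (R := K)) ▸ gen_intCast (P := P) d _ 0).trans
      ((Int.cast_zero (R := K)) ▸ gen_intCast (P := P) d _ 0).symm
  obtain ⟨Qb, hQb, hQbι⟩ := exists_bottPoly hK hpos j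
  have hr : (P.aug e).toNat = r := by omega
  generalize hr' : (P.aug e).toNat = r' at Qb hQb hQbι
  obtain rfl : r = r' := hr.symm.trans hr'
  have hlam : ∀ i, r < i → LambdaOps.lam i e = 0 := fun i hi => lam_eq_zero_of_toNat_lt hpos (by omega)
  have hm : ∀ i, r < i → KGr.chern P i e = 0 := fun i hi => by
    rw [KGr.chern, haug, Int.cast_natCast, gamma_sub_natCast_eq_zero (lam_one_eq_zero P) hlam hi, grK_zero]
  choose Qk hQk hQkι using fun k : Fin r => exists_chK_gamma hK e haug hlam d ((k : ℕ) + 1)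
  obtain ⟨A, hA, hAι⟩ := exists_gen (P := P) e d r (-(j : ℚ)) hm
  obtain ⟨B, hB, hBι⟩ := exists_gen (P := P) e d r (-1) hm
  let chR : K →+* KGr.Gr P :=
    { toFun := KGr.chK P d
      map_one' := chK_one P d
      map_zero' := by simpa using chK_intCast P d 0
      map_add' := chK_add P d
      map_mul' := chK_mul hK hd }
  have hθ : KGr.chK P d (KRR.bott P j e) = theta P e r (aeval Qk Qb) := by
    rw [hQb]
    refine ((ringHom_aeval_int chR _ Qb).trans ?_).trans (ringHom_aeval_int (A := MvPolynomial (Fin r) ℚ) (B := KGr.Gr P) (theta P e r).toRingHom Qk Qb).symm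
    congr 2
    funext k
    exact (hQk k).symm
  rw [hθ, ← hA, ← hB, ← map_mul, ← (theta P e r).commutes, ← map_mul]
  refine theta_congr hd e ?_
  set I := idealOfVars (Fin r) ℚ ^ (d + 1)
  let Q := Ideal.Quotient.mk I
  have hI : ∀ a, (X a : MvPolynomial (Fin r) ℚ) ∈ idealOfVars (Fin r) ℚ := fun a => Ideal.subset_span ⟨a, rfl⟩
  have hAQ : Q (esymmEval (Fin r) ℚ r A) = ∏ a : Fin r, Q (Polynomial.aeval (X a) (Gs d (-(j : ℚ)))) := by
    rw [← map_prod]; exact Ideal.Quotient.eq.2 hAι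
  have hBQ : Q (esymmEval (Fin r) ℚ r B) = ∏ a : Fin r, Q (Polynomial.aeval (X a) (Gs d (-1))) := by
    rw [← map_prod]; exact Ideal.Quotient.eq.2 hBι
  have hθQ : Q (esymmEval (Fin r) ℚ r (aeval Qk Qb)) =
      ∏ a : Fin r, ∑ k ∈ range j, Q (expD d (X a)) ^ k := by
    rw [show Q (esymmEval (Fin r) ℚ r (aeval Qk Qb)) =
      (Q.comp (esymmEval (Fin r) ℚ r).toRingHom) (aeval Qk Qb) from rfl, ringHom_aeval_int]
    have hk : (fun k : Fin r => (Q.comp (esymmEval (Fin r) ℚ r).toRingHom) (Qk k)) =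
        fun k : Fin r => aeval (fun a : Fin r => Q (expD d (X a)) - 1) (esymm (Fin r) ℤ ((k : ℕ) + 1)) := by
      funext k
      refine (Ideal.Quotient.eq.2 (hQkι k)).trans ?_
      rw [map_sum, esymm, map_sum]
      refine sum_congr rfl fun S _ => ?_
      simp [map_prod, Q]
    rw [hk]
    have h := AlgHom.congr_fun (comp_aeval (fun k : Fin r => esymm (Fin r) ℤ ((k : ℕ) + 1))
      (aeval fun a : Fin r => Q (expD d (X a)) - 1)) Qb
    refine h.symm.trans ?_
    show aeval _ (esymmEval (Fin r) ℤ r Qb) = _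
    rw [hQbι]
    simp [map_prod, map_sum]
  rw [← Ideal.Quotient.eq, map_mul (esymmEval (Fin r) ℚ r), map_mul (esymmEval (Fin r) ℚ r), AlgHom.commutes]
  show Q _ = Q _
  rw [map_mul, map_mul, hAQ, hθQ, hBQ, ← prod_mul_distrib,
    show algebraMap ℚ (MvPolynomial (Fin r) ℚ) ((j : ℚ) ^ r) =
      ∏ _a : Fin r, algebraMap ℚ (MvPolynomial (Fin r) ℚ) (j : ℚ) by rw [prod_const, card_univ, Fintype.card_fin, map_pow],
    map_prod, ← prod_mul_distrib]
  refine prod_congr rfl fun a _ => ?_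
  have := Ideal.Quotient.eq_zero_iff_mem.2 (aeval_mem_of_dvd (bott_dvd d j) (hI a))
  rw [map_sub, map_mul, map_mul, map_sum, Polynomial.aeval_C, map_sub, map_mul, map_mul, map_sum, sub_eq_zero] at this
  simp only [map_pow, map_expD, Polynomial.aeval_X] at this
  exact this

end Groth.Agent.H28.GrGenus

end
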