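import Groth.Agent.H28.FinFil
import Groth.Agent.H28.AdamsCl
import Groth.Agent.H28.PBSplit
import Groth.Agent.H28.KvbAmple
import Groth.Agent.H28.RegTwist
import Groth.Agent.H28.QProjEnough
import Groth.Agent.AmpleX.Basis
import Groth.Agent.AmpleX.RelAffine
import Groth.Agent.AmpleX.Comp

/-!
# The γ-filtration under push-forward along a regular closed immersion
-/

set_option autoImplicit false
set_option linter.style.haveILetI false
set_option linter.unusedSectionVars false
set_option backward.isDefEq.respectTransparency false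
set_option backward.isDefEq.respectTransparency.types false
set_option maxHeartbeats 1000000

universe v w u

open CategoryTheory CategoryTheory.Limits AlgebraicGeometry TopologicalSpace Opposite
attribute [local instance] HasDerivedCategory.standard

noncomputable section

namespace Groth.Agent.H28.PushFil

open Groth.Agent

/-- An ample module restricts to an ample module along an immersion. -/
theorem isAmple_immersion {X P : Scheme.{u}} (g : X ⟶ P) [IsImmersion g] [CompactSpace X] [P.IsSeparated]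
    {L : P.Modules} (h : CohB1.IsAmple L) : CohB1.IsAmple ((Scheme.Modules.pullback g).obj L) := by
  refine AmpleX.isAmple_iff.2 ⟨PicClLib.isInvertible_pullback g h.1, inferInstance, fun z => ?_⟩
  have hz : g z ∈ g.coborderRange := subset_coborder ⟨z, rfl⟩
  obtain ⟨m, hm, s, hzs, hle, hD⟩ := AmpleX.exists_genLocus_le h (x := g z) (U := g.coborderRange) hz
  obtain ⟨e₀⟩ := PicClLib.nonempty_pullback_structureModule g
  obtain ⟨e⟩ := AmpleVan.RelVanish.pullback_tensorPow g L m
  refine ⟨m, hm, (e₀.symm.hom ≫ (Scheme.Modules.pullback g).map s) ≫ e.hom, ?_, ?_⟩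
  · rw [InvX.genLocus_comp_iso, InvX.genLocus_pullback g (InvX.isInvertible_tensorPow h.1 m) s e₀.symm]
    exact hzs
  · rw [InvX.genLocus_comp_iso, InvX.genLocus_pullback g (InvX.isInvertible_tensorPow h.1 m) s e₀.symm]
    have h1 : IsAffineOpen (g.coborderRange.ι ⁻¹ᵁ CohB1.genLocus (CohB1.tensorPow L m) s) :=
      hD.preimage_of_isOpenImmersion g.coborderRange.ι (by rwa [Scheme.Opens.opensRange_ι])
    have h2 := h1.preimage g.liftCoborder
    rwa [← Scheme.Hom.comp_preimage, g.liftCoborder_ι] at h2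

/-- A quasi-projective scheme over an affine scheme has an ample module. -/
theorem exists_ample {S Y : Scheme.{u}} [IsAffine S] [AlgebraicGeometry.IsNoetherian Y] (qY : Y ⟶ S)
    (hqY : KRR.IsQProjOver qY) : ∃ L : Y.Modules, CohB1.IsAmple L := by
  obtain ⟨N, ι, hι, -⟩ := hqY
  haveI := PnFlat.isProper_pr N S
  haveI : CompactSpace ↥(KRR.PY N S) := QuasiCompact.compactSpace_of_compactSpace (KRR.pr N S)
  haveI : IsAffineHom (KRRTw.toPn N S) := MorphismProperty.pullback_fst (P := @IsAffineHom) _ _ inferInstance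
  have hL : CohB1.IsAmple (Twist.twistOver N S 1) :=
    RegTwist.isAmple_pull (KRRTw.toPn N S) (RegTwist.isAmple_O1 N)
  haveI := AmpleX.isSeparated_of_isAmple hL
  exact ⟨_, isAmple_immersion ι hL⟩

/-- `f_K(ℚ F^n K(X)) ⊆ ℚ F^{n+d} K(Y)`. -/
theorem main {X Y : Scheme.{u}} [AlgebraicGeometry.IsNoetherian Y] [ConnectedSpace ↥Y]
    (hYe : KRR.HasEnoughLocFree Y) {L : Y.Modules} (hL : CohB1.IsAmple L) (f : X ⟶ Y)
    (hf : Mor2.IsRegularClosedImmersion f) [ConnectedSpace ↥X] {d : ℕ}
    (hC : FlatMod.IsFinLocFreeOfRank d (Omega.conormal f))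
    {KX : Type v} [CommRing KX] [LambdaRing.LambdaOps KX] {PX : LambdaRing.PosStructure KX}
    {φX : SGA6.Kvb X →+ KX} (hX : KRR.IsModel X KX PX φX)
    {KY : Type w} [CommRing KY] [LambdaRing.LambdaOps KY] {PY : LambdaRing.PosStructure KY}
    {φY : SGA6.Kvb Y →+ KY} (hY : KRR.IsModel Y KY PY φY)
    (h : KX →+ KY) (hh : KRR.IsPushCl f φX φY h) (n : ℕ) (x : KX)
    (hx : x ∈ LambdaRing.gammaFiltration PX n) :
    ∃ N : ℕ, 1 ≤ N ∧ (N : KY) * h x ∈ LambdaRing.gammaFiltration PY (n + d) := by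
  haveI := hf.1
  haveI : IsLocallyNoetherian X := LocallyOfFiniteType.isLocallyNoetherian f
  haveI : CompactSpace X := QuasiCompact.compactSpace_of_compactSpace f
  haveI : AlgebraicGeometry.IsNoetherian X := {}
  obtain ⟨KX', _, _, PX', φX', hX'⟩ := KvbModel.exists_isModel (X := X)
  obtain ⟨KY', _, _, PY', φY', hY'⟩ := KvbModel.exists_isModel (X := Y)
  obtain ⟨eX, heX, hlX, haX⟩ := ModelIso.exists_iso hX hX'
  obtain ⟨eY, heY, hlY, haY⟩ := ModelIso.exists_iso hY hY'
  have hh' := ModelIso.isPushCl_conj eX heX eY heY hh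
  have hamp := KvbAmple.isAmpleElt PX' φX' hX' _ (RegTwist.isAmple_pull f hL)
  have hCd : φX' (KRR.cl X (Omega.conormal f)) = 0 ∧ d = 0 ∨
      φX' (KRR.cl X (Omega.conormal f)) ∈ PX'.pos ∧ PX'.aug (φX' (KRR.cl X (Omega.conormal f))) = d := by
    rcases Nat.eq_zero_or_pos d with rfl | hd
    · refine Or.inl ⟨?_, rfl⟩
      rw [show KRR.cl X (Omega.conormal f) = 0 from
        KZ.clSub_isZero _ ((PBAtlas.isZero_of_frames fun y => KvbModel.frameAt_of_rank hC y)), map_zero]
    · exact Or.inr ⟨(hX'.mem_pos_iff _).2 ⟨d, _, hd, hC, rfl⟩, hX'.aug_cl d _ hC⟩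
  obtain ⟨N, hN, hmem⟩ := FinFil.push_mem (PBSplit.hasSplitting hY') (PBSplit.hasSplitting hX') hamp _ hCd
    (fun z => AdamsCl.adams_pushCl hYe f hf hC hX' hY' _ hh' 2 one_le_two z) n (eX x)
    (PBFil.map_mem_gammaFiltration (f := eX.toRingHom) hlX haX hx)
  refine ⟨N, hN, ?_⟩
  have key := PBFil.map_mem_gammaFiltration (f := eY.symm.toRingHom) (PX := PY') (PP := PY)
    (fun i z => eY.injective (by
      change eY (eY.symm _) = eY (LambdaRing.LambdaOps.lam i (eY.symm z))
      rw [hlY, eY.apply_symm_apply, eY.apply_symm_apply]))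
    (fun z => by
      change PY.aug (eY.symm z) = PY'.aug z
      rw [← haY, eY.apply_symm_apply]) hmem
  change eY.symm ((N : KY') * eY (h (eX.symm (eX x)))) ∈ _ at key
  rwa [map_mul, map_natCast, eY.symm_apply_apply, eX.symm_apply_apply] at key

/-- `P^n` over a quasi-projective scheme has an ample module. -/
theorem exists_ample_PY {S Y : Scheme.{u}} [IsAffine S] [AlgebraicGeometry.IsNoetherian Y] (qY : Y ⟶ S)
    (hqY : KRR.IsQProjOver qY) (n : ℕ) : ∃ L : (KRR.PY n Y).Modules, CohB1.IsAmple L := by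
  obtain ⟨L, hL⟩ := exists_ample qY hqY
  haveI := PnFlat.isProper_pr n Y
  have h1 : RelAmple.IsRelAmple (KRR.pr n Y) (Twist.twistOver n Y 1) :=
    ⟨inferInstance, fun V => RegTwist.isAmple_restrict V.1 V.2⟩
  obtain ⟨m, -, hm⟩ := AmpleX.eventually_isRelAmple_comp (KRR.pr n Y) qY h1
    ((AmpleX.isRelAmple_iff_isAmple qY L).2 hL)
  haveI := (hm m le_rfl).1
  exact ⟨_, (AmpleX.isRelAmple_iff_isAmple _ _).1 (hm m le_rfl)⟩

end Groth.Agent.H28.PushFil

end
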