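import Groth.Agent.H28.GRRAbs
import Groth.Agent.H28.GrGenus
import Groth.Agent.H28.DualCh
import Groth.Agent.H28.AdamsReg
import Groth.Agent.H28.PushFil
import Groth.Agent.H28.KTower
import Groth.Agent.S3777

/-!
# Grothendieck–Riemann–Roch in large models
-/

set_option autoImplicit false
set_option linter.style.haveILetI false
set_option linter.unusedSectionVars false
set_option backward.isDefEq.respectTransparency false
set_option backward.isDefEq.respectTransparency.types false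
set_option maxHeartbeats 2000000
set_option maxSynthPendingDepth 3

universe v u

open CategoryTheory CategoryTheory.Limits AlgebraicGeometry TopologicalSpace Opposite
attribute [local instance] HasDerivedCategory.standard
open scoped TensorProduct

noncomputable section

namespace Groth.Agent.H28.GRR

open Groth.Agent

theorem solve_multiplier {B : Type v} [CommRing B] {sC tQ sQ RsC RtQ RsQ θC θQ ω two pc pn ipn : B}
    (h1 : RsC * θC = pc * sC) (h2 : RsQ * θQ = pn * sQ) (h3 : ω * θQ = 1) (h4 : tQ * sQ = 1)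
    (h5 : RtQ * RsQ = 1) (h6 : ipn * pn = 1) :
    (two * θC * ω) * (RsC * RtQ) = (two * pc * ipn) * (sC * tQ) := by
  have hω : ω = ipn * tQ * RsQ := by
    linear_combination (-(ipn * tQ * ω)) * h2 + (ipn * tQ * RsQ) * h3 + (-ω) * h6 + (-(ω * ipn * pn)) * h4
  rw [hω]
  linear_combination (two * ipn * tQ * RsQ * RtQ) * h1 + (two * ipn * tQ * pc * sC) * h5

section Line

open LambdaRing Groth.Agent.Lambda

/-- `ch_k(u⁻¹) = (-1)^k ch_k(u)` for line elements. -/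
theorem chC_inv_line {K : Type v} [CommRing K] [LambdaOps K] {P : PosStructure K} {u w : K} (hu : P.IsLine u)
    (hw : P.IsLine w) (huw : w * u = 1) (k : ℕ) :
    chC P w k = algebraMap ℚ (KGr.Gr P) ((-1) ^ k) * chC P u k :=
  DualCh.chC_dual (L := ⟨K, P⟩) (f := RingHom.id K)
    ⟨fun _ _ => rfl, fun _ _ h => h, fun _ => rfl, fun _ h => h⟩ (n := 1) (v := fun _ => u) (v' := fun _ => w)
    (fun _ => hu) (fun _ => hw) (fun _ => huw) (by simp) (by simp) k

theorem logSum_sub {K : Type v} [CommRing K] [LambdaOps K] {P : PosStructure K} (d : ℕ) (t : ℚ) (a b : K) :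
    GrGenus.logSum P d t (a - b) = GrGenus.logSum P d t a - GrGenus.logSum P d t b := by
  rw [eq_sub_iff_add_eq, ← GrGenus.logSum_add, sub_add_cancel]

theorem logSum_neg {K : Type v} [CommRing K] [LambdaOps K] {P : PosStructure K} (d : ℕ) (t : ℚ) (a : K) :
    GrGenus.logSum P d t (-a) = -GrGenus.logSum P d t a := by
  rw [← zero_sub, logSum_sub, ← Int.cast_zero, GrGenus.logSum_intCast, zero_sub]

/-- The Todd class against the multiplier. -/
theorem gen_mul_td {K : Type v} [CommRing K] [LambdaOps K] {P : PosStructure K} {d : ℕ}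
    (hd : gammaFiltration P (d + 1) = ⊥) (m : ℕ) {C C' u w : K}
    (hC : ∀ k, chC P C' k = algebraMap ℚ (KGr.Gr P) ((-1) ^ k) * chC P C k)
    (hw : ∀ k, chC P w k = algebraMap ℚ (KGr.Gr P) ((-1) ^ k) * chC P u k) :
    GrGenus.gen P d (-1) (C + -((m : K) * u)) * KGr.tdK P d ((m : K) * w - 1 - C') = 1 := by
  rw [GrGenus.tdK_eq hd, GrGenus.gen, GrGenus.gen,
    ← GrGenus.expD_add hd (GrGenus.logSum_mem d _ _) (GrGenus.logSum_mem d _ _), GrGenus.logSum_add, logSum_neg,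
    GrGenus.logSum_nsmul, logSum_sub, logSum_sub, GrGenus.logSum_nsmul, GrGenus.logSum_dual d 1 hC,
    GrGenus.logSum_dual d 1 hw, ← Int.cast_one (R := K), GrGenus.logSum_intCast]
  rw [show ∀ a b : KGr.Gr P, a + -b + (b - 0 - a) = 0 from fun a b => by ring, Lambda.expD_zero]

end Line

/-- `ℤ[1/2] → ℚ`. -/
def toRat : Localization.Away (((2 : ℕ) : ℤ)) →+* ℚ :=
  IsLocalization.Away.lift (x := ((2 : ℕ) : ℤ)) (g := Int.castRingHom ℚ) (by simp)

attribute [local instance 2000] Ring.toIntAlgebra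

/-- `ℤ[1/2] ⊗ K → ℚ ⊗ K`. -/
def rat (K : Type v) [CommRing K] : Localization.Away (((2 : ℕ) : ℤ)) ⊗[ℤ] K →ₐ[ℤ] ℚ ⊗[ℤ] K :=
  Algebra.TensorProduct.map toRat.toIntAlgHom (AlgHom.id ℤ K)

theorem rat_tmul {K : Type v} [CommRing K] (a : Localization.Away (((2 : ℕ) : ℤ))) (x : K) :
    rat K (a ⊗ₜ[ℤ] x) = toRat a ⊗ₜ[ℤ] x := Algebra.TensorProduct.map_tmul _ _ _ _

theorem rat_lTensor {K L : Type v} [CommRing K] [LambdaRing.LambdaOps K] [CommRing L] [LambdaRing.LambdaOps L] (f : K →+ L)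
    (z : Localization.Away (((2 : ℕ) : ℤ)) ⊗[ℤ] K) :
    rat L (LinearMap.lTensor (Localization.Away (((2 : ℕ) : ℤ))) f.toIntLinearMap z) = GRRAbs.fQ f (rat K z) := by
  induction z using TensorProduct.induction_on with
  | zero => rw [map_zero, map_zero, map_zero, map_zero]
  | add a b ha hb => rw [map_add, map_add, map_add, map_add, ha, hb]
  | tmul a x => rw [LinearMap.lTensor_tmul, rat_tmul, rat_tmul, GRRAbs.fQ_tmul]; rfl

set_option maxHeartbeats 4000000 in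
/-- Grothendieck–Riemann–Roch. -/
theorem big {S : Scheme.{u}} [IsAffine S] [AlgebraicGeometry.IsNoetherian S] (n : ℕ) {X Y : Scheme.{u}}
    [AlgebraicGeometry.IsNoetherian Y] [ConnectedSpace ↥Y] (qY : Y ⟶ S) (hqY : KRR.IsQProjOver qY)
    (dY : ℕ) (hdY : topologicalKrullDim ↥Y ≤ (dY : WithBot ℕ∞))
    (i : X ⟶ KRR.PY n Y) (hi : Mor2.IsRegularClosedImmersion i) [ConnectedSpace ↥X]
    (dX : ℕ) (hdX : topologicalKrullDim ↥X ≤ (dX : WithBot ℕ∞)) (c : ℕ)
    (hC : FlatMod.IsFinLocFreeOfRank c (Omega.conormal i))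
    {KX : Type (u + 1)} [CommRing KX] [LambdaRing.LambdaOps KX] {PX : LambdaRing.PosStructure KX}
    {φX : SGA6.Kvb X →+ KX} (hKX : KRR.IsModel X KX PX φX)
    {KP : Type (u + 1)} [CommRing KP] [LambdaRing.LambdaOps KP] {PP : LambdaRing.PosStructure KP}
    {φP : SGA6.Kvb (KRR.PY n Y) →+ KP} (hKP : KRR.IsModel (KRR.PY n Y) KP PP φP)
    {KY : Type (u + 1)} [CommRing KY] [LambdaRing.LambdaOps KY] {PY : LambdaRing.PosStructure KY}
    {φY : SGA6.Kvb Y →+ KY} (hKY : KRR.IsModel Y KY PY φY)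
    (a : KX →+ KP) (ha : KRR.IsPushCl i φX φP a) (b : KP →+ KY) (hb : KRR.IsPushPr n Y φP φY b) :
    ∃ fG : KGr.Gr PX →+ KGr.Gr PY, KGr.IsGrPush PX PY (b.comp a) ((c : ℤ) - n) fG ∧
      ∀ x : KX, KGr.chK PY dY (b (a x)) =
        fG (KGr.tdK PX dX (((n + 1 : ℕ) : KX) * φX (KRR.cl X ((Scheme.Modules.pullback i).obj (Twist.twistOver n Y 1))) - 1
              - φX (KRR.cl X (H23.Chern.dual (Omega.conormal i)))) * KGr.chK PX dX x) := by
  classical
  haveI := hi.1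
  haveI := QProjEnough.isNoetherian_PY n Y
  haveI := QProjEnough.connectedSpace_PY n Y
  haveI := PushComp.isNoetherian_of_closed i
  have hYe := QProjEnough.enough qY hqY
  obtain ⟨LY, hLY⟩ := PushFil.exists_ample qY hqY
  obtain ⟨LP, hLP⟩ := PushFil.exists_ample_PY qY hqY n
  have hX := PBSplit.hasSplitting hKX
  have hY := PBSplit.hasSplitting hKY
  have hdX' := KTower.gammaFiltration_eq_bot (RegTwist.isAmple_pull i hLP) hdX hKX
  have hdY' := KTower.gammaFiltration_eq_bot hLY hdY hKY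
  obtain ⟨gi, hgi, -⟩ := PullVB.existsUnique_isPull i φX φP hKP.bijective
  let Ri := KvbPull.ringHom hKX hKP hgi
  obtain ⟨q, hq, -⟩ := PullVB.existsUnique_isPull (KRR.pr n Y) φP φY hKY.bijective
  set C := φX (KRR.cl X (Omega.conormal i)) with hCdef
  have hCd : C = 0 ∧ c = 0 ∨ C ∈ PX.pos ∧ PX.aug C = c := by
    rcases Nat.eq_zero_or_pos c with rfl | hc
    · exact Or.inl ⟨by rw [hCdef, show KRR.cl X (Omega.conormal i) = 0 from
        KZ.clSub_isZero _ (PBAtlas.isZero_of_frames fun y => KvbModel.frameAt_of_rank hC y), map_zero], rfl⟩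
    · exact Or.inr ⟨(hKX.mem_pos_iff _).2 ⟨c, _, hc, hC, rfl⟩, hKX.aug_cl c _ hC⟩
  set l' := gi (PnFil.lc φP (-1)) with hl'
  set Q : KX := ((n + 1 : ℕ) : KX) * l' with hQdef
  have hline : ∀ d : ℤ, PX.IsLine (gi (PnFil.lc φP d)) := fun d => by
    rw [hgi _ (KvbModel.lf_of_rank (PBCores.isInvertible_iff_rank.1 (KRRReg.isInvertible_twistOver d)))]
    exact LineTwist.isLine_cl hKX (PicClLib.isInvertible_pullback i (KRRReg.isInvertible_twistOver d))
  have hQ : Q ∈ PX.pos ∧ PX.aug Q = (n + 1 : ℕ) := by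
    refine ⟨PX.mul_mem _ _ (PX.natCast_mem _ (Nat.succ_pos n)) (hline (-1)).1, ?_⟩
    rw [hQdef, map_mul, map_natCast, (hline (-1)).2, mul_one]
  -- the multiplier
  obtain ⟨⟨w, hw⟩, hall⟩ := AdamsReg.result n hYe i hi c hC hKX hKP hKY gi hgi a ha b hb 2 one_le_two 0
  have hq0 : gi (φP (KRR.cl (KRR.PY n Y)
      (KRR.twF n Y (-1) ((Scheme.Modules.pullback (KRR.pr n Y)).obj (FlatMod.freeMod Y (n + 1)))))) = Q := by
    rw [AdamsRRPr.cls_eq hKP hKY hq]
    show Ri (PnFil.lc φP (-1) * ((n + 1 : ℕ) : KP)) = _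
    rw [map_mul, map_natCast, mul_comm]
    rfl
  rw [hq0] at hw
  let w' := rat KX w
  have hw' : w' * ((1 : ℚ) ⊗ₜ[ℤ] KRR.bott PX 2 Q) = 1 := by
    have h := congrArg (rat KX) hw
    rwa [map_mul, rat_tmul, map_one, map_one] at h
  let θ : ℚ ⊗[ℤ] KX := (2 : ℚ ⊗[ℤ] KX) * ((1 : ℚ) ⊗ₜ[ℤ] KRR.bott PX 2 C) * w'
  have harr : ∀ x : KX, (1 : ℚ) ⊗ₜ[ℤ] LambdaRing.adams PY 2 ((b.comp a) x) =
      GRRAbs.fQ (b.comp a) (θ * ((1 : ℚ) ⊗ₜ[ℤ] LambdaRing.adams PX 2 x)) := by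
    intro x
    obtain ⟨-, h⟩ := AdamsReg.result n hYe i hi c hC hKX hKP hKY gi hgi a ha b hb 2 one_le_two x
    have h := congrArg (rat KY) (h w (by rw [hq0]; exact hw))
    rw [rat_tmul, map_one, rat_lTensor, map_mul (rat KX), map_mul (rat KX), map_natCast (rat KX), rat_tmul, map_one] at h
    refine h.trans (congrArg _ ?_)
    have e : (1 : ℚ) ⊗ₜ[ℤ] (KRR.bott PX 2 C * LambdaRing.adams PX 2 x) =
        ((1 : ℚ) ⊗ₜ[ℤ] KRR.bott PX 2 C) * ((1 : ℚ) ⊗ₜ[ℤ] LambdaRing.adams PX 2 x) := by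
      rw [Algebra.TensorProduct.tmul_mul_tmul, one_mul]
    rw [e]
    simp only [θ, w', Nat.cast_ofNat]
    ring
  -- the genus
  set s := GrGenus.gen PX dX (-1) (C + -Q) with hsdef
  have hgen : ∀ z : KX, GrGenus.gen PX dX (-1) (-z) * GrGenus.gen PX dX (-1) z = 1 := fun z => by
    rw [← GrGenus.gen_add hdX', neg_add_cancel, ← Int.cast_zero, GrGenus.gen_intCast]
  have hθ : GrOps.chE hX hdX' θ * GrOps.R hX hdX' 2 s = ((2 : ℚ) ^ ((c : ℤ) - n)) • s := by
    have h1 := GrGenus.bott_gen hX hdX' 2 hCd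
    have h2 := GrGenus.bott_gen hX hdX' 2 (r := n + 1) (Or.inr ⟨hQ.1, hQ.2⟩)
    have h3 := congrArg (GrOps.chE hX hdX') hw'
    rw [map_mul, map_one, GrOps.chE_one_tmul] at h3
    have h4 := hgen Q
    have h5 := congrArg (GrOps.R hX hdX' 2) h4
    rw [map_mul, map_one] at h5
    have h6 : algebraMap ℚ (KGr.Gr PX) (((2 : ℕ) : ℚ) ^ (n + 1))⁻¹ *
        algebraMap ℚ (KGr.Gr PX) (((2 : ℕ) : ℚ) ^ (n + 1)) = 1 := by
      rw [← map_mul, inv_mul_cancel₀ (pow_ne_zero _ (by norm_num)), map_one]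
    have key := solve_multiplier (B := KGr.Gr PX) (two := algebraMap ℚ (KGr.Gr PX) 2) h1 h2 h3 h4 h5 h6
    rw [hsdef, GrGenus.gen_add hdX', map_mul (GrOps.R hX hdX' 2)]
    refine Eq.trans ?_ (key.trans ?_)
    · show GrOps.chE hX hdX' ((2 : ℚ ⊗[ℤ] KX) * ((1 : ℚ) ⊗ₜ[ℤ] KRR.bott PX 2 C) * w') * _ = _
      rw [map_mul (GrOps.chE hX hdX'), map_mul (GrOps.chE hX hdX'), GrOps.chE_one_tmul,
        show GrOps.chE hX hdX' (2 : ℚ ⊗[ℤ] KX) = algebraMap ℚ (KGr.Gr PX) 2 by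
          rw [← (GrOps.chE hX hdX').commutes 2, map_ofNat (algebraMap ℚ (ℚ ⊗[ℤ] KX))]]
    · rw [← map_mul, ← map_mul, ← Algebra.smul_def]
      congr 1
      rw [zpow_sub₀ two_ne_zero, zpow_natCast, zpow_natCast, Nat.cast_ofNat, pow_succ]
      field_simp
  have hs : s - 1 ∈ GrOps.W PX 1 := GrGenus.gen_sub_one_mem dX (-1) _
  set L := φX (KRR.cl X ((Scheme.Modules.pullback i).obj (Twist.twistOver n Y 1))) with hLdef
  have hL1 : gi (PnFil.lc φP 1) = L :=
    hgi _ (KvbModel.lf_of_rank (PBCores.isInvertible_iff_rank.1 (KRRReg.isInvertible_twistOver 1)))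
  have hinvL : L * l' = 1 := by
    rw [← hL1, hl']
    show Ri _ * Ri _ = 1
    rw [← map_mul, ← PnFil.lc_add hKP, show (1 : ℤ) + -1 = 0 by norm_num, PnFil.lc_zero hKP, map_one]
  have htd := gen_mul_td hdX' (n + 1) (C := C) (u := l') (w := L) (DualCh.main hKX hC)
    (chC_inv_line (hline (-1)) (hL1 ▸ hline 1) hinvL)
  refine GRRAbs.main hX hdX' hY hdY' (b.comp a) ((c : ℤ) - n) ?_ θ harr s hθ hs _ htd
  intro k x hx
  obtain ⟨N, hN, h⟩ := Groth.Agent.S3777.result S n qY hqY i hi c hC KX PX φX hKX KP PP φP hKP KY PY φY hKY a ha b hb k x hx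
  refine ⟨N, hN, ?_⟩
  rwa [show ((k : ℤ) + ((c : ℤ) - n)).toNat = k + c - n by omega]

end Groth.Agent.H28.GRR

end
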