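import Groth.Agent.H28.GrOps

/-!
# Riemann–Roch from an Adams–Riemann–Roch identity
-/

set_option autoImplicit false
set_option linter.unusedSectionVars false
set_option maxHeartbeats 1000000

universe u

open Finset LambdaRing
open scoped TensorProduct

noncomputable section

namespace Groth.Agent.H28.GRRAbs

open Groth.Agent Groth.Agent.Lambda Groth.Agent.H28.GrOps

variable {KX : Type u} [CommRing KX] [LambdaOps KX] {PX : PosStructure KX} (hX : HasSplitting KX PX) {dX : ℕ}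
  (hdX : gammaFiltration PX (dX + 1) = ⊥)
  {KY : Type u} [CommRing KY] [LambdaOps KY] {PY : PosStructure KY} (hY : HasSplitting KY PY) {dY : ℕ}
  (hdY : gammaFiltration PY (dY + 1) = ⊥) (f : KX →+ KY)

/-- `ℚ ⊗ f`. -/
def fQ : ℚ ⊗[ℤ] KX →ₗ[ℚ] ℚ ⊗[ℤ] KY := f.toIntLinearMap.baseChange ℚ

theorem fQ_tmul (q : ℚ) (x : KX) : fQ f (q ⊗ₜ[ℤ] x) = q ⊗ₜ[ℤ] f x := LinearMap.baseChange_tmul _ _ _

/-- `ch ∘ f ∘ ch⁻¹`. -/
def B : KGr.Gr PX →ₗ[ℚ] KGr.Gr PY :=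
  (chE hY hdY).toLinearMap ∘ₗ fQ f ∘ₗ (chE hX hdX).symm.toLinearMap

theorem B_chE (ξ : ℚ ⊗[ℤ] KX) : B hX hdX hY hdY f (chE hX hdX ξ) = chE hY hdY (fQ f ξ) :=
  congrArg (fun η => chE hY hdY (fQ f η)) ((chE hX hdX).symm_apply_apply ξ)

theorem B_chK (x : KX) : B hX hdX hY hdY f (KGr.chK PX dX x) = KGr.chK PY dY (f x) := by
  rw [← chE_one_tmul hX hdX, B_chE, fQ_tmul, chE_one_tmul]

theorem chE_tmul_mem {K : Type u} [CommRing K] [LambdaOps K] {P : PosStructure K} (hK : HasSplitting K P) {d : ℕ}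
    (hd : gammaFiltration P (d + 1) = ⊥) {m : ℕ} {y : K} {N : ℕ} (hN : 1 ≤ N)
    (hy : (N : K) * y ∈ gammaFiltration P m) : chE hK hd ((1 : ℚ) ⊗ₜ[ℤ] y) ∈ W P m := by
  have h : (1 : ℚ) ⊗ₜ[ℤ] y = (1 / (N : ℚ)) • ((1 : ℚ) ⊗ₜ[ℤ] ((N : K) * y)) := by
    rw [← nsmul_eq_mul, TensorProduct.tmul_smul, ← Nat.cast_smul_eq_nsmul ℚ, smul_smul,
      one_div_mul_cancel (Nat.cast_ne_zero.2 (by omega : N ≠ 0)), one_smul]
  rw [h, map_smul, chE_one_tmul]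
  exact Submodule.smul_mem _ _ (chK_mem hK d hy)

variable (δ : ℤ)
  (hfil : ∀ (n : ℕ) (x : KX), x ∈ gammaFiltration PX n →
    ∃ N : ℕ, 1 ≤ N ∧ (N : KY) * f x ∈ gammaFiltration PY ((n : ℤ) + δ).toNat)

include hfil in
theorem B_mem {m : ℕ} {g : KGr.Gr PX} (hg : g ∈ W PX m) :
    B hX hdX hY hdY f g ∈ W PY ((m : ℤ) + δ).toNat := by
  obtain ⟨ξ, hξ, rfl⟩ := exists_of_mem hX hdX hg
  rw [B_chE]
  clear hg
  induction hξ using Submodule.span_induction with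
  | mem ξ hξ =>
    obtain ⟨x, hx, rfl⟩ := hξ
    obtain ⟨N, hN, hmem⟩ := hfil m x hx
    rw [fQ_tmul]
    exact chE_tmul_mem hY hdY hN hmem
  | zero => rw [map_zero, map_zero]; exact zero_mem _
  | add u v _ _ hu hv => rw [map_add, map_add]; exact add_mem hu hv
  | smul c u _ hu => rw [map_smul, map_smul]; exact Submodule.smul_mem _ _ hu

variable (θ : ℚ ⊗[ℤ] KX)
  (harr : ∀ x : KX, (1 : ℚ) ⊗ₜ[ℤ] LambdaRing.adams PY 2 (f x) =
    fQ f (θ * ((1 : ℚ) ⊗ₜ[ℤ] LambdaRing.adams PX 2 x)))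
  (s : KGr.Gr PX) (hθ : chE hX hdX θ * R hX hdX 2 s = ((2 : ℚ) ^ δ) • s)

include harr in
theorem psi_fQ (η : ℚ ⊗[ℤ] KX) : psiQ hY 2 (fQ f η) = fQ f (θ * psiQ hX 2 η) := by
  induction η using TensorProduct.induction_on with
  | zero => simp
  | add a b ha hb => rw [map_add, map_add, ha, hb, map_add, mul_add, map_add]
  | tmul q x =>
    rw [show q ⊗ₜ[ℤ] x = q • ((1 : ℚ) ⊗ₜ[ℤ] x) by rw [TensorProduct.smul_tmul', smul_eq_mul, mul_one],
      map_smul, map_smul, map_smul, mul_smul_comm, map_smul, fQ_tmul, psiQ_tmul, psiQ_tmul, harr]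

include harr hθ in
theorem R_B (g : KGr.Gr PX) :
    R hY hdY 2 (B hX hdX hY hdY f (g * s)) = ((2 : ℚ) ^ δ) • B hX hdX hY hdY f (R hX hdX 2 g * s) := by
  obtain ⟨η, hη⟩ : ∃ η, chE hX hdX η = g * s := ⟨_, (chE hX hdX).apply_symm_apply _⟩
  rw [← hη, B_chE, R_chE, psi_fQ hX hY f θ harr, ← B_chE hX hdX hY hdY, map_mul (chE hX hdX), ← R_chE, hη, map_mul (R hX hdX 2),
    show chE hX hdX θ * (R hX hdX 2 g * R hX hdX 2 s) = R hX hdX 2 g * (chE hX hdX θ * R hX hdX 2 s) by ring,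
    hθ, mul_smul_comm, map_smul]

include hX hdX hY hdY hfil harr hθ in
/-- The graded push-forward and Riemann–Roch. -/
theorem main (hs : s - 1 ∈ W PX 1) (td : KGr.Gr PX) (htd : s * td = 1) :
    ∃ fG : KGr.Gr PX →+ KGr.Gr PY, KGr.IsGrPush PX PY f δ fG ∧
      ∀ x : KX, KGr.chK PY dY (f x) = fG (td * KGr.chK PX dX x) := by
  refine ⟨((B hX hdX hY hdY f) ∘ₗ LinearMap.mulRight ℚ s).toAddMonoidHom, ?_, fun x => ?_⟩
  swap
  · show _ = B hX hdX hY hdY f (td * KGr.chK PX dX x * s)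
    rw [show td * KGr.chK PX dX x * s = (s * td) * KGr.chK PX dX x by ring, htd, one_mul, B_chK]
  intro n x hx
  show B hX hdX hY hdY f (KGr.grK PX (n : ℤ) x * s) = KGr.grK PY ((n : ℤ) + δ) (f x)
  set g := KGr.grK PX (n : ℤ) x
  have hg : g ∈ W PX n := grK_mem le_rfl hx
  have heig : R hY hdY 2 (B hX hdX hY hdY f (g * s)) = ((2 : ℚ) ^ ((n : ℤ) + δ)) • B hX hdX hY hdY f (g * s) := by
    rw [R_B hX hdX hY hdY f δ θ harr s hθ, R_grK hX hdX 2 hx, ← Algebra.smul_def, smul_mul_assoc, map_smul,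
      smul_smul, Nat.cast_ofNat, zpow_add₀ (two_ne_zero : (2 : ℚ) ≠ 0), zpow_natCast, mul_comm]
  have hz : g * s - KGr.chK PX dX x ∈ W PX (n + 1) := by
    have := add_mem (GrOps.mul_mem hg hs) (neg_mem (chK_sub_grK_mem hX hdX hx))
    convert this using 1
    ring
  have hB := B_mem hX hdX hY hdY f δ hfil hz
  rw [map_sub, B_chK] at hB
  rcases lt_or_ge ((n : ℤ) + δ) 0 with hneg | hpos
  · rw [grK_neg_degree (f x) hneg]
    refine eigen_eq_zero hY hdY 2 (mem_zero _) heig fun k _ h => ?_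
    have h1 : (2 : ℚ) ^ ((n : ℤ) + δ) < 1 := zpow_lt_one_of_neg₀ one_lt_two hneg
    rw [h, Nat.cast_ofNat] at h1
    exact absurd h1 (not_lt.2 (one_le_pow₀ one_le_two))
  obtain ⟨m, hm⟩ : ∃ m : ℕ, (n : ℤ) + δ = m := ⟨((n : ℤ) + δ).toNat, (Int.toNat_of_nonneg hpos).symm⟩
  obtain ⟨N, hN, hmem⟩ := hfil n x hx
  rw [hm, Int.toNat_natCast] at hmem
  rw [show (((n + 1 : ℕ) : ℤ) + δ).toNat = m + 1 by omega] at hB
  rw [hm, zpow_natCast] at heig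
  rw [hm]
  have hNq : (N : ℚ) ≠ 0 := Nat.cast_ne_zero.2 (by omega)
  have hgr := grK_nat_mul hN hmem
  have hch : KGr.chK PY dY (f x) - KGr.grK PY (m : ℤ) (f x) ∈ W PY (m + 1) := by
    refine ((W PY (m + 1)).smul_mem_iff hNq).1 ?_
    rw [smul_sub, hgr, ← chE_one_tmul hY hdY, ← map_smul, Nat.cast_smul_eq_nsmul, ← TensorProduct.tmul_smul,
      nsmul_eq_mul, chE_one_tmul]
    exact chK_sub_grK_mem hY hdY hmem
  have hR : R hY hdY 2 (KGr.grK PY (m : ℤ) (f x)) = ((2 : ℚ) ^ m) • KGr.grK PY (m : ℤ) (f x) := by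
    refine smul_right_injective (KGr.Gr PY) hNq ?_
    show (N : ℚ) • _ = (N : ℚ) • _
    rw [← map_smul, hgr, R_grK hY hdY 2 hmem, ← Algebra.smul_def, smul_comm, hgr, Nat.cast_ofNat]
  refine sub_eq_zero.1 (eigen_eq_zero hY hdY 2 (a := m + 1) ?_ (μ := (2 : ℚ) ^ m) ?_ fun k hk h => ?_)
  · have := add_mem hB hch
    rwa [sub_add_sub_cancel] at this
  · rw [map_sub, heig, hR, smul_sub]
  · rw [Nat.cast_ofNat] at h
    have : 2 ^ m = 2 ^ k := by exact_mod_cast h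
    have := Nat.pow_right_injective le_rfl this
    omega

end Groth.Agent.H28.GRRAbs

end
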