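import Mathlib.AlgebraicGeometry.Morphisms.Etale
import Mathlib.FieldTheory.Normal.Basic
import Mathlib.FieldTheory.IsAlgClosed.AlgebraicClosure
import Mathlib.FieldTheory.PurelyInseparable.Basic
import Mathlib.RingTheory.Unramified.Field
import Groth.Agent.H23.FiniteFlatDeg
import Groth.Agent.MorLib.WeightFlat
import Groth.Agent.CycLib.Push

/-!
# The fibres of a base change along a finite normal extension of fields
-/

set_option autoImplicit false
set_option backward.isDefEq.respectTransparency false
set_option backward.isDefEq.respectTransparency.types false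
set_option linter.style.haveILetI false
set_option linter.unusedSectionVars false

universe u

open CategoryTheory CategoryTheory.Limits AlgebraicGeometry

noncomputable section

namespace Groth.Agent.H28.GaloisDesc

open Groth.Agent Groth.Agent.H23

variable {k k' : Type u} [Field k] [Field k'] [Algebra k k'] [FiniteDimensional k k']

/-- Two embeddings of a normal extension differ by an automorphism. -/
theorem exists_aut [Normal k k'] {K : Type u} [Field K] [Algebra k K] (τ₁ τ₂ : k' →ₐ[k] K) :
    ∃ σ : k' ≃ₐ[k] k', τ₁.comp σ.toAlgHom = τ₂ := by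
  let e := AlgEquiv.ofInjectiveField τ₁
  haveI : Normal k τ₁.fieldRange := Normal.of_algEquiv e
  have h : ∀ a, τ₂ a ∈ τ₁.fieldRange := fun a => by
    have h1 := AlgHom.fieldRange_of_normal (E := τ₁.fieldRange) (τ₂.comp e.symm.toAlgHom)
    rw [← h1]
    exact ⟨e a, congrArg τ₂ (e.symm_apply_apply a)⟩
  let f : k' →ₐ[k] k' := e.symm.toAlgHom.comp (τ₂.codRestrict τ₁.fieldRange.toSubalgebra h)
  refine ⟨AlgEquiv.ofBijective f (AlgHom.bijective f), AlgHom.ext fun a => ?_⟩
  exact congrArg Subtype.val (e.apply_symm_apply ⟨τ₂ a, h a⟩)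

variable {X : Scheme.{u}} (f : X ⟶ Spec (CommRingCat.of k))

/-- The base change. -/
abbrev bc : Scheme.{u} := pullback f (Spec.map (CommRingCat.ofHom (algebraMap k k')))

/-- Its projection. -/
abbrev pr : bc (k' := k') f ⟶ X := pullback.fst f _

/-- The action of an automorphism. -/
def tau (σ : k' ≃ₐ[k] k') : bc (k' := k') f ⟶ bc (k' := k') f :=
  pullback.lift (pullback.fst f _) (pullback.snd f _ ≫ Spec.map (CommRingCat.ofHom σ.toAlgHom.toRingHom)) (by
    rw [Category.assoc, ← Spec.map_comp, pullback.condition]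
    congr 2
    ext a
    exact (σ.commutes a).symm)

theorem tau_fst (σ : k' ≃ₐ[k] k') : tau f σ ≫ pr f = pr f := pullback.lift_fst _ _ _

theorem tau_snd (σ : k' ≃ₐ[k] k') : tau f σ ≫ pullback.snd f _ =
    pullback.snd f _ ≫ Spec.map (CommRingCat.ofHom σ.toAlgHom.toRingHom) := pullback.lift_snd _ _ _

instance (σ : k' ≃ₐ[k] k') : IsIso (tau f σ) := by
  have key : ∀ ρ : k' ≃ₐ[k] k', tau f ρ ≫ tau f ρ.symm = 𝟙 _ := fun ρ => by
    refine pullback.hom_ext ?_ ?_
    · rw [Category.assoc, show tau f ρ.symm ≫ pullback.fst f _ = _ from tau_fst f ρ.symm,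
        Category.id_comp]
      exact tau_fst f ρ
    · rw [Category.assoc, tau_snd, reassoc_of% tau_snd f ρ, ← Spec.map_comp, Category.id_comp]
      have : CommRingCat.ofHom ρ.symm.toAlgHom.toRingHom ≫ CommRingCat.ofHom ρ.toAlgHom.toRingHom = 𝟙 _ := by
        ext a
        exact ρ.apply_symm_apply a
      rw [this, Spec.map_id, Category.comp_id]
  exact ⟨tau f σ.symm, key σ, by simpa using key σ.symm⟩

instance : IsFinite (Spec.map (CommRingCat.ofHom (algebraMap k k'))) := by
  rw [IsFinite.SpecMap_iff]
  exact RingHom.finite_algebraMap.2 inferInstance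

instance : Flat (Spec.map (CommRingCat.ofHom (algebraMap k k'))) := by
  rw [Flat.SpecMap_iff]
  exact RingHom.flat_algebraMap_iff.2 inferInstance

/-- A geometric point through a point of the base change. -/
theorem exists_emb (x : bc (k' := k') f) (y : X) (hy : pr f x = y) (K : Type u) [Field K] [IsAlgClosed K]
    [Algebra (X.residueField y) K] :
    ∃ q : Spec (CommRingCat.of K) ⟶ bc (k' := k') f, q ≫ pr f = Spec.map (CommRingCat.ofHom
        (algebraMap (X.residueField y) K)) ≫ X.fromSpecResidueField y ∧ ∀ z, q z = x := by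
  subst hy
  let p := pr (k' := k') f
  letI := (p.residueFieldMap x).hom.toAlgebra
  haveI : Module.Finite (X.residueField (p x)) ((bc (k' := k') f).residueField x) :=
    MorLib.GF.finite_residueFieldMap p x
  let ψ : (bc (k' := k') f).residueField x →ₐ[X.residueField (p x)] K := IsAlgClosed.lift
  refine ⟨Spec.map (CommRingCat.ofHom ψ.toRingHom) ≫ (bc (k' := k') f).fromSpecResidueField x, ?_, fun z => ?_⟩
  · rw [Category.assoc, ← Scheme.Hom.SpecMap_residueFieldMap_fromSpecResidueField, ← Spec.map_comp_assoc]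
    congr 2
    ext a
    exact ψ.commutes a
  · exact Scheme.fromSpecResidueField_apply x _

/-- The automorphisms act transitively on the fibres. -/
theorem exists_tau_eq [Normal k k'] (x₁ x₂ : bc (k' := k') f) (h : pr f x₁ = pr f x₂) :
    ∃ σ : k' ≃ₐ[k] k', tau f σ x₁ = x₂ := by
  let p := pr (k' := k') f
  let K := AlgebraicClosure (X.residueField (p x₁))
  obtain ⟨q₁, hq₁, hz₁⟩ := exists_emb f x₁ (p x₁) rfl K
  obtain ⟨q₂, hq₂, hz₂⟩ := exists_emb f x₂ (p x₁) h.symm K
  obtain ⟨a₁, ha₁⟩ := Spec.map_surjective (q₁ ≫ pullback.snd f _)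
  obtain ⟨a₂, ha₂⟩ := Spec.map_surjective (q₂ ≫ pullback.snd f _)
  have hk : CommRingCat.ofHom (algebraMap k k') ≫ a₁ = CommRingCat.ofHom (algebraMap k k') ≫ a₂ := by
    refine Spec.map_injective ?_
    rw [Spec.map_comp, Spec.map_comp, ha₁, ha₂, Category.assoc, Category.assoc, ← pullback.condition,
      ← Category.assoc, ← Category.assoc]
    exact congrArg (· ≫ f) (hq₁.trans hq₂.symm)
  letI : Algebra k K := (a₁.hom.comp (algebraMap k k')).toAlgebra
  let τ₁ : k' →ₐ[k] K := { a₁.hom with commutes' := fun _ => rfl }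
  let τ₂ : k' →ₐ[k] K := { a₂.hom with commutes' := fun r => (congr($(hk).hom r)).symm }
  obtain ⟨σ, hσ⟩ := exists_aut τ₁ τ₂
  refine ⟨σ, ?_⟩
  have hq : q₁ ≫ tau f σ = q₂ := by
    refine pullback.hom_ext ?_ ?_
    · rw [Category.assoc, show tau f σ ≫ pullback.fst f _ = _ from tau_fst f σ]
      exact hq₁.trans hq₂.symm
    · rw [Category.assoc, tau_snd, ← Category.assoc, ← ha₁, ← ha₂, ← Spec.map_comp]
      congr 1
      ext b
      exact DFunLike.congr_fun hσ b
  let z : Spec (CommRingCat.of K) := IsLocalRing.closedPoint K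
  rw [← hz₁ z, ← hz₂ z, ← hq]
  rfl

theorem fibreLen_tau (σ : k' ≃ₐ[k] k') (x : bc (k' := k') f) :
    FiniteFibreSum.fibreLen (pr f) (tau f σ x) = FiniteFibreSum.fibreLen (pr f) x := by
  let e := (asIso ((tau f σ).stalkMap x)).commRingCatIsoToRingEquiv
  refine (MorLib.WT.length_quotient_map e _).trans ?_
  have h := MorLib.WT.fibreIdeal_comp (tau f σ) (pr (k' := k') f) x
  have hc : MorLib.WT.fibreIdeal (tau f σ ≫ pr f) x = MorLib.WT.fibreIdeal (pr f) x := by rw [tau_fst]
  exact congrArg (fun I => Module.length _ ((bc (k' := k') f).presheaf.stalk x ⧸ I)) (h.symm.trans hc)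

/-- The length of the fibre divides the inseparable degree. -/
theorem dvd_insep (x : bc (k' := k') f) :
    (FiniteFibreSum.fibreLen (pr f) x).toNat ∣ Field.finInsepDegree k k' := by
  let K := separableClosure k k'
  let b₀ : Spec (CommRingCat.of K) ⟶ Spec (CommRingCat.of k) := Spec.map (CommRingCat.ofHom (algebraMap k K))
  let c₀ : Spec (CommRingCat.of k') ⟶ Spec (CommRingCat.of K) := Spec.map (CommRingCat.ofHom (algebraMap K k'))
  have hcb : c₀ ≫ b₀ = Spec.map (CommRingCat.ofHom (algebraMap k k')) := by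
    rw [← Spec.map_comp]
    congr 1
  let a : bc (k' := k') f ⟶ pullback f b₀ :=
    pullback.lift (pullback.fst f _) (pullback.snd f _ ≫ c₀) (by rw [Category.assoc, hcb, pullback.condition])
  have ha : a ≫ pullback.fst f b₀ = pr f := pullback.lift_fst _ _ _
  have hsq : IsPullback a (pullback.snd f (Spec.map (CommRingCat.ofHom (algebraMap k k')))) (pullback.snd f b₀) c₀ := by
    refine IsPullback.of_right ?_ (pullback.lift_snd _ _ _) (IsPullback.of_hasPullback f b₀)
    rw [ha, hcb]
    exact IsPullback.of_hasPullback f _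
  haveI : IsFinite c₀ := by
    rw [IsFinite.SpecMap_iff]
    exact RingHom.finite_algebraMap.2 inferInstance
  haveI : Flat c₀ := by
    rw [Flat.SpecMap_iff]
    exact RingHom.flat_algebraMap_iff.2 inferInstance
  haveI : IsPurelyInseparable K k' := separableClosure.isPurelyInseparable k k'
  haveI : UniversallyInjective c₀ := by
    refine ((tfae_universallyInjective _).out 0 1).2 fun L hL g₁ g₂ hg => ?_
    obtain ⟨u, rfl⟩ := Spec.map_surjective g₁
    obtain ⟨v, rfl⟩ := Spec.map_surjective g₂
    have hg' : CommRingCat.ofHom (algebraMap K k') ≫ u = CommRingCat.ofHom (algebraMap K k') ≫ v :=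
      Spec.map_injective (by rw [Spec.map_comp, Spec.map_comp]; exact hg)
    congr 1
    ext1
    letI := hL
    exact IsPurelyInseparable.injective_comp_algebraMap K k' L congr($(hg').hom)
  haveI : IsFinite a := MorphismProperty.of_isPullback hsq.flip inferInstance
  haveI : Flat a := MorphismProperty.of_isPullback hsq.flip inferInstance
  haveI : UniversallyInjective a := MorphismProperty.of_isPullback hsq.flip ‹UniversallyInjective c₀›
  haveI : FormallyUnramified b₀ := by
    rw [HasRingHomProperty.Spec_iff (P := @FormallyUnramified)]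
    exact RingHom.formallyUnramified_algebraMap.2 (Algebra.FormallyUnramified.of_isSeparable k K)
  haveI : IsFinite b₀ := by
    rw [IsFinite.SpecMap_iff]
    exact RingHom.finite_algebraMap.2 inferInstance
  haveI : FormallyUnramified (pullback.fst f b₀) := MorphismProperty.pullback_fst _ _ inferInstance
  haveI : LocallyOfFiniteType (pullback.fst f b₀) := MorphismProperty.pullback_fst _ _ inferInstance
  have hlen : FiniteFibreSum.fibreLen (pr f) x = FiniteFibreSum.fibreLen a x := by
    have h := MorLib.WT.fibreIdeal_comp a (pullback.fst f b₀) x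
    rw [MorLib.WT.map_maximalIdeal_stalkMap (pullback.fst f b₀) (a x)] at h
    have hc : MorLib.WT.fibreIdeal (a ≫ pullback.fst f b₀) x = MorLib.WT.fibreIdeal (pr f) x := by rw [ha]
    exact congrArg (fun I => Module.length ((bc (k' := k') f).presheaf.stalk x)
      ((bc (k' := k') f).presheaf.stalk x ⧸ I)) (hc.symm.trans h)
  have hs := (FiniteFibreSum.sum_finrank a (a x)).2
  rw [show a ⁻¹' {a x} = {x} from Set.ext fun z => ⟨fun hz => a.injective hz, fun hz => congrArg a hz⟩,
    finsum_mem_singleton] at hs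
  refine hlen ▸ Dvd.intro_left (a.residueDegree x) (hs.trans ?_)
  rw [Scheme.Hom.finrank_of_isPullback _ _ _ _ hsq.flip, Scheme.Hom.finrank_SpecMap_algebraMap,
    Module.rankAtStalk_eq_finrank_of_free]
  rfl

end Groth.Agent.H28.GaloisDesc
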