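import Groth.Agent.H28.GenPush

/-!
# The push-forward on `K₀` of bundles of `P^n_T` and its values on twisted pull-backs
-/

set_option linter.style.haveILetI false
set_option linter.unusedSectionVars false
set_option backward.isDefEq.respectTransparency false
set_option backward.isDefEq.respectTransparency.types false

universe v w u

open CategoryTheory CategoryTheory.Limits AlgebraicGeometry TopologicalSpace

namespace Groth.Agent.H28.GenPsi

open Groth.Agent Groth.Agent.H28.KRRTw Groth.Agent.H28.KRRReg Groth.Agent.H28.KRegK0 Groth.Agent.H28.GenPush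

variable {n : ℕ} {T : Scheme.{u}}

/-- Bundles without higher direct images and with locally free direct image. -/
abbrev AP (n : ℕ) (T : Scheme.{u}) : ObjectProperty (KRR.PY n T).Modules :=
  fun M => FlatMod.IsFinLocFree M ∧ (∀ i : ℕ, 1 ≤ i → RKoszul.RZ (KRR.pr n T) M i) ∧ QP n T M

theorem ap_zero {Z : (KRR.PY n T).Modules} (h : IsZero Z) : AP n T Z :=
  ⟨KFlatLib.isFinLocFree_of_isZero h, fun i _ => RKoszul.rz_of_isZero _ h i, qp_zero h⟩

theorem ap_biprod {A B : (KRR.PY n T).Modules} (hA : AP n T A) (hB : AP n T B) : AP n T (A ⊞ B) :=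
  ⟨KFlatLib.isFinLocFree_biprod hA.1 hB.1, fun i hi => RKoszul.rz_biprod _ i (hA.2.1 i hi) (hB.2.1 i hi),
    qp_biprod hA.2.2 hB.2.2⟩

theorem exists_piAP : ∃ π : KZero.K0sub (AP n T) →+ SGA6.Kvb T,
    ∀ F, AP n T F → π (KZero.clSub (AP n T) F) = KRR.cl T ((Scheme.Modules.pushforward (KRR.pr n T)).obj F) :=
  KZ.exists_liftSub (AP n T) _ fun S hS h₁ h₂ h₃ =>
    KZ.clSub_ses (KRR.vbP T) (shortExact_push _ hS (h₁.2.1 1 le_rfl)) h₁.2.2 h₂.2.2 h₃.2.2

/-- The push-forward on `K₀` of bundles, determined by regular ones. -/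
theorem exists_pushHom [CompactSpace T] : ∃ π : SGA6.Kvb (KRR.PY n T) →+ SGA6.Kvb T,
    ∀ F, RP n T F → π (KRR.cl (KRR.PY n T) F) = KRR.cl T ((Scheme.Modules.pushforward (KRR.pr n T)).obj F) := by
  obtain ⟨π, hπ⟩ := KZ.exists_liftSub (RP n T)
    (fun F => KRR.cl T ((Scheme.Modules.pushforward (KRR.pr n T)).obj F)) fun _ hS h₁ h₂ h₃ =>
    KZ.clSub_ses (KRR.vbP T) (shortExact_push _ hS (rz_self _ h₁.2 1 le_rfl))
      (isFinLocFree_push h₁) (isFinLocFree_push h₂) (isFinLocFree_push h₃)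
  obtain ⟨ι, hι⟩ := KZ.exists_liftSub (RP n T) (fun E => KRR.cl (KRR.PY n T) E) fun S hS h₁ h₂ h₃ =>
    KZ.clSub_ses (KRR.vbP (KRR.PY n T)) hS h₁.1 h₂.1 h₃.1
  let e := AddEquiv.ofBijective ι (bijective_of_exists_reg GenPush.exists_R ι hι)
  refine ⟨π.comp e.symm.toAddMonoidHom, fun F hF => ?_⟩
  have h : e.symm (KRR.cl (KRR.PY n T) F) = KZero.clSub (RP n T) F := by
    rw [AddEquiv.symm_apply_eq, ← hι F hF]
    rfl
  show π (e.symm _) = _
  rw [h, hπ F hF]

/-- The inverse image of a module of the base. -/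
noncomputable abbrev P (n : ℕ) {T : Scheme.{u}} (G : T.Modules) : (KRR.PY n T).Modules :=
  (Scheme.Modules.pullback (KRR.pr n T)).obj G

variable {G : T.Modules}

theorem rp_pullback (hG : FlatMod.IsFinLocFree G) : RP n T (P n G) :=
  ⟨KFlatLib.isFinLocFree_pullback _ hG, PnBox.isReg_pullback _ (QCoh.isQCoh_of_isFinLocFree hG)⟩

theorem ap_twist [CompactSpace T] (hG : FlatMod.IsFinLocFree G) {b : ℤ} (hb : -(n : ℤ) ≤ b) :
    AP n T (M (P n G) b) := by
  have hq := QCoh.isQCoh_of_isFinLocFree hG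
  refine ⟨vp_twF _ (rp_pullback hG).1, fun i hi => PnBox.rz_tw_pullback _ hq b i hi (Or.inl (by omega)), ?_⟩
  by_cases h0 : 0 ≤ b
  · obtain ⟨a, rfl⟩ : ∃ a : ℕ, b = (a : ℤ) := ⟨b.toNat, by omega⟩
    exact GenPush.isFinLocFree_push (rp_M _ (rp_pullback hG) a)
  · obtain ⟨i, rfl⟩ : ∃ i : ℕ, b = -(i : ℤ) := ⟨(-b).toNat, by omega⟩
    exact KFlatLib.isFinLocFree_of_isZero
      ((RegRes.isZero_push_iff _).1 (RegRes.rz_zero_tw_pullback _ hq i (by omega) (by omega)))

section Kernel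

variable (E : (KRR.PY n T).Modules) (hE : ∀ b : ℤ, -(n : ℤ) ≤ b → AP n T (M E b)) (hl : FlatMod.IsFinLocFree E)
  {a : ℤ} (ha : -(n : ℤ) ≤ a)

include hE ha in
theorem ap_obj (p : ℕ) : AP n T (KoszulCone.obj (M E) (ls.{u} n) (a + ((n + 1 : ℕ) : ℤ)) p) := by
  by_cases h : p ≤ n + 1
  · exact KoszulK.mem_obj (M E) (P := AP n T) (fun _ => ap_zero) (fun _ _ => ap_biprod) _ _ _ (hE _ (by omega))
  · exact ap_zero (KoszulCone.isZero_obj (M E) (ls.{u} n) _ _ (by rw [length_ls]; omega))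

include hE ha in
theorem rz_kernel (m : ℕ) : ∀ p : ℕ, n + 1 ≤ p + m → ∀ i : ℕ, 1 ≤ i →
    RKoszul.RZ (KRR.pr n T) (kernel (KoszulCone.dd (M E) (xs E) (ls.{u} n) (a + ((n + 1 : ℕ) : ℤ)) p)) i := by
  induction m with
  | zero =>
    intro p hp i _
    exact RKoszul.rz_of_isZero _ (IsZero.of_mono (kernel.ι _)
      (KoszulCone.isZero_obj (M E) (ls.{u} n) _ (p + 1) (by rw [length_ls]; omega))) i
  | succ m ih =>
    intro p hp i hi
    exact RKoszul.rz_quot (KRR.pr n T) (S := KoszulK.piece (M E) (xs E) (mul_comm' E) (ls.{u} n) _ p)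
      (shortExact_piece E _ p) i ((ap_obj E hE ha (p + 2)).2.1 i hi) (ih (p + 1) (by omega) (i + 1) (by omega))

include hE hl ha in
theorem ap_kernel (p : ℕ) :
    AP n T (kernel (KoszulCone.dd (M E) (xs E) (ls.{u} n) (a + ((n + 1 : ℕ) : ℤ)) p)) :=
  ⟨vp_kernel E hl _ p, rz_kernel E hE ha (n + 1) p (by omega),
    qp_kernel E _ (p + 1) (fun q _ => (ap_obj E hE ha q).2.2)
      (fun q => rz_kernel E hE ha (n + 1) q (by omega) 1 le_rfl) p (Nat.lt_succ_self p)⟩

end Kernel

/-- The relation between the twists of `E`, in any of the `K₀`. -/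
theorem relationE (E : (KRR.PY n T).Modules) {P : ObjectProperty (KRR.PY n T).Modules}
    (hzero : ∀ Z, IsZero Z → P Z) (hbi : ∀ A B, P A → P B → P (A ⊞ B)) (a : ℤ)
    (hk : ∀ p, P (kernel (KoszulCone.dd (M E) (xs E) (ls.{u} n) (a + ((n + 1 : ℕ) : ℤ)) p)))
    (hM : ∀ q : ℕ, P (M E (a + (q : ℤ)))) :
    KZero.clSub P (M E (a + ((n + 1 : ℕ) : ℤ))) = ∑ p ∈ Finset.range (n + 1),
      (-1 : ℤ) ^ p • ((n + 1).choose (p + 1) • KZero.clSub P (M E (a + ((n - p : ℕ) : ℤ)))) := by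
  haveI := epi_dd E (a + ((n + 1 : ℕ) : ℤ))
  have h := KoszulK.relation (M E) (xs E) (P := P) hzero hbi (mul_comm' E) (ls.{u} n)
    (a + ((n + 1 : ℕ) : ℤ)) hk
    (fun p hp => by
      rw [length_ls] at hp
      rw [show a + ((n + 1 : ℕ) : ℤ) - (p : ℤ) = a + ((n + 1 - p : ℕ) : ℤ) by omega]
      exact hM _) (shortExact_piece E _)
  rw [h, length_ls]
  refine Finset.sum_congr rfl fun p hp => ?_
  have : p < n + 1 := Finset.mem_range.1 hp
  rw [show a + ((n + 1 : ℕ) : ℤ) - ((p + 1 : ℕ) : ℤ) = a + ((n - p : ℕ) : ℤ) by omega]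

/-- The class of `p_* ((p^* G)(b))`. -/
noncomputable abbrev psi (n : ℕ) {T : Scheme.{u}} (G : T.Modules) (b : ℤ) : SGA6.Kvb T :=
  KRR.cl T ((Scheme.Modules.pushforward (KRR.pr n T)).obj (M (P n G) b))

variable [CompactSpace T] (hG : FlatMod.IsFinLocFree G)

include hG in
theorem psi_rec {a : ℤ} (ha : -(n : ℤ) ≤ a) :
    psi n G (a + ((n + 1 : ℕ) : ℤ)) = ∑ p ∈ Finset.range (n + 1),
      (-1 : ℤ) ^ p • ((n + 1).choose (p + 1) • psi n G (a + ((n - p : ℕ) : ℤ))) := by
  obtain ⟨π, hπ⟩ := exists_piAP (n := n) (T := T)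
  have hE := fun b hb => ap_twist (n := n) hG (b := b) hb
  have h := congrArg π (relationE (P n G) (P := AP n T) (fun _ => ap_zero) (fun _ _ => ap_biprod) a
    (ap_kernel (P n G) hE (rp_pullback hG).1 ha) (fun q => hE _ (by omega)))
  rw [hπ _ (hE _ (by omega)), map_sum] at h
  refine h.trans (Finset.sum_congr rfl fun p _ => ?_)
  rw [map_zsmul, map_nsmul, hπ _ (hE _ (by omega))]

include hG in
theorem psi_zero : psi n G 0 = KRR.cl T G := by
  haveI := PnH0.isIso_unit (n := n) G (QCoh.isQCoh_of_isFinLocFree hG)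
  exact cl_iso ((Scheme.Modules.pushforward (KRR.pr n T)).mapIso (twF_zero (P n G)).some ≪≫
    (asIso ((Scheme.Modules.pullbackPushforwardAdjunction (KRR.pr n T)).unit.app G)).symm)
    (ap_twist hG (by omega)).2.2 hG

include hG in
theorem psi_neg {i : ℕ} (hi : 1 ≤ i) (hin : i ≤ n) : psi n G (-(i : ℤ)) = 0 :=
  KZ.clSub_isZero _ ((RegRes.isZero_push_iff _).1
    (RegRes.rz_zero_tw_pullback _ (QCoh.isQCoh_of_isFinLocFree hG) i hi hin))

include hG in
/-- `[p_* ((p^*G)(b))] = C(n+b, n) [G]`. -/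
theorem psi_eq : ∀ q : ℕ, psi n G ((q : ℤ) - n) = (q.choose n : ℤ) • KRR.cl T G := by
  intro q
  induction q using Nat.strong_induction_on with
  | _ q ih =>
    rcases Nat.lt_trichotomy q n with h | h | h
    · rw [Nat.choose_eq_zero_of_lt h, Nat.cast_zero, zero_smul,
        show (q : ℤ) - n = -((n - q : ℕ) : ℤ) by omega]
      exact psi_neg hG (by omega) (by omega)
    · subst h
      rw [Nat.choose_self, Nat.cast_one, one_smul, sub_self]
      exact psi_zero hG
    · obtain ⟨r, rfl⟩ : ∃ r, q = r + (n + 1) := ⟨q - (n + 1), by omega⟩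
      have h1 := psi_rec (n := n) hG (a := (r : ℤ) - n) (by omega)
      rw [show ((r + (n + 1) : ℕ) : ℤ) - n = (r : ℤ) - n + ((n + 1 : ℕ) : ℤ) by omega, h1,
        ChooseRec.choose_rec n r, Finset.sum_smul]
      refine Finset.sum_congr rfl fun p hp => ?_
      have : p < n + 1 := Finset.mem_range.1 hp
      rw [show (r : ℤ) - n + ((n - p : ℕ) : ℤ) = ((r + (n - p) : ℕ) : ℤ) - n by omega, ih _ (by omega),
        smul_assoc, smul_assoc]

section Values

variable {H : Type w} [AddCommGroup H] (π : SGA6.Kvb (KRR.PY n T) →+ H) (f : SGA6.Kvb T →+ H)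
  (hπ : ∀ F, RP n T F → π (KRR.cl (KRR.PY n T) F) = f (KRR.cl T ((Scheme.Modules.pushforward (KRR.pr n T)).obj F)))

include hπ hG in
/-- A push-forward that is correct on regular bundles has these values on all twists `≥ -n`. -/
theorem push_twist (q : ℕ) :
    π (KRR.cl (KRR.PY n T) (M (P n G) ((q : ℤ) - n))) = (q.choose n : ℤ) • f (KRR.cl T G) := by
  induction h : n - q using Nat.strong_induction_on generalizing q with
  | _ k ih =>
    by_cases hq : n ≤ q
    · obtain ⟨m, rfl⟩ := Nat.exists_eq_add_of_le hq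
      rw [show ((n + m : ℕ) : ℤ) - n = (m : ℤ) by omega, hπ _ (rp_M _ (rp_pullback hG) m), ← map_zsmul,
        ← psi_eq hG (n + m), show ((n + m : ℕ) : ℤ) - n = (m : ℤ) by omega]
    · let φ : ℕ → H := fun j => π (KRR.cl (KRR.PY n T) (M (P n G) ((q : ℤ) - n + (j : ℤ))))
      let χ : ℕ → H := fun j => ((q + j).choose n : ℤ) • f (KRR.cl T G)
      have hval : ∀ j, 1 ≤ j → φ j = χ j := fun j hj => by
        show π (KRR.cl _ _) = _
        rw [show (q : ℤ) - n + (j : ℤ) = ((q + j : ℕ) : ℤ) - n by omega]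
        exact ih (n - (q + j)) (by omega) (q + j) rfl
      have hφ : φ 0 = sol n φ := eq_sol n φ (by
        have h := congrArg π (relationE (P n G) (P := KRR.vbP (KRR.PY n T))
          (fun _ => KFlatLib.isFinLocFree_of_isZero)
          (fun _ _ => KFlatLib.isFinLocFree_biprod) ((q : ℤ) - n)
          (vp_kernel (P n G) (rp_pullback hG).1 _) (fun j => vp_twF _ (rp_pullback hG).1))
        rw [map_sum] at h
        refine h.trans (Finset.sum_congr rfl fun p _ => ?_)
        rw [map_zsmul, map_nsmul])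
      have hχ : χ 0 = sol n χ := eq_sol n χ (by
        show ((q + (n + 1)).choose n : ℤ) • f (KRR.cl T G) = _
        rw [ChooseRec.choose_rec n q, Finset.sum_smul]
        refine Finset.sum_congr rfl fun p _ => ?_
        rw [smul_assoc, smul_assoc])
      have h0 : φ 0 = χ 0 := hφ.trans ((sol_congr n hval).trans hχ.symm)
      simpa [φ, χ] using h0

end Values

end Groth.Agent.H28.GenPsi
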