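import Mathlib

/-!
# Differentials of an affine scheme whose geometric fibre has small embedding dimension
-/

set_option autoImplicit false
set_option linter.style.haveILetI false
set_option linter.unusedSectionVars false
set_option maxHeartbeats 1000000

universe u

open TensorProduct KaehlerDifferential

noncomputable section

namespace Groth.Agent.H28.GeomHyp

attribute [local instance] Algebra.TensorProduct.rightAlgebra

section

variable {F : Type u} [Field F] {B : Type u} [CommRing B] [Algebra F B] (m : Ideal B) [m.IsMaximal]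

/-- If `B/m = F` and `m B_m` is generated by the `x i`, the `D (x i)` span `Ω` modulo `m`. -/
theorem span_D_sup_eq_top (hF : Function.Surjective (algebraMap F (B ⧸ m))) {ι : Type*} (x : ι → B)
    (hx : ∀ i, x i ∈ m) (hgen : ∀ y ∈ m, ∃ c : B, c ∉ m ∧ c * y ∈ Ideal.span (Set.range x)) :
    Submodule.span B (Set.range fun i => D F B (x i)) ⊔ m • (⊤ : Submodule B Ω[B⁄F]) = ⊤ := by
  set N := Submodule.span B (Set.range fun i => D F B (x i)) ⊔ m • (⊤ : Submodule B Ω[B⁄F]) with hN
  have hm : ∀ μ ∈ m, ∀ w : Ω[B⁄F], μ • w ∈ N := fun μ hμ w =>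
    Submodule.mem_sup_right (Submodule.smul_mem_smul hμ Submodule.mem_top)
  have hJ : ∀ a ∈ Ideal.span (Set.range x), a ∈ m ∧ D F B a ∈ N := by
    intro a ha
    induction ha using Submodule.span_induction with
    | mem y hy =>
      obtain ⟨i, rfl⟩ := hy
      exact ⟨hx i, Submodule.mem_sup_left (Submodule.subset_span ⟨i, rfl⟩)⟩
    | zero => exact ⟨m.zero_mem, by rw [map_zero]; exact N.zero_mem⟩
    | add y z _ _ hy hz => exact ⟨m.add_mem hy.1 hz.1, by rw [map_add]; exact N.add_mem hy.2 hz.2⟩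
    | smul b y _ hy =>
      refine ⟨m.smul_mem b hy.1, ?_⟩
      rw [smul_eq_mul, Derivation.leibniz]
      exact N.add_mem (N.smul_mem b hy.2) (hm y hy.1 _)
  have hDm : ∀ y ∈ m, D F B y ∈ N := by
    intro y hy
    obtain ⟨c, hc, hcy⟩ := hgen y hy
    have h1 : c • D F B y ∈ N := by
      have h2 := (hJ _ hcy).2
      rw [Derivation.leibniz] at h2
      exact (N.add_mem_iff_left (hm y hy _)).1 h2
    obtain ⟨c', μ, hμ, e⟩ := Ideal.IsMaximal.exists_inv ‹m.IsMaximal› hc
    have e' : D F B y = c' • c • D F B y + μ • D F B y := by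
      rw [smul_smul, ← add_smul, e, one_smul]
    rw [e']
    exact N.add_mem (N.smul_mem c' h1) (hm μ hμ _)
  rw [eq_top_iff, ← span_range_derivation F B, Submodule.span_le]
  rintro _ ⟨b, rfl⟩
  obtain ⟨k, hk⟩ := hF (Ideal.Quotient.mk m b)
  have hbk : b - algebraMap F B k ∈ m := by
    rw [← Ideal.Quotient.eq, ← hk]
    exact (IsScalarTower.algebraMap_apply F B (B ⧸ m) k)
  have := hDm _ hbk
  rw [map_sub, Derivation.map_algebraMap, sub_zero] at this
  exact this

/-- Generators of the maximal ideal of `B_m` with cleared denominators. -/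
theorem exists_gen [IsNoetherianRing B] :
    ∃ x : Fin (Module.finrank (IsLocalRing.ResidueField (Localization.AtPrime m))
        (IsLocalRing.CotangentSpace (Localization.AtPrime m))) → B,
      (∀ i, x i ∈ m) ∧ ∀ y ∈ m, ∃ c : B, c ∉ m ∧ c * y ∈ Ideal.span (Set.range x) := by
  let R := Localization.AtPrime m
  haveI : IsNoetherianRing R := IsLocalization.isNoetherianRing m.primeCompl R inferInstance
  have hfg := (IsLocalRing.maximalIdeal R).fg_of_isNoetherianRing
  rw [← IsLocalRing.spanFinrank_maximalIdeal_eq_finrank_cotangentSpace]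
  let s := Submodule.generators (IsLocalRing.maximalIdeal R)
  have hs : s.Finite := Submodule.FG.finite_generators hfg
  have hcard : s.ncard = Submodule.spanFinrank (IsLocalRing.maximalIdeal R) :=
    Submodule.FG.generators_ncard hfg
  haveI := hs.fintype
  let e : Fin (Submodule.spanFinrank (IsLocalRing.maximalIdeal R)) ≃ s :=
    (Fintype.equivFinOfCardEq (by rw [← hcard, Set.ncard_eq_toFinset_card', Set.toFinset_card])).symm
  have hg : ∀ g : s, ∃ x ∈ m, Associated (algebraMap B R x) (g : R) := by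
    intro g
    obtain ⟨a, t, ht⟩ := IsLocalization.exists_mk'_eq m.primeCompl (g : R)
    have hgm : (g : R) ∈ IsLocalRing.maximalIdeal R :=
      Submodule.span_generators (IsLocalRing.maximalIdeal R) ▸ Submodule.subset_span g.2
    refine ⟨a, ?_, ?_⟩
    · rw [← ht] at hgm
      exact (IsLocalization.AtPrime.mk'_mem_maximal_iff R m a t).1 hgm
    · rw [← ht, ← IsLocalization.mk'_spec R a t]
      exact associated_mul_unit_left _ _ (IsLocalization.map_units R t)
  choose x hx hxa using hg
  refine ⟨fun i => x (e i), fun i => hx _, fun y hy => ?_⟩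
  have h1 : algebraMap B R y ∈ (Ideal.span (Set.range fun i => x (e i))).map (algebraMap B R) := by
    have h2 : IsLocalRing.maximalIdeal R ≤ (Ideal.span (Set.range fun i => x (e i))).map (algebraMap B R) := by
      refine (Submodule.span_generators (IsLocalRing.maximalIdeal R)).symm.le.trans (Submodule.span_le.2 ?_)
      intro g hg
      obtain ⟨u, hu⟩ := hxa ⟨g, hg⟩
      have h3 : algebraMap B R (x ⟨g, hg⟩) ∈ (Ideal.span (Set.range fun i => x (e i))).map (algebraMap B R) :=
        Ideal.mem_map_of_mem _ (Ideal.subset_span ⟨e.symm ⟨g, hg⟩, by simp⟩)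
      show ((⟨g, hg⟩ : s) : R) ∈ _
      rw [← hu]
      exact Ideal.mul_mem_right _ _ h3
    exact h2 ((IsLocalization.AtPrime.to_map_mem_maximal_iff R m y).2 hy)
  obtain ⟨c, hc, hcy⟩ := (IsLocalization.algebraMap_mem_map_algebraMap_iff m.primeCompl R _ _).1 h1
  exact ⟨c, hc, hcy⟩

end

section

variable {K : Type u} [Field K] {A : Type u} [CommRing A] [Algebra K A]

theorem isIntegral_tensor :
    Algebra.IsIntegral A (AlgebraicClosure K ⊗[K] A) where
  isIntegral p := by
    induction p using TensorProduct.induction_on with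
    | zero => exact isIntegral_zero
    | add y z hy hz => exact hy.add hz
    | tmul s a =>
      have e : s ⊗ₜ[K] a = algebraMap A (AlgebraicClosure K ⊗[K] A) a * (s ⊗ₜ[K] (1 : A)) := by
        rw [Algebra.TensorProduct.right_algebraMap_apply, Algebra.TensorProduct.tmul_mul_tmul, one_mul, mul_one]
      rw [e]
      exact isIntegral_algebraMap.mul
        (((Algebra.IsIntegral.isIntegral (R := K) s).map
          (Algebra.TensorProduct.includeLeft : AlgebraicClosure K →ₐ[K] _)).tower_top)

theorem dim_tensor_le : ringKrullDim (AlgebraicClosure K ⊗[K] A) ≤ ringKrullDim A := by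
  haveI := isIntegral_tensor (K := K) (A := A)
  refine Order.krullDim_le_of_strictMono (PrimeSpectrum.comap (algebraMap A _)) ?_
  intro p q h
  exact Ideal.IsIntegral.comap_lt_comap h

/-- Generators of `Ω` near `p`. -/
theorem main [Algebra.FiniteType K A] [IsDomain (AlgebraicClosure K ⊗[K] A)]
    (hhyp : ∀ (q : Ideal (AlgebraicClosure K ⊗[K] A)) [q.IsPrime],
      (Module.finrank (IsLocalRing.ResidueField (Localization.AtPrime q))
          (IsLocalRing.CotangentSpace (Localization.AtPrime q)) : ℕ∞) ≤ q.height + 1)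
    (d : ℕ) (hd : ringKrullDim A = d) (p : Ideal A) [p.IsPrime] :
    ∃ s : Finset (LocalizedModule p.primeCompl Ω[A⁄K]),
      s.card ≤ d + 1 ∧ Submodule.span (Localization.AtPrime p) (s : Set (LocalizedModule p.primeCompl Ω[A⁄K])) = ⊤ := by
  haveI := isIntegral_tensor (K := K) (A := A)
  haveI : IsNoetherianRing (AlgebraicClosure K ⊗[K] A) :=
    Algebra.FiniteType.isNoetherianRing (AlgebraicClosure K) _
  haveI : FaithfulSMul A (AlgebraicClosure K ⊗[K] A) := (faithfulSMul_iff_algebraMap_injective _ _).2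
    (Algebra.TensorProduct.includeRight_injective (algebraMap K (AlgebraicClosure K)).injective)
  obtain ⟨I, hI, hpI⟩ := Ideal.exists_le_maximal p (Ideal.IsPrime.ne_top ‹_›)
  haveI := hI
  obtain ⟨m, hm, hmI⟩ := Ideal.exists_maximal_ideal_liesOver_of_isIntegral (S := AlgebraicClosure K ⊗[K] A) I
  haveI := hm; haveI := hmI
  have hF : Function.Surjective (algebraMap (AlgebraicClosure K) ((AlgebraicClosure K ⊗[K] A) ⧸ m)) := by
    letI := Ideal.Quotient.field m
    haveI : Module.Finite (AlgebraicClosure K) ((AlgebraicClosure K ⊗[K] A) ⧸ m) :=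
      finite_of_finite_type_of_isJacobsonRing _ _
    exact (IsAlgClosed.algebraMap_bijective_of_isIntegral (k := AlgebraicClosure K)).2
  set t := Module.finrank (IsLocalRing.ResidueField (Localization.AtPrime m))
      (IsLocalRing.CotangentSpace (Localization.AtPrime m)) with ht
  obtain ⟨x, hx, hgen⟩ : ∃ x : Fin t → (AlgebraicClosure K ⊗[K] A), (∀ i, x i ∈ m) ∧
      ∀ y ∈ m, ∃ c, c ∉ m ∧ c * y ∈ Ideal.span (Set.range x) := exists_gen m
  have htop := span_D_sup_eq_top m hF x hx hgen
  have htd : t ≤ d + 1 := by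
    have h2 := Ideal.height_le_ringKrullDim_of_ne_top (I := m) hm.ne_top
    have h3 : (m.height : WithBot ℕ∞) ≤ ((d : ℕ∞) : WithBot ℕ∞) := by
      refine (h2.trans dim_tensor_le).trans_eq ?_
      rw [hd]; rfl
    have h4 : (t : ℕ∞) ≤ (d : ℕ∞) + 1 := (hhyp m).trans (add_le_add (WithBot.coe_le_coe.1 h3) le_rfl)
    exact_mod_cast h4
  letI := Ideal.Quotient.field I
  let L := (AlgebraicClosure K ⊗[K] A) ⧸ m
  let e := KaehlerDifferential.tensorKaehlerEquiv K (AlgebraicClosure K) A (AlgebraicClosure K ⊗[K] A)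
  let π : (AlgebraicClosure K ⊗[K] A) ⊗[A] Ω[A⁄K] →ₗ[AlgebraicClosure K ⊗[K] A] L ⊗[A] Ω[A⁄K] :=
    AlgebraTensorModule.map (Ideal.Quotient.mkₐ (AlgebraicClosure K ⊗[K] A) m).toLinearMap LinearMap.id
  have hπ : Function.Surjective π := by
    intro w
    induction w using TensorProduct.induction_on with
    | zero => exact ⟨0, map_zero _⟩
    | add y z hy hz =>
      obtain ⟨a, rfl⟩ := hy; obtain ⟨b, rfl⟩ := hz
      exact ⟨a + b, map_add _ _ _⟩
    | tmul l y =>
      obtain ⟨b, rfl⟩ := Ideal.Quotient.mk_surjective l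
      exact ⟨b ⊗ₜ y, rfl⟩
  let g : Fin t → L ⊗[A] Ω[A⁄K] := fun i => π (e.symm (D _ _ (x i)))
  have hW : Submodule.span L (Set.range g) = ⊤ := by
    rw [eq_top_iff]
    rintro w -
    obtain ⟨v, rfl⟩ := hπ w
    have hv : e v ∈ Submodule.span (AlgebraicClosure K ⊗[K] A) (Set.range fun i => D _ _ (x i)) ⊔
        m • (⊤ : Submodule _ Ω[(AlgebraicClosure K ⊗[K] A)⁄AlgebraicClosure K]) := by
      rw [htop]; exact Submodule.mem_top
    let f := π.comp e.symm.toLinearMap
    have : Submodule.span (AlgebraicClosure K ⊗[K] A) (Set.range fun i => D _ _ (x i)) ⊔ m • ⊤ ≤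
        ((Submodule.span L (Set.range g)).restrictScalars (AlgebraicClosure K ⊗[K] A)).comap f := by
      refine sup_le ?_ ?_
      · rw [Submodule.span_le]
        rintro _ ⟨i, rfl⟩
        exact Submodule.subset_span ⟨i, rfl⟩
      · rw [Submodule.smul_le]
        intro μ hμ y _
        show f (μ • y) ∈ Submodule.span L (Set.range g)
        rw [map_smul, ← IsScalarTower.algebraMap_smul L μ (f y), Ideal.Quotient.algebraMap_eq,
          Ideal.Quotient.eq_zero_iff_mem.2 hμ, zero_smul]
        exact zero_mem _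
    have h := this hv
    simpa [f] using h
  have hV : Module.finrank (A ⧸ I) ((A ⧸ I) ⊗[A] Ω[A⁄K]) ≤ t := by
    let c : L ⊗[A ⧸ I] ((A ⧸ I) ⊗[A] Ω[A⁄K]) ≃ₗ[L] L ⊗[A] Ω[A⁄K] :=
      AlgebraTensorModule.cancelBaseChange A (A ⧸ I) L L Ω[A⁄K]
    rw [← Module.finrank_baseChange (R := L), c.finrank_eq, ← finrank_top, ← hW]
    exact (finrank_range_le_card g).trans_eq (Fintype.card_fin t)
  let b := Module.finBasis (A ⧸ I) ((A ⧸ I) ⊗[A] Ω[A⁄K])
  have hlift : ∀ w : (A ⧸ I) ⊗[A] Ω[A⁄K], ∃ y : Ω[A⁄K], (1 : A ⧸ I) ⊗ₜ[A] y = w := by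
    intro w
    induction w using TensorProduct.induction_on with
    | zero => exact ⟨0, tmul_zero _ _⟩
    | add y z hy hz =>
      obtain ⟨a, rfl⟩ := hy; obtain ⟨c, rfl⟩ := hz
      exact ⟨a + c, tmul_add _ _ _⟩
    | tmul l y =>
      obtain ⟨a, rfl⟩ := Ideal.Quotient.mk_surjective l
      refine ⟨a • y, ?_⟩
      rw [← smul_tmul, ← Ideal.Quotient.algebraMap_eq, Algebra.algebraMap_eq_smul_one]
  choose y hy using fun j => hlift (b j)
  let N := Submodule.span A (Set.range y)
  have hN : (⊤ : Submodule A Ω[A⁄K]) ≤ N ⊔ I • ⊤ := by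
    rintro z -
    have hz : ∃ n ∈ N, (1 : A ⧸ I) ⊗ₜ[A] z = 1 ⊗ₜ n := by
      have h := b.sum_repr ((1 : A ⧸ I) ⊗ₜ[A] z)
      choose a ha using fun j => Ideal.Quotient.mk_surjective (b.repr ((1 : A ⧸ I) ⊗ₜ[A] z) j)
      refine ⟨∑ j, a j • y j, N.sum_mem fun j _ => N.smul_mem _ (Submodule.subset_span ⟨j, rfl⟩), ?_⟩
      rw [tmul_sum]
      refine h.symm.trans (Finset.sum_congr rfl fun j _ => ?_)
      rw [tmul_smul, hy, ← ha, ← Ideal.Quotient.algebraMap_eq, algebraMap_smul]
    obtain ⟨n, hn, e1⟩ := hz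
    have e2 := congrArg (TensorProduct.quotTensorEquivQuotSMul Ω[A⁄K] I) e1
    rw [← map_one (Ideal.Quotient.mk I), TensorProduct.quotTensorEquivQuotSMul_mk_tmul,
      TensorProduct.quotTensorEquivQuotSMul_mk_tmul, one_smul, one_smul] at e2
    rw [show z = n + (z - n) by abel]
    exact Submodule.add_mem_sup hn ((Submodule.Quotient.eq _).1 e2)
  obtain ⟨r, hr1, hr⟩ := Submodule.exists_sub_one_mem_and_smul_eq_zero_of_fg_of_le_smul I
    (⊤ : Submodule A (Ω[A⁄K] ⧸ N)) Module.Finite.fg_top (by
      intro z _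
      obtain ⟨z, rfl⟩ := Submodule.mkQ_surjective N z
      obtain ⟨n, hn, w, hw, rfl⟩ := Submodule.mem_sup.1 (hN (Submodule.mem_top (x := z)))
      rw [map_add, show N.mkQ n = 0 from (Submodule.Quotient.mk_eq_zero N).2 hn, zero_add]
      exact Submodule.smul_mono le_rfl le_top (Submodule.map_smul'' I ⊤ N.mkQ ▸ Submodule.mem_map_of_mem hw))
  have hrp : r ∈ p.primeCompl := fun h => hI.ne_top ((Ideal.eq_top_iff_one I).2 (by
    simpa using I.sub_mem (hpI h) hr1))
  classical
  refine ⟨Finset.univ.image fun j => LocalizedModule.mkLinearMap p.primeCompl Ω[A⁄K] (y j), ?_, ?_⟩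
  · exact Finset.card_image_le.trans (by simpa using hV.trans htd)
  · rw [Finset.coe_image, Finset.coe_univ, Set.image_univ, eq_top_iff]
    rintro w -
    induction w using LocalizedModule.induction_on with
    | h z s =>
      have hz : r • z ∈ N := (Submodule.Quotient.mk_eq_zero N).1 (by
        rw [Submodule.Quotient.mk_smul]
        exact hr _ Submodule.mem_top)
      have hle : N ≤ ((Submodule.span (Localization.AtPrime p)
          (Set.range fun j => LocalizedModule.mkLinearMap p.primeCompl Ω[A⁄K] (y j))).restrictScalars A).comap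
            (LocalizedModule.mkLinearMap p.primeCompl Ω[A⁄K]) := by
        rw [Submodule.span_le]
        rintro _ ⟨j, rfl⟩
        exact Submodule.subset_span ⟨j, rfl⟩
      have h1 : LocalizedModule.mk (r • z) 1 ∈ Submodule.span (Localization.AtPrime p)
          (Set.range fun j => LocalizedModule.mkLinearMap p.primeCompl Ω[A⁄K] (y j)) := hle hz
      have h2 := Submodule.smul_mem _ (Localization.mk 1 (⟨r, hrp⟩ * s)) h1
      rw [LocalizedModule.mk_smul_mk, one_smul, mul_one, show r • z = (⟨r, hrp⟩ : p.primeCompl) • z from rfl,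
        LocalizedModule.mk_cancel_common_left] at h2
      exact h2

end

end Groth.Agent.H28.GeomHyp
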