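import Groth.Agent.Lambda.Gr
import Groth.Agent.H28.PBFil

/-!
# Functoriality of `ℚGr K` in isomorphisms of augmented λ-rings
-/

set_option autoImplicit false
set_option linter.unusedSectionVars false

universe v w

open LambdaRing LaurentPolynomial
open scoped TensorProduct

noncomputable section

namespace Groth.Agent.H28.GrMap

open Groth.Agent Groth.Agent.Lambda

theorem grK_rep {K : Type v} [CommRing K] [LambdaOps K] {P : PosStructure K} {m : ℤ} {x : K} {N : ℕ} (hN : 1 ≤ N)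
    (h : C ((N : K) * x) * T (-m) ∈ KGr.rees P) :
    KGr.grK P m x = ((1 : ℚ) / (N : ℚ)) ⊗ₜ[ℤ]
      Ideal.Quotient.mk (Ideal.span {KGr.tGen P}) (⟨C ((N : K) * x) * T (-m), h⟩ : KGr.rees P) := by
  have hex : ∃ M : ℕ, 1 ≤ M ∧ C ((M : K) * x) * T (-m) ∈ KGr.rees P := ⟨N, hN, h⟩
  rw [KGr.grK, dif_pos hex]
  suffices key : ∀ (M : ℕ), 1 ≤ M → ∀ hM : C ((M : K) * x) * T (-m) ∈ KGr.rees P,
      ((1 : ℚ) / (M : ℚ)) ⊗ₜ[ℤ] Ideal.Quotient.mk (Ideal.span {KGr.tGen P})
          (⟨C ((M : K) * x) * T (-m), hM⟩ : KGr.rees P) =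
        ((1 : ℚ) / (N : ℚ)) ⊗ₜ[ℤ] Ideal.Quotient.mk (Ideal.span {KGr.tGen P})
          (⟨C ((N : K) * x) * T (-m), h⟩ : KGr.rees P) from
    key _ hex.choose_spec.1 hex.choose_spec.2
  intro M hM hMmem
  have hswap : (N : ℤ) • (⟨C ((M : K) * x) * T (-m), hMmem⟩ : KGr.rees P) =
      (M : ℤ) • (⟨C ((N : K) * x) * T (-m), h⟩ : KGr.rees P) := by
    ext1
    show (N : ℤ) • (C ((M : K) * x) * T (-m)) = (M : ℤ) • (C ((N : K) * x) * T (-m))
    simp only [zsmul_eq_mul, Int.cast_natCast, map_mul, map_natCast]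
    ring
  have hAB := congrArg (Ideal.Quotient.mk (Ideal.span {KGr.tGen P})) hswap
  rw [map_zsmul, map_zsmul] at hAB
  have e1 : ∀ a b : ℕ, 1 ≤ a → (1 : ℚ) / (b : ℚ) = (a : ℤ) • ((1 : ℚ) / ((a : ℚ) * (b : ℚ))) := fun a b ha => by
    rw [zsmul_eq_mul, Int.cast_natCast, mul_one_div,
      div_mul_cancel_left₀ (Nat.cast_ne_zero.2 (by omega : a ≠ 0)), one_div]
  rw [e1 N M hN, e1 M N hM, TensorProduct.smul_tmul, TensorProduct.smul_tmul, hAB, mul_comm (M : ℚ) (N : ℚ)]

variable {K : Type v} [CommRing K] [LambdaOps K] {P : PosStructure K}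
  {K' : Type w} [CommRing K'] [LambdaOps K'] {P' : PosStructure K'} (e : K →+* K')
  (hlam : ∀ n x, e (LambdaOps.lam n x) = LambdaOps.lam n (e x)) (haug : ∀ x, P'.aug (e x) = P.aug x)

/-- The map on Laurent polynomials. -/
abbrev eL : LaurentPolynomial K →+* LaurentPolynomial K' := AddMonoidAlgebra.mapRingHom ℤ e

theorem eL_CT (x : K) (n : ℤ) : eL e (C x * T n) = C (e x) * T n := by
  rw [← single_eq_C_mul_T, ← single_eq_C_mul_T, AddMonoidAlgebra.mapRingHom_single]

theorem eL_T (n : ℤ) : eL e (T n) = T n := by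
  have h := eL_CT e 1 n
  simpa using h

include hlam haug in
theorem mem_rees {p : LaurentPolynomial K} (hp : p ∈ KGr.rees P) : eL e p ∈ KGr.rees P' := by
  have h : KGr.rees P ≤ (KGr.rees P').comap (eL e) := by
    refine Subring.closure_le.2 ?_
    intro q hq
    show eL e q ∈ KGr.rees P'
    rcases hq with rfl | ⟨n, x, hx, rfl⟩
    · rw [eL_T]; exact Subring.subset_closure (Set.mem_insert _ _)
    · rw [eL_CT]; exact monomial_mem_rees (PBFil.map_mem_gammaFiltration hlam haug hx)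
  exact h hp

/-- The map on Rees rings. -/
def reesMap : KGr.rees P →+* KGr.rees P' :=
  ((eL e).comp (KGr.rees P).subtype).codRestrict (KGr.rees P') fun p => mem_rees e hlam haug p.2

/-- The map on `Gr`. -/
def grZMap : KGr.GrZ P →+* KGr.GrZ P' :=
  Ideal.quotientMap _ (reesMap e hlam haug) (by
    rw [Ideal.span_singleton_le_iff_mem, Ideal.mem_comap]
    refine Ideal.subset_span ?_
    rw [Set.mem_singleton_iff]
    exact Subtype.ext (eL_T e 1))

/-- The map on `ℚGr`. -/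
def grMap : KGr.Gr P →ₐ[ℚ] KGr.Gr P' :=
  Algebra.TensorProduct.map (AlgHom.id ℚ ℚ) (grZMap e hlam haug).toIntAlgHom

theorem grMap_tmul (q : ℚ) (z : KGr.GrZ P) :
    grMap e hlam haug (q ⊗ₜ[ℤ] z) = q ⊗ₜ[ℤ] grZMap e hlam haug z :=
  Algebra.TensorProduct.map_tmul _ _ _ _

theorem grMap_grK (e' : K' →+* K) (hlam' : ∀ n x, e' (LambdaOps.lam n x) = LambdaOps.lam n (e' x))
    (haug' : ∀ x, P.aug (e' x) = P'.aug x) (he : ∀ x, e' (e x) = x) (m : ℤ) (x : K) :
    grMap e hlam haug (KGr.grK P m x) = KGr.grK P' m (e x) := by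
  by_cases hex : ∃ N : ℕ, 1 ≤ N ∧ C ((N : K) * x) * T (-m) ∈ KGr.rees P
  · obtain ⟨N, hN, h⟩ := hex
    have h' : C ((N : K') * e x) * T (-m) ∈ KGr.rees P' := by
      have := mem_rees e hlam haug h
      rwa [eL_CT, map_mul, map_natCast] at this
    rw [grK_rep hN h, grK_rep hN h', grMap_tmul]
    congr 1
    show Ideal.Quotient.mk _ (reesMap e hlam haug _) = _
    congr 1
    apply Subtype.ext
    show eL e (C ((N : K) * x) * T (-m)) = _
    rw [eL_CT, map_mul, map_natCast]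
  · have hex' : ¬ ∃ N : ℕ, 1 ≤ N ∧ C ((N : K') * e x) * T (-m) ∈ KGr.rees P' := fun ⟨N, hN, h⟩ => by
      refine hex ⟨N, hN, ?_⟩
      have := mem_rees e' hlam' haug' h
      rwa [eL_CT, map_mul, map_natCast, he] at this
    rw [KGr.grK, dif_neg hex, KGr.grK, dif_neg hex', map_zero]

variable (e' : K' →+* K) (hlam' : ∀ n x, e' (LambdaOps.lam n x) = LambdaOps.lam n (e' x))
  (haug' : ∀ x, P.aug (e' x) = P'.aug x) (he : ∀ x, e' (e x) = x)

include hlam haug hlam' haug' he in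
theorem grMap_chern (i : ℕ) (x : K) : grMap e hlam haug (KGr.chern P i x) = KGr.chern P' i (e x) := by
  rw [KGr.chern, grMap_grK e hlam haug e' hlam' haug' he, PBFil.map_gamma hlam, map_sub, map_intCast, KGr.chern, haug]

include hlam haug hlam' haug' he in
theorem grMap_chK (d : ℕ) (x : K) : grMap e hlam haug (KGr.chK P d x) = KGr.chK P' d (e x) := by
  rw [KGr.chK, KGr.chK, map_add, AlgHom.commutes, haug,
    MvPolynomial.comp_aeval_apply (B := KGr.Gr P') (fun i : Fin d => KGr.chern P (i.1 + 1) x) (grMap e hlam haug)]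
  simp only [grMap_chern e hlam haug e' hlam' haug' he]

include hlam haug hlam' haug' he in
theorem grMap_tdK (d : ℕ) (x : K) : grMap e hlam haug (KGr.tdK P d x) = KGr.tdK P' d (e x) := by
  rw [KGr.tdK, KGr.tdK,
    MvPolynomial.comp_aeval_apply (B := KGr.Gr P') (fun i : Fin d => KGr.chern P (i.1 + 1) x) (grMap e hlam haug)]
  simp only [grMap_chern e hlam haug e' hlam' haug' he]

end Groth.Agent.H28.GrMap

end
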