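import Groth.Agent.Lambda.GrIso
import Groth.Agent.Lambda.Eigen
import Groth.Agent.Lambda.SymmEval

/-!
# Adams operations on `ℚGr K`, and the filtration by degree
-/

set_option autoImplicit false
set_option linter.unusedSectionVars false

universe u

open Finset LambdaRing
open scoped TensorProduct

noncomputable section

namespace Groth.Agent.H28.GrOps

open Groth.Agent Groth.Agent.Lambda

variable {K : Type u} [CommRing K] [LambdaOps K] {P : PosStructure K}

/-! ### Degrees -/

/-- The classes of degree `≥ m`. -/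
def W (P : PosStructure K) (m : ℕ) : Submodule ℚ (KGr.Gr P) :=
  Submodule.span ℚ {g | ∃ (k : ℕ) (y : K), m ≤ k ∧ y ∈ gammaFiltration P k ∧ g = KGr.grK P (k : ℤ) y}

theorem grK_mem {k m : ℕ} (h : m ≤ k) {y : K} (hy : y ∈ gammaFiltration P k) :
    KGr.grK P (k : ℤ) y ∈ W P m :=
  Submodule.subset_span ⟨k, y, h, hy, rfl⟩

theorem anti (P : PosStructure K) {a b : ℕ} (h : a ≤ b) : W P b ≤ W P a :=
  Submodule.span_mono fun _ ⟨k, y, hk, hy, hg⟩ => ⟨k, y, h.trans hk, hy, hg⟩

theorem eq_bot {d : ℕ} (hd : gammaFiltration P (d + 1) = ⊥) {m : ℕ} (hm : d < m) : W P m = ⊥ := by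
  rw [W, Submodule.span_eq_bot]
  rintro _ ⟨k, y, hk, hy, rfl⟩
  have := gammaFiltration_anti (show d + 1 ≤ k by omega) hy
  rw [hd, AddSubgroup.mem_bot] at this
  rw [this, grK_zero]

theorem mem_zero (g : KGr.Gr P) : g ∈ W P 0 := by
  induction g using TensorProduct.induction_on with
  | zero => exact zero_mem _
  | tmul q z =>
    rw [show q ⊗ₜ[ℤ] z = q • ((1 : ℚ) ⊗ₜ[ℤ] z) by rw [TensorProduct.smul_tmul', smul_eq_mul, mul_one]]
    refine Submodule.smul_mem _ _ ?_
    have hz := grZ_mem_span P z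
    induction hz using AddSubgroup.closure_induction with
    | mem y hy =>
      obtain ⟨n, x, hx, rfl⟩ := hy
      rw [← grK_eq hx]
      exact grK_mem (Nat.zero_le _) hx
    | zero => rw [TensorProduct.tmul_zero]; exact zero_mem _
    | add a b _ _ ha hb => rw [TensorProduct.tmul_add]; exact add_mem ha hb
    | neg a _ ha => rw [TensorProduct.tmul_neg]; exact neg_mem ha
  | add a b ha hb => exact add_mem ha hb

theorem mul_mem {a b : ℕ} {g h : KGr.Gr P} (hg : g ∈ W P a) (hh : h ∈ W P b) : g * h ∈ W P (a + b) := by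
  induction hg using Submodule.span_induction with
  | mem g hg =>
    induction hh using Submodule.span_induction with
    | mem h hh =>
      obtain ⟨k, x, hk, hx, rfl⟩ := hg
      obtain ⟨l, y, hl, hy, rfl⟩ := hh
      rw [← grK_mul hx hy]
      exact grK_mem (by omega) (mul_mem_add hx hy)
    | zero => rw [mul_zero]; exact zero_mem _
    | add u v _ _ hu hv => rw [mul_add]; exact add_mem hu hv
    | smul c u _ hu => rw [mul_smul_comm]; exact Submodule.smul_mem _ _ hu
  | zero => rw [zero_mul]; exact zero_mem _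
  | add u v _ _ hu hv => rw [add_mul]; exact add_mem hu hv
  | smul c u _ hu => rw [smul_mul_assoc]; exact Submodule.smul_mem _ _ hu

theorem mul_mem_right {a : ℕ} {g : KGr.Gr P} (hg : g ∈ W P a) (h : KGr.Gr P) : g * h ∈ W P a := by
  have := mul_mem hg (mem_zero h)
  rwa [add_zero] at this

/-- `W m` as an ideal. -/
def ideal (P : PosStructure K) (m : ℕ) : Ideal (KGr.Gr P) where
  carrier := W P m
  add_mem' := (W P m).add_mem
  zero_mem' := (W P m).zero_mem
  smul_mem' c g hg := by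
    show c * g ∈ W P m
    exact (congrArg (· ∈ W P m) (mul_comm c g)).mpr (mul_mem_right hg c)

theorem ideal_pow_le (P : PosStructure K) (n : ℕ) : ideal P 1 ^ n ≤ ideal P n := by
  induction n with
  | zero => intro g _; exact mem_zero g
  | succ n ih =>
    rw [Submodule.pow_succ]
    exact Ideal.mul_le.2 fun a ha b hb => mul_mem (ih ha) hb

theorem eq_zero_of_mem_pow {d : ℕ} (hd : gammaFiltration P (d + 1) = ⊥) {g : KGr.Gr P}
    (hg : g ∈ ideal P 1 ^ (d + 1)) : g = 0 := by
  have := ideal_pow_le P _ hg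
  change g ∈ W P (d + 1) at this
  rwa [eq_bot hd (Nat.lt_succ_self d), Submodule.mem_bot] at this

theorem chC_mem (P : PosStructure K) (x : K) (k : ℕ) : chC P x k ∈ W P k := by
  rcases k with _ | k
  · exact mem_zero _
  · simp only [chC]
    rw [← Algebra.smul_def]
    exact Submodule.smul_mem _ _ (grK_mem le_rfl (psG_mem P x _))

theorem chK_mem (hK : HasSplitting K P) (d : ℕ) {n : ℕ} {x : K} (hx : x ∈ gammaFiltration P n) :
    KGr.chK P d x ∈ W P n := by
  obtain ⟨hlow, -⟩ := chC_of_mem hK hx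
  rw [chK_eq]
  refine sum_mem fun k _ => ?_
  rcases lt_or_ge k n with h | h
  · rw [hlow k h]; exact zero_mem _
  · exact anti P h (chC_mem P x k)

theorem chK_sub_grK_mem (hK : HasSplitting K P) {d : ℕ} (hd : gammaFiltration P (d + 1) = ⊥) {n : ℕ} {x : K}
    (hx : x ∈ gammaFiltration P n) : KGr.chK P d x - KGr.grK P (n : ℤ) x ∈ W P (n + 1) := by
  obtain ⟨hlow, heq⟩ := chC_of_mem hK hx
  rcases le_or_gt n d with h | h
  · rw [chK_eq, ← add_sum_erase _ _ (mem_range.2 (Nat.lt_succ_of_le h)), heq, add_sub_cancel_left]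
    refine sum_mem fun k hk => ?_
    rcases lt_or_gt_of_ne (mem_erase.1 hk).1 with hk' | hk'
    · rw [hlow k hk']; exact zero_mem _
    · exact anti P hk' (chC_mem P x k)
  · have := gammaFiltration_anti (show d + 1 ≤ n by omega) hx
    rw [hd, AddSubgroup.mem_bot] at this
    subst this
    rw [grK_zero, sub_zero, show KGr.chK P d (0 : K) = 0 by simpa using chK_intCast P d 0]
    exact zero_mem _

/-! ### The ring isomorphism `ch` -/

variable (hK : HasSplitting K P) {d : ℕ} (hd : gammaFiltration P (d + 1) = ⊥)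

include hK hd in
theorem chLin_mul (a b : ℚ ⊗[ℤ] K) : chLin P d (a * b) = chLin P d a * chLin P d b := by
  induction a using TensorProduct.induction_on with
  | zero => simp
  | add a a' ha ha' => rw [add_mul, map_add, map_add, ha, ha', add_mul]
  | tmul q x =>
    induction b using TensorProduct.induction_on with
    | zero => simp
    | add b b' hb hb' => rw [mul_add, map_add, map_add, hb, hb', mul_add]
    | tmul q' y =>
      rw [Algebra.TensorProduct.tmul_mul_tmul]
      have h : ∀ (r : ℚ) (z : K), chLin P d (r ⊗ₜ[ℤ] z) = r • KGr.chK P d z := fun r z => by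
        rw [show r ⊗ₜ[ℤ] z = r • ((1 : ℚ) ⊗ₜ[ℤ] z) by rw [TensorProduct.smul_tmul', smul_eq_mul, mul_one],
          map_smul, chLin_one_tmul]
      rw [h, h, h, smul_mul_smul_comm, chK_mul hK hd]

/-- `ch : ℚ ⊗ K ≅ ℚGr K`. -/
def chE : ℚ ⊗[ℤ] K ≃ₐ[ℚ] KGr.Gr P :=
  AlgEquiv.ofLinearEquiv (LinearEquiv.ofBijective (chLin P d) ⟨chLin_injective hK hd, chLin_surjective hK hd⟩)
    (by
      show chLin P d 1 = 1
      rw [Algebra.TensorProduct.one_def, chLin_one_tmul, chK_one])
    (chLin_mul hK hd)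

theorem chE_one_tmul (x : K) : chE hK hd ((1 : ℚ) ⊗ₜ[ℤ] x) = KGr.chK P d x := chLin_one_tmul d x

include hK hd in
theorem exists_of_mem_aux : ∀ (p m k : ℕ) (y : K), m ≤ k → d + 1 - k ≤ p → y ∈ gammaFiltration P k →
    ∃ ξ ∈ ratFiltration P m, chE hK hd ξ = KGr.grK P (k : ℤ) y := by
  intro p
  induction p with
  | zero =>
    intro m k y _ hp hy
    have := gammaFiltration_anti (show d + 1 ≤ k by omega) hy
    rw [hd, AddSubgroup.mem_bot] at this
    exact ⟨0, zero_mem _, by rw [map_zero, this, grK_zero]⟩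
  | succ p ih =>
    intro m k y hmk hp hy
    rcases le_or_gt (d + 1) k with hdk | hdk
    · exact ih m k y hmk (by omega) hy
    obtain ⟨hlow, heq⟩ := chC_of_mem hK hy
    suffices h : KGr.grK P (k : ℤ) y ∈ (ratFiltration P m).map (chE hK hd).toLinearMap from
      (Submodule.mem_map.1 h).imp fun ξ h => h
    have hch : KGr.chK P d y = KGr.grK P (k : ℤ) y + ∑ l ∈ (range (d + 1)).erase k, chC P y l := by
      rw [chK_eq, ← add_sum_erase _ _ (mem_range.2 hdk), heq]
    rw [eq_sub_of_add_eq hch.symm]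
    refine sub_mem ⟨_, Submodule.subset_span ⟨y, gammaFiltration_anti hmk hy, rfl⟩, chE_one_tmul hK hd y⟩
      (sum_mem fun l hl => ?_)
    rw [mem_erase, mem_range] at hl
    rcases lt_or_gt_of_ne hl.1 with h | h
    · rw [hlow l h]; exact zero_mem _
    · obtain ⟨l, rfl⟩ : ∃ l', l = l' + 1 := ⟨l - 1, by omega⟩
      simp only [chC]
      rw [← Algebra.smul_def]
      exact Submodule.smul_mem _ _ (Submodule.mem_map.2
        (ih m (l + 1) _ (by omega) (by omega) (psG_mem P y _)))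

include hK hd in
theorem exists_of_mem {m : ℕ} {g : KGr.Gr P} (hg : g ∈ W P m) : ∃ ξ ∈ ratFiltration P m, chE hK hd ξ = g := by
  suffices h : g ∈ (ratFiltration P m).map (chE hK hd).toLinearMap from Submodule.mem_map.1 h
  induction hg using Submodule.span_induction with
  | mem g hg =>
    obtain ⟨k, y, hk, hy, rfl⟩ := hg
    exact Submodule.mem_map.2 (exists_of_mem_aux hK hd _ m k y hk le_rfl hy)
  | zero => exact zero_mem _
  | add a b _ _ ha hb => exact add_mem ha hb
  | smul c a _ ha => exact Submodule.smul_mem _ _ ha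

/-! ### Adams operations -/

theorem psG_adams (hK : HasSplitting K P) (j : ℕ) (x : K) (k : ℕ) :
    psG P (LambdaRing.adams P j x) k - (j : K) ^ k * psG P x k ∈ gammaFiltration P (k + 1) := by
  classical
  rcases eq_or_ne k 0 with rfl | hk
  · rw [pow_zero, one_mul]; simp [psG, psiS]
  obtain ⟨e, g, he, hg, rfl⟩ := P.exists_sub x
  have key : ∀ e ∈ P.pos,
      psG P (LambdaRing.adams P j e) k - (j : K) ^ k * psG P e k ∈ gammaFiltration P (k + 1) := by
    intro e he
    obtain ⟨L, f, hf, hL, s, hs, hse, hcard⟩ := exists_split hK he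
    obtain ⟨n, v, hn, hv⟩ := exists_enum s
    have hvl : ∀ a, L.posStr.IsLine (v a) := fun a =>
      hs _ (by rw [← hv]; exact Multiset.mem_map_of_mem v (Finset.mem_univ_val a))
    have hsum : ∑ a, v a = f e := by rw [← hse, Finset.sum_eq_multiset_sum, hv]
    have hps : ∀ (w : Fin n → L.carrier) (z : K), (∀ a, L.posStr.IsLine (w a)) → ∑ a, w a = f z →
        f (psG P z k) = ∑ a, (w a - 1) ^ k := by
      intro w z hw hwz
      have h1 : f (psG P z k) = psiS (gammaSeries (f (z - (P.aug z : K)))) k := by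
        rw [psG, map_psiS f (constantCoeff_gammaSeries _)]
        congr 1
        ext i
        rw [PowerSeries.coeff_map, coeff_gammaSeries, coeff_gammaSeries, Lambda.map_gamma hf.isLambdaHom]
      rw [h1, map_sub, map_intCast, ← hf.aug_comp z, ← hwz, map_sum]
      simp only [(hw _).2, sum_const, card_univ, Fintype.card_fin, nsmul_eq_mul, mul_one, Int.cast_natCast]
      have h2 : gammaSeries ((∑ a, w a) - (n : L.carrier)) =
          PowerSeries.mk fun i => ((Finset.univ : Finset (Fin n)).val.map fun a => w a - 1).esymm i := by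
        ext i
        rw [coeff_gammaSeries, PowerSeries.coeff_mk]
        have h := gamma_lines_sum_sub_card (P := L.posStr) (s := (Finset.univ : Finset (Fin n)).val.map w)
          (fun x hx => by obtain ⟨a, -, rfl⟩ := Multiset.mem_map.1 hx; exact hw a) i
        rw [Multiset.map_map, Multiset.card_map, Finset.card_val, Finset.card_univ, Fintype.card_fin] at h
        exact h
      rw [h2, psiS_mk_esymm _ hk, Multiset.map_map]
      rfl
    have hw : ∀ a, L.posStr.IsLine (v a ^ j) := fun a => isLine_pow (hvl a) j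
    have hwsum : ∑ a, v a ^ j = f (LambdaRing.adams P j e) := by
      rw [Lambda.map_adams hf.isLambdaHom hf.aug_comp, ← hsum]
      exact (((map_sum (adamsHom L.posStr j) v univ)).trans (sum_congr rfl fun a _ => adams_line (hvl a) j)).symm
    refine mem_of_eq_symmetric hf hvl hsum
      (p := ∑ a : Fin n, (((1 + MvPolynomial.X a) ^ j - 1) ^ k -
        (j : MvPolynomial (Fin n) ℤ) ^ k * MvPolynomial.X a ^ k)) ?_ ?_ ?_
    · intro σ
      simp only [map_sum, map_sub, map_mul, map_pow, map_add, map_one, map_natCast, MvPolynomial.rename_X]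
      exact Fintype.sum_equiv σ _ _ fun _ => rfl
    · refine sum_mem fun a _ => ?_
      have hX : (MvPolynomial.X a : MvPolynomial (Fin n) ℤ) ∈ MvPolynomial.idealOfVars (Fin n) ℤ :=
        Ideal.subset_span ⟨a, rfl⟩
      clear hw hwsum
      obtain ⟨c, hc⟩ : (MvPolynomial.X a : MvPolynomial (Fin n) ℤ) ^ 2 ∣
          (1 + MvPolynomial.X a) ^ j - 1 - (j : MvPolynomial (Fin n) ℤ) * MvPolynomial.X a := by
        induction j with
        | zero => simp
        | succ j ih =>
          obtain ⟨c, hc⟩ := ih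
          refine ⟨c * (1 + MvPolynomial.X a) + (j : MvPolynomial (Fin n) ℤ), ?_⟩
          push_cast
          linear_combination (1 + MvPolynomial.X a) * hc
      rw [← mul_pow, show (1 + MvPolynomial.X a : MvPolynomial (Fin n) ℤ) ^ j - 1 =
        (j : MvPolynomial (Fin n) ℤ) * MvPolynomial.X a + MvPolynomial.X a ^ 2 * c by linear_combination hc]
      exact add_pow_sub_pow_mem (Ideal.mul_mem_left _ _ hX)
        (Ideal.mul_mem_right _ _ (Ideal.pow_mem_pow hX 2)) k
    · rw [map_sub, map_mul, map_pow, map_natCast, hps _ _ hw hwsum, hps _ _ hvl hsum]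
      simp [mul_sum, sum_sub_distrib]
  have hsub : ∀ a b : K, psG P (a - b) k = psG P a k - psG P b k := fun a b => by
    rw [eq_sub_iff_add_eq, ← psG_add, sub_add_cancel]
  rw [show LambdaRing.adams P j (e - g) = LambdaRing.adams P j e - LambdaRing.adams P j g from
    map_sub (adamsHom P j) e g, hsub, hsub, mul_sub, sub_sub_sub_comm]
  exact sub_mem (key e he) (key g hg)

theorem chC_adams (hK : HasSplitting K P) (j : ℕ) (x : K) (k : ℕ) :
    chC P (LambdaRing.adams P j x) k = algebraMap ℚ (KGr.Gr P) ((j : ℚ) ^ k) * chC P x k := by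
  rcases k with _ | k
  · rw [pow_zero, map_one, one_mul]; simp [chC, aug_adams hK]
  simp only [chC]
  have h := grK_eq_zero (psG_adams hK j x (k + 1))
  rw [grK_sub (psG_mem P _ _) (mul_mem_left _ (psG_mem P _ _)), sub_eq_zero, ← Nat.cast_pow,
    grK_natCast_mul P (psG_mem P _ _)] at h
  rw [h, Nat.cast_pow]
  ring

/-- The Adams operation on `ℚ ⊗ K`. -/
def psiQ (hK : HasSplitting K P) (j : ℕ) : ℚ ⊗[ℤ] K →ₐ[ℚ] ℚ ⊗[ℤ] K :=
  Algebra.TensorProduct.map (AlgHom.id ℚ ℚ) (adamsRingHom hK j).toIntAlgHom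

theorem psiQ_tmul (j : ℕ) (q : ℚ) (x : K) : psiQ hK j (q ⊗ₜ[ℤ] x) = q ⊗ₜ[ℤ] LambdaRing.adams P j x :=
  Algebra.TensorProduct.map_tmul _ _ _ _

/-- The Adams operation on `ℚGr K`. -/
def R (j : ℕ) : KGr.Gr P →ₐ[ℚ] KGr.Gr P :=
  ((chE hK hd).toAlgHom.comp (psiQ hK j)).comp (chE hK hd).symm.toAlgHom

theorem R_chE (j : ℕ) (ξ : ℚ ⊗[ℤ] K) : R hK hd j (chE hK hd ξ) = chE hK hd (psiQ hK j ξ) := by
  show chE hK hd (psiQ hK j ((chE hK hd).symm (chE hK hd ξ))) = _
  rw [AlgEquiv.symm_apply_apply]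

theorem R_chK (j : ℕ) (x : K) : R hK hd j (KGr.chK P d x) = KGr.chK P d (LambdaRing.adams P j x) := by
  rw [← chE_one_tmul hK hd, R_chE, psiQ_tmul, chE_one_tmul]

theorem R_grK_aux (j : ℕ) : ∀ (p n : ℕ) (x : K), d + 1 - n ≤ p → x ∈ gammaFiltration P n →
    R hK hd j (KGr.grK P (n : ℤ) x) = algebraMap ℚ (KGr.Gr P) ((j : ℚ) ^ n) * KGr.grK P (n : ℤ) x := by
  intro p
  induction p with
  | zero =>
    intro n x hp hx
    have := gammaFiltration_anti (show d + 1 ≤ n by omega) hx
    rw [hd, AddSubgroup.mem_bot] at this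
    rw [this, grK_zero, map_zero, mul_zero]
  | succ p ih =>
    intro n x hp hx
    rcases le_or_gt (d + 1) n with hdn | hdn
    · exact ih n x (by omega) hx
    obtain ⟨hlow, heq⟩ := chC_of_mem hK hx
    have hch : ∀ y : K, KGr.chK P d y = chC P y n + ∑ k ∈ (range (d + 1)).erase n, chC P y k := fun y => by
      rw [chK_eq, ← add_sum_erase _ _ (mem_range.2 hdn)]
    have h := R_chK hK hd j x
    rw [hch, hch, heq, map_add, map_sum, chC_adams hK, heq] at h
    refine add_right_cancel (b := ∑ k ∈ (range (d + 1)).erase n, R hK hd j (chC P x k)) (h.trans ?_)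
    refine congrArg (_ + ·) (sum_congr rfl fun k hk => ?_)
    rw [mem_erase, mem_range] at hk
    rw [chC_adams hK]
    rcases lt_or_gt_of_ne hk.1 with hkn | hkn
    · rw [hlow k hkn, map_zero, mul_zero]
    · obtain ⟨k, rfl⟩ : ∃ k', k = k' + 1 := ⟨k - 1, by omega⟩
      simp only [chC]
      rw [map_mul, AlgHom.commutes, ih (k + 1) _ (by omega) (psG_mem P x _)]
      ring

theorem R_grK (j : ℕ) {n : ℕ} {x : K} (hx : x ∈ gammaFiltration P n) :
    R hK hd j (KGr.grK P (n : ℤ) x) = algebraMap ℚ (KGr.Gr P) ((j : ℚ) ^ n) * KGr.grK P (n : ℤ) x :=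
  R_grK_aux hK hd j _ n x le_rfl hx

theorem R_chC (j : ℕ) (x : K) (k : ℕ) :
    R hK hd j (chC P x k) = algebraMap ℚ (KGr.Gr P) ((j : ℚ) ^ k) * chC P x k := by
  rcases k with _ | k
  · rw [pow_zero, map_one, one_mul]; simp [chC]
  · simp only [chC]
    rw [map_mul, AlgHom.commutes, R_grK hK hd j (psG_mem P x _)]
    ring

theorem R_sub_mem (j : ℕ) {a : ℕ} {g : KGr.Gr P} (hg : g ∈ W P a) :
    R hK hd j g - ((j : ℚ) ^ a) • g ∈ W P (a + 1) := by
  induction hg using Submodule.span_induction with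
  | mem g hg =>
    obtain ⟨k, y, hk, hy, rfl⟩ := hg
    rw [R_grK hK hd j hy, ← Algebra.smul_def]
    rcases eq_or_lt_of_le hk with h | h
    · subst h; rw [sub_self]; exact zero_mem _
    · exact sub_mem (Submodule.smul_mem _ _ (grK_mem h hy)) (Submodule.smul_mem _ _ (grK_mem h hy))
  | zero => simp
  | add u v _ _ hu hv => rw [map_add, smul_add, add_sub_add_comm]; exact add_mem hu hv
  | smul c u _ hu => rw [map_smul, smul_comm, ← smul_sub]; exact Submodule.smul_mem _ _ hu

include hK hd in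
/-- An eigenvector in degrees `≥ a` whose eigenvalue is none of those `j^k`, `k ≥ a`, vanishes. -/
theorem eigen_eq_zero (j : ℕ) {a : ℕ} {g : KGr.Gr P} (hg : g ∈ W P a) {μ : ℚ}
    (hμ : R hK hd j g = μ • g) (hne : ∀ k, a ≤ k → μ ≠ (j : ℚ) ^ k) : g = 0 := by
  have h : ∀ i, g ∈ W P (a + i) := fun i => by
    induction i with
    | zero => exact hg
    | succ i ih =>
      have h := R_sub_mem hK hd j ih
      rw [hμ, ← sub_smul] at h
      exact ((W P (a + i + 1)).smul_mem_iff (sub_ne_zero.2 (hne _ (Nat.le_add_right a i)))).1 h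
  have := h (d + 1)
  rwa [eq_bot hd (show d < a + (d + 1) by omega), Submodule.mem_bot] at this

/-! ### Classes of rational elements -/

open LaurentPolynomial in
theorem T_mem_rees (P : PosStructure K) (k : ℕ) : (T (k : ℤ) : LaurentPolynomial K) ∈ KGr.rees P := by
  rw [show (T (k : ℤ) : LaurentPolynomial K) = T 1 ^ k by rw [T_pow, mul_one]]
  exact Subring.pow_mem _ (Subring.subset_closure (Set.mem_insert _ _)) k

open LaurentPolynomial in
theorem grK_neg_degree (x : K) {m : ℤ} (hm : m < 0) : KGr.grK P m x = 0 := by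
  obtain ⟨k, hk⟩ : ∃ k : ℕ, -m = (k : ℤ) + 1 := ⟨(-m - 1).toNat, by omega⟩
  have hC : ∀ z : K, (C z : LaurentPolynomial K) ∈ KGr.rees P := fun z => by
    simpa using monomial_mem_rees (P := P) (n := 0) (x := z) (by rw [gammaFiltration_zero]; trivial)
  rw [KGr.grK]
  split_ifs with h
  · rw [Ideal.Quotient.eq_zero_iff_mem.2 ?_, TensorProduct.tmul_zero]
    refine Ideal.mem_span_singleton'.2
      ⟨⟨C (((h.choose : ℕ) : K) * x) * T (k : ℤ), Subring.mul_mem _ (hC _) (T_mem_rees P k)⟩, ?_⟩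
    ext1
    show C _ * T (k : ℤ) * T 1 = C _ * T (-m)
    rw [mul_T_assoc]
    exact congrArg (fun e => C _ * T e) hk.symm
  · rfl

open LaurentPolynomial in
theorem grK_nat_mul {m : ℕ} {x : K} {N : ℕ} (hN : 1 ≤ N) (h : (N : K) * x ∈ gammaFiltration P m) :
    (N : ℚ) • KGr.grK P (m : ℤ) x = KGr.grK P (m : ℤ) ((N : K) * x) := by
  have hex : ∃ M : ℕ, 1 ≤ M ∧ C ((M : K) * x) * T (-(m : ℤ)) ∈ KGr.rees P := ⟨N, hN, monomial_mem_rees h⟩
  rw [KGr.grK, dif_pos hex, grK_eq h]
  suffices key : ∀ (M : ℕ), 1 ≤ M → ∀ hMmem : C ((M : K) * x) * T (-(m : ℤ)) ∈ KGr.rees P,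
      (N : ℚ) • ((1 : ℚ) / (M : ℚ)) ⊗ₜ[ℤ] Ideal.Quotient.mk (Ideal.span {KGr.tGen P})
          (⟨C ((M : K) * x) * T (-(m : ℤ)), hMmem⟩ : KGr.rees P) =
        (1 : ℚ) ⊗ₜ[ℤ] Ideal.Quotient.mk (Ideal.span {KGr.tGen P})
          (⟨C ((N : K) * x) * T (-(m : ℤ)), monomial_mem_rees h⟩ : KGr.rees P) from
    key _ hex.choose_spec.1 hex.choose_spec.2
  intro M hM hMmem
  have hswap : (N : ℤ) • (⟨C ((M : K) * x) * T (-(m : ℤ)), hMmem⟩ : KGr.rees P) =
      (M : ℤ) • (⟨C ((N : K) * x) * T (-(m : ℤ)), monomial_mem_rees h⟩ : KGr.rees P) := by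
    ext1
    show (N : ℤ) • (C ((M : K) * x) * T (-(m : ℤ))) = (M : ℤ) • (C ((N : K) * x) * T (-(m : ℤ)))
    simp only [zsmul_eq_mul, Int.cast_natCast, map_mul, map_natCast]
    ring
  set A := Ideal.Quotient.mk (Ideal.span {KGr.tGen P}) ⟨C ((M : K) * x) * T (-(m : ℤ)), hMmem⟩
  set B := Ideal.Quotient.mk (Ideal.span {KGr.tGen P}) ⟨C ((N : K) * x) * T (-(m : ℤ)), monomial_mem_rees h⟩
  have hAB : (N : ℤ) • A = (M : ℤ) • B := by
    have := congrArg (Ideal.Quotient.mk (Ideal.span {KGr.tGen P})) hswap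
    rwa [map_zsmul, map_zsmul] at this
  show (N : ℚ) • ((1 : ℚ) / (M : ℚ)) ⊗ₜ[ℤ] A = (1 : ℚ) ⊗ₜ[ℤ] B
  have e1 : (N : ℚ) * (1 / (M : ℚ)) = (N : ℤ) • ((1 : ℚ) / (M : ℚ)) := by rw [zsmul_eq_mul, Int.cast_natCast]
  have e2 : (M : ℤ) • ((1 : ℚ) / (M : ℚ)) = 1 := by
    rw [zsmul_eq_mul, Int.cast_natCast,
      mul_one_div_cancel (Nat.cast_ne_zero.2 (show M ≠ 0 by omega) : (M : ℚ) ≠ 0)]
  rw [TensorProduct.smul_tmul', smul_eq_mul, e1, TensorProduct.smul_tmul, hAB, ← TensorProduct.smul_tmul, e2]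

end Groth.Agent.H28.GrOps

end
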