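import Groth.Agent.H28.RegTwist
import Groth.Agent.H28.PushLocFree

/-!
# Direct images of high twists of locally free modules are locally free
-/

set_option linter.style.haveILetI false
set_option backward.isDefEq.respectTransparency false
set_option backward.isDefEq.respectTransparency.types false

universe u

open CategoryTheory CategoryTheory.Limits AlgebraicGeometry TopologicalSpace

namespace Groth.Agent.H28.RegTwist

open Groth.Agent Groth.Agent.H28.KRRReg

variable {n : ℕ} {Y : Scheme.{u}}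

theorem isFinLocFree_twistOver (d : ℤ) : FlatMod.IsFinLocFree (Twist.twistOver n Y d) := fun x =>
  let ⟨U, hx, ⟨e⟩⟩ := isInvertible_twistOver (n := n) (T := Y) d x
  ⟨U, 1, hx, ⟨e ≪≫ (coproductUniqueIso fun _ : Fin 1 => Coh.structureModule (U : Scheme.{u})).symm⟩⟩

theorem isFinLocFree_twF (d : ℤ) {F : (KRR.PY n Y).Modules} (hF : FlatMod.IsFinLocFree F) :
    FlatMod.IsFinLocFree (KRR.twF n Y d F) :=
  KFlatLib.isFinLocFree_tensor (isFinLocFree_twistOver d) hF

theorem exists_push_twF [AlgebraicGeometry.IsNoetherian Y] {F : (KRR.PY n Y).Modules}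
    (hF : FlatMod.IsFinLocFree F) :
    ∃ m₀ : ℕ, ∀ m : ℕ, m₀ ≤ m →
      FlatMod.IsFinLocFree ((Scheme.Modules.pushforward (KRR.pr n Y)).obj (KRR.twF n Y (m : ℤ) F)) := by
  obtain ⟨m₀, hm⟩ := exists_isReg (PushLocFree.isCoh_of_isFinLocFree hF)
  exact ⟨m₀, fun m h => PushLocFree.isFinLocFree_push_of_isReg n Y _ (isFinLocFree_twF _ hF) (hm m h)⟩

end Groth.Agent.H28.RegTwist
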