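import Groth.Agent.H28.GenProj
import Groth.Agent.H28.PushK
import Groth.Agent.H28.RegTwistLF
import Groth.Agent.H28.KRRPushK
import Groth.Agent.H28.PullVB
import Groth.Agent.KFlatLib.Scheme.ProjModule
import Groth.Agent.H23.PullPush
import Groth.Agent.QCoh.AffineCohom
import Groth.Agent.SmoothImmX.Basic
import Groth.Agent.PnLight.Chart

/-!
# `p_K ∘ s_K = id` for a section of `P^n_Y`
-/

set_option autoImplicit false
set_option linter.style.haveILetI false
set_option linter.unusedSectionVars false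
set_option backward.isDefEq.respectTransparency false
set_option backward.isDefEq.respectTransparency.types false
set_option maxHeartbeats 1000000

universe v w u

open CategoryTheory CategoryTheory.Limits AlgebraicGeometry TopologicalSpace

noncomputable section

namespace Groth.Agent.H28.SectPush

open Groth.Agent Groth.Agent.H28.KRRTw Groth.Agent.H28.KRRReg Groth.Agent.H28.RegRes

variable {n : ℕ} {Y : Scheme.{u}} [AlgebraicGeometry.IsNoetherian Y]

theorem isClosedImmersion_section (s : Y ⟶ KRR.PY n Y) (hs : s ≫ KRR.pr n Y = 𝟙 Y) : IsClosedImmersion s := by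
  haveI : IsProper (KRR.pr n Y) := PushK.isProper_pr
  haveI : IsClosedImmersion (s ≫ KRR.pr n Y) := by rw [hs]; infer_instance
  exact IsClosedImmersion.of_comp s (KRR.pr n Y)

theorem isRegular_section (s : Y ⟶ KRR.PY n Y) (hs : s ≫ KRR.pr n Y = 𝟙 Y) : Mor2.IsRegularClosedImmersion s := by
  haveI : SmoothOfRelativeDimension n (CohB1.ProjSpace.toSpec n (ULift.{u} ℤ)) :=
    PnLight.smoothOfRelativeDimension_toSpec n _
  haveI : Smooth (CohB1.ProjSpace.toSpec n (ULift.{u} ℤ)) := SmoothOfRelativeDimension.smooth n _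
  haveI : Smooth (KRR.pr n Y) := MorphismProperty.pullback_snd (P := @Smooth) _ _ inferInstance
  haveI := isClosedImmersion_section s hs
  exact SmoothImmX.regClosed_section (KRR.pr n Y) s hs

variable (s : Y ⟶ KRR.PY n Y) (hs : s ≫ KRR.pr n Y = 𝟙 Y) [IsClosedImmersion s]

include hs in
/-- Direct images of a section have no higher direct images. -/
theorem rz_push (G : Y.Modules) (hG : Coh.IsQCoh G) (i : ℕ) (hi : 1 ≤ i) :
    RKoszul.RZ (KRR.pr n Y) ((Scheme.Modules.pushforward s).obj G) i := by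
  haveI : IsProper (KRR.pr n Y) := PushK.isProper_pr
  refine RzCover.isZero_RpushAb_of_cover (f := KRR.pr n Y) (QCoh.isQCoh_pushforward s hG) Set.univ
    (fun y => ?_) (fun W _ q => ?_) i (by omega)
  · obtain ⟨_, ⟨W, hW, rfl⟩, hy, -⟩ := Y.isBasis_affineOpens.exists_subset_of_mem_open
      (show y ∈ (⊤ : Y.Opens) from trivial) (⊤ : Y.Opens).2
    exact ⟨⟨W, hW⟩, trivial, hy⟩
  let U : (KRR.PY n Y).Opens := KRR.pr n Y ⁻¹ᵁ W.1
  let ρ := (H23.PullPush.pushRestrict s U).app G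
  haveI : IsIso ρ := inferInstance
  refine QCoh.subsingleton_HH_of_iso (asIso ρ).symm _ ?_
  have hU : s ⁻¹ᵁ U = W.1 := by
    show s ⁻¹ᵁ (KRR.pr n Y ⁻¹ᵁ W.1) = W.1
    rw [← Scheme.Hom.comp_preimage, hs]
    rfl
  haveI : IsAffine (s ⁻¹ᵁ U).toScheme := by rw [hU]; exact W.2
  haveI : IsClosedImmersion (s ∣_ U) := IsZariskiLocalAtTarget.restrict ‹IsClosedImmersion s› U
  have hq : Coh.IsQCoh (G.restrict (s ⁻¹ᵁ U).ι) := QCoh.isQCoh_restrict _ hG
  obtain ⟨e⟩ := QCoh.HH_push_of_isAffineHom (s ∣_ U) hq (q + 1)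
  haveI := QCoh.subsingleton_HH_of_isAffine hq q
  exact e.symm.toEquiv.subsingleton

/-- Twists of direct images of a section. -/
theorem twF_push (F : Y.Modules) (d : ℤ) :
    Nonempty (KRR.twF n Y d ((Scheme.Modules.pushforward s).obj F) ≅ (Scheme.Modules.pushforward s).obj
      ((DCoh.tensorBi.obj F).obj ((Scheme.Modules.pullback s).obj (Twist.twistOver n Y d)))) := by
  haveI := KFlatLib.isIso_projMod_of_isClosedImmersion s F (Twist.twistOver n Y d)
  obtain ⟨c⟩ := H23.PicMul.comm (Twist.twistOver n Y d) ((Scheme.Modules.pushforward s).obj F)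
  exact ⟨c ≪≫ asIso (KFlatLib.projMod s F (Twist.twistOver n Y d))⟩

theorem lf_tensor_pull {F : Y.Modules} (hF : FlatMod.IsFinLocFree F) (d : ℤ) :
    FlatMod.IsFinLocFree ((DCoh.tensorBi.obj F).obj ((Scheme.Modules.pullback s).obj (Twist.twistOver n Y d))) :=
  KFlatLib.isFinLocFree_tensor hF (KFlatLib.isFinLocFree_pullback s (RegTwist.isFinLocFree_twistOver d))

include hs in
theorem isReg_push {F : Y.Modules} (hF : FlatMod.IsFinLocFree F) :
    KRR.IsRegSheaf n Y ((Scheme.Modules.pushforward s).obj F) := fun i hi => by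
  obtain ⟨e⟩ := twF_push s F (-(i : ℤ))
  exact RKoszul.rz_of_iso (KRR.pr n Y) e.symm i
    (rz_push s hs _ (QCoh.isQCoh_of_isFinLocFree (lf_tensor_pull s hF _)) i hi)

include hs in
theorem lf_push_twF {F : Y.Modules} (hF : FlatMod.IsFinLocFree F) (d : ℤ) :
    FlatMod.IsFinLocFree ((Scheme.Modules.pushforward (KRR.pr n Y)).obj
      (KRR.twF n Y d ((Scheme.Modules.pushforward s).obj F))) := by
  obtain ⟨e⟩ := twF_push s F d
  refine H23.PullPush.isFinLocFree_of_iso (((Scheme.Modules.pushforward (KRR.pr n Y)).mapIso e ≪≫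
    (Scheme.Modules.pushforwardComp s (KRR.pr n Y)).app _ ≪≫ (Scheme.Modules.pushforwardCongr hs).app _ ≪≫
    (Scheme.Modules.pushforwardId Y).app _).symm) (lf_tensor_pull s hF d)

omit [IsClosedImmersion s] in
/-- The syzygies keep locally free twisted direct images. -/
theorem lf_push_W {F : (KRR.PY n Y).Modules} (hq : Coh.IsQCoh F) (hr : KRR.IsRegSheaf n Y F)
    (h : ∀ d : ℕ, FlatMod.IsFinLocFree ((Scheme.Modules.pushforward (KRR.pr n Y)).obj (KRR.twF n Y (d : ℤ) F))) :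
    ∀ k d : ℕ, FlatMod.IsFinLocFree ((Scheme.Modules.pushforward (KRR.pr n Y)).obj (KRR.twF n Y (d : ℤ) (W F k))) := by
  intro k
  induction k with
  | zero => exact h
  | succ k ih =>
    intro d
    obtain ⟨hWq, hWr⟩ := W_spec hq hr k
    let G := (Scheme.Modules.pushforward (KRR.pr n Y)).obj (W F k)
    have hG : FlatMod.IsFinLocFree G := by
      refine H23.PullPush.isFinLocFree_of_iso ((Scheme.Modules.pushforward (KRR.pr n Y)).mapIso ?_) (ih 0)
      exact (twF_zero (W F k)).some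
    have hP : FlatMod.IsFinLocFree ((Scheme.Modules.pullback (KRR.pr n Y)).obj G) := KFlatLib.isFinLocFree_pullback _ hG
    have hS := shortExact_tw (shortExact_eps hWq hWr) ((d + 1 : ℕ) : ℤ)
    obtain ⟨e⟩ := twF_twF (n := n) (T := Y) (d : ℤ) 1 ((d + 1 : ℕ) : ℤ) (by push_cast; ring) (kernel (eps (W F k)))
    have e1 : KRR.twF n Y (d : ℤ) (W F (k + 1)) ≅ (Tw n Y ((d + 1 : ℕ) : ℤ)).obj (kernel (eps (W F k))) := e
    have h1 : RKoszul.RZ (KRR.pr n Y) ((Tw n Y ((d + 1 : ℕ) : ℤ)).obj (kernel (eps (W F k)))) 1 :=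
      RKoszul.rz_of_iso (KRR.pr n Y) e1 1 (rz_self _ (isReg_twF _ (W_spec hq hr (k + 1)).2 d) 1 le_rfl)
    have hSp := GenPush.shortExact_push (KRR.pr n Y) hS h1
    refine H23.PullPush.isFinLocFree_of_iso ((Scheme.Modules.pushforward (KRR.pr n Y)).mapIso e1.symm)
      (GenPush.lf_X₁ hSp ?_ (ih (d + 1)))
    exact PushLocFree.isFinLocFree_push_of_isReg n Y _ (RegTwist.isFinLocFree_twF _ hP)
      (isReg_twF _ (PnBox.isReg_pullback _ (QCoh.isQCoh_of_isFinLocFree hG)) (d + 1))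

include hs in
/-- The resolution of `s_* F`. -/
theorem exists_res {F : Y.Modules} (hF : FlatMod.IsFinLocFree F) :
    ∃ (Tm : ℕ → Y.Modules) (L : ChainComplex (KRR.PY n Y).Modules ℕ)
      (π : L ⟶ (ChainComplex.single₀ (KRR.PY n Y).Modules).obj ((Scheme.Modules.pushforward s).obj F)),
      KRR.IsLFRes ((Scheme.Modules.pushforward s).obj F) n L π ∧ (∀ i, FlatMod.IsFinLocFree (Tm i)) ∧
      Nonempty (Tm 0 ≅ F) ∧
      ∀ i, Nonempty (L.X i ≅ KRR.twF n Y (-(i : ℤ)) ((Scheme.Modules.pullback (KRR.pr n Y)).obj (Tm i))) := by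
  let F' := (Scheme.Modules.pushforward s).obj F
  have hq : Coh.IsQCoh F' := QCoh.isQCoh_pushforward s (QCoh.isQCoh_of_isFinLocFree hF)
  have hr : KRR.IsRegSheaf n Y F' := isReg_push s hs hF
  have hlf := lf_push_W hq hr fun d => lf_push_twF s hs hF (d : ℤ)
  have hT : ∀ k, FlatMod.IsFinLocFree ((Scheme.Modules.pushforward (KRR.pr n Y)).obj (W F' k)) := fun k =>
    H23.PullPush.isFinLocFree_of_iso ((Scheme.Modules.pushforward (KRR.pr n Y)).mapIso (twF_zero (W F' k)).some) (hlf k 0)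
  let Z := fun k : ℕ => (Tw n Y (-(k : ℤ))).obj (W F' k)
  let L := fun k : ℕ => (Tw n Y (-(k : ℤ))).obj
    ((Scheme.Modules.pullback (KRR.pr n Y)).obj ((Scheme.Modules.pushforward (KRR.pr n Y)).obj (W F' k)))
  let g : ∀ k, L k ⟶ Z k := fun k => (Tw n Y (-(k : ℤ))).map (eps (W F' k))
  have hS : ∀ k, (ShortComplex.mk (fk F' k : Z (k + 1) ⟶ L k) (g k) (fk_comp F' k)).ShortExact := fun k => by
    refine ShortComplex.shortExact_of_iso ?_
      (shortExact_tw (shortExact_eps (W_spec hq hr k).1 (W_spec hq hr k).2) (-(k : ℤ)))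
    exact ShortComplex.isoMk (eK F' k).symm (Iso.refl _) (Iso.refl _)
      (((Iso.inv_hom_id_assoc (eK F' k) _)).trans (Category.comp_id _).symm)
      ((Category.id_comp _).trans (Category.comp_id _).symm)
  let e0 : Z 0 ≅ F' := (twF_zero F').some
  haveI := Splice.quasiIso_aug Z L (fk F') g (fk_comp F') hS
  refine ⟨fun k => (Scheme.Modules.pushforward (KRR.pr n Y)).obj (W F' k), Splice.cx Z L (fk F') g (fk_comp F'),
    Splice.aug Z L (fk F') g (fk_comp F') ≫ (ChainComplex.single₀ _).map e0.hom,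
    ⟨fun i => ?_, fun i hi => ?_, inferInstance⟩, hT, ⟨?_⟩, fun i => ⟨Iso.refl _⟩⟩
  · exact RegTwist.isFinLocFree_twF _ (KFlatLib.isFinLocFree_pullback _ (hT i))
  · obtain ⟨m, rfl⟩ := Nat.exists_eq_add_of_le (show n + 1 ≤ i by omega)
    exact (Tw n Y _).map_isZero ((Scheme.Modules.pullback (KRR.pr n Y)).map_isZero
      ((Scheme.Modules.pushforward (KRR.pr n Y)).map_isZero (isZero_W hq hr m)))
  · exact (Scheme.Modules.pushforwardComp s (KRR.pr n Y)).app F ≪≫ (Scheme.Modules.pushforwardCongr hs).app F ≪≫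
      (Scheme.Modules.pushforwardId Y).app F

include hs in
/-- `p_K ∘ s_K = id`. -/
theorem comp_eq_id {KP : Type v} [CommRing KP] [LambdaRing.LambdaOps KP] {PP : LambdaRing.PosStructure KP}
    {φP : SGA6.Kvb (KRR.PY n Y) →+ KP} (hKP : KRR.IsModel (KRR.PY n Y) KP PP φP)
    {KY : Type v} [CommRing KY] [LambdaRing.LambdaOps KY] {PY : LambdaRing.PosStructure KY}
    {φY : SGA6.Kvb Y →+ KY} (hKY : KRR.IsModel Y KY PY φY)
    (gs : KY →+ KP) (hgs : KRR.IsPushCl s φY φP gs) (gp : KP →+ KY) (hgp : KRR.IsPushPr n Y φP φY gp) :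
    gp.comp gs = AddMonoidHom.id KY := by
  haveI : IsProper (KRR.pr n Y) := PushK.isProper_pr
  haveI : AlgebraicGeometry.IsNoetherian (KRR.PY n Y) := by
    haveI := LocallyOfFiniteType.isLocallyNoetherian (KRR.pr n Y)
    haveI := QuasiCompact.compactSpace_of_compactSpace (KRR.pr n Y)
    exact {}
  obtain ⟨q, hq, -⟩ := PullVB.existsUnique_isPull (KRR.pr n Y) φP φY hKY.bijective
  refine AddMonoidHom.ext fun y => ?_
  obtain ⟨y, rfl⟩ := hKY.bijective.2 y
  refine DFunLike.congr_fun (f := (gp.comp gs).comp φY) (g := φY) (KZ.K0sub_hom_ext _ fun F hF => ?_) y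
  obtain ⟨Tm, L, π, hL, hT, ⟨e0⟩, hiso⟩ := exists_res s hs hF
  show gp (gs (φY (KRR.cl Y F))) = φY (KRR.cl Y F)
  rw [hgs F hF n L π hL, map_sum]
  have hterm : ∀ k, gp (φP (KRR.cl (KRR.PY n Y) (L.X k))) =
      gp (φP (KRR.cl (KRR.PY n Y) (KRR.twF n Y (-(k : ℤ)) (Coh.structureModule (KRR.PY n Y))))) * φY (KRR.cl Y (Tm k)) := by
    intro k
    obtain ⟨e⟩ := hiso k
    have hO := PushK.isFinLocFree_structure (KRR.PY n Y)
    have hP : FlatMod.IsFinLocFree ((Scheme.Modules.pullback (KRR.pr n Y)).obj (Tm k)) :=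
      KFlatLib.isFinLocFree_pullback _ (hT k)
    have hT' := RegTwist.isFinLocFree_twF (n := n) (Y := Y) (-(k : ℤ)) hO
    obtain ⟨a⟩ := H23.PicMul.unit (Twist.twistOver n Y (-(k : ℤ)))
    have e' : L.X k ≅ (DCoh.tensorBi.obj (KRR.twF n Y (-(k : ℤ)) (Coh.structureModule (KRR.PY n Y)))).obj
        ((Scheme.Modules.pullback (KRR.pr n Y)).obj (Tm k)) :=
      e ≪≫ PicGrp.tensorModIso a.symm (Iso.refl ((Scheme.Modules.pullback (KRR.pr n Y)).obj (Tm k)))
    rw [PushK.cl_iso e' (hL.finLocFree k) (KFlatLib.isFinLocFree_tensor hT' hP),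
      ← hKP.map_mul _ _ hT' hP, ← hq (Tm k) (hT k),
      GenProj.push_mul_pull φP hKP.bijective.2 φY hKY.bijective.2
        (fun E F hE hF => hKP.map_mul E F hE hF) (fun E F hE hF => hKY.map_mul E F hE hF) gp hgp q hq]
  rw [Finset.sum_range_succ', Finset.sum_eq_zero (fun k hk => ?_), zero_add]
  · rw [map_zsmul, hterm, pow_zero, one_smul]
    have h0 : gp (φP (KRR.cl (KRR.PY n Y) (KRR.twF n Y (-((0 : ℕ) : ℤ)) (Coh.structureModule (KRR.PY n Y))))) = 1 := by
      have h := PushK.push_twist hgp hKY.map_one 0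
      rw [Nat.add_zero, Nat.choose_self, Nat.cast_one] at h
      exact h
    rw [h0, one_mul, PushK.cl_iso e0 (hT 0) hF]
  · rw [map_zsmul, hterm, PushK.push_twist_neg hgp hKY.map_one (k + 1) (by omega)
      (by have := Finset.mem_range.1 hk; omega), zero_mul, smul_zero]

end Groth.Agent.H28.SectPush
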