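import Groth.Agent.H28.KPn
import Groth.Agent.H28.KRRPushK
import Groth.Agent.H28.PushK
import Groth.Agent.H28.PushComp
import Groth.Agent.H28.QProjEnough
import Groth.Agent.CurveCohLib.Proper
import Groth.Agent.QCoh.CechStd
import Groth.Agent.QCoh.GodHH
import Groth.Agent.RelPC17.HighVanish
import Groth.Agent.PnCoh.PushNat
import Groth.Agent.H28.SectPush
import Groth.Agent.ProjPt.Poly

/-!
# Euler characteristics and push-forward to a point
-/

set_option autoImplicit false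
set_option linter.style.haveILetI false
set_option linter.unusedSectionVars false
set_option backward.isDefEq.respectTransparency false
set_option backward.isDefEq.respectTransparency.types false

universe v u

open CategoryTheory CategoryTheory.Limits AlgebraicGeometry TopologicalSpace Opposite
attribute [local instance] HasDerivedCategory.standard

noncomputable section

namespace Groth.Agent.H28.HRR

open Groth.Agent Groth.Agent.KZ.LFRes

section Chi

variable {k : Type u} [Field k] {X : Scheme.{u}} [X.Over (Spec (CommRingCat.of k))]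
  [IsProper (X ↘ Spec (CommRingCat.of k))]

variable (k X) in
/-- The Euler characteristic on `K₀` of a class of coherent modules. -/
theorem exists_chi (Q : ObjectProperty X.Modules) (hQ : ∀ M, Q M → Coh.IsCoh M) :
    ∃ χ : KZero.K0sub Q →+ ℤ, ∀ M, Q M → χ (KZero.clSub Q M) = Curv2.euler k X M :=
  KZ.exists_liftSub Q (fun M => Curv2.euler k X M) fun _ hS h₁ h₂ h₃ =>
    CurveCohLib.euler_additive hS (hQ _ h₁) (hQ _ h₂) (hQ _ h₃)

/-- The sum up to the dimension is the Euler characteristic. -/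
theorem euler_eq_range {E : X.Modules} (hE : Coh.IsQCoh E) {d : ℕ}
    (hd : topologicalKrullDim ↥X ≤ (d : WithBot ℕ∞)) :
    Curv2.euler k X E = ∑ i ∈ Finset.range (d + 1), (-1 : ℤ) ^ i * (Module.finrank k (Coh.HH X E i) : ℤ) := by
  refine CurveCohLib.euler_eq_sum fun i hi => ?_
  refine RelPC17.HighVanish.subsingleton_HH_of_fibre_dim (X ↘ Spec (CommRingCat.of k)) d (fun s => ?_) hE i (by omega)
  exact ((Scheme.Hom.fiberι (X ↘ Spec (CommRingCat.of k)) s).isEmbedding.isInducing.topologicalKrullDim_le).trans hd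

end Chi

variable {k : Type u} [Field k]

local notation "Pt" => Spec (CommRingCat.of k)

/-- The point has Euler characteristic one. -/
theorem euler_point :
    @Curv2.euler k _ Pt ⟨𝟙 _⟩ (Coh.structureModule Pt) = 1 := by
  letI : (Pt).Over Pt := ⟨𝟙 _⟩
  haveI : IsProper (Pt ↘ Pt) := inferInstanceAs (IsProper (𝟙 Pt))
  haveI : Subsingleton ↥(Pt) := inferInstanceAs (Subsingleton (PrimeSpectrum k))
  haveI := CurveCohLib.isNoetherian_of_proper (k := k) (X := Pt)
  rw [CurveCohLib.euler_eq_finrank_zero (PushLocFree.isCoh_of_isFinLocFree KvbLam.lf_O)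
    fun x _ => by rw [show ({x} : Set ↥(Pt)) = Set.univ from Set.eq_univ_of_forall fun z => Subsingleton.elim z x]; exact isClosed_univ]
  let ρ : k →+* Coh.Γtop (Pt) := Coh.toGlobal (A := k) (𝟙 _)
  let M := Coh.structureModule (Pt)
  letI := QCoh.secModule ρ M ⊤
  letI := QCoh.modHH ρ M 0
  let e : k ≃+ Γ(M, ⊤) := (Scheme.ΓSpecIso (CommRingCat.of k)).symm.commRingCatIsoToRingEquiv.toAddEquiv
  let l : k ≃ₗ[k] Γ(M, ⊤) := AddEquiv.toLinearEquiv e fun a x => by
    show (Scheme.ΓSpecIso (CommRingCat.of k)).inv (a * x) =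
      ((Pt).presheaf.map (homOfLE (le_top : (⊤ : (Pt).Opens) ≤ ⊤)).op).hom
        (ρ a) * (Scheme.ΓSpecIso (CommRingCat.of k)).inv x
    rw [map_mul, show (homOfLE (le_top : (⊤ : (Pt).Opens) ≤ ⊤)).op = 𝟙 (op _) from rfl, (Pt).presheaf.map_id]
    rfl
  rw [show Module.finrank k (Coh.HH Pt M 0) = 1 from ?_]
  · rfl
  rw [← (l.trans (QCoh.secH ρ M)).finrank_eq, Module.finrank_self]

theorem aug_eq_euler {KY : Type v} [CommRing KY]
    [LambdaRing.LambdaOps KY] {PY : LambdaRing.PosStructure KY} {φY : SGA6.Kvb Pt →+ KY}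
    (hKY : KRR.IsModel Pt KY PY φY) {G : (Pt).Modules} (hG : FlatMod.IsFinLocFree G) :
    PY.aug (φY (KRR.cl Pt G)) = @Curv2.euler k _ Pt ⟨𝟙 _⟩ G := by
  letI : (Pt).Over Pt := ⟨𝟙 _⟩
  haveI : IsProper (Pt ↘ Pt) := inferInstanceAs (IsProper (𝟙 Pt))
  obtain ⟨χ, hχ⟩ := exists_chi k Pt (KRR.vbP Pt) fun _ h => PushLocFree.isCoh_of_isFinLocFree h
  obtain ⟨r, ⟨e⟩⟩ := KPn.exists_iso_free k (PushLocFree.isCoh_of_isFinLocFree hG)
  have hc : KRR.cl Pt G = r • KRR.cl Pt (Coh.structureModule Pt) :=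
    (GenPush.cl_iso e.symm hG (KvbAmple.lf_free r)).trans (KvbAmple.cl_free r)
  have h1 : Curv2.euler k Pt (Coh.structureModule Pt) = 1 := euler_point
  rw [← hχ G hG, show KZero.clSub (KRR.vbP Pt) G = r • KRR.cl Pt (Coh.structureModule Pt) from hc, hc, map_nsmul,
    map_nsmul, map_nsmul, hKY.map_one, map_one]
  rw [show χ (KRR.cl Pt (Coh.structureModule Pt)) = _ from hχ _ KvbLam.lf_O, h1]

variable {n : ℕ}

theorem euler_reg [(Pt).Over Pt] (hid : (Pt ↘ Pt) = 𝟙 Pt) [(KRR.PY n Pt).Over Pt]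
    (hP : (KRR.PY n Pt) ↘ Pt = KRR.pr n Pt) {F : (KRR.PY n Pt).Modules} (hF : FlatMod.IsFinLocFree F)
    (hR : KRR.IsRegSheaf n Pt F) :
    Curv2.euler k (KRR.PY n Pt) F =
      Curv2.euler k Pt ((Scheme.Modules.pushforward (KRR.pr n Pt)).obj F) := by
  haveI : IsProper (KRR.pr n Pt) := PushK.isProper_pr
  refine finsum_congr fun q => ?_
  cases q with
  | zero =>
    obtain ⟨e⟩ := PnCoh.nonempty_linearEquiv_of_natPushEquiv k (KRR.pr n Pt) (by rw [hid, hP, Category.comp_id]) F 0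
      ⟨PnCoh.pushH0 _ _, fun φ x => PnCoh.pushH0_natural _ φ x⟩
    rw [e.finrank_eq]
  | succ q =>
    haveI : Subsingleton (Coh.HH Pt ((Scheme.Modules.pushforward (KRR.pr n Pt)).obj F) (q + 1)) :=
      QCoh.subsingleton_HH_of_isAffine (PushLocFree.isCoh_of_isFinLocFree
        (PushLocFree.isFinLocFree_push_of_isReg n Pt F hF hR)).1 q
    haveI : Subsingleton (Coh.HH (KRR.PY n Pt) F (q + 1)) := by
      obtain ⟨e⟩ := QCoh.nonempty_HH_equiv_sections (KRR.pr n Pt) (PushLocFree.isCoh_of_isFinLocFree hF).1 (q + 1)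
      have hz := KRRTw.rz_self F hR (q + 1) (Nat.le_add_left 1 q)
      haveI : Subsingleton ↑(((Coh.RpushAb (KRR.pr n Pt) (q + 1)).obj (Coh.toAb F)).obj.obj (op ⊤)) :=
        AddCommGrpCat.subsingleton_of_isZero (Functor.map_isZero
          (sheafToPresheaf (Opens.grothendieckTopology (Pt)) AddCommGrpCat.{u} ⋙
            (evaluation _ _).obj (op (⊤ : (Pt).Opens))) hz)
      exact e.toEquiv.subsingleton
    simp [Module.finrank_zero_of_subsingleton]

/-- The push-forward to a point is the Euler characteristic. -/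
theorem aug_push {X : Scheme.{u}} [X.Over Pt] (i : X ⟶ KRR.PY n Pt) (hi : Mor2.IsRegularClosedImmersion i)
    (hfac : i ≫ KRR.pr n Pt = X ↘ Pt) {KX : Type v} [CommRing KX] (φX : SGA6.Kvb X →+ KX)
    {KP : Type v} [CommRing KP] {φP : SGA6.Kvb (KRR.PY n Pt) →+ KP}
    {KY : Type v} [CommRing KY] [LambdaRing.LambdaOps KY] {PY : LambdaRing.PosStructure KY}
    {φY : SGA6.Kvb Pt →+ KY} (hKY : KRR.IsModel Pt KY PY φY)
    {a : KX →+ KP} (ha : KRR.IsPushCl i φX φP a) {b : KP →+ KY} (hb : KRR.IsPushPr n Pt φP φY b)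
    {E : X.Modules} (hE : FlatMod.IsFinLocFree E) :
    PY.aug (b (a (φX (KRR.cl X E)))) = Curv2.euler k X E := by
  letI : (Pt).Over Pt := ⟨𝟙 _⟩
  letI : (KRR.PY n Pt).Over Pt := ⟨KRR.pr n Pt⟩
  haveI := hi.1
  haveI : IsProper ((KRR.PY n Pt) ↘ Pt) := PushK.isProper_pr
  haveI := QProjEnough.isNoetherian_PY n Pt
  haveI := PushComp.isNoetherian_of_closed i
  have hY : KRR.HasEnoughLocFree (KRR.PY n Pt) := QProjEnough.enough_PY n Pt (QProjEnough.enough_affine Pt)
  obtain ⟨χV, hχV⟩ := exists_chi k (KRR.PY n Pt) (KRR.vbP _) fun _ h => PushLocFree.isCoh_of_isFinLocFree h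
  obtain ⟨χ₁, hχ₁⟩ := exists_chi k (KRR.PY n Pt) (P₁ _) fun _ h => h.1
  obtain ⟨ι, hι⟩ := KZ.exists_liftSub (KRegK0.RP n Pt) (fun E => KRR.cl (KRR.PY n Pt) E) fun S hS h₁ h₂ h₃ =>
    KZ.clSub_ses (KRR.vbP (KRR.PY n Pt)) hS h₁.1 h₂.1 h₃.1
  have hbι := KRegK0.bijective_of_exists_reg PushK.exists_R ι hι
  have hχb : ∀ z : SGA6.Kvb (KRR.PY n Pt), PY.aug (b (φP z)) = χV z := by
    intro z
    obtain ⟨w, rfl⟩ := hbι.2 z
    refine DFunLike.congr_fun (f := (PY.aug.toAddMonoidHom.comp (b.comp φP)).comp ι) (g := χV.comp ι)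
      (KZ.K0sub_hom_ext _ fun F hF => ?_) w
    show PY.aug (b (φP (ι _))) = χV (ι _)
    rw [hι F hF, hb F hF.1 hF.2, aug_eq_euler hKY (PushLocFree.isFinLocFree_push_of_isReg n Pt F hF.1 hF.2),
      hχV F hF.1, euler_reg rfl rfl hF.1 hF.2]
  have hp₁ := KRRPushK.p₁_push i hY hi hE
  obtain ⟨N, L, π, hL⟩ := hp₁.2
  rw [ha E hE N L π hL, map_sum b, map_sum PY.aug]
  calc _ = ∑ q ∈ Finset.range (N + 1), (-1 : ℤ) ^ q • χ₁ (KZero.clSub (P₁ _) (L.X q)) := by
        refine Finset.sum_congr rfl fun q _ => ?_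
        rw [map_zsmul, map_zsmul, hχb, hχV _ (hL.finLocFree q), hχ₁ _ ((resSetup hY).le _ (hL.finLocFree q))]
    _ = χ₁ (KZero.clSub (P₁ _) ((Scheme.Modules.pushforward i).obj E)) := by
        rw [KRRPushK.clSub_resolution hY hL, map_sum]
        exact Finset.sum_congr rfl fun q _ => (map_zsmul χ₁ _ _).symm
    _ = _ := by
        rw [hχ₁ _ hp₁]
        refine finsum_congr fun q => ?_
        obtain ⟨e⟩ := PnCoh.exists_linearEquiv_push k i hfac (PushLocFree.isCoh_of_isFinLocFree hE).1 q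
        rw [e.finrank_eq]

end Groth.Agent.H28.HRR

end

noncomputable section

namespace Groth.Agent.H28.HRR

/-- A scheme is quasi-projective over itself. -/
theorem isQProjOver_id (S : Scheme.{u}) [AlgebraicGeometry.IsNoetherian S] : KRR.IsQProjOver (𝟙 S) := by
  let f : MvPolynomial (Fin (0 + 1)) (ULift.{u} ℤ) →+* Γ(S, ⊤) :=
    MvPolynomial.eval₂Hom ((Int.castRingHom Γ(S, ⊤)).comp ULift.ringEquiv.toRingHom) fun _ => 1
  have hu : IsUnit (f (MvPolynomial.X (0 : Fin (0 + 1)))) := by simp [f]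
  let σ : S ⟶ CohB1.ProjSpace 0 (ULift.{u} ℤ) :=
    ProjPt.pt (CohB1.polyGrading 0 (ULift.{u} ℤ)) f (ProjPt.X_mem (n := 0) (R := ULift.{u} ℤ) 0) one_pos hu
  let s : S ⟶ KRR.PY 0 S := pullback.lift σ (𝟙 S) (specULiftZIsTerminal.hom_ext _ _)
  have hs : s ≫ KRR.pr 0 S = 𝟙 S := pullback.lift_snd _ _ _
  haveI := SectPush.isClosedImmersion_section s hs
  exact ⟨0, s, inferInstance, hs⟩

end Groth.Agent.H28.HRR

end
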