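import Groth.Agent.H28.HorizFibre
import Groth.Agent.GrpSchLib.SmoothRegular
import Groth.Agent.DimOneAmple.Exists
import Groth.Agent.SchTop.Closed
import Groth.Agent.TameKey.DvrNorm
import Groth.Agent.FibDim.RelDim
import Mathlib.RingTheory.DiscreteValuationRing.TFAE

/-!
# Vertical divisors of `X × 𝔸¹` are rationally equivalent to horizontal ones
-/

set_option autoImplicit false
set_option linter.style.haveILetI false
set_option linter.unusedSectionVars false
set_option backward.isDefEq.respectTransparency false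
set_option backward.isDefEq.respectTransparency.types false

universe u

open CategoryTheory CategoryTheory.Limits AlgebraicGeometry TopologicalSpace Polynomial IsLocalRing

noncomputable section

namespace Groth.Agent.H28.Horiz

variable {k : Type u} [Field k] {X P : Scheme.{u}} {f : X ⟶ Spec (CommRingCat.of k)}
  {p₁ : P ⟶ X} {p₂ : P ⟶ Spec (CommRingCat.of (Polynomial k))}
  (hP : IsPullback p₁ p₂ f (Spec.map (CommRingCat.ofHom (Polynomial.C : k →+* Polynomial k))))

include hP in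
theorem flat_fst : Flat p₁ := by
  haveI : Flat (Spec.map (CommRingCat.ofHom (Polynomial.C : k →+* Polynomial k))) := by
    rw [HasRingHomProperty.Spec_iff (P := @Flat), CommRingCat.hom_ofHom, ← Polynomial.algebraMap_eq,
      RingHom.flat_algebraMap_iff]
    infer_instance
  exact MorphismProperty.of_isPullback (P := @Flat) hP.flip inferInstance

include hP in
/-- The generic point of `X × 𝔸¹`. -/
theorem ptGen_genericPoint_specializes [IrreducibleSpace X] (w : P) : ptGen hP (genericPoint X) ⤳ w := by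
  haveI := flat_fst hP
  obtain ⟨u, hu, hpu⟩ := FibDim.lifts_of_flat_stalk p₁ (x := w) (z := w) (Flat.stalkMap p₁ w) specializes_rfl
    (t := genericPoint X) ((genericPoint_spec X).specializes trivial)
  rw [← hpu]
  exact (ptGen_specializes hP u).trans hu

variable [IsLocallyNoetherian P] {δ : P → ℤ} {ξ : P} (hgen : ∀ w : P, ξ ⤳ w)

theorem map_maximalIdeal_of_surj {A B : Type u} [CommRing A] [IsLocalRing A] [CommRing B] [IsLocalRing B]
    (g : A →+* B) (hg : Function.Surjective g) : (maximalIdeal A).map g = maximalIdeal B := by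
  haveI : IsLocalHom g := IsLocalHom.of_surjective g hg
  refine le_antisymm (Ideal.map_le_iff_le_comap.2 fun a ha => ?_) fun b hb => ?_
  · simpa [mem_maximalIdeal] using ha
  · obtain ⟨a, rfl⟩ := hg b
    refine Ideal.mem_map_of_mem g ?_
    rw [mem_maximalIdeal, mem_nonunits_iff] at hb ⊢
    exact fun h => hb (h.map g)

/-- The image of `T` in the function field. -/
def tau (p₂ : P ⟶ Spec (CommRingCat.of (Polynomial k))) (ξ : P) : P.residueField ξ :=
  P.evaluation ⊤ ξ trivial (tt p₂)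

/-- `β` is regular at `y`. -/
def InR (p₁ : P ⟶ X) {ξ : P} (hgen : ∀ w : P, ξ ⤳ w) (z : P) (β : X.residueField (p₁ ξ)) : Prop :=
  ∃ a : X.presheaf.stalk (p₁ z), Cyc.specMap (p₁ z) (p₁ ξ) ((hgen z).map p₁.continuous) a = β

theorem specMap_stalkMap (z : P) (h : ξ ⤳ z) (a : X.presheaf.stalk (p₁ z)) :
    Cyc.specMap z ξ h (p₁.stalkMap z a) =
      p₁.residueFieldMap ξ (Cyc.specMap (p₁ z) (p₁ ξ) (h.map p₁.continuous) a) := by
  show P.residue ξ (P.presheaf.stalkSpecializes h (p₁.stalkMap z a)) =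
    p₁.residueFieldMap ξ (X.residue (p₁ ξ) (X.presheaf.stalkSpecializes (h.map p₁.continuous) a))
  rw [← Scheme.Hom.stalkSpecializes_stalkMap_apply]
  exact (congrArg (fun ρ => ρ.hom (X.presheaf.stalkSpecializes (h.map p₁.continuous) a))
    (Scheme.residue_residueFieldMap p₁ ξ)).symm

theorem specMap_tt (z : P) (h : ξ ⤳ z) : Cyc.specMap z ξ h (P.presheaf.germ ⊤ z trivial (tt p₂)) = tau p₂ ξ :=
  CycLib.specMap_germ h ⊤ trivial (tt p₂)

include hP in
theorem tau_ne (hξ : ξ = ptGen hP (p₁ ξ)) (β : X.residueField (p₁ ξ)) : tau p₂ ξ - p₁.residueFieldMap ξ β ≠ 0 := by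
  obtain ⟨a, rfl⟩ := X.residue_surjective (p₁ ξ) β
  have h : p₁.residueFieldMap ξ (X.residue (p₁ ξ) a) = P.residue ξ (p₁.stalkMap ξ a) :=
    congrArg (fun ρ => ρ.hom a) (Scheme.residue_residueFieldMap p₁ ξ)
  have ht : tau p₂ ξ = P.residue ξ (P.presheaf.germ ⊤ ξ trivial (tt p₂)) := rfl
  rw [h, ht, ← map_sub]
  exact ((isUnit_tt_sub hP ξ hξ a).map (P.residue ξ).hom).ne_zero

variable (z : P) (hy : IsClosed ({p₁ z} : Set X)) (hz : z = ptGen hP (p₁ z)) (hyη : p₁ z ≠ p₁ ξ)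
  (π : X.presheaf.stalk (p₁ z)) (hπ : maximalIdeal (X.presheaf.stalk (p₁ z)) = Ideal.span {π})

include hP hy hz hπ in
theorem maximalIdeal_locQuot (h : ξ ⤳ z) : maximalIdeal (Cyc.LocQuot z ξ h) =
    Ideal.span {Ideal.Quotient.mk _ (p₁.stalkMap z π)} := by
  have hle : maximalIdeal (P.presheaf.stalk z) ≤ Ideal.span {p₁.stalkMap z π} := by
    refine (maximalIdeal_ptGen hP z hy hz).trans ?_
    rw [hπ, Ideal.map_span, Set.image_singleton]
  have hge : Ideal.span {p₁.stalkMap z π} ≤ maximalIdeal (P.presheaf.stalk z) := by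
    rw [Ideal.span_singleton_le_iff_mem, mem_maximalIdeal, mem_nonunits_iff, isUnit_map_iff]
    rw [← mem_nonunits_iff, ← mem_maximalIdeal, hπ]
    exact Ideal.mem_span_singleton_self π
  rw [← map_maximalIdeal_of_surj _ Ideal.Quotient.mk_surjective, le_antisymm hle hge, Ideal.map_span,
    Set.image_singleton]

include hP hgen hy hz hyη hπ in
theorem delta_eq (hd : Cyc.IsDimFun P δ) : δ z + 1 = δ ξ := by
  have h := hgen z
  have hne : ξ ≠ z := fun e => hyη (by rw [e])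
  have hcd := CycLib.cd_eq hd h
  have hlt := (hd ξ z h hne).1
  have hm : (maximalIdeal (Cyc.LocQuot z ξ h)).IsPrincipal := ⟨_, maximalIdeal_locQuot hP z hy hz π hπ h⟩
  haveI : IsPrincipalIdealRing (Cyc.LocQuot z ξ h) :=
    ((tfae_of_isNoetherianRing_of_isLocalRing_of_isDomain (Cyc.LocQuot z ξ h)).out 4 0).1 hm
  have hdim : ringKrullDim (Cyc.LocQuot z ξ h) ≤ 1 := Ring.krullDimLE_iff.1 inferInstance
  rw [CycLib.ringKrullDim_locQuot h] at hdim
  have : DimFormula.cd ξ z ≤ 1 := by exact_mod_cast hdim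
  omega

variable {hgen}
variable (hd : Cyc.IsDimFun P δ) (hx : δ z + 1 = δ ξ)

include hP hz hd hx in
/-- Regular functions give no vertical component. -/
theorem ordAt_sub_inR {β : X.residueField (p₁ ξ)} (hβ : InR p₁ hgen z β) :
    Cyc.ordAt z ξ (hgen z) (tau p₂ ξ - p₁.residueFieldMap ξ β) = 0 := by
  obtain ⟨a, rfl⟩ := hβ
  rw [← specMap_tt (p₂ := p₂) z (hgen z), ← specMap_stalkMap z (hgen z), ← map_sub]
  exact CycLib.ordAt_eq_zero_of_isUnit hd (hgen z) hx (isUnit_tt_sub hP z hz a)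

include hd hx in
/-- Poles give the opposite of their order. -/
theorem ordAt_sub_pole {β : X.residueField (p₁ ξ)} {s : X.presheaf.stalk (p₁ z)}
    (hs : s ∈ maximalIdeal (X.presheaf.stalk (p₁ z)))
    (hβ : β * Cyc.specMap (p₁ z) (p₁ ξ) ((hgen z).map p₁.continuous) s = 1) :
    Cyc.ordAt z ξ (hgen z) (tau p₂ ξ - p₁.residueFieldMap ξ β) =
      - Cyc.ordAt z ξ (hgen z) (Cyc.specMap z ξ (hgen z) (p₁.stalkMap z s)) := by
  have hσ : p₁.residueFieldMap ξ β * Cyc.specMap z ξ (hgen z) (p₁.stalkMap z s) = 1 := by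
    rw [specMap_stalkMap, ← map_mul, hβ, map_one]
  have hu : IsUnit (P.presheaf.germ ⊤ z trivial (tt p₂) * p₁.stalkMap z s - 1) := by
    have hm : P.presheaf.germ ⊤ z trivial (tt p₂) * p₁.stalkMap z s ∈ maximalIdeal (P.presheaf.stalk z) := by
      refine Ideal.mul_mem_left _ _ ?_
      rw [mem_maximalIdeal, mem_nonunits_iff] at hs ⊢
      rwa [isUnit_map_iff]
    by_contra hc
    have h1 : (1 : P.presheaf.stalk z) ∈ maximalIdeal (P.presheaf.stalk z) := by
      have := sub_mem hm ((mem_maximalIdeal _).2 hc)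
      rwa [sub_sub_cancel] at this
    exact (mem_maximalIdeal _).1 h1 isUnit_one
  have hσ0 : Cyc.specMap z ξ (hgen z) (p₁.stalkMap z s) ≠ 0 := right_ne_zero_of_mul_eq_one hσ
  have e : tau p₂ ξ - p₁.residueFieldMap ξ β =
      Cyc.specMap z ξ (hgen z) (P.presheaf.germ ⊤ z trivial (tt p₂) * p₁.stalkMap z s - 1) *
        (Cyc.specMap z ξ (hgen z) (p₁.stalkMap z s))⁻¹ := by
    rw [map_sub, map_mul, map_one, specMap_tt, sub_mul, one_mul, mul_assoc, mul_inv_cancel₀ hσ0, mul_one,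
      eq_inv_of_mul_eq_one_left hσ]
  rw [e, CycLib.ordAt_mul hd (hgen z) hx ((hu.map (Cyc.specMap z ξ (hgen z))).ne_zero) (inv_ne_zero hσ0),
    CycLib.ordAt_eq_zero_of_isUnit hd (hgen z) hx hu, CycLib.ordAt_inv hd (hgen z) hx hσ0, zero_add]

include hd hx in
theorem ordAt_mul_unit {s v : X.presheaf.stalk (p₁ z)} (hv : IsUnit v)
    (hs : Cyc.specMap (p₁ z) (p₁ ξ) ((hgen z).map p₁.continuous) s ≠ 0) :
    Cyc.ordAt z ξ (hgen z) (Cyc.specMap z ξ (hgen z) (p₁.stalkMap z (s * v))) =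
      Cyc.ordAt z ξ (hgen z) (Cyc.specMap z ξ (hgen z) (p₁.stalkMap z s)) := by
  have h0 : Cyc.specMap z ξ (hgen z) (p₁.stalkMap z s) ≠ 0 := by
    rw [specMap_stalkMap]
    exact (_root_.map_ne_zero _).2 hs
  rw [map_mul, map_mul, CycLib.ordAt_mul hd (hgen z) hx h0 (((hv.map (p₁.stalkMap z).hom).map _).ne_zero),
    CycLib.ordAt_eq_zero_of_isUnit hd (hgen z) hx (hv.map (p₁.stalkMap z).hom), add_zero]

include hP hy hz hπ hd hx in
theorem ordAt_uniformizer (h0 : Cyc.specMap (p₁ z) (p₁ ξ) ((hgen z).map p₁.continuous) π ≠ 0) :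
    Cyc.ordAt z ξ (hgen z) (Cyc.specMap z ξ (hgen z) (p₁.stalkMap z π)) = 1 := by
  haveI := CycLib.krullDimLE_locQuot hd (hgen z) hx
  rw [← CycLib.algebraMap_locQuot_mk, CycLib.ordAt_algebraMap hd (hgen z) hx,
    TameKey.ord_irreducible (maximalIdeal_locQuot hP z hy hz π hπ (hgen z))]
  · rfl
  · intro hc
    rw [Ideal.Quotient.eq_zero_iff_mem, RingHom.mem_ker, specMap_stalkMap] at hc
    exact h0 ((_root_.map_eq_zero _).1 hc)

include hP hy hz hπ hd hx in
/-- The vertical component of `(t - γ)/(t - (β + γ))`. -/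
theorem ordAt_pair_self {β γ : X.residueField (p₁ ξ)} (hγ : InR p₁ hgen z γ)
    (hβ : β * Cyc.specMap (p₁ z) (p₁ ξ) ((hgen z).map p₁.continuous) π = 1) :
    Cyc.ordAt z ξ (hgen z) (tau p₂ ξ - p₁.residueFieldMap ξ γ) -
      Cyc.ordAt z ξ (hgen z) (tau p₂ ξ - p₁.residueFieldMap ξ (β + γ)) = 1 := by
  obtain ⟨c, hc⟩ := hγ
  have hm : π ∈ maximalIdeal (X.presheaf.stalk (p₁ z)) := hπ ▸ Ideal.mem_span_singleton_self π
  have hu : IsUnit (1 + c * π) := by
    by_contra hn
    exact (mem_maximalIdeal _).1 (show (1 : X.presheaf.stalk (p₁ z)) ∈ maximalIdeal _ by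
      simpa using sub_mem ((mem_maximalIdeal _).2 hn) (Ideal.mul_mem_left _ c hm)) isUnit_one
  obtain ⟨v, hv⟩ := hu
  rw [ordAt_sub_inR hP z hz hd hx ⟨c, hc⟩,
    ordAt_sub_pole z hd hx (s := π * ↑v⁻¹) (Ideal.mul_mem_right _ _ hm) ?_,
    ordAt_mul_unit z hd hx v⁻¹.isUnit (right_ne_zero_of_mul_eq_one hβ),
    ordAt_uniformizer hP z hy hz π hπ hd hx (right_ne_zero_of_mul_eq_one hβ)]
  · omega
  · set sp := Cyc.specMap (p₁ z) (p₁ ξ) ((hgen z).map p₁.continuous) with hsp
    have h2 : (β + γ) * sp π = sp ↑v := by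
      rw [add_mul, hβ, ← hc, ← map_mul, hv, map_add, map_one]
    rw [map_mul, ← mul_assoc, h2, ← map_mul, Units.mul_inv, map_one]

include hP hz hd hx in
/-- The two functions have the same poles away from the special point. -/
theorem ordAt_pair_other {β γ : X.residueField (p₁ ξ)}
    (h : (InR p₁ hgen z β ∧ InR p₁ hgen z γ) ∨
      ∃ s ∈ maximalIdeal (X.presheaf.stalk (p₁ z)), ∃ e ∈ maximalIdeal (X.presheaf.stalk (p₁ z)),
        γ * Cyc.specMap (p₁ z) (p₁ ξ) ((hgen z).map p₁.continuous) s = 1 ∧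
        β * Cyc.specMap (p₁ z) (p₁ ξ) ((hgen z).map p₁.continuous) s =
          Cyc.specMap (p₁ z) (p₁ ξ) ((hgen z).map p₁.continuous) e) :
    Cyc.ordAt z ξ (hgen z) (tau p₂ ξ - p₁.residueFieldMap ξ γ) -
      Cyc.ordAt z ξ (hgen z) (tau p₂ ξ - p₁.residueFieldMap ξ (β + γ)) = 0 := by
  rcases h with ⟨⟨b, hb⟩, ⟨c, hc⟩⟩ | ⟨s, hs, e, he, hγ, hβ⟩
  · rw [ordAt_sub_inR hP z hz hd hx ⟨c, hc⟩, ordAt_sub_inR hP z hz hd hx ⟨b + c, by rw [map_add, hb, hc]⟩, sub_zero]
  · have hu : IsUnit (e + 1) := by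
      by_contra hn
      exact (mem_maximalIdeal _).1 (show (1 : X.presheaf.stalk (p₁ z)) ∈ maximalIdeal _ by
        simpa using sub_mem ((mem_maximalIdeal _).2 hn) he) isUnit_one
    obtain ⟨v, hv⟩ := hu
    rw [ordAt_sub_pole z hd hx hs hγ, ordAt_sub_pole z hd hx (s := s * ↑v⁻¹) (Ideal.mul_mem_right _ _ hs) ?_,
      ordAt_mul_unit z hd hx v⁻¹.isUnit (right_ne_zero_of_mul_eq_one hγ), sub_self]
    set sp := Cyc.specMap (p₁ z) (p₁ ξ) ((hgen z).map p₁.continuous) with hsp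
    have h2 : (β + γ) * sp s = sp ↑v := by
      rw [add_mul, hγ, hβ, hv, map_add, map_one]
    rw [map_mul, ← mul_assoc, h2, ← map_mul, Units.mul_inv, map_one]

end Groth.Agent.H28.Horiz
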