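import Groth.Prelude.Def_Cyc
import Groth.Agent.CycLib.Div
import Groth.Agent.ModPairLib.Basic
import Mathlib.RingTheory.PolynomialAlgebra
import Mathlib.AlgebraicGeometry.Pullbacks
import Mathlib.AlgebraicGeometry.Morphisms.Proper

/-!
# The fibres of `X × 𝔸¹ → X` and their generic points
-/

set_option autoImplicit false
set_option linter.style.haveILetI false
set_option linter.unusedSectionVars false
set_option backward.isDefEq.respectTransparency false
set_option backward.isDefEq.respectTransparency.types false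

universe u

open CategoryTheory CategoryTheory.Limits AlgebraicGeometry TopologicalSpace Polynomial IsLocalRing

noncomputable section

namespace Groth.Agent.H28.Horiz

attribute [local instance] Polynomial.algebra

variable {k : Type u} [Field k] {X P : Scheme.{u}} {f : X ⟶ Spec (CommRingCat.of k)}
  {p₁ : P ⟶ X} {p₂ : P ⟶ Spec (CommRingCat.of (Polynomial k))}
  (hP : IsPullback p₁ p₂ f (Spec.map (CommRingCat.ofHom (Polynomial.C : k →+* Polynomial k))))

section Fibre

variable (f) (y : X)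

/-- The structure map of a residue field. -/
def φ : k →+* X.residueField y := (Spec.preimage (X.fromSpecResidueField y ≫ f)).hom

theorem specMap_φ : Spec.map (CommRingCat.ofHom (φ f y)) = X.fromSpecResidueField y ≫ f :=
  Spec.map_preimage (X.fromSpecResidueField y ≫ f)

theorem isPullback_poly : IsPullback (Spec.map (CommRingCat.ofHom (C : X.residueField y →+* (X.residueField y)[X])))
    (Spec.map (CommRingCat.ofHom (mapRingHom (φ f y))))
    (Spec.map (CommRingCat.ofHom (φ f y))) (Spec.map (CommRingCat.ofHom (C : k →+* k[X]))) := by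
  letI : Algebra k (X.residueField y) := (φ f y).toAlgebra
  exact isPullback_SpecMap_of_isPushout _ _ _ _
    (CommRingCat.isPushout_of_isPushout k (X.residueField y) k[X] (X.residueField y)[X])

variable {f}

/-- The inclusion of the fibre over `y`. -/
def fib : Spec (CommRingCat.of (X.residueField y)[X]) ⟶ P :=
  hP.lift (Spec.map (CommRingCat.ofHom (C : X.residueField y →+* (X.residueField y)[X])) ≫ X.fromSpecResidueField y)
    (Spec.map (CommRingCat.ofHom (mapRingHom (φ f y)))) (by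
      rw [Category.assoc, ← specMap_φ, ← Spec.map_comp, ← Spec.map_comp]
      congr 1
      ext a
      simp)

theorem fib_fst : fib hP y ≫ p₁ =
    Spec.map (CommRingCat.ofHom (C : X.residueField y →+* (X.residueField y)[X])) ≫ X.fromSpecResidueField y :=
  hP.lift_fst _ _ _

theorem fib_snd : fib hP y ≫ p₂ = Spec.map (CommRingCat.ofHom (mapRingHom (φ f y))) :=
  hP.lift_snd _ _ _

theorem isPullback_fib : IsPullback (fib hP y)
    (Spec.map (CommRingCat.ofHom (C : X.residueField y →+* (X.residueField y)[X]))) p₁ (X.fromSpecResidueField y) := by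
  refine IsPullback.of_right ?_ (fib_fst hP y) hP.flip
  rw [fib_snd, ← specMap_φ]
  exact (isPullback_poly f y).flip

/-- The generic point of the fibre over `y`. -/
def ptGen : P := fib hP y (⟨⊥, Ideal.isPrime_bot⟩ : PrimeSpectrum (X.residueField y)[X])

theorem fst_fib_apply (ζ : Spec (CommRingCat.of (X.residueField y)[X])) : p₁ (fib hP y ζ) = y := by
  rw [← Scheme.Hom.comp_apply, fib_fst, Scheme.Hom.comp_apply]
  have : X.fromSpecResidueField y (Spec.map (CommRingCat.ofHom C) ζ) ∈ Set.range (X.fromSpecResidueField y) := ⟨_, rfl⟩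
  rwa [Scheme.range_fromSpecResidueField] at this

theorem fst_ptGen : p₁ (ptGen hP y) = y := fst_fib_apply hP y _

theorem ptGen_specializes_fib (ζ : Spec (CommRingCat.of (X.residueField y)[X])) : ptGen hP y ⤳ fib hP y ζ :=
  ((PrimeSpectrum.le_iff_specializes (⟨⊥, Ideal.isPrime_bot⟩ : PrimeSpectrum (X.residueField y)[X]) ζ).1
    bot_le).map (fib hP y).continuous

theorem exists_fib (z : P) : ∃ ζ, fib hP (p₁ z) ζ = z := by
  obtain ⟨t, ht⟩ : p₁ z ∈ Set.range (X.fromSpecResidueField (p₁ z)) := by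
    rw [Scheme.range_fromSpecResidueField]; rfl
  obtain ⟨d, hd, -⟩ := Scheme.Pullback.exists_preimage_pullback (f := p₁)
    (g := X.fromSpecResidueField (p₁ z)) z t ht.symm
  refine ⟨(isPullback_fib hP (p₁ z)).isoPullback.inv d, ?_⟩
  rw [← Scheme.Hom.comp_apply, IsPullback.isoPullback_inv_fst]
  exact hd

theorem ptGen_specializes (z : P) : ptGen hP (p₁ z) ⤳ z := by
  obtain ⟨ζ, hζ⟩ := exists_fib hP z
  have h := ptGen_specializes_fib hP (p₁ z) ζ
  rwa [hζ] at h

theorem isClosedImmersion_fib (hy : IsClosed ({y} : Set X)) : IsClosedImmersion (fib hP y) := by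
  haveI := isClosed_singleton_iff_isClosedImmersion.1 hy
  exact MorphismProperty.of_isPullback (P := @IsClosedImmersion) (isPullback_fib hP y).flip inferInstance

include hP in
/-- A non-closed point over a closed point is the generic point of its fibre. -/
theorem eq_ptGen_of_not_isClosed (z : P) (hy : IsClosed ({p₁ z} : Set X)) (hz : ¬ IsClosed ({z} : Set P)) :
    z = ptGen hP (p₁ z) := by
  obtain ⟨ζ, hζ⟩ := exists_fib hP z
  haveI := isClosedImmersion_fib hP (p₁ z) hy
  by_cases h0 : (ζ : PrimeSpectrum (X.residueField (p₁ z))[X]).asIdeal = ⊥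
  · refine hζ.symm.trans (congrArg (fib hP (p₁ z)) ?_)
    exact PrimeSpectrum.ext h0
  · refine absurd ?_ hz
    haveI : (ζ : PrimeSpectrum (X.residueField (p₁ z))[X]).asIdeal.IsMaximal := IsPrime.to_maximal_ideal h0
    have hc : IsClosed ({ζ} : Set (Spec (CommRingCat.of (X.residueField (p₁ z))[X]))) :=
      (PrimeSpectrum.isClosed_singleton_iff_isMaximal
        (ζ : PrimeSpectrum (X.residueField (p₁ z))[X])).2 inferInstance
    have := (fib hP (p₁ z)).isClosedEmbedding.isClosedMap _ hc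
    rwa [Set.image_singleton, hζ] at this

/-- Sections nonvanishing at the generic point of the fibre. -/
theorem ptGen_mem_basicOpen {W : P.Opens} (s : Γ(P, W)) (e : ⊤ ≤ fib hP y ⁻¹ᵁ W) :
    ptGen hP y ∈ P.basicOpen s ↔
      (Scheme.ΓSpecIso (CommRingCat.of (X.residueField y)[X])).hom ((fib hP y).appLE W ⊤ e s) ≠ 0 := by
  have h1 : (Spec (CommRingCat.of (X.residueField y)[X])).basicOpen ((fib hP y).appLE W ⊤ e s) =
      fib hP y ⁻¹ᵁ P.basicOpen s := by
    rw [Scheme.basicOpen_appLE, top_inf_eq]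
  show (⟨⊥, Ideal.isPrime_bot⟩ : PrimeSpectrum (X.residueField y)[X]) ∈ fib hP y ⁻¹ᵁ P.basicOpen s ↔ _
  rw [← h1, basicOpen_eq_of_affine']
  show (Scheme.ΓSpecIso (CommRingCat.of (X.residueField y)[X])).hom ((fib hP y).appLE W ⊤ e s) ∉ (⊥ : Ideal _) ↔ _
  rw [Ideal.mem_bot]

end Fibre

/-- The coordinate of `𝔸¹`. -/
def tt (p₂ : P ⟶ Spec (CommRingCat.of (Polynomial k))) : Γ(P, ⊤) :=
  p₂.appTop ((Scheme.ΓSpecIso (CommRingCat.of k[X])).inv Polynomial.X)

include hP in
theorem fib_appLE_tt (y : X) :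
    (Scheme.ΓSpecIso (CommRingCat.of (X.residueField y)[X])).hom ((fib hP y).appTop (tt p₂)) = Polynomial.X := by
  have e : (fib hP y).appTop (tt p₂) = (fib hP y ≫ p₂).appTop
      ((Scheme.ΓSpecIso (CommRingCat.of k[X])).inv Polynomial.X) := rfl
  rw [e, fib_snd, ← CommRingCat.comp_apply, ← CommRingCat.comp_apply, Scheme.ΓSpecIso_naturality,
    Iso.inv_hom_id_assoc]
  exact map_X _

/-- `t - a` is a unit at the generic point of each fibre. -/
theorem isUnit_tt_sub (z : P) (hz : z = ptGen hP (p₁ z)) (a : X.presheaf.stalk (p₁ z)) :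
    IsUnit (P.presheaf.germ ⊤ z trivial (tt p₂) - p₁.stalkMap z a) := by
  obtain ⟨V, hyV, a', rfl⟩ := TopCat.Presheaf.exists_germ_eq X.presheaf a
  let W := p₁ ⁻¹ᵁ V
  let s : Γ(P, W) := P.presheaf.map (homOfLE le_top).op (tt p₂) - p₁.app V a'
  have hs : P.presheaf.germ W z hyV s =
      P.presheaf.germ ⊤ z trivial (tt p₂) - p₁.stalkMap z (X.presheaf.germ V (p₁ z) hyV a') := by
    rw [map_sub, TopCat.Presheaf.germ_res_apply, Scheme.Hom.germ_stalkMap_apply]
  rw [← hs, ← Scheme.mem_basicOpen P s z hyV]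
  have e : (⊤ : (Spec (CommRingCat.of (X.residueField (p₁ z))[X])).Opens) ≤ fib hP (p₁ z) ⁻¹ᵁ W := fun ζ _ => by
    show p₁ (fib hP (p₁ z) ζ) ∈ V
    rw [fst_fib_apply]
    exact hyV
  have key := (ptGen_mem_basicOpen hP (p₁ z) s e).2 (by
    rw [map_sub, map_sub]
    have h1 : (fib hP (p₁ z)).appLE W ⊤ e (P.presheaf.map (homOfLE le_top).op (tt p₂)) =
        (fib hP (p₁ z)).appTop (tt p₂) := by
      rw [← CommRingCat.comp_apply, Scheme.Hom.map_appLE]
      rfl
    have e' : (⊤ : (Spec (X.residueField (p₁ z))).Opens) ≤ X.fromSpecResidueField (p₁ z) ⁻¹ᵁ V := fun t _ => by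
      show X.fromSpecResidueField (p₁ z) t ∈ V
      have : X.fromSpecResidueField (p₁ z) t ∈ Set.range (X.fromSpecResidueField (p₁ z)) := ⟨_, rfl⟩
      rw [Scheme.range_fromSpecResidueField] at this
      rw [show X.fromSpecResidueField (p₁ z) t = p₁ z from this]
      exact hyV
    have h2 : (fib hP (p₁ z)).appLE W ⊤ e (p₁.app V a') =
        (Spec.map (CommRingCat.ofHom (C : X.residueField (p₁ z) →+* (X.residueField (p₁ z))[X]))).appTop
          ((X.fromSpecResidueField (p₁ z)).appLE V ⊤ e' a') := by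
      have h3 : ∀ (g : Spec (CommRingCat.of (X.residueField (p₁ z))[X]) ⟶ X) (hg : fib hP (p₁ z) ≫ p₁ = g)
          (e₃ : (⊤ : (Spec (CommRingCat.of (X.residueField (p₁ z))[X])).Opens) ≤ g ⁻¹ᵁ V),
          p₁.app V ≫ (fib hP (p₁ z)).appLE W ⊤ e = g.appLE V ⊤ e₃ := by
        rintro g rfl e₃
        rw [Scheme.Hom.app_eq_appLE, Scheme.Hom.appLE_comp_appLE]
      refine (congrArg (fun ρ => ρ.hom a') (h3 _ (fib_fst hP (p₁ z)) (fun ζ _ => e' trivial))).trans ?_
      rw [← Scheme.Hom.appLE_comp_appLE _ _ V ⊤ ⊤ e' le_top]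
      rw [CommRingCat.hom_comp, RingHom.comp_apply, Scheme.Hom.appTop, Scheme.Hom.app_eq_appLE]
      rfl
    rw [h1, h2, fib_appLE_tt, ← CommRingCat.comp_apply
      (f := (Spec.map _).appTop), Scheme.ΓSpecIso_naturality, CommRingCat.comp_apply]
    show Polynomial.X - C _ ≠ 0
    exact Polynomial.X_sub_C_ne_zero _)
  rwa [← hz] at key

include hP in
theorem isAffineHom_fst : IsAffineHom p₁ :=
  MorphismProperty.of_isPullback (P := @IsAffineHom) hP.flip inferInstance

/-- The maximal ideal at the generic point of a closed fibre comes from the base. -/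
theorem maximalIdeal_ptGen (z : P) (hy : IsClosed ({p₁ z} : Set X)) (hz : z = ptGen hP (p₁ z)) :
    maximalIdeal (P.presheaf.stalk z) ≤ (maximalIdeal (X.presheaf.stalk (p₁ z))).map (p₁.stalkMap z).hom := by
  haveI := isAffineHom_fst hP
  obtain ⟨V, hV, hyV, -⟩ := exists_isAffineOpen_mem_and_subset (x := p₁ z) (U := (⊤ : X.Opens)) trivial
  let W := p₁ ⁻¹ᵁ V
  have hW : IsAffineOpen W := hV.preimage p₁
  haveI := isClosed_singleton_iff_isClosedImmersion.1 hy
  haveI := isClosedImmersion_fib hP (p₁ z) hy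
  intro m hm
  letI := P.presheaf.algebra_section_stalk (⟨z, hyV⟩ : ↥W)
  haveI := hW.isLocalization_stalk ⟨z, hyV⟩
  obtain ⟨⟨s, d⟩, hsd⟩ := IsLocalization.surj (hW.primeIdealOf ⟨z, hyV⟩).asIdeal.primeCompl m
  have hd : IsUnit (P.presheaf.germ W z hyV d.1) :=
    IsLocalization.map_units (P.presheaf.stalk z) d
  have hs0 : P.presheaf.germ W z hyV s ∈ maximalIdeal (P.presheaf.stalk z) := by
    have : m * P.presheaf.germ W z hyV d.1 = P.presheaf.germ W z hyV s := hsd
    rw [← this]
    exact Ideal.mul_mem_right _ _ hm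
  suffices P.presheaf.germ W z hyV s ∈ (maximalIdeal (X.presheaf.stalk (p₁ z))).map (p₁.stalkMap z).hom by
    have hsd' : m * P.presheaf.germ W z hyV d.1 = P.presheaf.germ W z hyV s := hsd
    rw [← hsd'] at this
    exact (Ideal.mul_unit_mem_iff_mem _ hd).1 this
  have e : (⊤ : (Spec (CommRingCat.of (X.residueField (p₁ z))[X])).Opens) ≤ fib hP (p₁ z) ⁻¹ᵁ W := fun ζ _ => by
    show p₁ (fib hP (p₁ z) ζ) ∈ V
    rw [fst_fib_apply]
    exact hyV
  have h0 : (fib hP (p₁ z)).appLE W ⊤ e s = 0 := by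
    by_contra hne
    refine (mem_maximalIdeal _).1 hs0 ?_
    rw [← Scheme.mem_basicOpen P s z hyV]
    have key := (ptGen_mem_basicOpen hP (p₁ z) s e).2 fun hz0 => hne ((map_eq_zero_iff _
      (ConcreteCategory.bijective_of_isIso
        (Scheme.ΓSpecIso (CommRingCat.of (X.residueField (p₁ z))[X])).hom).1).1 hz0)
    rwa [← hz] at key
  have hker : s ∈ (fib hP (p₁ z)).ker.ideal ⟨W, hW⟩ := by
    rw [Scheme.Hom.ker_apply, RingHom.mem_ker]
    have htop : fib hP (p₁ z) ⁻¹ᵁ W = ⊤ := top_le_iff.1 e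
    have h1 : (fib hP (p₁ z)).appLE W ⊤ e =
        (fib hP (p₁ z)).app W ≫ (Spec _).presheaf.map (eqToHom htop.symm).op := rfl
    rw [h1, CommRingCat.comp_apply] at h0
    exact (map_eq_zero_iff _ (ConcreteCategory.bijective_of_isIso _).1).1 h0
  have hk : (fib hP (p₁ z)).ker = (X.fromSpecResidueField (p₁ z)).ker.comap p₁ := by
    rw [← Scheme.IdealSheafData.ker_fst_of_isClosedImmersion, ← (isPullback_fib hP (p₁ z)).isoPullback_hom_fst,
      Scheme.Hom.ker_comp_of_isIso]
  rw [hk, ModPairLib.ideal_comap _ p₁ ⟨V, hV⟩ ⟨W, hW⟩ le_rfl] at hker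
  have hmem := Ideal.mem_map_of_mem (P.presheaf.germ W z hyV).hom hker
  rw [Ideal.map_map] at hmem
  refine SetLike.le_def.1 ?_ hmem
  rw [Ideal.map_le_iff_le_comap]
  intro c hc
  rw [Ideal.mem_comap, RingHom.comp_apply]
  have hcm : X.presheaf.germ V (p₁ z) hyV c ∈ maximalIdeal (X.presheaf.stalk (p₁ z)) := by
    rw [mem_maximalIdeal, mem_nonunits_iff, ← Scheme.mem_basicOpen X c (p₁ z) hyV]
    have hsupp : p₁ z ∈ ((X.fromSpecResidueField (p₁ z)).ker.support : Set X) :=
      (X.fromSpecResidueField (p₁ z)).range_subset_ker_support (by rw [Scheme.range_fromSpecResidueField]; rfl)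
    rw [SetLike.mem_coe, Scheme.IdealSheafData.mem_support_iff_of_mem (U := ⟨V, hV⟩) hyV,
      Scheme.mem_zeroLocus_iff] at hsupp
    exact hsupp c hc
  have := Ideal.mem_map_of_mem (p₁.stalkMap z).hom hcm
  rw [Scheme.Hom.germ_stalkMap_apply, Scheme.Hom.app_eq_appLE] at this
  exact this

end Groth.Agent.H28.Horiz
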