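import Groth.Agent.H28.HorizDiv

/-!
# Functions with a prescribed vertical divisor on `X × 𝔸¹`
-/

set_option autoImplicit false
set_option linter.style.haveILetI false
set_option linter.unusedSectionVars false
set_option backward.isDefEq.respectTransparency false
set_option backward.isDefEq.respectTransparency.types false

universe u

open CategoryTheory CategoryTheory.Limits AlgebraicGeometry TopologicalSpace Polynomial IsLocalRing

noncomputable section

namespace Groth.Agent.H28.Horiz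

variable {k : Type u} [Field k] {X P : Scheme.{u}} {f : X ⟶ Spec (CommRingCat.of k)}
  {p₁ : P ⟶ X} {p₂ : P ⟶ Spec (CommRingCat.of (Polynomial k))}
  (hP : IsPullback p₁ p₂ f (Spec.map (CommRingCat.ofHom (Polynomial.C : k →+* Polynomial k))))

theorem mem_primeIdealOf_iff {U : X.Opens} (hU : IsAffineOpen U) (y : X) (hy : y ∈ U) (a : Γ(X, U)) :
    a ∈ (hU.primeIdealOf ⟨y, hy⟩).asIdeal ↔ X.presheaf.germ U y hy a ∈ maximalIdeal (X.presheaf.stalk y) := by
  letI := X.presheaf.algebra_section_stalk (⟨y, hy⟩ : ↥U)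
  haveI := hU.isLocalization_stalk ⟨y, hy⟩
  exact (IsLocalization.AtPrime.to_map_mem_maximal_iff (X.presheaf.stalk y)
    (hU.primeIdealOf ⟨y, hy⟩).asIdeal a).symm

theorem specMap_injective [IsIntegral X] {y η : X} (h : η ⤳ y) (hη : ∀ w : X, η ⤳ w) :
    Function.Injective (Cyc.specMap y η h) := by
  rw [injective_iff_map_eq_zero]
  intro a ha
  obtain ⟨V, hyV, a', rfl⟩ := TopCat.Presheaf.exists_germ_eq X.presheaf a
  rw [CycLib.specMap_germ, Scheme.evaluation_eq_zero_iff_notMem_basicOpen] at ha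
  have hb : X.basicOpen a' = ⊥ := by
    rw [eq_bot_iff]
    exact fun w hw => (ha ((hη w).mem_open (X.basicOpen a').2 hw)).elim
  rw [basicOpen_eq_bot_iff] at hb
  rw [hb, map_zero]

theorem valuationRing_stalk [IsIntegral X] [IsLocallyNoetherian X] (y : X)
    (h : (maximalIdeal (X.presheaf.stalk y)).IsPrincipal) : ValuationRing (X.presheaf.stalk y) :=
  ((tfae_of_isNoetherianRing_of_isLocalRing_of_isDomain (X.presheaf.stalk y)).out 4 1).1 h

theorem isPrincipal_maximalIdeal [IsLocallyNoetherian X] [Smooth f] (hdim : topologicalKrullDim X ≤ 1) (y : X) :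
    (maximalIdeal (X.presheaf.stalk y)).IsPrincipal := by
  haveI := GrpSchLib.isRegularLocalRing_stalk_of_smooth f y
  have h := (IsRegularLocalRing.spanFinrank_maximalIdeal (R := X.presheaf.stalk y)).le.trans
    ((SchTop.ringKrullDim_stalk_le y).trans hdim)
  have h' : (maximalIdeal (X.presheaf.stalk y)).spanFinrank ≤ 1 := by exact_mod_cast h
  rcases Nat.le_one_iff_eq_zero_or_eq_one.1 h' with h0 | h1
  · rw [Submodule.spanFinrank_eq_zero_iff_eq_bot (IsNoetherian.noetherian _)] at h0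
    exact ⟨0, by rw [h0]; exact Submodule.span_zero_singleton _ |>.symm⟩
  · exact ((Submodule.spanFinrank_eq_one_iff _).1 h1).1

theorem inR_or_pole [IsIntegral X] [IsLocallyNoetherian X] {ξ : P} (hgen : ∀ w : P, ξ ⤳ w) (z : P)
    (hp : (maximalIdeal (X.presheaf.stalk (p₁ z))).IsPrincipal) (β : X.residueField (p₁ ξ)) :
    InR p₁ hgen z β ∨ ∃ s ∈ maximalIdeal (X.presheaf.stalk (p₁ z)),
      β * Cyc.specMap (p₁ z) (p₁ ξ) ((hgen z).map p₁.continuous) s = 1 := by
  obtain ⟨V, hV, hyV, -⟩ := exists_isAffineOpen_mem_and_subset (x := p₁ z) (U := (⊤ : X.Opens)) trivial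
  have hsp := (hgen z).map p₁.continuous
  obtain ⟨a', s', hs', rfl⟩ := CycLib.exists_eval_div hV (hsp.mem_open V.2 hyV) β
  rw [← CycLib.specMap_germ hsp V hyV] at hs'
  rw [← CycLib.specMap_germ hsp V hyV, ← CycLib.specMap_germ hsp V hyV]
  set a := X.presheaf.germ V (p₁ z) hyV a'
  set s := X.presheaf.germ V (p₁ z) hyV s'
  haveI := valuationRing_stalk (p₁ z) hp
  rcases ValuationRing.dvd_total a s with ⟨d, hd⟩ | ⟨d, hd⟩
  · by_cases hu : IsUnit d
    · obtain ⟨v, rfl⟩ := hu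
      refine Or.inl ⟨↑v⁻¹, ?_⟩
      rw [hd, map_mul] at hs'
      rw [hd, map_mul, eq_div_iff (by exact hs'), mul_left_comm, ← map_mul, Units.inv_mul, map_one, mul_one]
    · refine Or.inr ⟨d, (mem_maximalIdeal _).2 hu, ?_⟩
      rw [div_mul_eq_mul_div, ← map_mul, ← hd, div_self hs']
  · refine Or.inl ⟨d, ?_⟩
    rw [hd, map_mul, mul_div_cancel_left₀ _ hs']

include hP in
/-- A function whose vertical divisor is a given fibre. -/
theorem exists_fun [IsIntegral X] [AlgebraicGeometry.IsNoetherian X] [X.IsSeparated] [IsLocallyNoetherian P]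
    (hdim : topologicalKrullDim X ≤ 1) (hprin : ∀ y : X, (maximalIdeal (X.presheaf.stalk y)).IsPrincipal)
    {δ : P → ℤ} (hd : Cyc.IsDimFun P δ) {ξ : P} (hgen : ∀ w : P, ξ ⤳ w) (hξ : ξ = ptGen hP (p₁ ξ))
    (hη : ∀ w : X, p₁ ξ ⤳ w) (z₀ : P) (hy₀ : IsClosed ({p₁ z₀} : Set X)) (hz₀ : z₀ = ptGen hP (p₁ z₀))
    (hne₀ : p₁ z₀ ≠ p₁ ξ) :
    ∃ h : P.residueField ξ, h ≠ 0 ∧ Cyc.divFun δ ξ h z₀ = 1 ∧
      ∀ z : P, IsClosed ({p₁ z} : Set X) → z = ptGen hP (p₁ z) → p₁ z ≠ p₁ ξ → z ≠ z₀ →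
        Cyc.divFun δ ξ h z = 0 := by
  classical
  obtain ⟨π, hπ⟩ := (hprin (p₁ z₀)).principal
  set η := p₁ ξ with hηdef
  set sp := fun (w : X) => Cyc.specMap w η (hη w) with hspdef
  have hπ0 : Cyc.specMap (p₁ z₀) η (hη _) π ≠ 0 := by
    intro h0
    have hπ0 : π = 0 := specMap_injective (hη _) hη (h0.trans (map_zero _).symm)
    obtain ⟨V, hV, hyV, -⟩ := exists_isAffineOpen_mem_and_subset (x := p₁ z₀) (U := (⊤ : X.Opens)) trivial
    have key : hV.primeIdealOf ⟨p₁ z₀, hyV⟩ = hV.primeIdealOf ⟨η, (hη _).mem_open V.2 hyV⟩ → p₁ z₀ = η := by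
      intro hab
      have := congrArg hV.fromSpec hab
      rwa [hV.fromSpec_primeIdealOf, hV.fromSpec_primeIdealOf] at this
    refine hne₀ (key (PrimeSpectrum.ext ?_))
    · ext c
      rw [mem_primeIdealOf_iff, mem_primeIdealOf_iff, hπ, hπ0]
      rw [Submodule.span_zero_singleton, Ideal.mem_bot, mem_maximalIdeal, mem_nonunits_iff,
        ← Scheme.mem_basicOpen X c η]
      constructor
      · intro hc hmem
        rw [(germ_injective_of_isIntegral X (p₁ z₀) hyV) (hc.trans (map_zero _).symm), Scheme.basicOpen_zero] at hmem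
        exact hmem
      · intro hc
        have hb : X.basicOpen c = ⊥ := by
          rw [eq_bot_iff]
          exact fun w hw => (hc ((hη w).mem_open (X.basicOpen c).2 hw)).elim
        rw [basicOpen_eq_bot_iff] at hb
        rw [hb, map_zero]
  set β : X.residueField η := (Cyc.specMap (p₁ z₀) η (hη _) π)⁻¹ with hβ
  obtain ⟨V₀, hV₀, hηV₀, -⟩ := exists_isAffineOpen_mem_and_subset (x := η) (U := (⊤ : X.Opens)) trivial
  obtain ⟨a, s, hs, hab⟩ := CycLib.exists_eval_div hV₀ hηV₀ β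
  let D : Set X := (X.basicOpen s : Set X)ᶜ \ {p₁ z₀}
  have hDfin : D.Finite := (DimOneAmple.finite_of_isClosed hdim (X.basicOpen s).2.isClosed_compl
    fun w hw hcomp => hw (by
      have : η = w := FDescent.maximal_of_closure_mem_irreducibleComponents hcomp (hη w)
      rw [← this]
      exact (Scheme.evaluation_ne_zero_iff_mem_basicOpen X η hηV₀ s).1 hs)).subset Set.sdiff_subset
  obtain ⟨U, hU, hUmem⟩ := DimOneAmple.exists_affineOpen_of_finite (X := X) hdim
    ((hDfin.insert (p₁ z₀)).insert η)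
  have hzU : p₁ z₀ ∈ U := hUmem _ (Set.mem_insert_of_mem _ (Set.mem_insert _ _))
  have hηU : η ∈ U := hUmem _ (Set.mem_insert _ _)
  let T : Finset ↥U := ((hDfin.insert η).preimage Subtype.val_injective.injOn).toFinset
  let I := (hU.primeIdealOf ⟨p₁ z₀, hzU⟩).asIdeal
  haveI : I.IsMaximal := hU.primeIdealOf_isMaximal_of_isClosed _ hy₀
  obtain ⟨u, huI, huT⟩ : ∃ u ∈ I ^ 2, ∀ w ∈ T, u ∉ (hU.primeIdealOf w).asIdeal := by
    by_contra! hc
    have hsub : ((I ^ 2 : Ideal Γ(X, U)) : Set Γ(X, U)) ⊆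
        ⋃ w ∈ (↑T : Set ↥U), ((hU.primeIdealOf w).asIdeal : Set Γ(X, U)) := fun u hu => by
      obtain ⟨w, hw, huw⟩ := hc u hu
      exact Set.mem_biUnion hw huw
    obtain ⟨w, hw, hle⟩ := (Ideal.subset_union_prime ⟨η, hηU⟩ ⟨η, hηU⟩
      fun i _ _ _ => (hU.primeIdealOf i).2).1 hsub
    have heq : I = (hU.primeIdealOf w).asIdeal := Ideal.IsMaximal.eq_of_le inferInstance
      (hU.primeIdealOf w).2.ne_top ((hU.primeIdealOf w).2.le_of_pow_le hle)
    have hw' : w.1 = p₁ z₀ := by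
      have h2 := congrArg hU.fromSpec (PrimeSpectrum.ext heq : hU.primeIdealOf ⟨p₁ z₀, hzU⟩ = hU.primeIdealOf w)
      rw [hU.fromSpec_primeIdealOf, hU.fromSpec_primeIdealOf] at h2
      exact h2.symm
    simp only [T, Set.Finite.mem_toFinset, Set.mem_preimage, Set.mem_insert_iff] at hw
    rcases hw with hw | hw
    · exact hne₀ (hw'.symm.trans hw)
    · exact hw.2 hw'
  set γ : X.residueField η := X.evaluation U η hηU u * β ^ 2 with hγ
  refine ⟨(tau p₂ ξ - p₁.residueFieldMap ξ γ) * (tau p₂ ξ - p₁.residueFieldMap ξ (β + γ))⁻¹,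
    mul_ne_zero (tau_ne hP hξ γ) (inv_ne_zero (tau_ne hP hξ _)), ?_, ?_⟩
  · have hx := delta_eq hP hgen z₀ hy₀ hz₀ hne₀ π hπ hd
    rw [CycLib.divFun_eq δ _ (hgen z₀) hx, CycLib.ordAt_mul hd (hgen z₀) hx (tau_ne hP hξ γ)
      (inv_ne_zero (tau_ne hP hξ _)), CycLib.ordAt_inv hd (hgen z₀) hx (tau_ne hP hξ _), ← sub_eq_add_neg]
    refine ordAt_pair_self hP z₀ hy₀ hz₀ π hπ hd hx ?_ (inv_mul_cancel₀ hπ0)
    have hm : X.presheaf.germ U (p₁ z₀) hzU u ∈ maximalIdeal (X.presheaf.stalk (p₁ z₀)) ^ 2 := by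
      refine Ideal.le_comap_pow (n := 2) (f := (X.presheaf.germ U (p₁ z₀) hzU).hom) ?_
      refine Ideal.pow_right_mono (fun c hc => (mem_primeIdealOf_iff hU (p₁ z₀) hzU c).1 hc) 2 huI
    rw [hπ, Ideal.span_singleton_pow, Ideal.mem_span_singleton'] at hm
    obtain ⟨c, hc⟩ := hm
    refine ⟨c, ?_⟩
    rw [hγ, ← CycLib.specMap_germ (hη _) U hzU u, ← hc, map_mul, map_pow, mul_assoc, ← mul_pow, hβ,
      mul_inv_cancel₀ hπ0, one_pow, mul_one]
  · intro z hy hz hne hzz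
    obtain ⟨π', hπ'⟩ := (hprin (p₁ z)).principal
    have hx := delta_eq hP hgen z hy hz hne π' hπ' hd
    rw [CycLib.divFun_eq δ _ (hgen z) hx, CycLib.ordAt_mul hd (hgen z) hx (tau_ne hP hξ γ)
      (inv_ne_zero (tau_ne hP hξ _)), CycLib.ordAt_inv hd (hgen z) hx (tau_ne hP hξ _), ← sub_eq_add_neg]
    refine ordAt_pair_other hP z hz hd hx ?_
    have hyz : p₁ z ≠ p₁ z₀ := fun e => hzz (hz.trans (by rw [e]; exact hz₀.symm))
    rcases inR_or_pole (X := X) hgen z (hprin _) β with hb | ⟨t, ht, hbt⟩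
    · rcases inR_or_pole (X := X) hgen z (hprin _) γ with hc | ⟨t, ht, hct⟩
      · exact Or.inl ⟨hb, hc⟩
      · obtain ⟨b, hb⟩ := hb
        exact Or.inr ⟨t, ht, b * t, Ideal.mul_mem_left _ _ ht, hct, by rw [← hb, map_mul]⟩
    · have hzD : p₁ z ∈ D := by
        refine ⟨fun hmem => ?_, hyz⟩
        have hu : IsUnit (X.presheaf.germ V₀ (p₁ z) (X.basicOpen_le s hmem) s) :=
          (Scheme.mem_basicOpen X s (p₁ z) (X.basicOpen_le s hmem)).1 hmem
        obtain ⟨v, hv⟩ := hu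
        set g := X.presheaf.germ V₀ (p₁ z) (X.basicOpen_le s hmem) a
        have hβR : β = Cyc.specMap (p₁ z) η (hη _)
            (g * ((v⁻¹ : (X.presheaf.stalk (p₁ z))ˣ) : X.presheaf.stalk (p₁ z))) := by
          rw [hab, ← CycLib.specMap_germ (hη _) V₀ (X.basicOpen_le s hmem) a,
            ← CycLib.specMap_germ (hη _) V₀ (X.basicOpen_le s hmem) s, ← hv, map_mul, map_units_inv, div_eq_mul_inv]
        rw [hβR, ← map_mul] at hbt
        have h1 := specMap_injective (hη _) hη (hbt.trans (map_one _).symm)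
        exact (mem_maximalIdeal _).1 (h1 ▸ Ideal.mul_mem_left _ (g * ((v⁻¹ : (X.presheaf.stalk (p₁ z))ˣ) : X.presheaf.stalk (p₁ z))) ht) isUnit_one
      have hzU' : p₁ z ∈ U := hUmem _ (Set.mem_insert_of_mem _ (Set.mem_insert_of_mem _ hzD))
      have huT' := huT ⟨p₁ z, hzU'⟩ (by
        simp only [T, Set.Finite.mem_toFinset, Set.mem_preimage, Set.mem_insert_iff]
        exact Or.inr hzD)
      rw [mem_primeIdealOf_iff, mem_maximalIdeal, mem_nonunits_iff, not_not] at huT'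
      obtain ⟨v, hv⟩ := huT'
      refine Or.inr ⟨t ^ 2 * ↑v⁻¹, Ideal.mul_mem_right _ _ (Ideal.pow_mem_of_mem _ ht 2 two_pos), t * ↑v⁻¹,
        Ideal.mul_mem_right _ _ ht, ?_, ?_⟩
      · rw [hγ, ← CycLib.specMap_germ (hη _) U hzU' u, ← hv, map_mul, map_pow]
        calc _ = (Cyc.specMap (p₁ z) η (hη _) ↑v * Cyc.specMap (p₁ z) η (hη _) ↑v⁻¹) *
              (β * Cyc.specMap (p₁ z) η (hη _) t) ^ 2 := by ring
          _ = 1 := by rw [hbt, ← map_mul, Units.mul_inv, map_one, one_pow, one_mul]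
      · rw [map_mul, map_pow, map_mul, pow_two, ← mul_assoc, ← mul_assoc, hbt, one_mul]

end Groth.Agent.H28.Horiz
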