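import Groth.Agent.H28.KTower
import Groth.Agent.H28.DetExt
import Groth.Agent.H28.PBSplit
import Groth.Agent.Lambda.Todd
import Groth.Agent.DimOneAmple.Exists

/-!
# `K` of a one dimensional scheme is rank and determinant
-/

set_option autoImplicit false
set_option linter.style.haveILetI false
set_option linter.unusedSectionVars false
set_option backward.isDefEq.respectTransparency false
set_option backward.isDefEq.respectTransparency.types false

universe u

open CategoryTheory CategoryTheory.Limits AlgebraicGeometry TopologicalSpace Opposite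
open scoped Groth.Agent.H23.PicMul
attribute [local instance] HasDerivedCategory.standard

noncomputable section

namespace Groth.Agent.H28.KCurve

open Groth.Agent Groth.Agent.H28.KvbLam

variable {X : Scheme.{u}} [AlgebraicGeometry.IsNoetherian X] [ConnectedSpace X]

theorem exists_rep (hA : ∃ A : X.Modules, CohB1.IsAmple A) (hdim : topologicalKrullDim X ≤ ((1 : ℕ) : WithBot ℕ∞))
    (a : SGA6.Kvb X) : ∃ (n : ℤ) (L : X.Modules), PicF.IsInvertible L ∧
      a = (n - 1) • cl (Coh.structureModule X) + cl L := by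
  obtain ⟨A, hA⟩ := hA
  obtain ⟨K, _, _, P, φ, hK⟩ := KvbModel.exists_isModel (X := X)
  have hF : ∀ z ∈ LambdaRing.gammaFiltration P 2, z = 0 := fun z hz => by
    have h := KTower.gammaFiltration_eq_bot hA hdim hK
    rw [show 1 + 1 = 2 from rfl] at h
    simpa [h] using hz
  have hrep : ∀ E : X.Modules, FlatMod.IsFinLocFree E → ∃ (r : ℕ) (D : X.Modules), PicF.IsInvertible D ∧
      φ (cl E) = (r : K) - 1 + φ (cl D) := fun E hE => by
    obtain ⟨r, hr⟩ := KvbModel.exists_rank hE
    rcases Nat.eq_zero_or_pos r with rfl | hr0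
    · refine ⟨0, Coh.structureModule X, InvX.isInvertible_structureModule, ?_⟩
      rw [show φ (cl (Coh.structureModule X)) = 1 from hK.map_one, Nat.cast_zero, zero_sub, neg_add_cancel]
      exact (congrArg φ (KZ.clSub_isZero _ (PBAtlas.isZero_of_frames fun x => KvbModel.frameAt_of_rank hr x))).trans
        (map_zero φ)
    have hD := PBCores.rank_top hr
    refine ⟨r, ExtBase.L E r, PBCores.isInvertible_iff_rank.2 hD, ?_⟩
    have hpos : φ (cl E) ∈ P.pos := (hK.mem_pos_iff _).2 ⟨r, E, hr0, hr, rfl⟩
    have haug : (P.aug (φ (cl E))).toNat = r := by rw [hK.aug_cl r E hr]; rfl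
    have h := Lambda.lam_top_eq_sum_gamma (PBSplit.hasSplitting hK) hpos
    rw [haug, hK.map_lam r E _ hE (KvbModel.lf_of_rank hD) (ExtSh.isExtPow_L r hE)] at h
    obtain ⟨r, rfl⟩ := Nat.exists_eq_add_of_le' hr0
    rw [Finset.sum_range_succ', Lambda.gamma_zero, Finset.sum_range_succ', Lambda.gamma_one,
      Finset.sum_eq_zero fun i _ => hF _ (Lambda.gammaFiltration_anti (by omega)
        (Lambda.gamma_mem (P := P) (by rw [map_sub, map_natCast, hK.aug_cl _ E hr, sub_self]) (i + 1 + 1))),
      zero_add] at h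
    rw [h]
    push_cast
    ring
  obtain ⟨y, z, hy, hz, rfl⟩ := KvbModel.exists_sub a
  obtain ⟨r, D, hD, hyD⟩ := hrep y hy
  obtain ⟨s, D', hD', hzD⟩ := hrep z hz
  obtain ⟨Di, hDi, hDD⟩ := H23.PicInv.exists_inverse hD'
  obtain ⟨eD⟩ := hDD
  refine ⟨(r : ℤ) - s, CohB1.tensorMod D Di, InvX.isInvertible_tensorMod hD hDi, hK.bijective.1 ?_⟩
  have hinv := KVanish.mul_inv hK hD' hDi eD
  have hmul : φ (cl (CohB1.tensorMod D Di)) = φ (cl D) * φ (cl Di) :=
    (hK.map_mul _ _ (LineTwist.lf_invertible hD) (LineTwist.lf_invertible hDi)).symm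
  have hone : φ (cl (Coh.structureModule X)) = 1 := hK.map_one
  have haug : ∀ {M : X.Modules}, PicF.IsInvertible M → P.aug (φ (cl M)) = 1 := fun {M} hM =>
    (LineTwist.isLine_cl hK hM).2
  have hm : ∀ x, P.aug x = 0 → x ∈ LambdaRing.gammaFiltration P 1 := fun x hx => by
    simpa [Lambda.gamma_one] using Lambda.gamma_mem (P := P) hx 1
  have h2 := hF ((φ (cl D) - φ (cl D')) * (φ (cl Di) - 1))
    (Lambda.mul_mem_add (hm _ (by rw [map_sub, haug hD, haug hD', sub_self]))
      (hm _ (by rw [map_sub, haug hDi, map_one, sub_self])))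
  rw [map_add, map_sub, map_zsmul, hone, hmul, hyD, hzD, zsmul_one]
  push_cast
  linear_combination -h2 - hinv

theorem unique_rep {n m : ℤ} {L L' : X.Modules} (hL : PicF.IsInvertible L) (hL' : PicF.IsInvertible L')
    (h : (n - 1) • cl (Coh.structureModule X) + cl L = (m - 1) • cl (Coh.structureModule X) + cl L') :
    n = m ∧ Nonempty (L ≅ L') := by
  obtain ⟨K, _, _, P, φ, hK⟩ := KvbModel.exists_isModel (X := X)
  obtain ⟨d, hd⟩ := DetExt.exists_detHom (X := X)
  refine ⟨?_, H23.PicMul.cl_eq_iff.1 ?_⟩
  · have h1 := congrArg (fun z => P.aug (φ z)) h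
    simp only [map_add, map_zsmul, show φ (cl (Coh.structureModule X)) = 1 from hK.map_one, map_one,
      (LineTwist.isLine_cl hK hL).2, (LineTwist.isLine_cl hK hL').2] at h1
    simpa using h1
  · have h1 := congrArg d h
    have hO : d (cl (Coh.structureModule X)) = 0 := by
      rw [hd _ lf_O]
      refine Additive.toMul.injective (Units.ext ?_)
      rw [DetExt.det_invertible InvX.isInvertible_structureModule]
      rfl
    simp only [map_add, map_zsmul, hO, smul_zero, zero_add, hd _ (LineTwist.lf_invertible hL),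
      hd _ (LineTwist.lf_invertible hL')] at h1
    have h2 := congrArg (fun z => ((Additive.toMul z : (PicF.Cl X)ˣ) : PicF.Cl X)) h1
    simpa only [DetExt.det_invertible hL, DetExt.det_invertible hL'] using h2

end Groth.Agent.H28.KCurve

end
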