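import Groth.Agent.KFlatLib.Scheme.Exact
import Mathlib.Topology.Sheaves.AddCommGrpCat
import Mathlib.Algebra.Homology.ShortComplex.Ab

/-!
# Iterated cones of graded systems and their exactness (adapted from `Lib.KoszulChop`)
-/

set_option linter.style.haveILetI false
set_option linter.unusedSectionVars false
set_option backward.isDefEq.respectTransparency false
set_option backward.isDefEq.respectTransparency.types false

universe v w u

open CategoryTheory CategoryTheory.Limits AlgebraicGeometry TopologicalSpace Opposite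
open scoped ZeroObject

namespace Groth.Agent.H28.KoszulCone

section Abstract

variable {C : Type w} [Category.{v} C] [Preadditive C] [HasBinaryBiproducts C] [HasZeroObject C]
  {J : Type*} (M : ℤ → C) (x : J → ∀ d : ℤ, M (d - 1) ⟶ M d)

/-- The terms of the iterated cone. -/
noncomputable def obj : List J → ℤ → ℕ → C
  | [], d, 0 => M d
  | [], _, _ + 1 => 0
  | _ :: l, d, 0 => obj l d 0
  | _ :: l, d, p + 1 => obj l d (p + 1) ⊞ obj l (d - 1) p

/-- Multiplication on the terms. -/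
noncomputable def xm (j : J) : ∀ (l : List J) (d : ℤ) (p : ℕ), obj M l (d - 1) p ⟶ obj M l d p
  | [], d, 0 => x j d
  | [], _, _ + 1 => 0
  | _ :: l, d, 0 => xm j l d 0
  | _ :: l, d, p + 1 => biprod.map (xm j l d (p + 1)) (xm j l (d - 1) p)

/-- The differential of a cone in positive degree. -/
noncomputable abbrev coneD {A₂ A₁ B₁ B₀ : C} (dA : A₂ ⟶ A₁) (φ : B₁ ⟶ A₁) (dB : B₁ ⟶ B₀) :
    A₂ ⊞ B₁ ⟶ A₁ ⊞ B₀ :=
  biprod.desc (biprod.lift dA 0) (biprod.lift φ (-dB))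

/-- The differential. -/
noncomputable def dd : ∀ (l : List J) (d : ℤ) (p : ℕ), obj M l d (p + 1) ⟶ obj M l d p
  | [], _, _ => 0
  | i :: l, d, 0 => biprod.desc (dd l d 0) (xm M x i l d 0)
  | i :: l, d, p + 1 => coneD (dd l d (p + 1)) (xm M x i l d (p + 1)) (dd l (d - 1) p)

/-- The last term. -/
noncomputable def e0 : ∀ (l : List J) (d : ℤ), obj M l d 0 ⟶ M d
  | [], d => 𝟙 (M d)
  | _ :: l, d => e0 l d

theorem isIso_e0 : ∀ (l : List J) (d : ℤ), IsIso (e0 M l d)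
  | [], d => (inferInstance : IsIso (𝟙 (M d)))
  | _ :: l, d => isIso_e0 l d

theorem xm_e0 (j : J) : ∀ (l : List J) (d : ℤ), xm M x j l d 0 ≫ e0 M l d = e0 M l (d - 1) ≫ x j d
  | [], d => by simp [xm, e0, obj]
  | _ :: l, d => xm_e0 j l d

theorem isZero_obj : ∀ (l : List J) (d : ℤ) (p : ℕ), l.length < p → IsZero (obj M l d p)
  | [], _, 0, h => absurd h (by simp)
  | _ :: _, _, 0, h => absurd h (by simp)
  | [], _, _ + 1, _ => isZero_zero C
  | _ :: l, d, p + 1, h => by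
    have h' : l.length < p := by simpa using h
    exact (biprod_isZero_iff _ _).2 ⟨isZero_obj l d (p + 1) (by omega), isZero_obj l (d - 1) p h'⟩

section Cone

theorem map_comm {A A' A'' B B' B'' : C} {f₁ : A ⟶ A'} {g₁ : B ⟶ B'} {f₂ : A' ⟶ A''} {g₂ : B' ⟶ B''}
    {A₁ B₁ : C} {f₃ : A ⟶ A₁} {g₃ : B ⟶ B₁} {f₄ : A₁ ⟶ A''} {g₄ : B₁ ⟶ B''}
    (hf : f₁ ≫ f₂ = f₃ ≫ f₄) (hg : g₁ ≫ g₂ = g₃ ≫ g₄) :
    biprod.map f₁ g₁ ≫ biprod.map f₂ g₂ = biprod.map f₃ g₃ ≫ biprod.map f₄ g₄ := by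
  refine biprod.hom_ext _ _ ?_ ?_ <;> simp [hf, hg]

theorem map_desc_comm {A A' B B' D D' : C} {f : A ⟶ A'} {g : B ⟶ B'} {u : A' ⟶ D'} {v : B' ⟶ D'}
    {u' : A ⟶ D} {v' : B ⟶ D} {h : D ⟶ D'} (hu : f ≫ u = u' ≫ h) (hv : g ≫ v = v' ≫ h) :
    biprod.map f g ≫ biprod.desc u v = biprod.desc u' v' ≫ h := by
  refine biprod.hom_ext' _ _ ?_ ?_ <;> simp [hu, hv]

theorem map_coneD_comm {A₂ A₁ B₁ B₀ A₂' A₁' B₁' B₀' : C} {dA : A₂ ⟶ A₁} {φ : B₁ ⟶ A₁} {dB : B₁ ⟶ B₀}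
    {dA' : A₂' ⟶ A₁'} {φ' : B₁' ⟶ A₁'} {dB' : B₁' ⟶ B₀'} {f₂ : A₂ ⟶ A₂'} {g₁ : B₁ ⟶ B₁'}
    {f₁ : A₁ ⟶ A₁'} {g₀ : B₀ ⟶ B₀'} (hA : f₂ ≫ dA' = dA ≫ f₁) (hB : g₁ ≫ dB' = dB ≫ g₀)
    (hφ : g₁ ≫ φ' = φ ≫ f₁) :
    biprod.map f₂ g₁ ≫ coneD dA' φ' dB' = coneD dA φ dB ≫ biprod.map f₁ g₀ := by
  refine biprod.hom_ext' _ _ ?_ ?_ <;> refine biprod.hom_ext _ _ ?_ ?_ <;> simp [coneD, hA, hB, hφ]

theorem coneD_desc {A₂ A₁ A₀ B₁ B₀ : C} {dA : A₂ ⟶ A₁} {φ : B₁ ⟶ A₁} {dB : B₁ ⟶ B₀} {dA' : A₁ ⟶ A₀}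
    {φ' : B₀ ⟶ A₀} (hA : dA ≫ dA' = 0) (hφ : φ ≫ dA' = dB ≫ φ') :
    coneD dA φ dB ≫ biprod.desc dA' φ' = 0 := by
  refine biprod.hom_ext' _ _ ?_ ?_ <;> simp [coneD, hA, hφ]

theorem coneD_coneD {A₂ A₁ A₀ B₂ B₁ B₀ : C} {dA : A₂ ⟶ A₁} {φ : B₂ ⟶ A₁} {dB : B₂ ⟶ B₁} {dA' : A₁ ⟶ A₀}
    {φ' : B₁ ⟶ A₀} {dB' : B₁ ⟶ B₀} (hA : dA ≫ dA' = 0) (hB : dB ≫ dB' = 0) (hφ : φ ≫ dA' = dB ≫ φ') :
    coneD dA φ dB ≫ coneD dA' φ' dB' = 0 := by
  refine biprod.hom_ext' _ _ ?_ ?_ <;> refine biprod.hom_ext _ _ ?_ ?_ <;> simp [coneD, hA, hB, hφ]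

end Cone

variable (hx : ∀ (i j : J) (d : ℤ), x i (d - 1) ≫ x j d = x j (d - 1) ≫ x i d)

include hx in
theorem xm_comm (i j : J) : ∀ (l : List J) (d : ℤ) (p : ℕ),
    xm M x i l (d - 1) p ≫ xm M x j l d p = xm M x j l (d - 1) p ≫ xm M x i l d p
  | [], d, 0 => hx i j d
  | [], _, _ + 1 => zero_comp.trans zero_comp.symm
  | _ :: l, d, 0 => xm_comm i j l d 0
  | _ :: l, d, p + 1 => map_comm (xm_comm i j l d (p + 1)) (xm_comm i j l (d - 1) p)

include hx in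
theorem dd_xm (j : J) : ∀ (l : List J) (d : ℤ) (p : ℕ),
    xm M x j l d (p + 1) ≫ dd M x l d p = dd M x l (d - 1) p ≫ xm M x j l d p
  | [], _, _ => comp_zero.trans zero_comp.symm
  | i :: l, d, 0 => map_desc_comm (dd_xm j l d 0) (xm_comm M x hx j i l d 0)
  | i :: l, d, p + 1 => map_coneD_comm (dd_xm j l d (p + 1)) (dd_xm j l (d - 1) p) (xm_comm M x hx j i l d (p + 1))

include hx in
theorem dd_dd : ∀ (l : List J) (d : ℤ) (p : ℕ), dd M x l d (p + 1) ≫ dd M x l d p = 0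
  | [], _, _ => zero_comp
  | i :: l, d, 0 => coneD_desc (dd_dd l d 0) (dd_xm M x hx i l d 0)
  | i :: l, d, p + 1 => coneD_coneD (dd_dd l d (p + 1)) (dd_dd l (d - 1) p) (dd_xm M x hx i l d (p + 1))

section Elements

variable (G : C ⥤ AddCommGrpCat.{u}) [G.Additive]

theorem map_comp_apply {A B D : C} (f : A ⟶ B) (g : B ⟶ D) (z : G.obj A) :
    G.map (f ≫ g) z = G.map g (G.map f z) := by
  rw [G.map_comp]; rfl

theorem map_add_apply {A B : C} (f g : A ⟶ B) (z : G.obj A) :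
    G.map (f + g) z = G.map f z + G.map g z := by
  rw [G.map_add]; rfl

theorem map_zero_apply {A B : C} (z : G.obj A) : G.map (0 : A ⟶ B) z = 0 := by
  rw [G.map_zero]; rfl

theorem map_neg_apply {A B : C} (f : A ⟶ B) (z : G.obj A) : G.map (-f) z = -G.map f z := by
  rw [G.map_neg]; rfl

theorem map_id_apply {A : C} (z : G.obj A) : G.map (𝟙 A) z = z := by
  rw [G.map_id]; rfl

theorem desc_apply {A B D : C} (f : A ⟶ D) (g : B ⟶ D) (z : G.obj (A ⊞ B)) :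
    G.map (biprod.desc f g) z = G.map f (G.map biprod.fst z) + G.map g (G.map biprod.snd z) := by
  rw [← map_comp_apply, ← map_comp_apply, ← map_add_apply, biprod.desc_eq]

theorem coneD_fst {A₂ A₁ B₁ B₀ : C} (dA : A₂ ⟶ A₁) (φ : B₁ ⟶ A₁) (dB : B₁ ⟶ B₀) (z : G.obj (A₂ ⊞ B₁)) :
    G.map biprod.fst (G.map (coneD dA φ dB) z) =
      G.map dA (G.map biprod.fst z) + G.map φ (G.map biprod.snd z) := by
  rw [← map_comp_apply, ← map_comp_apply, ← map_comp_apply, ← map_add_apply]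
  refine congrArg (fun f => G.map f z) ?_
  refine biprod.hom_ext' _ _ ?_ ?_ <;> simp [coneD]

theorem coneD_snd {A₂ A₁ B₁ B₀ : C} (dA : A₂ ⟶ A₁) (φ : B₁ ⟶ A₁) (dB : B₁ ⟶ B₀) (z : G.obj (A₂ ⊞ B₁)) :
    G.map biprod.snd (G.map (coneD dA φ dB) z) = -G.map dB (G.map biprod.snd z) := by
  rw [← map_comp_apply, ← map_comp_apply, ← map_neg_apply]
  refine congrArg (fun f => G.map f z) ?_
  refine biprod.hom_ext' _ _ ?_ ?_ <;> simp [coneD]

theorem prod_ext {A B : C} {z z' : G.obj (A ⊞ B)}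
    (h₁ : G.map (biprod.fst : A ⊞ B ⟶ A) z = G.map biprod.fst z')
    (h₂ : G.map (biprod.snd : A ⊞ B ⟶ B) z = G.map biprod.snd z') : z = z' := by
  have h : ∀ y : G.obj (A ⊞ B), G.map (biprod.inl : A ⟶ A ⊞ B) (G.map biprod.fst y) +
      G.map (biprod.inr : B ⟶ A ⊞ B) (G.map biprod.snd y) = y := fun y => by
    rw [← map_comp_apply, ← map_comp_apply, ← map_add_apply, biprod.total, map_id_apply]
  rw [← h z, ← h z', h₁, h₂]

theorem exists_pair {A B : C} (a : G.obj A) (b : G.obj B) :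
    ∃ z : G.obj (A ⊞ B), G.map biprod.fst z = a ∧ G.map biprod.snd z = b := by
  refine ⟨G.map biprod.inl a + G.map biprod.inr b, ?_, ?_⟩
  · rw [map_add, ← map_comp_apply, ← map_comp_apply, biprod.inl_fst, biprod.inr_fst, map_id_apply, map_zero_apply,
      add_zero]
  · rw [map_add, ← map_comp_apply, ← map_comp_apply, biprod.inl_snd, biprod.inr_snd, map_id_apply, map_zero_apply,
      zero_add]

theorem bijective_map {A A' B B' : C} (f : A ⟶ A') (g : B ⟶ B') (hf : Function.Bijective (G.map f))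
    (hg : Function.Bijective (G.map g)) : Function.Bijective (G.map (biprod.map f g)) := by
  constructor
  · intro a b hab
    have e : ∀ y, G.map (biprod.fst : A' ⊞ B' ⟶ A') (G.map (biprod.map f g) y) = G.map f (G.map biprod.fst y) :=
      fun y => by rw [← map_comp_apply, ← map_comp_apply, biprod.map_fst]
    have e' : ∀ y, G.map (biprod.snd : A' ⊞ B' ⟶ B') (G.map (biprod.map f g) y) = G.map g (G.map biprod.snd y) :=
      fun y => by rw [← map_comp_apply, ← map_comp_apply, biprod.map_snd]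
    refine prod_ext G (hf.1 ?_) (hg.1 ?_)
    · rw [← e, ← e, hab]
    · rw [← e', ← e', hab]
  · intro c
    obtain ⟨a, ha⟩ := hf.2 (G.map biprod.fst c)
    obtain ⟨b, hb⟩ := hg.2 (G.map biprod.snd c)
    obtain ⟨z, hz1, hz2⟩ := exists_pair G a b
    refine ⟨z, prod_ext G ?_ ?_⟩
    · rw [← map_comp_apply, biprod.map_fst, map_comp_apply, hz1, ha]
    · rw [← map_comp_apply, biprod.map_snd, map_comp_apply, hz2, hb]

theorem bijective_xm (j : J) (hj : ∀ d, Function.Bijective (G.map (x j d))) :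
    ∀ (l : List J) (d : ℤ) (p : ℕ), Function.Bijective (G.map (xm M x j l d p))
  | [], d, 0 => hj d
  | [], d, p + 1 => by
    have hz : ∀ (A : C), IsZero A → ∀ z : G.obj A, z = 0 := fun A hA z => by
      rw [← map_id_apply G z, hA.eq_of_src (𝟙 A) 0, map_zero_apply]
    refine ⟨fun a b _ => ?_, fun b => ⟨0, ?_⟩⟩
    · exact (hz _ (isZero_obj M [] _ _ (by simp)) a).trans (hz _ (isZero_obj M [] _ _ (by simp)) b).symm
    · exact (hz _ (isZero_obj M [] _ _ (by simp)) _).trans (hz _ (isZero_obj M [] _ _ (by simp)) b).symm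
  | _ :: l, d, 0 => bijective_xm j hj l d 0
  | _ :: l, d, p + 1 => bijective_map G _ _ (bijective_xm j hj l d (p + 1)) (bijective_xm j hj l (d - 1) p)

theorem surj_desc_of_bijective {A B D : C} (u : A ⟶ D) (v : B ⟶ D) (hv : Function.Surjective (G.map v)) :
    Function.Surjective (G.map (biprod.desc u v)) := fun c => by
  obtain ⟨b, hb⟩ := hv c
  obtain ⟨z, hz1, hz2⟩ := exists_pair G (0 : G.obj A) b
  exact ⟨z, by rw [desc_apply, hz1, hz2, map_zero, zero_add, hb]⟩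

theorem surj_desc_of_surjective {A B D : C} (u : A ⟶ D) (v : B ⟶ D) (hu : Function.Surjective (G.map u)) :
    Function.Surjective (G.map (biprod.desc u v)) := fun c => by
  obtain ⟨a, ha⟩ := hu c
  obtain ⟨z, hz1, hz2⟩ := exists_pair G a (0 : G.obj B)
  exact ⟨z, by rw [desc_apply, hz1, hz2, map_zero, add_zero, ha]⟩

theorem exact_desc_of_bijective {A₂ A₁ A₀ B₁ B₀ : C} (dA : A₂ ⟶ A₁) (φ : B₁ ⟶ A₁) (dB : B₁ ⟶ B₀) (dA' : A₁ ⟶ A₀)
    (φ' : B₀ ⟶ A₀) (hφ : Function.Surjective (G.map φ)) (hφ' : Function.Injective (G.map φ'))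
    (hc : φ ≫ dA' = dB ≫ φ') (z : G.obj (A₁ ⊞ B₀)) (hz : G.map (biprod.desc dA' φ') z = 0) :
    ∃ w, G.map (coneD dA φ dB) w = z := by
  obtain ⟨b, hb⟩ := hφ (G.map biprod.fst z)
  obtain ⟨w, hw1, hw2⟩ := exists_pair G (0 : G.obj A₂) b
  refine ⟨w, prod_ext G ?_ (hφ' ?_)⟩
  · rw [coneD_fst, hw1, hw2, map_zero, zero_add, hb]
  · rw [coneD_snd, hw2, map_neg, ← map_comp_apply, ← hc, map_comp_apply, hb]
    rw [desc_apply] at hz
    exact (eq_neg_of_add_eq_zero_right hz).symm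

theorem exact_coneD_of_bijective {A₂ A₁ A₀ B₂ B₁ B₀ : C} (dA : A₂ ⟶ A₁) (φ : B₂ ⟶ A₁) (dB : B₂ ⟶ B₁)
    (dA' : A₁ ⟶ A₀) (φ' : B₁ ⟶ A₀) (dB' : B₁ ⟶ B₀) (hφ : Function.Surjective (G.map φ))
    (hφ' : Function.Injective (G.map φ')) (hc : φ ≫ dA' = dB ≫ φ') (z : G.obj (A₁ ⊞ B₁))
    (hz : G.map (coneD dA' φ' dB') z = 0) : ∃ w, G.map (coneD dA φ dB) w = z := by
  refine exact_desc_of_bijective G dA φ dB dA' φ' hφ hφ' hc z ?_
  rw [desc_apply]
  have := congrArg (fun a => G.map (biprod.fst : A₀ ⊞ B₀ ⟶ A₀) a) hz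
  simpa only [coneD_fst, map_zero] using this

theorem exact_desc_of_exact {A₂ A₁ A₀ B₁ B₀ : C} (dA : A₂ ⟶ A₁) (φ : B₁ ⟶ A₁) (dB : B₁ ⟶ B₀) (dA' : A₁ ⟶ A₀)
    (φ' : B₀ ⟶ A₀) (hA : ∀ a, G.map dA' a = 0 → ∃ a', G.map dA a' = a)
    (hB : Function.Surjective (G.map dB))
    (hc : φ ≫ dA' = dB ≫ φ') (z : G.obj (A₁ ⊞ B₀)) (hz : G.map (biprod.desc dA' φ') z = 0) :
    ∃ w, G.map (coneD dA φ dB) w = z := by
  obtain ⟨b', hb'⟩ := hB (-(G.map biprod.snd z))
  obtain ⟨a', ha'⟩ := hA (G.map biprod.fst z - G.map φ b') (by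
    rw [map_sub, ← map_comp_apply G φ, hc, map_comp_apply, hb', map_neg, sub_neg_eq_add]
    rwa [desc_apply] at hz)
  obtain ⟨w, hw1, hw2⟩ := exists_pair G a' b'
  refine ⟨w, prod_ext G ?_ ?_⟩
  · rw [coneD_fst, hw1, hw2, ha', sub_add_cancel]
  · rw [coneD_snd, hw2, hb', neg_neg]

theorem exact_coneD_of_exact {A₂ A₁ A₀ B₂ B₁ B₀ : C} (dA : A₂ ⟶ A₁) (φ : B₂ ⟶ A₁) (dB : B₂ ⟶ B₁)
    (dA' : A₁ ⟶ A₀) (φ' : B₁ ⟶ A₀) (dB' : B₁ ⟶ B₀) (hA : ∀ a, G.map dA' a = 0 → ∃ a', G.map dA a' = a)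
    (hB : ∀ b, G.map dB' b = 0 → ∃ b', G.map dB b' = b) (hc : φ ≫ dA' = dB ≫ φ')
    (z : G.obj (A₁ ⊞ B₁)) (hz : G.map (coneD dA' φ' dB') z = 0) : ∃ w, G.map (coneD dA φ dB) w = z := by
  have h1 := congrArg (fun a => G.map (biprod.fst : A₀ ⊞ B₀ ⟶ A₀) a) hz
  have h2 := congrArg (fun a => G.map (biprod.snd : A₀ ⊞ B₀ ⟶ B₀) a) hz
  simp only [coneD_fst, coneD_snd, map_zero, neg_eq_zero] at h1 h2
  obtain ⟨b', hb'⟩ := hB (-(G.map biprod.snd z)) (by rw [map_neg, h2, neg_zero])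
  obtain ⟨a', ha'⟩ := hA (G.map biprod.fst z - G.map φ b') (by
    rw [map_sub, ← map_comp_apply G φ, hc, map_comp_apply, hb', map_neg, sub_neg_eq_add]
    exact h1)
  obtain ⟨w, hw1, hw2⟩ := exists_pair G a' b'
  refine ⟨w, prod_ext G ?_ ?_⟩
  · rw [coneD_fst, hw1, hw2, ha', sub_add_cancel]
  · rw [coneD_snd, hw2, hb', neg_neg]

include hx in
/-- The iterated cone is exact once one of the maps is invertible. -/
theorem exact_of_bijective (j : J) (hj : ∀ d, Function.Bijective (G.map (x j d))) :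
    ∀ (l : List J), j ∈ l → ∀ d : ℤ,
      Function.Surjective (G.map (dd M x l d 0)) ∧
        ∀ (p : ℕ) (z : G.obj (obj M l d (p + 1))), G.map (dd M x l d p) z = 0 →
          ∃ w, G.map (dd M x l d (p + 1)) w = z
  | [], h => absurd h (by simp)
  | i :: l, h => by
    classical
    intro d
    by_cases hij : j = i
    · subst hij
      have hb := bijective_xm M x G j hj l
      refine ⟨surj_desc_of_bijective G _ _ (hb d 0).2, fun p => ?_⟩
      rcases p with _ | p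
      · exact exact_desc_of_bijective G _ _ _ _ _ (hb d 1).2 (hb d 0).1 (dd_xm M x hx j l d 0)
      · exact exact_coneD_of_bijective G _ _ _ _ _ _ (hb d (p + 2)).2 (hb d (p + 1)).1 (dd_xm M x hx j l d (p + 1))
    · have hl : j ∈ l := (List.mem_cons.1 h).resolve_left hij
      have hd := exact_of_bijective j hj l hl d
      have hd' := exact_of_bijective j hj l hl (d - 1)
      refine ⟨surj_desc_of_surjective G _ _ hd.1, fun p => ?_⟩
      rcases p with _ | p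
      · exact exact_desc_of_exact G _ _ _ _ _ (hd.2 0) hd'.1 (dd_xm M x hx i l d 0)
      · exact exact_coneD_of_exact G _ _ _ _ _ _ (hd.2 (p + 1)) (hd'.2 p) (dd_xm M x hx i l d (p + 1))

/-- Everything in the image of the last differential comes from the maps `x`. -/
theorem dd_zero_mem : ∀ (l : List J) (d : ℤ) (S : AddSubgroup (G.obj (M d)))
    (_ : ∀ j ∈ l, ∀ t, G.map (x j d) t ∈ S) (z : G.obj (obj M l d 1)),
    G.map (dd M x l d 0 ≫ e0 M l d) z ∈ S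
  | [], d, S, _, z => by
    show G.map ((0 : obj M [] d 1 ⟶ M d) ≫ 𝟙 (M d)) z ∈ S
    rw [zero_comp, map_zero_apply]
    exact S.zero_mem
  | i :: l, d, S, hS, z => by
    show G.map (biprod.desc (dd M x l d 0) (xm M x i l d 0) ≫ e0 M l d) z ∈ S
    rw [map_comp_apply, desc_apply, map_add]
    refine add_mem ?_ ?_
    · rw [← map_comp_apply G (dd M x l d 0)]
      exact dd_zero_mem l d S (fun j hj => hS j (List.mem_cons_of_mem _ hj)) _
    · rw [← map_comp_apply G (xm M x i l d 0), xm_e0, map_comp_apply]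
      exact hS i (List.mem_cons_self ..) _

end Elements

end Abstract

section Sheaves

variable {X : Scheme.{u}} {J : Type*} (M : ℤ → X.Modules) (x : J → ∀ d : ℤ, M (d - 1) ⟶ M d)
  (hx : ∀ (i j : J) (d : ℤ), x i (d - 1) ≫ x j d = x j (d - 1) ≫ x i d)

variable (l : List J) (hcov : ∀ y : X, ∃ j ∈ l, ∀ d, Function.Bijective ((KFlatLib.stalkAb y).map (x j d)))

include hx hcov in
theorem exact_dd (d : ℤ) (p : ℕ) :
    (ShortComplex.mk (dd M x l d (p + 1)) (dd M x l d p) (dd_dd M x hx l d p)).Exact := by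
  rw [← ShortComplex.exact_map_iff_of_faithful _ (KFlatLib.toAb X),
    TopCat.Sheaf.exact_iff_stalkFunctor_map_exact]
  intro y
  obtain ⟨j, hjl, hj⟩ := hcov y
  haveI : (KFlatLib.stalkAb (X := X) y).Additive := Functor.additive_of_preserves_binary_products _
  rw [ShortComplex.ab_exact_iff]
  exact fun z hz => (exact_of_bijective M x hx (KFlatLib.stalkAb y) j hj l hjl d).2 p z hz

include hx hcov in
theorem epi_dd (d : ℤ) : Epi (dd M x l d 0) := by
  refine (ShortComplex.exact_iff_epi (ShortComplex.mk (dd M x l d 0) (0 : obj M l d 0 ⟶ obj M l d 0) comp_zero) rfl).1 ?_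
  rw [← ShortComplex.exact_map_iff_of_faithful _ (KFlatLib.toAb X),
    TopCat.Sheaf.exact_iff_stalkFunctor_map_exact]
  intro y
  obtain ⟨j, hjl, hj⟩ := hcov y
  haveI : (KFlatLib.stalkAb (X := X) y).Additive := Functor.additive_of_preserves_binary_products _
  rw [ShortComplex.ab_exact_iff]
  exact fun z _ => (exact_of_bijective M x hx (KFlatLib.stalkAb y) j hj l hjl d).1 z

include hx in
/-- The pieces of the complex. -/
theorem shortExact_piece (d : ℤ) (p : ℕ)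
    (h : (ShortComplex.mk (dd M x l d (p + 1)) (dd M x l d p) (dd_dd M x hx l d p)).Exact) :
    (ShortComplex.mk (kernel.ι (dd M x l d (p + 1)))
      (kernel.lift (dd M x l d p) (dd M x l d (p + 1)) (dd_dd M x hx l d p))
      (by rw [← cancel_mono (kernel.ι (dd M x l d p)), Category.assoc, kernel.lift_ι, kernel.condition, zero_comp])).ShortExact := by
  haveI := h.epi_kernelLift
  refine ShortComplex.ShortExact.mk' ?_ inferInstance this
  exact ShortComplex.exact_of_f_is_kernel _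
    (isKernelOfComp _ _ (kernelIsKernel (dd M x l d (p + 1))) _ (kernel.lift_ι _ _ _))

end Sheaves

end Groth.Agent.H28.KoszulCone
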