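import Groth.Agent.H28.SymSplit
import Groth.Agent.H28.MagnetAssoc
import Groth.Agent.H28.FaceDeg
import Groth.Agent.H28.StableFace

/-!
Coordinate rings of attractors are symmetric algebras over those of the fixed loci, when smooth.
-/

set_option autoImplicit false
set_option linter.style.haveILetI false
set_option maxHeartbeats 1000000

universe u

open Magnet Polynomial

namespace Groth.Agent.H28.MagnetBB

open MagnetAff

section

variable {R : Type u} [CommRing R]

/-- The sum of the coefficients. -/
noncomputable def augM (R : Type u) [CommRing R] (K : Type) [AddCommMonoid K] :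
    MonoidAlgebra R (Multiplicative K) →+* R :=
  MonoidAlgebra.liftNCRingHom (RingHom.id R) 1 (fun _ _ => Commute.all _ _)

theorem augM_single {K : Type} [AddCommMonoid K] (n : Multiplicative K) (r : R) :
    augM R K (MonoidAlgebra.single n r) = r :=
  (MonoidAlgebra.liftNC_single _ _ _ _).trans (_root_.mul_one r)

variable {M : Type} [AddCommGroup M] (N : AddSubmonoid M)

open scoped Classical in
/-- The indicator of the units of `N`. -/
noncomputable def unitInd (R : Type u) [CommRing R] : Multiplicative N →* R where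
  toFun n := if -(n.toAdd : M) ∈ N then 1 else 0
  map_one' := if_pos (by show -((0 : N) : M) ∈ N; simp)
  map_mul' a b := by
    show (if -((a.toAdd + b.toAdd : N) : M) ∈ N then (1 : R) else 0) = _
    by_cases ha : -(a.toAdd : M) ∈ N
    · by_cases hb : -(b.toAdd : M) ∈ N
      · rw [if_pos ha, if_pos hb, if_pos, _root_.one_mul]
        rw [AddSubmonoid.coe_add, neg_add]
        exact add_mem ha hb
      · rw [if_neg hb, mul_zero, if_neg]
        intro h
        apply hb
        have := add_mem h a.toAdd.2
        rw [AddSubmonoid.coe_add] at this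
        convert this using 1
        abel
    · rw [if_neg ha, zero_mul, if_neg]
      intro h
      apply ha
      have := add_mem h b.toAdd.2
      rw [AddSubmonoid.coe_add] at this
      convert this using 1
      abel

/-- The sum of the coefficients at units. -/
noncomputable def counitE (R : Type u) [CommRing R] : MonoidAlgebra R (Multiplicative N) →+* R :=
  MonoidAlgebra.liftNCRingHom (RingHom.id R) (unitInd N R) (fun _ _ => Commute.all _ _)

open scoped Classical in
theorem counitE_single (n : Multiplicative N) (r : R) :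
    counitE N R (MonoidAlgebra.single n r) = if -(n.toAdd : M) ∈ N then r else 0 := by
  refine (MonoidAlgebra.liftNC_single _ _ _ _).trans ?_
  show r * (if -(n.toAdd : M) ∈ N then 1 else 0) = _
  split <;> simp

theorem mem_unitFace_iff (m : M) : m ∈ unitFace N ↔ m ∈ N ∧ -m ∈ N := by
  rw [mem_unitFace]
  exact and_congr_right fun _ => ⟨fun ⟨y, hy, h⟩ => (neg_eq_of_add_eq_zero_right h) ▸ hy,
    fun h => ⟨-m, h, add_neg_cancel m⟩⟩

end

variable {M : Type} [AddCommGroup M] [AddGroup.FG M]

theorem fg_unitFace (N : AddSubmonoid M) : (unitFace N).FG := by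
  haveI : AddGroup.FG (StableFace.units N) := by
    haveI : Module.Finite ℤ M := Module.Finite.iff_addGroup_fg.mpr inferInstance
    haveI : IsNoetherian ℤ M := isNoetherian_of_isNoetherianRing_of_finite ℤ M
    haveI : Module.Finite ℤ (AddSubgroup.toIntSubmodule (StableFace.units N)) :=
      Module.Finite.iff_fg.2 (IsNoetherian.noetherian _)
    exact Module.Finite.iff_addGroup_fg.mp
      (inferInstanceAs (Module.Finite ℤ (AddSubgroup.toIntSubmodule (StableFace.units N))))
  have h := (AddGroup.fg_iff_addSubgroup_fg (StableFace.units N)).mp inferInstance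
  have e : unitFace N = (StableFace.units N).toAddSubmonoid := by
    ext m
    exact mem_unitFace_iff N m
  rw [e]
  exact (AddSubgroup.fg_iff_addSubmonoid_fg _).mp h

open scoped Classical in
theorem exists_symmetricAlgebra (N : AddSubmonoid M) {A B C : Type u} [CommRing A] [CommRing B] [CommRing C]
    [Algebra B C] [Algebra.Smooth B C] (δ : A →+* MonoidAlgebra A (Multiplicative M))
    (hassoc : ∀ a, MonoidAlgebra.mapRingHom (Multiplicative M) δ (δ a) = diag2 A (δ a))
    (hcounit : ∀ a, augM A M (δ a) = a)
    (pN : A →+* C) (pQ : A →+* B) (hpN : Function.Surjective pN) (hpQ : Function.Surjective pQ)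
    (hkN : RingHom.ker pN = Ideal.span {r | ∃ b, ∃ m ∉ N, (δ b).coeff (Multiplicative.ofAdd m) = r})
    (hkQ : RingHom.ker pQ = Ideal.span {r | ∃ b, ∃ m ∉ unitFace N, (δ b).coeff (Multiplicative.ofAdd m) = r})
    (hφ : ∀ b y, inclN N C y = MonoidAlgebra.mapRingHom (Multiplicative M) pN (δ b) →
      algebraMap B C (pQ b) = counitE N C y) :
    ∃ (P : Type u) (_ : AddCommGroup P) (_ : Module B P),
      Module.Finite B P ∧ Module.Projective B P ∧ Nonempty (SymmetricAlgebra B P ≃ₐ[B] C) := by
  let Q := unitFace N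
  have hQN : Q ≤ N := unitFace_le N
  have hQiff : ∀ n : N, -(n : M) ∈ N ↔ (n : M) ∈ Q := fun n =>
    ⟨fun h => (mem_unitFace_iff N _).2 ⟨n.2, h⟩, fun h => ((mem_unitFace_iff N _).1 h).2⟩
  -- the grading of `C`
  let G0 : A →+* MonoidAlgebra C (Multiplicative M) := (MonoidAlgebra.mapRingHom (Multiplicative M) pN).comp δ
  have hG0 : ∀ a m, (G0 a).coeff m = pN ((δ a).coeff m) := fun a m => by
    simp only [G0, RingHom.comp_apply, MonoidAlgebra.coeff_mapRingHom]
  have hδsingle : ∀ a m, δ ((δ a).coeff m) = MonoidAlgebra.single m ((δ a).coeff m) := fun a m => by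
    have h := congrArg (fun q => q.coeff m) (hassoc a)
    simpa only [MonoidAlgebra.coeff_mapRingHom, coeff_diag2] using h
  have hzero : ∀ a m, m ∉ N → (G0 a).coeff (Multiplicative.ofAdd m) = 0 := fun a m hm => by
    rw [hG0, ← RingHom.mem_ker, hkN]
    exact Ideal.subset_span ⟨a, m, hm, rfl⟩
  have hker : RingHom.ker pN ≤ RingHom.ker G0 := by
    rw [hkN, Ideal.span_le]
    rintro _ ⟨b, m, hm, rfl⟩
    show G0 _ = 0
    show MonoidAlgebra.mapRingHom (Multiplicative M) pN (δ _) = 0
    rw [hδsingle, MonoidAlgebra.mapRingHom_single, ← hG0, hzero b m hm]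
    simp
  obtain ⟨G, hG⟩ : ∃ G : C →+* MonoidAlgebra C (Multiplicative M), ∀ a, G (pN a) = G0 a :=
    ⟨RingHom.liftOfSurjective pN hpN ⟨G0, hker⟩, fun a => RingHom.liftOfRightInverse_comp_apply _ _ _ ⟨G0, hker⟩ a⟩
  have hG2 : ∀ c m, G ((G c).coeff m) = MonoidAlgebra.single m ((G c).coeff m) := fun c m => by
    obtain ⟨a, rfl⟩ := hpN c
    rw [hG, hG0, hG]
    show MonoidAlgebra.mapRingHom (Multiplicative M) pN (δ _) = _
    rw [hδsingle, MonoidAlgebra.mapRingHom_single]
  have hG1 : ∀ c, augM C M (G c) = c := fun c => by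
    obtain ⟨a, rfl⟩ := hpN c
    rw [hG]
    have h : (augM C M).comp (MonoidAlgebra.mapRingHom (Multiplicative M) pN) = pN.comp (augM A M) :=
      MonoidAlgebra.ringHom_ext
        (fun r => by simp only [RingHom.comp_apply, MonoidAlgebra.mapRingHom_single, augM_single])
        (fun m => by simp only [RingHom.comp_apply, MonoidAlgebra.mapRingHom_single, augM_single])
    exact (RingHom.congr_fun h (δ a)).trans (congrArg pN (hcounit a))
  have hGN : ∀ c, ∃ y, inclN N C y = G c := fun c => mem_range_inclN N fun m hm => by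
    obtain ⟨a, rfl⟩ := hpN c
    rw [hG]
    exact hzero a m hm
  -- a finitely generated monoid carrying the grading
  obtain ⟨s, hs⟩ := (inferInstance : Algebra.FiniteType B C).1
  let E : Finset M := (s.biUnion fun c => (G c).coeff.support.image Multiplicative.toAdd).filter (· ∈ N)
  let N' : AddSubmonoid M := AddSubmonoid.closure (E : Set M) ⊔ Q
  have hN'N : N' ≤ N := sup_le (AddSubmonoid.closure_le.2 fun m hm => (Finset.mem_filter.1 hm).2) hQN
  have hN'fg : N'.FG := (show (AddSubmonoid.closure (E : Set M)).FG from ⟨E, rfl⟩).sup (fg_unitFace N)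
  have hface : IsFace N' Q := ⟨le_sup_right, fun x hx y hy h =>
    (isFace_unitFace N).mem_of_add_mem x (hN'N hx) y (hN'N hy) h⟩
  obtain ⟨d, hd, hd0⟩ := FaceDeg.exists_deg hN'fg hface
  have hcounitQ : ∀ (y : MonoidAlgebra C (Multiplicative N)),
      (∀ n, G (y.coeff n) = MonoidAlgebra.single (Multiplicative.ofAdd ((n.toAdd : N) : M)) (y.coeff n)) →
      ∀ m, m ∉ N' → (G (counitE N C y)).coeff (Multiplicative.ofAdd m) = 0 := by
    intro y hy m hm
    conv_lhs => rw [← MonoidAlgebra.sum_coeff_single y]
    rw [Finsupp.sum, map_sum, map_sum, MonoidAlgebra.coeff_sum, Finsupp.finsetSum_apply]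
    refine Finset.sum_eq_zero fun n _ => ?_
    rw [counitE_single]
    split
    · rename_i hn
      rw [hy, MonoidAlgebra.coeff_single, Finsupp.single_eq_of_ne]
      intro e
      exact hm (le_sup_right (a := AddSubmonoid.closure (E : Set M))
        ((Multiplicative.ofAdd.injective e) ▸ (hQiff n.toAdd).1 hn))
    · simp
  have hrange : ∀ c, ∃ y, inclN N' C y = G c := by
    intro c
    have hc : c ∈ Algebra.adjoin B (s : Set C) := hs ▸ Algebra.mem_top
    induction hc using Algebra.adjoin_induction with
    | mem x hx =>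
      refine mem_range_inclN N' fun m hm => ?_
      by_contra hne
      refine hm (le_sup_left (b := Q) (AddSubmonoid.subset_closure (Finset.mem_filter.2 ⟨Finset.mem_biUnion.2
        ⟨x, hx, Finset.mem_image.2 ⟨Multiplicative.ofAdd m, Finsupp.mem_support_iff.2 hne, rfl⟩⟩, ?_⟩)))
      obtain ⟨y, hy⟩ := hGN x
      by_contra hmN
      exact hne (by rw [← hy]; exact coeff_inclN N y hmN)
    | algebraMap r =>
      obtain ⟨a, rfl⟩ := hpQ r
      obtain ⟨y, hy⟩ := hGN (pN a)
      rw [hG] at hy
      rw [hφ a y hy]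
      refine mem_range_inclN N' fun m hm => hcounitQ y (fun n => ?_) m hm
      have h := congrArg (fun q => q.coeff (Multiplicative.ofAdd ((n.toAdd : N) : M))) hy
      have hinj : Function.Injective (AddMonoidHom.toMultiplicative N.subtype) :=
        fun _ _ e => Multiplicative.toAdd.injective (Subtype.val_injective (congrArg Multiplicative.toAdd e))
      have h' : (inclN N C y).coeff (AddMonoidHom.toMultiplicative N.subtype n) = y.coeff n := by
        rw [MonoidAlgebra.mapDomainRingHom_apply]
        exact Finsupp.mapDomain_apply hinj y.coeff n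
      have h'' : y.coeff n = (G (pN a)).coeff (Multiplicative.ofAdd ((n.toAdd : N) : M)) := by
        rw [hG, ← h']; exact h
      rw [h'', hG2]
    | add x y _ _ hx hy =>
      obtain ⟨a, ha⟩ := hx
      obtain ⟨b, hb⟩ := hy
      exact ⟨a + b, by rw [map_add, map_add, ha, hb]⟩
    | mul x y _ _ hx hy =>
      obtain ⟨a, ha⟩ := hx
      obtain ⟨b, hb⟩ := hy
      exact ⟨a * b, by rw [map_mul, map_mul, ha, hb]⟩
  obtain ⟨ψ, hψ⟩ := exists_lift_ringHom N' G fun c m hm => by
    obtain ⟨y, hy⟩ := hrange c
    rw [← hy]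
    exact coeff_inclN N' y hm
  have hψ' : ∀ c, inclN N' C (ψ c) = G c := fun c => RingHom.congr_fun hψ c
  -- the contraction
  let e : Multiplicative N' →* C[X] :=
    { toFun := fun n => X ^ (d n.toAdd).toNat
      map_one' := by simp
      map_mul' := fun a b => by
        rw [← pow_add]
        congr 1
        show (d ((a.toAdd + b.toAdd : N') : M)).toNat = _
        rw [AddSubmonoid.coe_add, map_add, Int.toNat_add (hd _ a.toAdd.2) (hd _ b.toAdd.2)] }
  let T : MonoidAlgebra C (Multiplicative N') →+* C[X] :=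
    MonoidAlgebra.liftNCRingHom Polynomial.C e (fun _ _ => Commute.all _ _)
  have hT : ∀ n r, T (MonoidAlgebra.single n r) = monomial (d n.toAdd).toNat r := fun n r => by
    refine (MonoidAlgebra.liftNC_single _ _ _ _).trans ?_
    exact C_mul_X_pow_eq_monomial
  let ρ0 : C →+* C[X] := T.comp ψ
  have hρ1 : ∀ c, (ρ0 c).eval 1 = c := fun c => by
    have h : (Polynomial.evalRingHom (1 : C)).comp T = (augM C M).comp (inclN N' C) :=
      MonoidAlgebra.ringHom_ext
        (fun r => by simp [hT, augM_single])
        (fun m => by simp [hT, augM_single])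
    have h' := RingHom.congr_fun h (ψ c)
    rw [RingHom.comp_apply, RingHom.comp_apply, hψ', hG1] at h'
    exact h'
  have hψc : ∀ c n, ψ ((ψ c).coeff n) = MonoidAlgebra.single n ((ψ c).coeff n) := fun c n => by
    have hinj : Function.Injective (AddMonoidHom.toMultiplicative N'.subtype) :=
      fun _ _ e => Multiplicative.toAdd.injective (Subtype.val_injective (congrArg Multiplicative.toAdd e))
    have h1 : (ψ c).coeff n = (G c).coeff (AddMonoidHom.toMultiplicative N'.subtype n) := by
      rw [← hψ' c, MonoidAlgebra.mapDomainRingHom_apply]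
      exact (Finsupp.mapDomain_apply hinj (ψ c).coeff n).symm
    apply inclN_injective N'
    rw [hψ', h1, hG2, MonoidAlgebra.mapDomainRingHom_apply, MonoidAlgebra.mapDomain_single]
  have hρ2 : ∀ c k, ρ0 ((ρ0 c).coeff k) = monomial k ((ρ0 c).coeff k) := fun c k => by
    have h1 : (ρ0 c).coeff k = ∑ n ∈ (ψ c).coeff.support, if (d n.toAdd).toNat = k then (ψ c).coeff n else 0 := by
      show (T (ψ c)).coeff k = _
      conv_lhs => rw [← MonoidAlgebra.sum_coeff_single (ψ c)]
      rw [Finsupp.sum, map_sum, Polynomial.finsetSum_coeff]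
      exact Finset.sum_congr rfl fun n _ => by rw [hT, coeff_monomial]
    rw [h1, map_sum, map_sum]
    refine Finset.sum_congr rfl fun n _ => ?_
    split
    · rename_i hk
      show T (ψ _) = _
      rw [hψc, hT, hk]
    · rw [map_zero, map_zero]
  have hρ0 : ∀ a, (ρ0 (pN a)).coeff 0 = algebraMap B C (pQ a) := fun a => by
    let ι := MonoidAlgebra.mapDomainRingHom C (AddMonoidHom.toMultiplicative (AddSubmonoid.inclusion hN'N))
    have h : (Polynomial.constantCoeff).comp T = (counitE N C).comp ι := by
      refine MonoidAlgebra.ringHom_ext (fun r => ?_) (fun n => ?_)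
      · simp [ι, hT, counitE_single, Polynomial.constantCoeff_apply]
      · simp only [RingHom.comp_apply, ι, MonoidAlgebra.mapDomainRingHom_apply, MonoidAlgebra.mapDomain_single,
          hT, counitE_single, Polynomial.constantCoeff_apply, coeff_monomial]
        have h1 : -(n.toAdd : M) ∈ N ↔ (d n.toAdd).toNat = 0 := by
          refine (hQiff ⟨_, hN'N n.toAdd.2⟩).trans ((hd0 _ n.toAdd.2).symm.trans ?_)
          have := hd _ n.toAdd.2
          omega
        exact if_congr h1.symm rfl rfl
    refine Eq.trans (RingHom.congr_fun h (ψ (pN a))) (hφ a _ ?_).symm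
    show _ = G0 a
    rw [← hG, ← hψ', ← RingHom.comp_apply, ← MonoidAlgebra.mapDomainRingHom_comp]
    rfl
  have hcomm : ∀ r : B, ρ0 (algebraMap B C r) = algebraMap B C[X] r := fun r => by
    obtain ⟨a, rfl⟩ := hpQ r
    rw [← hρ0, hρ2, monomial_zero_left, hρ0]
    rfl
  let ρ : C →ₐ[B] C[X] := { ρ0 with commutes' := hcomm }
  have h0 : ∀ c, (ρ c).coeff 0 ∈ (algebraMap B C).range := fun c => by
    obtain ⟨a, rfl⟩ := hpN c
    exact ⟨pQ a, (hρ0 a).symm⟩
  have hinj : Function.Injective (algebraMap B C) := by
    have hle : RingHom.ker pN ≤ RingHom.ker pQ := by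
      rw [hkN, hkQ]
      refine Ideal.span_mono ?_
      rintro _ ⟨b, m, hm, rfl⟩
      exact ⟨b, m, fun h => hm (hQN h), rfl⟩
    obtain ⟨π, hπ⟩ : ∃ π : C →+* B, ∀ a, π (pN a) = pQ a :=
      ⟨RingHom.liftOfSurjective pN hpN ⟨pQ, hle⟩, fun a => RingHom.liftOfRightInverse_comp_apply _ _ _ ⟨pQ, hle⟩ a⟩
    suffices h : ∀ r, π (algebraMap B C r) = r from fun r r' e => by rw [← h r, ← h r', e]
    intro r
    obtain ⟨a, rfl⟩ := hpQ r
    obtain ⟨y, hy⟩ := hGN (pN a)
    rw [hG] at hy
    rw [hφ a y hy, ← hπ a]
    conv_rhs => rw [← hG1 (pN a), hG, ← hy]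
    have hs : ∀ n : Multiplicative N, -(n.toAdd : M) ∉ N → π (y.coeff n) = 0 := fun n hn => by
      have hinj : Function.Injective (AddMonoidHom.toMultiplicative N.subtype) :=
        fun _ _ e => Multiplicative.toAdd.injective (Subtype.val_injective (congrArg Multiplicative.toAdd e))
      have h1 : y.coeff n = (G0 a).coeff (AddMonoidHom.toMultiplicative N.subtype n) := by
        rw [← show inclN N C y = G0 a from hy, MonoidAlgebra.mapDomainRingHom_apply]
        exact (Finsupp.mapDomain_apply hinj y.coeff n).symm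
      rw [h1, hG0, hπ, ← RingHom.mem_ker, hkQ]
      exact Ideal.subset_span ⟨a, _, fun h => hn ((hQiff n.toAdd).2 h), rfl⟩
    conv_lhs => rw [← MonoidAlgebra.sum_coeff_single y]
    conv_rhs => rw [← MonoidAlgebra.sum_coeff_single y]
    simp only [Finsupp.sum, map_sum, MonoidAlgebra.mapDomainRingHom_apply, MonoidAlgebra.mapDomain_single,
      augM_single, counitE_single]
    refine Finset.sum_congr rfl fun n _ => ?_
    split
    · rfl
    · rename_i hn
      rw [hs n hn, map_zero]
  exact SymSplit.exists_equiv ρ hρ1 hρ2 h0 hinj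

end Groth.Agent.H28.MagnetBB
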