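import Groth.Agent.H28.MagnetBB
import Groth.Agent.H28.MagnetRep
import Groth.Agent.H28.EqvGlue
import Groth.Agent.H28.StableFace
import Groth.Agent.H28.FaceThick
import Groth.Prelude.Def_Magnet4
import Mathlib.AlgebraicGeometry.Morphisms.Smooth
import Mathlib.AlgebraicGeometry.Morphisms.ClosedImmersion

/-!
Attractors of smooth schemes are vector bundles over the fixed loci, Zariski locally.
-/

set_option autoImplicit false
set_option linter.style.haveILetI false
set_option maxHeartbeats 1000000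

universe u

open CategoryTheory CategoryTheory.Limits MonoidalCategory CartesianMonoidalCategory MonObj AlgebraicGeometry
open Opposite Magnet

namespace Groth.Agent.H28.MagnetVB

open H23.CharPts H23.AttrComapGrp MagnetAff MagnetBB FaceThick

variable {S : Scheme.{u}}

section

variable {K : Type} [AddCommMonoid K] (W : Over S) [IsAffine W.left]

/-- Functions along a section `W → A(K) ×_S W`. -/
theorem appTop_section {V : Over S} (c : W ⟶ AMonS S K) (h : AMonS S K ⊗ W ⟶ V) (v : RR V) :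
    (lift c (𝟙 W) ≫ h).left.appTop v =
      MonoidAlgebra.liftNCRingHom (RingHom.id (RR W)) (chi c) (fun _ _ => Commute.all _ _) (co W h v) := by
  have e : (lift c (𝟙 W)).left.appTop.hom.comp (theta K W) =
      MonoidAlgebra.liftNCRingHom (RingHom.id (RR W)) (chi c) (fun _ _ => Commute.all _ _) := by
    refine MonoidAlgebra.ringHom_ext (fun r => ?_) (fun m => ?_)
    · refine Eq.trans ?_ (MonoidAlgebra.liftNC_single _ _ _ _).symm
      rw [RingHom.comp_apply, theta_single, map_one, _root_.mul_one, map_one]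
      show (lift c (𝟙 W) ≫ snd _ _).left.appTop r = r * 1
      rw [lift_snd, _root_.mul_one]
      rfl
    · refine Eq.trans ?_ (MonoidAlgebra.liftNC_single _ _ _ _).symm
      show (lift c (𝟙 W)).left.appTop.hom (theta K W (MonoidAlgebra.single m 1)) = (1 : RR W) * chi c m
      rw [theta_single, map_one, _root_.one_mul]
      erw [← chi_comp (lift c (𝟙 W)) (fst _ W)]
      rw [lift_fst]
      exact (_root_.one_mul _).symm
  rw [← RingHom.congr_fun e, RingHom.comp_apply, theta_co]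
  rfl

theorem chi_one (m : Multiplicative K) : chi (1 : W ⟶ AMonS S K) m = 1 := by
  rw [← eq_one_of_map_zero (1 : W ⟶ AMonS S K), chi_map]
  exact map_one _

end

variable {M : Type} [AddCommGroup M] {X : Over S} (a : MonAct (AMonS S M) X)

theorem counit [IsAffineHom X.hom] (T : Over S) [IsAffine T.left] (b : RR (X ⊗ T)) :
    augM _ M (co (X ⊗ T) (sigW a T) b) = b := by
  have h : lift 1 (𝟙 (X ⊗ T)) ≫ sigW a T = 𝟙 _ := by
    apply CartesianMonoidalCategory.hom_ext
    · rw [Category.assoc, lift_fst, lift_whiskerLeft_assoc, Category.id_comp, MonAct.lift_one_act]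
    · rw [Category.assoc, lift_snd, lift_snd_assoc, Category.id_comp]
  have h1 := appTop_section (X ⊗ T) 1 (sigW a T) b
  rw [h] at h1
  refine Eq.trans ?_ h1.symm
  refine RingHom.congr_fun (MonoidAlgebra.ringHom_ext (fun r => ?_) (fun m => ?_)) _
  · exact (augM_single _ _).trans ((MonoidAlgebra.liftNC_single _ _ _ _).trans (by rw [chi_one]; exact _root_.mul_one r)).symm
  · exact (augM_single _ _).trans ((MonoidAlgebra.liftNC_single _ _ _ _).trans (by rw [chi_one]; exact _root_.mul_one (1 : RR (X ⊗ T)))).symm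

/-- Membership in the attractor in coordinates. -/
theorem crit [IsAffineHom X.hom] {T : Over S} [IsAffine T.left] [Mono T.hom] (L : AddSubmonoid M) {T' : Over S}
    [IsAffine T'.left] (z : T' ⟶ X ⊗ T) :
    InAttr L a (z ≫ fst X T) ↔
      ∀ b, ∀ m ∉ L, z.left.appTop ((co (X ⊗ T) (sigW a T) b).coeff (Multiplicative.ofAdd m)) = 0 := by
  haveI : IsSeparated X.hom := inferInstance
  have hsig : (AMonS S M ◁ z) ≫ sigW a T = lift ((AMonS S M ◁ (z ≫ fst X T)) ≫ a.act) (snd _ _ ≫ z ≫ snd X T) := by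
    rw [comp_lift, ← MonoidalCategory.whiskerLeft_comp_assoc, whiskerLeft_snd_assoc]
  have hco : ∀ b m, (co T' ((AMonS S M ◁ z) ≫ sigW a T) b).coeff m =
      z.left.appTop ((co (X ⊗ T) (sigW a T) b).coeff m) := by
    intro b m
    rw [co_whisker (X ⊗ T) z, RingHom.comp_apply, MonoidAlgebra.coeff_mapRingHom]
  have huniq : ∀ {Y : Over S} (f g : Y ⟶ T), f = g := fun f g =>
    Over.OverMorphism.ext ((cancel_mono T.hom).1 ((Over.w f).trans (Over.w g).symm))
  rw [inAttr_iff]
  constructor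
  · rintro ⟨φ, hφ⟩ b m hm
    have h1 : (AMonS S M ◁ z) ≫ sigW a T = (AMonS.map S L.subtype ▷ T') ≫ lift φ (snd _ _ ≫ z ≫ snd X T) := by
      rw [hsig, comp_lift, hφ]
      exact congrArg (lift _) (huniq _ _)
    rw [← hco, h1, co_map, RingHom.comp_apply]
    exact coeff_inclN L _ hm
  · intro h
    obtain ⟨ψ, hψ⟩ := exists_lift_ringHom L (co T' ((AMonS S M ◁ z) ≫ sigW a T))
      (fun b m hm => (hco b _).trans (h b m hm))
    obtain ⟨f, hf⟩ := exists_hom_of_appTop ((theta L T').comp ψ)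
    have hsnd : f ≫ (snd X T).left = (snd _ T' ≫ z ≫ snd X T).left := by
      refine ext_of_isAffine (CommRingCat.hom_ext (RingHom.ext fun r => ?_))
      rw [Scheme.Hom.comp_appTop]
      refine (hf _).trans ?_
      have h1 : ψ ((snd X T).left.appTop r) = MonoidAlgebra.single 1 ((z ≫ snd X T).left.appTop r) := by
        refine inclN_injective L ?_
        refine (RingHom.congr_fun hψ _).trans ?_
        have h2 : co T' ((AMonS S M ◁ z) ≫ sigW a T) ((snd X T).left.appTop r) =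
            co T' (snd _ T' ≫ z ≫ snd X T) r := by
          rw [show snd _ T' ≫ z ≫ snd X T = ((AMonS S M ◁ z) ≫ sigW a T) ≫ snd X T from by rw [hsig, lift_snd],
            co_comp T' ((AMonS S M ◁ z) ≫ sigW a T) (snd X T)]
          rfl
        rw [h2, co_snd, MonoidAlgebra.mapDomainRingHom_apply, MonoidAlgebra.mapDomain_single, map_one]
      rw [RingHom.comp_apply]
      refine (congrArg (theta L T') h1).trans ?_
      rw [theta_single, map_one, _root_.mul_one]
      rfl
    let φ' : AMonS S L ⊗ T' ⟶ X ⊗ T := Over.homMk f (by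
      rw [← Over.w (snd X T), ← Category.assoc, hsnd, Over.w (snd _ T' ≫ z ≫ snd X T)])
    refine ⟨φ' ≫ fst X T, ?_⟩
    have h1 : (AMonS.map S L.subtype ▷ T') ≫ φ' = (AMonS S M ◁ z) ≫ sigW a T := by
      refine Over.OverMorphism.ext (ext_of_isAffine (CommRingCat.hom_ext (RingHom.ext fun b => ?_)))
      rw [← theta_co T' ((AMonS S M ◁ z) ≫ sigW a T) b, ← hψ, RingHom.comp_apply, ← RingHom.comp_apply (theta M T'),
        ← theta_map, RingHom.comp_apply]
      show (AMonS.map S L.subtype ▷ T').left.appTop (f.appTop b) = _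
      rw [hf]
      rfl
    rw [reassoc_of% h1, ← Category.assoc, hsig, lift_fst]

/-- The coefficient ideal of a submonoid. -/
noncomputable def coeffIdeal [IsAffineHom X.hom] (T : Over S) [IsAffine T.left] (L : AddSubmonoid M) :
    Ideal (RR (X ⊗ T)) :=
  Ideal.span {r | ∃ b, ∃ m ∉ L, (co (X ⊗ T) (sigW a T) b).coeff (Multiplicative.ofAdd m) = r}

/-- The part of an attractor lying over a stable open, affine over an affine open of the base. -/
theorem exists_piece {Vo : Over S} [IsAffineHom Vo.hom] (aV : MonAct (AMonS S M) Vo) (jV : Vo ⟶ X)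
    [IsOpenImmersion jV.left] (hjV : MonAct.IsEquivariant aV a jV) (T : Over S) [IsAffine T.left]
    [IsOpenImmersion T.hom] (L : AddSubmonoid M) {e : 𝟙_ (Over S) ⟶ AMonS S L}
    (he : StableOpen.StablePt (subAct S M L) e) {Z : Over S} (eZ : (attr a L).RepresentableBy Z)
    (O : Z.left.Opens)
    (hO : ∀ y : Z.left, y ∈ O ↔ (lift (toUnit Z ≫ e) (𝟙 Z) ≫ (eZ.homEquiv (𝟙 Z)).1).left y ∈
      Set.range (fst Vo T ≫ jV).left) :
    IsAffineOpen O ∧ ∃ (h : Over.mk (O.ι ≫ Z.hom) ⟶ Vo ⊗ T)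
      (φ : (attr aV L).obj (op (Over.mk (O.ι ≫ Z.hom)))),
      φ.1 ≫ jV = (eZ.homEquiv (Over.homMk O.ι rfl)).1 ∧
      h ≫ fst Vo T = (attrToX aV L).app (op _) φ ∧
      Function.Surjective h.left.appTop.hom ∧ RingHom.ker h.left.appTop.hom = coeffIdeal aV T L := by
  let Oo : Over S := Over.mk (O.ι ≫ Z.hom)
  let u : Oo ⟶ Z := Over.homMk O.ι rfl
  haveI : IsSeparated Vo.hom := inferInstance
  haveI : Mono T.hom := inferInstance
  haveI : Mono jV := (Over.forget S).mono_of_mono_map (inferInstanceAs (Mono jV.left))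
  haveI : IsOpenImmersion u.left := inferInstanceAs (IsOpenImmersion O.ι)
  haveI : Mono u := (Over.forget S).mono_of_mono_map (inferInstanceAs (Mono u.left))
  haveI : IsOpenImmersion (fst Vo T).left :=
    inferInstanceAs (IsOpenImmersion (Limits.pullback.fst Vo.hom T.hom))
  haveI : IsOpenImmersion (fst Vo T ≫ jV).left :=
    inferInstanceAs (IsOpenImmersion ((fst Vo T).left ≫ jV.left))
  have huniq : ∀ {Y : Over S} (f g : Y ⟶ T), f = g := fun f g =>
    Over.OverMorphism.ext ((cancel_mono T.hom).1 ((Over.w f).trans (Over.w g).symm))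
  let r : Z ⟶ X := lift (toUnit Z ≫ e) (𝟙 Z) ≫ (eZ.homEquiv (𝟙 Z)).1
  have hr : ∀ {Y : Over S} (g : Y ⟶ Z), g ≫ r = lift (toUnit Y ≫ e) (𝟙 Y) ≫ (eZ.homEquiv g).1 := by
    intro Y g
    show _ = lift _ _ ≫ (eZ.homEquiv g).1
    rw [show eZ.homEquiv g = (attr a L).map g.op (eZ.homEquiv (𝟙 Z)) from by rw [← eZ.homEquiv_comp, Category.comp_id]]
    show g ≫ lift _ _ ≫ _ = lift _ _ ≫ (AMonS S L ◁ g) ≫ _
    rw [lift_whiskerLeft_assoc, comp_lift_assoc, ← Category.assoc g, comp_toUnit, Category.comp_id, Category.id_comp]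
  -- the point over `O`
  obtain ⟨q, hq⟩ := StableOpen.exists_lift (fst Vo T ≫ jV) (u ≫ r) (by
    rintro _ ⟨y, rfl⟩
    exact (hO y.1).1 y.2)
  obtain ⟨φ0, hφ0⟩ := StableOpen.exists_factor jV hjV he (eZ.homEquiv u).1 (eZ.homEquiv u).2 (q ≫ fst Vo T)
    (by rw [← hr, Category.assoc, hq])
  have hφeq : MonAct.IsEquivariant ((subAct S M L).prod (MonAct.trivial (AMonS S M) Oo)) aV φ0 := by
    unfold MonAct.IsEquivariant
    rw [← cancel_mono jV, Category.assoc, hφ0, (eZ.homEquiv u).2, Category.assoc, hjV,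
      ← MonoidalCategory.whiskerLeft_comp_assoc, hφ0]
  let φ : (attr aV L).obj (op Oo) := ⟨φ0, hφeq⟩
  -- the closed subscheme
  obtain ⟨VL, iL, dL, hiL, hdL⟩ := MagnetAff.exists_representableBy L aV
  haveI : IsClosedImmersion iL.left := hiL
  let W := VL ⊗ T
  let k : W ⟶ Vo ⊗ T := lift (fst VL T ≫ iL) (snd VL T)
  haveI hk : IsClosedImmersion k.left := by
    have outer : IsPullback (k.left ≫ (snd Vo T).left) (fst VL T).left T.hom (iL.left ≫ Vo.hom) := by
      rw [← Over.comp_left, show k ≫ snd Vo T = snd VL T from lift_snd _ _, Over.w iL]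
      exact (IsPullback.of_hasPullback VL.hom T.hom).flip
    have sq : IsPullback (fst VL T).left k.left iL.left (fst Vo T).left :=
      (IsPullback.of_right outer (congrArg Over.Hom.left (lift_fst _ _ : k ≫ fst Vo T = _))
        (IsPullback.of_hasPullback Vo.hom T.hom).flip).flip
    exact MorphismProperty.of_isPullback sq hiL
  haveI : IsAffine W.left := isAffine_of_isAffineHom k.left
  have hkin : InAttr L aV (k ≫ fst Vo T) := by
    refine ⟨dL.homEquiv (fst VL T), ?_⟩
    rw [hdL, lift_fst]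
  let φW : (attr aV L).obj (op W) := dL.homEquiv (fst VL T)
  let gX : (attr a L).obj (op W) := (MonAct.eqvHom.postcomp (subAct S M L) jV hjV).app (op W) φW
  let g0 : W ⟶ Z := eZ.homEquiv.symm gX
  obtain ⟨g, hg⟩ := StableOpen.exists_lift u g0 (by
    rintro _ ⟨y, rfl⟩
    refine ⟨⟨_, (hO _).2 ?_⟩, rfl⟩
    have h1 : g0 ≫ r = lift (lift (toUnit W ≫ e) (𝟙 W) ≫ φW.1) (snd VL T) ≫ (fst Vo T ≫ jV) := by
      rw [hr, lift_fst_assoc, show eZ.homEquiv g0 = gX from eZ.homEquiv.apply_symm_apply _, Category.assoc]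
      rfl
    show (g0 ≫ r).left y ∈ _
    rw [h1]
    exact ⟨_, rfl⟩)
  let hh : Oo ⟶ W := lift (dL.homEquiv.symm φ) (q ≫ snd Vo T)
  have hhφ : dL.homEquiv (hh ≫ fst VL T) = φ := by rw [lift_fst, Equiv.apply_symm_apply]
  have e1 : g ≫ hh = 𝟙 W := by
    apply CartesianMonoidalCategory.hom_ext
    · apply dL.homEquiv.injective
      rw [Category.assoc, dL.homEquiv_comp, hhφ, Category.id_comp]
      refine Subtype.ext ((cancel_mono jV).1 ?_)
      show ((AMonS S L ◁ g) ≫ φ0) ≫ jV = gX.1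
      rw [Category.assoc, hφ0, ← eZ.homEquiv.apply_symm_apply gX]
      show _ = (eZ.homEquiv g0).1
      rw [← hg, eZ.homEquiv_comp]
      rfl
    · exact huniq _ _
  have e2 : hh ≫ g = 𝟙 Oo := by
    rw [← cancel_mono u, Category.assoc, hg, Category.id_comp]
    apply eZ.homEquiv.injective
    rw [eZ.homEquiv_comp, Equiv.apply_symm_apply]
    refine Subtype.ext ?_
    show (AMonS S L ◁ hh) ≫ φW.1 ≫ jV = _
    have h1 : (AMonS S L ◁ hh) ≫ φW.1 = φ0 := (congrArg Subtype.val (dL.homEquiv_comp hh (fst VL T))).symm.trans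
      (congrArg Subtype.val hhφ)
    rw [reassoc_of% h1, hφ0]
  haveI : IsIso hh.left := ⟨g.left, congrArg Over.Hom.left e2, congrArg Over.Hom.left e1⟩
  haveI hOA : IsAffine Oo.left := IsAffine.of_isIso hh.left
  refine ⟨hOA, hh ≫ k, φ, hφ0, ?_, ?_, ?_⟩
  · rw [Category.assoc, lift_fst, lift_fst_assoc, ← hdL, Equiv.apply_symm_apply]
  · haveI : IsIso hh.left.appTop := inferInstanceAs (IsIso (hh.left.app ⊤))
    have hs : Function.Surjective k.left.appTop.hom := (IsClosedImmersion.isAffine_surjective_of_isAffine (f := k.left)).2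
    intro x
    obtain ⟨y, rfl⟩ := (ConcreteCategory.bijective_of_isIso hh.left.appTop).2 x
    obtain ⟨b, rfl⟩ := hs y
    exact ⟨b, rfl⟩
  · haveI : IsIso hh.left.appTop := inferInstanceAs (IsIso (hh.left.app ⊤))
    have hker : RingHom.ker (hh ≫ k).left.appTop.hom = RingHom.ker k.left.appTop.hom := by
      ext x
      show hh.left.appTop (k.left.appTop x) = 0 ↔ k.left.appTop x = 0
      exact map_eq_zero_iff _ (ConcreteCategory.bijective_of_isIso hh.left.appTop).1
    rw [hker]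
    refine le_antisymm ?_ ?_
    · let I := coeffIdeal aV T L
      let qI : RR (Vo ⊗ T) →+* RR (Vo ⊗ T) ⧸ I := Ideal.Quotient.mk I
      let f : Spec (CommRingCat.of (RR (Vo ⊗ T) ⧸ I)) ⟶ (Vo ⊗ T).left :=
        Spec.map (CommRingCat.ofHom qI) ≫ (Vo ⊗ T).left.isoSpec.inv
      let K : Over S := Over.mk (f ≫ (Vo ⊗ T).hom)
      let z : K ⟶ Vo ⊗ T := Over.homMk f rfl
      haveI : IsAffine K.left := inferInstanceAs (IsAffine (Spec _))
      have hz : ∀ x, z.left.appTop x = (Scheme.ΓSpecIso (CommRingCat.of (RR (Vo ⊗ T) ⧸ I))).inv (qI x) := fun x => by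
        show f.appTop x = _
        haveI : IsIso (Vo ⊗ T).left.isoSpec.hom.appTop := inferInstanceAs (IsIso ((Vo ⊗ T).left.isoSpec.hom.app ⊤))
        have hinv : (Vo ⊗ T).left.isoSpec.inv.appTop = (Scheme.ΓSpecIso Γ((Vo ⊗ T).left, ⊤)).inv ≫ 𝟙 _ := by
          rw [← cancel_mono (Vo ⊗ T).left.isoSpec.hom.appTop, ← Scheme.Hom.comp_appTop, Iso.hom_inv_id]
          simp [Scheme.isoSpec_hom, Scheme.toSpecΓ_appTop]
        have h1 : f.appTop = CommRingCat.ofHom qI ≫ (Scheme.ΓSpecIso (CommRingCat.of (RR (Vo ⊗ T) ⧸ I))).inv := by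
          simp only [f, Scheme.Hom.comp_appTop]
          rw [hinv, Category.comp_id, ← Scheme.ΓSpecIso_inv_naturality]
        exact ConcreteCategory.congr_hom h1 x
      obtain ⟨ψ, hψ⟩ := (crit aV L z).2 fun b m hm => by
        rw [hz, show qI _ = 0 from Ideal.Quotient.eq_zero_iff_mem.2 (Ideal.subset_span ⟨b, m, hm, rfl⟩), map_zero]
      let w : K ⟶ W := lift (dL.homEquiv.symm ψ) (z ≫ snd Vo T)
      have hw : w ≫ k = z := by
        apply CartesianMonoidalCategory.hom_ext
        · rw [Category.assoc, lift_fst, lift_fst_assoc, ← hdL, Equiv.apply_symm_apply, hψ]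
        · exact huniq _ _
      intro x hx
      refine Ideal.Quotient.eq_zero_iff_mem.1 ?_
      show qI x = 0
      have h2 : z.left.appTop x = 0 := by
        rw [← hw]
        show w.left.appTop (k.left.appTop x) = 0
        rw [show k.left.appTop x = 0 from hx, map_zero]
      rw [hz] at h2
      exact (map_eq_zero_iff (Scheme.ΓSpecIso (CommRingCat.of (RR (Vo ⊗ T) ⧸ I))).inv.hom
        (ConcreteCategory.bijective_of_isIso (Scheme.ΓSpecIso (CommRingCat.of (RR (Vo ⊗ T) ⧸ I))).inv).1).1 h2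
    · refine Ideal.span_le.2 ?_
      rintro _ ⟨b, m, hm, rfl⟩
      exact (crit aV L k).1 hkin b m hm

theorem main [AddGroup.FG M] [Smooth X.hom]
    (hlin : ∀ x : X.left, ∃ V : X.left.Opens, x ∈ V ∧ IsAffineHom (V.ι ≫ X.hom) ∧
      (snd (AMonS S M) X).left ⁻¹ᵁ V ≤ a.act.left ⁻¹ᵁ V)
    (N : AddSubmonoid M) {ZN Z0 : Over S}
    (eN : (attr a N).RepresentableBy ZN) (e0 : (attr a (unitFace N)).RepresentableBy Z0)
    (j : ZN ⟶ Z0) [Smooth j.left] (hj : ∀ (T : Over S) (z : T ⟶ ZN),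
      e0.homEquiv (z ≫ j) = (attrFace a (isFace_unitFace N)).app (op T) (eN.homEquiv z))
    (z : Z0.left) :
    ∃ (W : Z0.left.Opens) (hW : IsAffineOpen W), z ∈ W ∧
      ∃ (P : Type u) (_ : AddCommGroup P) (_ : Module Γ(Z0.left, W) P),
        Module.Finite Γ(Z0.left, W) P ∧ Module.Projective Γ(Z0.left, W) P ∧
        ∃ e : (↑(j.left ⁻¹ᵁ W) : Scheme.{u}) ≅ Spec (CommRingCat.of (SymmetricAlgebra Γ(Z0.left, W) P)),
          e.hom ≫ Spec.map (CommRingCat.ofHom (algebraMap Γ(Z0.left, W) (SymmetricAlgebra Γ(Z0.left, W) P))) =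
            (j.left ∣_ W) ≫ hW.isoSpec.hom := by
  let Q := unitFace N
  obtain ⟨eP, heP⟩ := StableFace.exists_face_point (S := S) N
  let e1 : 𝟙_ (Over S) ⟶ AMonS S Q := η[AMonS S Q]
  have hQneg : ∀ n : Q, -(n : M) ∈ Q := fun n => by
    have h := (mem_unitFace_iff N (n : M)).1 n.2
    exact (mem_unitFace_iff N _).2 ⟨h.2, by rw [neg_neg]; exact h.1⟩
  have he1 : StableOpen.StablePt (subAct S M Q) e1 := StableFace.stablePt Q fun Y n => ⟨fun _ => by
    show chi (toUnit Y ≫ η[AMonS S Q]) _ = 1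
    rw [← Hom.one_def, ← eq_one_of_map_zero (1 : Y ⟶ AMonS S Q), chi_map]
    exact map_one _, fun h => absurd (hQneg n) h⟩
  let r0 : Z0 ⟶ X := lift (toUnit Z0 ≫ e1) (𝟙 Z0) ≫ (e0.homEquiv (𝟙 Z0)).1
  let rN : ZN ⟶ X := lift (toUnit ZN ≫ eP) (𝟙 ZN) ≫ (eN.homEquiv (𝟙 ZN)).1
  have hface : ∀ Y : Over S, (toUnit Y ≫ e1) ≫ AMonS.faceMap S (isFace_unitFace N) = toUnit Y ≫ eP := by
    intro Y
    refine chi_injective (MonoidHom.ext fun n => ?_)
    obtain ⟨n, rfl⟩ := Multiplicative.ofAdd.surjective n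
    by_cases hn : (n : M) ∈ Q
    · rw [chi_face_mem N Q _ n hn, (heP Y n).1 ((mem_unitFace_iff N _).1 hn).2]
      show chi (toUnit Y ≫ η[AMonS S Q]) _ = 1
      rw [← Hom.one_def, ← eq_one_of_map_zero (1 : Y ⟶ AMonS S Q), chi_map]
      exact map_one _
    · rw [chi_face_notMem N Q _ n hn, (heP Y n).2 fun h => hn ((mem_unitFace_iff N _).2 ⟨n.2, h⟩)]
  have hrN : j ≫ r0 = rN := by
    show j ≫ lift _ _ ≫ (e0.homEquiv (𝟙 Z0)).1 = _
    rw [comp_lift_assoc, Category.comp_id, ← Category.assoc j, comp_toUnit]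
    have h1 : (AMonS S Q ◁ j) ≫ (e0.homEquiv (𝟙 Z0)).1 = (AMonS.faceMap S (isFace_unitFace N) ▷ ZN) ≫ (eN.homEquiv (𝟙 ZN)).1 := by
      have := congrArg Subtype.val (hj ZN (𝟙 ZN))
      rw [Category.id_comp, ← Category.comp_id j, e0.homEquiv_comp] at this
      exact this
    rw [show lift (toUnit ZN ≫ e1) j = lift (toUnit ZN ≫ e1) (𝟙 ZN) ≫ (AMonS S Q ◁ j) from by
      rw [lift_whiskerLeft, Category.id_comp], Category.assoc, h1, lift_whiskerRight_assoc, hface]
  -- the stable open and the affine open of the base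
  obtain ⟨V, hV, hVaff, hVst⟩ := hlin (r0.left z)
  let Vo : Over S := Over.mk (V.ι ≫ X.hom)
  let jV : Vo ⟶ X := Over.homMk V.ι rfl
  haveI : IsOpenImmersion jV.left := inferInstanceAs (IsOpenImmersion V.ι)
  haveI : IsAffineHom Vo.hom := hVaff
  obtain ⟨aV, haV⟩ := EqvGlue.exists_act a jV (by
    show (snd (AMonS S M) X).left ⁻¹ᵁ V.ι.opensRange ≤ a.act.left ⁻¹ᵁ V.ι.opensRange
    rw [Scheme.Opens.opensRange_ι]
    exact hVst)
  obtain ⟨S', hS', hzS, -⟩ := TopologicalSpace.Opens.isBasis_iff_nbhd.mp S.isBasis_affineOpens (U := ⊤)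
    (x := X.hom (r0.left z)) trivial
  let T : Over S := Over.mk (Scheme.Opens.ι S')
  haveI : IsAffine T.left := hS'
  haveI : IsOpenImmersion T.hom := inferInstanceAs (IsOpenImmersion (Scheme.Opens.ι S'))
  haveI : Mono T.hom := inferInstance
  haveI : IsOpenImmersion (fst Vo T).left :=
    inferInstanceAs (IsOpenImmersion (Limits.pullback.fst Vo.hom T.hom))
  haveI : IsOpenImmersion (fst Vo T ≫ jV).left :=
    inferInstanceAs (IsOpenImmersion ((fst Vo T).left ≫ jV.left))
  have huniq : ∀ {Y : Over S} (f g : Y ⟶ T), f = g := fun f g =>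
    Over.OverMorphism.ext ((cancel_mono T.hom).1 ((Over.w f).trans (Over.w g).symm))
  let W : Z0.left.Opens := r0.left ⁻¹ᵁ (fst Vo T ≫ jV).left.opensRange
  have hzW : z ∈ W := by
    obtain ⟨y, hy⟩ : (⟨r0.left z, hV⟩ : Vo.left) ∈ Set.range (Limits.pullback.fst Vo.hom T.hom) := by
      rw [Scheme.Pullback.range_fst]
      show X.hom (r0.left z) ∈ Set.range (Scheme.Opens.ι S')
      rw [Scheme.Opens.range_ι]
      exact hzS
    exact ⟨y, (Scheme.Hom.comp_apply _ jV.left y).trans (congrArg jV.left hy)⟩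
  let ON : ZN.left.Opens := j.left ⁻¹ᵁ W
  obtain ⟨hW, hQ, φQ, hφQ, hQfst, hQs, hQk⟩ := exists_piece a aV jV haV T Q he1 e0 W fun y => Iff.rfl
  obtain ⟨hON, hN', φN, hφN, hNfst, hNs, hNk⟩ := exists_piece a aV jV haV T N (StableFace.stablePt N heP) eN ON
    fun y => by rw [show rN.left y = r0.left (j.left y) from by rw [← hrN]; rfl]; rfl
  let OW : Over S := Over.mk (W.ι ≫ Z0.hom)
  let OO : Over S := Over.mk (ON.ι ≫ ZN.hom)
  haveI : IsAffine OW.left := hW
  haveI : IsAffine OO.left := hON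
  let jO : OO ⟶ OW := Over.homMk (j.left ∣_ W) (by
    show (j.left ∣_ W) ≫ W.ι ≫ Z0.hom = ON.ι ≫ ZN.hom
    rw [← Category.assoc, morphismRestrict_ι, Category.assoc, Over.w j])
  haveI : Mono jV := (Over.forget S).mono_of_mono_map (inferInstanceAs (Mono jV.left))
  haveI : IsSeparated Vo.hom := inferInstance
  have hφ : (attr aV Q).map jO.op φQ = (attrFace aV (isFace_unitFace N)).app (op OO) φN := by
    refine Subtype.ext ((cancel_mono jV).1 ?_)
    show ((AMonS S Q ◁ jO) ≫ φQ.1) ≫ jV = ((AMonS.faceMap S (isFace_unitFace N) ▷ OO) ≫ φN.1) ≫ jV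
    rw [Category.assoc, Category.assoc, hφQ, hφN]
    have h1 := congrArg Subtype.val (hj OO (Over.homMk ON.ι rfl))
    rw [show Over.homMk ON.ι rfl ≫ j = jO ≫ Over.homMk W.ι rfl from
      Over.OverMorphism.ext (morphismRestrict_ι j.left W).symm, e0.homEquiv_comp] at h1
    exact h1
  let Φ : AMonS S N ⊗ OO ⟶ Vo ⊗ T := lift φN.1 (snd _ _ ≫ hN' ≫ snd Vo T)
  have hΦ : lift (toUnit OO ≫ eP) (𝟙 OO) ≫ Φ = jO ≫ hQ := by
    apply CartesianMonoidalCategory.hom_ext
    · rw [Category.assoc, lift_fst, Category.assoc, hQfst]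
      refine Eq.trans ?_ (ConcreteCategory.congr_hom ((attrToX aV Q).naturality jO.op) φQ)
      show _ = (attrToX aV Q).app (op OO) ((attr aV Q).map jO.op φQ)
      rw [hφ]
      show _ = lift (toUnit OO ≫ e1) (𝟙 OO) ≫ (AMonS.faceMap S (isFace_unitFace N) ▷ OO) ≫ φN.1
      rw [lift_whiskerRight_assoc, hface]
    · exact huniq _ _
  have hΦ' : (AMonS.map S N.subtype ▷ OO) ≫ Φ = (AMonS S M ◁ hN') ≫ sigW aV T := by
    apply CartesianMonoidalCategory.hom_ext
    · rw [Category.assoc, lift_fst, Category.assoc, lift_fst, ← MonoidalCategory.whiskerLeft_comp_assoc, hNfst,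
        orbit_of_attr]
    · exact huniq _ _
  -- the rings
  let δ := co (Vo ⊗ T) (sigW aV T)
  let pQ : RR (Vo ⊗ T) →+* Γ(Z0.left, W) := W.topIso.hom.hom.comp hQ.left.appTop.hom
  let pN : RR (Vo ⊗ T) →+* RR OO := hN'.left.appTop.hom
  let φ : Γ(Z0.left, W) ⟶ Γ(OO.left, ⊤) := W.topIso.inv ≫ jO.left.appTop
  letI : Algebra Γ(Z0.left, W) (RR OO) := φ.hom.toAlgebra
  haveI : Algebra.Smooth Γ(Z0.left, W) (RR OO) := by
    have h : RingHom.Smooth jO.left.appTop.hom :=
      HasRingHomProperty.appTop (P := @Smooth) jO.left (inferInstanceAs (Smooth (j.left ∣_ W)))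
    have h2 : RingHom.Smooth φ.hom := RingHom.Smooth.propertyIsLocal.respectsIso.2 _ W.topIso.symm.commRingCatIsoToRingEquiv h
    exact h2
  have hinj : Function.Bijective W.topIso.hom.hom := ConcreteCategory.bijective_of_isIso W.topIso.hom
  obtain ⟨P, iP, iP', hfin, hproj, ⟨eA⟩⟩ := MagnetBB.exists_symmetricAlgebra N (A := RR (Vo ⊗ T))
    (B := Γ(Z0.left, W)) (C := RR OO) δ (co_sigW_assoc aV T) (counit aV T) pN pQ hNs
    (hinj.2.comp hQs) hNk
    (by
      refine Eq.trans ?_ hQk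
      ext x
      exact map_eq_zero_iff _ hinj.1)
    (fun b y hy => by
      have h1 : y = co OO Φ b := by
        apply inclN_injective N
        rw [hy]
        have h2 := RingHom.congr_fun (co_map OO N.subtype Φ) b
        rw [hΦ', co_whisker (Vo ⊗ T) hN', RingHom.comp_apply] at h2
        exact h2
      have h3 : φ.hom (pQ b) = (jO ≫ hQ).left.appTop b := by
        show jO.left.appTop (W.topIso.inv (W.topIso.hom (hQ.left.appTop b))) = _
        rw [Iso.hom_inv_id_apply]
        rfl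
      show φ.hom (pQ b) = _
      rw [h3, ← hΦ, appTop_section OO (toUnit OO ≫ eP) Φ b, ← h1]
      refine RingHom.congr_fun (MonoidAlgebra.ringHom_ext (fun r => ?_) (fun n => ?_)) y
      · refine (MonoidAlgebra.liftNC_single _ _ _ _).trans ?_
        rw [map_one, counitE_single]
        show r * 1 = _
        rw [_root_.mul_one, if_pos (by show -((0 : N) : M) ∈ N; simp)]
      · refine (MonoidAlgebra.liftNC_single _ _ _ _).trans ?_
        obtain ⟨n, rfl⟩ := Multiplicative.ofAdd.surjective n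
        rw [counitE_single]
        show (1 : RR OO) * _ = _
        rw [_root_.one_mul]
        split
        · exact (heP OO n).1 ‹_›
        · exact (heP OO n).2 ‹_›)
  let iso : CommRingCat.of (SymmetricAlgebra Γ(Z0.left, W) P) ≅ Γ(OO.left, ⊤) := eA.toRingEquiv.toCommRingCatIso
  refine ⟨W, hW, hzW, P, iP, iP', hfin, hproj, OO.left.isoSpec ≪≫ Scheme.Spec.mapIso iso.op, ?_⟩
  show (OO.left.isoSpec.hom ≫ Spec.map iso.hom) ≫ _ = _
  have hφe : CommRingCat.ofHom (algebraMap Γ(Z0.left, W) (SymmetricAlgebra Γ(Z0.left, W) P)) ≫ iso.hom = φ :=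
    CommRingCat.hom_ext (RingHom.ext fun r => eA.commutes r)
  rw [Category.assoc, ← Spec.map_comp, hφe]
  show OO.left.isoSpec.hom ≫ Spec.map (W.topIso.inv ≫ jO.left.appTop) = _
  rw [Spec.map_comp, ← Category.assoc, Scheme.isoSpec_hom, ← Scheme.toSpecΓ_naturality, Category.assoc]
  rfl

end Groth.Agent.H28.MagnetVB
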