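import Groth.Agent.H23.CharPts
import Mathlib.Algebra.Polynomial.Eval.Algebra
import Mathlib.RingTheory.Polynomial.Basic
import Mathlib.RingTheory.Flat.EquationalCriterion

/-! Actions of the multiplicative monoid of the affine line on affine schemes: the grading. -/

universe u

open CategoryTheory CategoryTheory.Limits MonoidalCategory CartesianMonoidalCategory MonObj AlgebraicGeometry
open Opposite Magnet

namespace Groth.Agent.H28.MonA1

open H23.CharPts Polynomial

variable {S : Scheme.{u}}

/-- The coordinate of a point of the affine line. -/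
noncomputable def rr {T : Over S} (g : T ⟶ AMonS S ℕ) : Γ(T.left, ⊤) := chi g (Multiplicative.ofAdd 1)

theorem chi_eq {T : Over S} (g : T ⟶ AMonS S ℕ) : chi g = powersHom _ (rr g) :=
  (powersHom _).symm.injective (by rw [Equiv.symm_apply_apply]; rfl)

theorem rr_injective {T : Over S} {g g' : T ⟶ AMonS S ℕ} (h : rr g = rr g') : g = g' :=
  chi_injective (by rw [chi_eq g, chi_eq g', h])

theorem exists_rr {T : Over S} (r : Γ(T.left, ⊤)) : ∃ g : T ⟶ AMonS S ℕ, rr g = r := by
  obtain ⟨g, hg⟩ := exists_chi_eq (T := T) (M := ℕ) (powersHom _ r)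
  exact ⟨g, by rw [rr, hg]; exact pow_one r⟩

theorem rr_mul {T : Over S} (g g' : T ⟶ AMonS S ℕ) : rr (g * g') = rr g * rr g' := chi_mul g g' _

theorem rr_comp {T T' : Over S} (u : T' ⟶ T) (g : T ⟶ AMonS S ℕ) : rr (u ≫ g) = u.left.appTop (rr g) :=
  chi_comp u g _

theorem rr_one {T : Over S} : rr (1 : T ⟶ AMonS S ℕ) = 1 := by
  obtain ⟨g, hg⟩ := exists_rr (T := T) (1 : Γ(T.left, ⊤))
  have h : g = g * g := rr_injective (by rw [rr_mul, hg, _root_.mul_one])
  have hu : g * (1 : T ⟶ AMonS S ℕ) = g := _root_.mul_one g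
  have := congrArg rr hu
  rwa [rr_mul, hg, _root_.one_mul] at this

/-- The point with the same ring of functions over `T`. -/
theorem exists_hom {U T : Over S} [IsAffine U.left] (g : T.left ⟶ U.left) (h : g ≫ U.hom = T.hom) :
    ∃ x : T ⟶ U, x.left = g := ⟨Over.homMk g h, rfl⟩

variable {U : Over S} [IsAffine U.left]

/-- Functions. -/
abbrev Fun (U : Over S) : Type u := Γ(U.left, ⊤)

/-- A scheme over `S` for a ring map out of the functions of `U`. -/
noncomputable abbrev specOver {R : CommRingCat.{u}} (χ : CommRingCat.of (Fun U) ⟶ R) : Over S :=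
  Over.mk ((Spec.map χ ≫ U.left.isoSpec.inv) ≫ U.hom)

/-- Its tautological point. -/
noncomputable abbrev specPt {R : CommRingCat.{u}} (χ : CommRingCat.of (Fun U) ⟶ R) : specOver χ ⟶ U :=
  Over.homMk (Spec.map χ ≫ U.left.isoSpec.inv) rfl

instance {R : CommRingCat.{u}} (χ : CommRingCat.of (Fun U) ⟶ R) : IsAffine (specOver χ).left :=
  inferInstanceAs (IsAffine (Spec R))

theorem isoSpec_inv_appTop : U.left.isoSpec.inv.appTop = (Scheme.ΓSpecIso Γ(U.left, ⊤)).inv := by
  haveI : IsIso U.left.isoSpec.hom.appTop := inferInstanceAs (IsIso (U.left.isoSpec.hom.app ⊤))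
  rw [← cancel_mono U.left.isoSpec.hom.appTop, ← Scheme.Hom.comp_appTop, Iso.hom_inv_id]
  simp [Scheme.isoSpec_hom, Scheme.toSpecΓ_appTop]

theorem specPt_appTop {R : CommRingCat.{u}} (χ : CommRingCat.of (Fun U) ⟶ R) (b : Fun U) :
    (specPt χ).left.appTop b = (Scheme.ΓSpecIso R).inv (χ b) := by
  show (Spec.map χ ≫ U.left.isoSpec.inv).appTop b = _
  rw [Scheme.Hom.comp_appTop, isoSpec_inv_appTop, ← Scheme.ΓSpecIso_inv_naturality]
  rfl

theorem eq_of_appTop {T : Over S} {x x' : T ⟶ U} (h : ∀ b, x.left.appTop b = x'.left.appTop b) : x = x' :=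
  Over.OverMorphism.ext (ext_of_isAffine (CommRingCat.hom_ext (RingHom.ext h)))

variable (aU : MonAct (AMonS S ℕ) U)

/-- The polynomial chart. -/
noncomputable abbrev TX (U : Over S) [IsAffine U.left] : Over S :=
  specOver (U := U) (CommRingCat.ofHom (C : Fun U →+* (Fun U)[X]))

/-- The coaction. -/
noncomputable def cA : Fun U →+* (Fun U)[X] :=
  (((lift (exists_rr (T := TX U) ((Scheme.ΓSpecIso (CommRingCat.of (Fun U)[X])).inv X)).choose
    (specPt (CommRingCat.ofHom (C : Fun U →+* (Fun U)[X]))) ≫ aU.act).left.appTop) ≫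
      (Scheme.ΓSpecIso (CommRingCat.of (Fun U)[X])).hom).hom

/-- The value of the action. -/
theorem act_appTop {T : Over S} (g : T ⟶ AMonS S ℕ) (x : T ⟶ U) (b : Fun U) :
    (lift g x ≫ aU.act).left.appTop b = eval₂ x.left.appTop.hom (rr g) (cA aU b) := by
  let P := CommRingCat.of (Fun U)[X]
  let φ : P ⟶ Γ(T.left, ⊤) := CommRingCat.ofHom (eval₂RingHom x.left.appTop.hom (rr g))
  let m := (exists_rr (T := TX U) ((Scheme.ΓSpecIso P).inv X)).choose
  have hm : rr m = (Scheme.ΓSpecIso P).inv X := (exists_rr (T := TX U) ((Scheme.ΓSpecIso P).inv X)).choose_spec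
  let ul : T.left ⟶ Spec P := T.left.toSpecΓ ≫ Spec.map φ
  have hul : ∀ p, ul.appTop ((Scheme.ΓSpecIso P).inv p) = φ p := fun p => by
    have h1 : (Scheme.ΓSpecIso P).inv ≫ ul.appTop = φ := by
      simp only [ul, Scheme.Hom.comp_appTop]
      rw [← Category.assoc, ← Scheme.ΓSpecIso_inv_naturality, Category.assoc, Scheme.toSpecΓ_appTop]
      exact (congrArg (φ ≫ ·) (Scheme.ΓSpecIso _).inv_hom_id).trans (Category.comp_id _)
    exact ConcreteCategory.congr_hom h1 p
  have hx : ul ≫ Spec.map (CommRingCat.ofHom (C : Fun U →+* (Fun U)[X])) ≫ U.left.isoSpec.inv = x.left := by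
    simp only [ul, Category.assoc]
    rw [← Spec.map_comp_assoc, show CommRingCat.ofHom (C : Fun U →+* (Fun U)[X]) ≫ φ = x.left.appTop from
      CommRingCat.hom_ext (RingHom.ext fun r => eval₂_C _ _), ← Scheme.toSpecΓ_naturality_assoc]
    exact (congrArg (x.left ≫ ·) U.left.isoSpec.hom_inv_id).trans (Category.comp_id _)
  let u : T ⟶ TX U := Over.homMk ul (by
    show ul ≫ (_ ≫ _) ≫ U.hom = T.hom
    rw [← Category.assoc, hx, Over.w x])
  have h1 : u ≫ m = g := rr_injective (by
    rw [rr_comp, hm]
    exact (hul X).trans (eval₂_X _ _))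
  have h2 : u ≫ specPt (CommRingCat.ofHom (C : Fun U →+* (Fun U)[X])) = x := Over.OverMorphism.ext hx
  rw [← h1]
  conv_lhs => rw [← h2, ← comp_lift, Category.assoc]
  show ul.appTop (((lift m _ ≫ aU.act).left.appTop) b) = _
  rw [h1]
  have h3 : (lift m (specPt (CommRingCat.ofHom (C : Fun U →+* (Fun U)[X]))) ≫ aU.act).left.appTop b =
      (Scheme.ΓSpecIso P).inv (cA aU b) :=
    (ConcreteCategory.congr_hom (Scheme.ΓSpecIso P).hom_inv_id _).symm
  rw [h3, hul]
  rfl

/-- The homogeneous parts. -/
noncomputable def part (d : ℕ) (b : Fun U) : Fun U := (cA aU b).coeff d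

theorem eval_one (b : Fun U) : (cA aU b).eval 1 = b := by
  have h := act_appTop aU (1 : U ⟶ AMonS S ℕ) (𝟙 U) b
  rw [MonAct.lift_one_act, rr_one] at h
  exact h.symm

theorem cA_coeff (e : ℕ) (b : Fun U) : cA aU (part aU e b) = monomial e (part aU e b) := by
  let R := CommRingCat.of (Fun U)[X][X]
  let χ : CommRingCat.of (Fun U) ⟶ R := CommRingCat.ofHom ((C : (Fun U)[X] →+* (Fun U)[X][X]).comp C)
  let x := specPt (U := U) χ
  let inv := (Scheme.ΓSpecIso R).inv.hom
  have hinj : Function.Injective inv := (ConcreteCategory.bijective_of_isIso (Scheme.ΓSpecIso R).inv).1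
  obtain ⟨g, hg⟩ := exists_rr (T := specOver χ) (inv X)
  obtain ⟨h, hh⟩ := exists_rr (T := specOver χ) (inv (C X))
  have hx : x.left.appTop.hom = inv.comp χ.hom := RingHom.ext fun c => specPt_appTop χ c
  have e1 := act_appTop aU g (lift h x ≫ aU.act) b
  rw [← MonAct.lift_mul_act, act_appTop, rr_mul, hg, hh, hx, ← map_mul] at e1
  rw [show (lift h x ≫ aU.act).left.appTop.hom = (inv.comp (eval₂RingHom χ.hom (C X))).comp (cA aU) from
    RingHom.ext fun c => by
      rw [act_appTop, hh, hx, ← hom_eval₂]
      rfl] at e1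
  rw [← hom_eval₂, RingHom.comp_assoc, ← hom_eval₂] at e1
  have e2 := congrArg (fun p : (Fun U)[X][X] => p.coeff e) (hinj e1)
  have hl : ∀ p : (Fun U)[X], eval₂ χ.hom (X * C X) p = p.sum fun n r => monomial n (monomial n r) := fun p => by
    rw [eval₂_eq_sum]
    refine Finset.sum_congr rfl fun n _ => ?_
    show C (C (p.coeff n)) * (X * C X) ^ n = monomial n (monomial n (p.coeff n))
    rw [← C_mul_X_pow_eq_monomial (n := n), ← C_mul_X_pow_eq_monomial (n := n), mul_pow, map_mul, C_pow]
    ring
  have hr : ∀ p : (Fun U)[X], eval₂ χ.hom (C X : (Fun U)[X][X]) p = C p := fun p => by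
    show eval₂ ((C : (Fun U)[X] →+* (Fun U)[X][X]).comp C) _ p = _
    rw [← hom_eval₂, eval₂_C_X]
  have hrr : (eval₂RingHom χ.hom (C X : (Fun U)[X][X])).comp (cA aU) = (C : (Fun U)[X] →+* (Fun U)[X][X]).comp (cA aU) :=
    RingHom.ext fun c => hr _
  dsimp only at e2
  rw [hl, hrr, sum_def, finsetSum_coeff, ← eval₂_map, eval₂_C_X, coeff_map] at e2
  simp only [coeff_monomial, Finset.sum_ite_eq'] at e2
  by_cases h0 : (cA aU b).coeff e = 0
  · simp [part, h0]
  · rw [if_pos (mem_support_iff.mpr h0)] at e2
    exact e2.symm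

theorem part_part (e d : ℕ) (b : Fun U) : part aU d (part aU e b) = if e = d then part aU e b else 0 := by
  rw [part, cA_coeff, coeff_monomial]

/-- The degree-zero projection. -/
noncomputable def zeroHom : Fun U →+* Fun U := Polynomial.constantCoeff.comp (cA aU)

theorem zeroHom_apply (b : Fun U) : zeroHom aU b = part aU 0 b := rfl

theorem zeroHom_idem (b : Fun U) : zeroHom aU (zeroHom aU b) = zeroHom aU b := by
  rw [zeroHom_apply, zeroHom_apply, part_part, if_pos rfl]

theorem sum_part (b : Fun U) : ∑ d ∈ Finset.range ((cA aU b).natDegree + 1), part aU d b = b := by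
  conv_rhs => rw [← eval_one aU b, eval_eq_sum_range]
  exact Finset.sum_congr rfl fun d _ => by rw [one_pow, _root_.mul_one]; rfl

/-- Fixed points. -/
def Fixed {V : Over S} (a : MonAct (AMonS S ℕ) V) {T : Over S} (x : T ⟶ V) : Prop :=
  ∀ (T' : Over S) (t : T' ⟶ T) (g : T' ⟶ AMonS S ℕ), lift g (t ≫ x) ≫ a.act = t ≫ x

theorem fixed_iff {T : Over S} (x : T ⟶ U) :
    Fixed aU x ↔ ∀ b, x.left.appTop (zeroHom aU b) = x.left.appTop b := by
  refine ⟨fun h b => ?_, fun h T' t g => eq_of_appTop fun b => ?_⟩
  · obtain ⟨g, hg⟩ := exists_rr (T := T) (0 : Γ(T.left, ⊤))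
    have e := act_appTop aU g x b
    rw [← Category.id_comp x, h T (𝟙 T) g, Category.id_comp, hg, eval₂_at_zero] at e
    exact e.symm
  · rw [act_appTop]
    have hd : ∀ d, d ≠ 0 → x.left.appTop ((cA aU b).coeff d) = 0 := fun d hd => by
      rw [← h, zeroHom_apply, show (cA aU b).coeff d = part aU d b from rfl, part_part, if_neg hd, map_zero]
    rw [eval₂_eq_sum_range, Finset.sum_eq_single 0]
    · rw [pow_zero, _root_.mul_one]
      show t.left.appTop (x.left.appTop (zeroHom aU b)) = t.left.appTop (x.left.appTop b)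
      rw [h]
    · intro d _ hd0
      show t.left.appTop (x.left.appTop _) * _ = 0
      rw [hd d hd0, map_zero, zero_mul]
    · intro h0
      exact absurd (Finset.mem_range.mpr (Nat.succ_pos _)) h0

theorem act_fixedPart {T : Over S} (g : T ⟶ AMonS S ℕ) (x : T ⟶ U) (b : Fun U) :
    (lift g x ≫ aU.act).left.appTop (zeroHom aU b) = x.left.appTop (zeroHom aU b) := by
  rw [act_appTop, zeroHom_apply, cA_coeff, eval₂_monomial, pow_zero, _root_.mul_one]

section Map

variable {V : Over S} [IsAffine V.left] {aU} {aV : MonAct (AMonS S ℕ) V} {f : U ⟶ V}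

theorem cA_map (hf : MonAct.IsEquivariant aU aV f) (b : Fun V) :
    cA aU (f.left.appTop b) = (cA aV b).map f.left.appTop.hom := by
  let R := CommRingCat.of (Fun U)[X]
  let χ : CommRingCat.of (Fun U) ⟶ R := CommRingCat.ofHom C
  let inv := (Scheme.ΓSpecIso R).inv.hom
  have hinj : Function.Injective inv := (ConcreteCategory.bijective_of_isIso (Scheme.ΓSpecIso R).inv).1
  obtain ⟨g, hg⟩ := exists_rr (T := specOver χ) (inv X)
  have hx : (specPt χ).left.appTop.hom = inv.comp χ.hom := RingHom.ext fun c => specPt_appTop χ c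
  have h := congrArg (fun q => q.left.appTop b) ((MonAct.isEquivariant_iff _ _ _).mp hf _ g (specPt χ))
  dsimp only at h
  rw [act_appTop, hg, show (specPt χ ≫ f).left.appTop.hom = inv.comp (χ.hom.comp f.left.appTop.hom) from
    RingHom.ext fun c => specPt_appTop χ _, ← hom_eval₂] at h
  rw [show ((lift g (specPt χ) ≫ aU.act ≫ f).left.appTop b) = (lift g (specPt χ) ≫ aU.act).left.appTop (f.left.appTop b) from rfl,
    act_appTop, hg, hx, ← hom_eval₂] at h
  have h2 := hinj h
  rw [show χ.hom = C from rfl, eval₂_C_X, ← eval₂_map, eval₂_C_X] at h2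
  exact h2

theorem part_map (hf : MonAct.IsEquivariant aU aV f) (d : ℕ) (b : Fun V) :
    f.left.appTop (part aV d b) = part aU d (f.left.appTop b) := by
  rw [part, part, cA_map hf, coeff_map]

theorem bijective_appTop (hf : MonAct.IsEquivariant aU aV f)
    (hinj : ∀ b, f.left.appTop (zeroHom aV b) = 0 → zeroHom aV b = 0)
    (hsurj : ∀ a, ∃ b, zeroHom aU (f.left.appTop b) = zeroHom aU a)
    (hcart : RingHom.ker (zeroHom aU) ≤ (RingHom.ker (zeroHom aV)).map f.left.appTop.hom)
    (hflat : ∀ P : Ideal (Fun U), P.IsPrime → RingHom.ker (zeroHom aU) ≤ P →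
      ∃ a ∉ P, (CommRingCat.ofHom ((algebraMap (Fun U) (Localization.Away a)).comp f.left.appTop.hom)).hom.Flat) :
    Function.Bijective f.left.appTop := by
  have hker : ∀ (W : Over S) [IsAffine W.left] (aW : MonAct (AMonS S ℕ) W) (b : Fun W), b - zeroHom aW b ∈ RingHom.ker (zeroHom aW) :=
    fun W _ aW b => by rw [RingHom.mem_ker, map_sub, zeroHom_idem, sub_self]
  have hdeg : ∀ d a, part aU d a ∈ f.left.appTop.hom.range := by
    intro d
    induction d using Nat.strong_induction_on with
    | _ d ih =>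
      intro a
      rcases Nat.eq_zero_or_pos d with rfl | hd
      · obtain ⟨b, hb⟩ := hsurj a
        exact ⟨part aV 0 b, (part_map hf 0 b).trans hb⟩
      · have hm : part aU d a ∈ RingHom.ker (zeroHom aU) := by
          rw [RingHom.mem_ker, zeroHom_apply, part_part, if_neg hd.ne']
        have key : ∀ z ∈ (RingHom.ker (zeroHom aV)).map f.left.appTop.hom, part aU d z ∈ f.left.appTop.hom.range := by
          intro z hz
          rw [Ideal.map] at hz
          refine Submodule.span_induction ?_ ?_ ?_ ?_ hz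
          · rintro _ ⟨b, -, rfl⟩
            exact ⟨part aV d b, part_map hf d b⟩
          · exact ⟨0, by simp [part]⟩
          · intro p q _ _ hp hq
            simp only [part, map_add, coeff_add]
            exact add_mem hp hq
          · intro r p hp' hp
            rw [smul_eq_mul, part, map_mul, coeff_mul]
            refine Subring.sum_mem _ fun ij hij => ?_
            obtain ⟨i, j⟩ := ij
            rw [Finset.mem_antidiagonal] at hij
            have hp0 : part aU 0 p = 0 := by
              have := (show (RingHom.ker (zeroHom aV)).map f.left.appTop.hom ≤ RingHom.ker (zeroHom aU) from by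
                rw [Ideal.map_le_iff_le_comap]
                intro b hb
                rw [Ideal.mem_comap, RingHom.mem_ker, zeroHom_apply, ← part_map hf,
                  ← zeroHom_apply, RingHom.mem_ker.mp hb, map_zero]) hp'
              exact this
            rcases Nat.eq_zero_or_pos j with rfl | hj
            · show _ * part aU 0 p ∈ _
              rw [hp0, mul_zero]
              exact zero_mem _
            rcases eq_or_lt_of_le (show j ≤ d by omega) with rfl | hjd
            · obtain rfl : i = 0 := by omega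
              exact mul_mem (ih 0 hd r) hp
            · exact mul_mem (ih i (by omega) r) (ih j hjd p)
        have h := key _ (hcart hm)
        rwa [part_part, if_pos rfl] at h
  have hsurj' : Function.Surjective f.left.appTop.hom := fun a => by
    show a ∈ f.left.appTop.hom.range
    rw [← sum_part aU a]
    exact Subring.sum_mem _ fun d _ => hdeg d a
  refine ⟨(RingHom.injective_iff_ker_eq_bot _).mpr (eq_bot_iff.mpr fun x hx => ?_), hsurj'⟩
  have htop : (⊥ : Ideal (Fun V)).colon {x} ⊔ RingHom.ker (zeroHom aV) = ⊤ := by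
    by_contra hne
    obtain ⟨Q, hQ, hle⟩ := Ideal.exists_le_maximal _ hne
    haveI := hQ.isPrime
    have hkf : RingHom.ker f.left.appTop.hom ≤ Q := fun z hz => hle (Ideal.mem_sup_right (by
      rw [RingHom.mem_ker]
      refine hinj z ?_
      rw [zeroHom_apply, part_map hf, RingHom.mem_ker.mp hz, part, map_zero, coeff_zero]))
    let P := Q.map f.left.appTop.hom
    haveI : P.IsPrime := Ideal.map_isPrime_of_surjective hsurj' hkf
    have hcP : P.comap f.left.appTop.hom = Q := by
      rw [Ideal.comap_map_of_surjective _ hsurj', sup_eq_left]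
      exact fun z hz => hkf (Ideal.mem_bot.mp hz)
    have hK : RingHom.ker (zeroHom aU) ≤ P := hcart.trans (Ideal.map_mono (le_sup_right.trans hle))
    obtain ⟨a, ha, hfl⟩ := hflat P inferInstance hK
    let L := Localization.Away a
    letI : Algebra (Fun V) L := ((algebraMap (Fun U) L).comp f.left.appTop.hom).toAlgebra
    haveI : Module.Flat (Fun V) L := hfl
    have hrel : ∑ i : Fin 1, (fun _ => x) i • (fun _ => (1 : L)) i = 0 := by
      simp only [Finset.univ_unique, Finset.sum_singleton, Algebra.smul_def]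
      refine (_root_.mul_one _).trans ?_
      show algebraMap (Fun U) L (f.left.appTop.hom x) = 0
      rw [RingHom.mem_ker.mp hx, map_zero]
    obtain ⟨n, c, y, h1, h2⟩ := Module.Flat.iff_forall_isTrivialRelation.mp inferInstance hrel
    have hc : ∀ i, c 0 i ∈ Q := fun i => hle (Ideal.mem_sup_left (by
      rw [Submodule.mem_colon_singleton]
      have := h2 i
      simp only [Finset.univ_unique, Finset.sum_singleton] at this
      rw [smul_eq_mul, mul_comm]
      exact this))
    haveI hp : (P.map (algebraMap (Fun U) L)).IsPrime :=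
      IsLocalization.isPrime_of_isPrime_disjoint (Submonoid.powers a) L P inferInstance
        (Set.disjoint_left.mpr fun z ⟨m, hm⟩ hz => ha (Ideal.IsPrime.mem_of_pow_mem inferInstance m
          (by rwa [show a ^ m = z from hm])))
    refine hp.ne_top ((Ideal.eq_top_iff_one _).mpr ?_)
    rw [show (1 : L) = ∑ j, c 0 j • y j from h1 0]
    exact Submodule.sum_mem _ fun j _ => Ideal.mul_mem_right _ _ (Ideal.mem_map_of_mem _
      (show f.left.appTop.hom (c 0 j) ∈ P from Ideal.mem_map_of_mem _ (hc j)))
  obtain ⟨z, hz, j, hj, h1⟩ := Submodule.mem_sup.mp ((Ideal.eq_top_iff_one _).mp htop)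
  have hxj : x = j * x := by
    have hzx : z * x = 0 := by
      have := Submodule.mem_colon_singleton.mp hz
      simpa using this
    calc x = (z + j) * x := by rw [h1, _root_.one_mul]
      _ = j * x := by rw [add_mul, hzx, zero_add]
  have hall : ∀ d, part aV d x = 0 := by
    intro d
    induction d using Nat.strong_induction_on with
    | _ d ih =>
      rw [hxj, part, map_mul, coeff_mul]
      refine Finset.sum_eq_zero fun ij hij => ?_
      obtain ⟨i, k⟩ := ij
      rw [Finset.mem_antidiagonal] at hij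
      rcases Nat.eq_zero_or_pos i with rfl | hi
      · show part aV 0 j * _ = 0
        rw [show part aV 0 j = 0 from hj, zero_mul]
      · show _ * part aV k x = 0
        rw [ih k (by omega), mul_zero]
  show x = 0
  rw [← sum_part aV x]
  exact Finset.sum_eq_zero fun d _ => hall d

end Map

end Groth.Agent.H28.MonA1
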