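import Groth.Agent.Lambda.Theta

/-!
# Special λ-rings from line decompositions
-/

set_option autoImplicit false

universe v w

open MvPolynomial LambdaRing

namespace Groth.Agent.H28.PBSpecialAlg

open Groth.Agent Groth.Agent.Lambda

section

variable {K : Type w} [CommRing K] [LambdaOps K] (M : Submonoid K)

/-- `w_v ↦ v - 1`. -/
noncomputable def monHom : MvPolynomial M ℤ →ₐ[ℤ] K := aeval fun v => (v : K) - 1

theorem monHom_lineMon (c : M →₀ ℕ) : monHom M (lineMon c) ∈ M := by
  rw [lineMon_eq, monHom, map_finsuppProd, Finsupp.prod]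
  refine prod_mem fun a _ => ?_
  rw [map_pow, map_add, map_one, aeval_X, add_sub_cancel]
  exact pow_mem a.2 _

variable {M} (hM : ∀ v ∈ M, ∀ i, 2 ≤ i → LambdaOps.lam i v = 0)

include hM in
theorem monHom_lam (i : ℕ) (p : MvPolynomial M ℤ) :
    monHom M (LambdaOps.lam i p) = LambdaOps.lam i (monHom M p) := by
  suffices h : ∀ p, PowerSeries.map (monHom M).toRingHom (lamSeries p) = lamSeries (monHom M p) by
    have := congrArg (PowerSeries.coeff i) (h p)
    simpa [coeff_lamSeries] using this
  let G : AddSubgroup (MvPolynomial M ℤ) :=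
    { carrier := {p | PowerSeries.map (monHom M).toRingHom (lamSeries p) = lamSeries (monHom M p)}
      zero_mem' := by simp
      add_mem' := fun {a b} ha hb => by
        simp only [Set.mem_ofPred_eq] at ha hb ⊢
        rw [lamSeries_add, map_mul, map_add, lamSeries_add, ha, hb]
      neg_mem' := fun {a} ha => by
        simp only [Set.mem_ofPred_eq] at ha ⊢
        have h := congrArg (PowerSeries.map (monHom M).toRingHom) (lamSeries_neg_mul_self a)
        rw [map_mul, map_one, ha] at h
        rw [map_neg]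
        exact left_inv_eq_right_inv h ((mul_comm _ _).trans (lamSeries_neg_mul_self _)) }
  refine fun p => line_induction (S := G) (fun c => ?_) p
  show PowerSeries.map (monHom M).toRingHom (lamSeries (lineMon c)) = lamSeries (monHom M (lineMon c))
  rw [lamSeries_eq_lineSeries, lineSeries_lineMon, lamSeries_of_lam_eq_zero (hM _ (monHom_lineMon M c))]
  simp

theorem exists_preimage {x : K} (hx : x ∈ AddSubgroup.closure (M : Set K)) : ∃ p, monHom M p = x := by
  induction hx using AddSubgroup.closure_induction with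
  | mem v hv => exact ⟨1 + X ⟨v, hv⟩, by simp [monHom]⟩
  | zero => exact ⟨0, map_zero _⟩
  | add a b _ _ ha hb =>
    obtain ⟨p, rfl⟩ := ha; obtain ⟨q, rfl⟩ := hb; exact ⟨p + q, map_add _ _ _⟩
  | neg a _ ha => obtain ⟨p, rfl⟩ := ha; exact ⟨-p, map_neg _ _⟩

end

/-- A λ-ring in which pairs of elements split injectively into lines is special. -/
theorem isSpecial_of_split {K : Type v} [CommRing K] [LambdaOps K]
    (h1 : ∀ n, 2 ≤ n → LambdaOps.lam n (1 : K) = 0)
    (h : ∀ x y : K, ∃ (K' : Type w) (_ : CommRing K') (_ : LambdaOps K') (f : K →+* K') (M : Submonoid K'),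
      Function.Injective f ∧ (∀ i z, f (LambdaOps.lam i z) = LambdaOps.lam i (f z)) ∧
      (∀ v ∈ M, ∀ i, 2 ≤ i → LambdaOps.lam i v = 0) ∧
      f x ∈ AddSubgroup.closure (M : Set K') ∧ f y ∈ AddSubgroup.closure (M : Set K')) :
    IsSpecial K := by
  refine ⟨h1, fun n Q hQ x y => ?_, fun i j Q hQ x => ?_⟩
  · obtain ⟨K', _, _, f, M, hinj, hf, hM, hx, hy⟩ := h x y
    obtain ⟨p, hp⟩ := exists_preimage hx
    obtain ⟨q, hq⟩ := exists_preimage hy
    apply hinj
    rw [hf, map_mul, ← hp, ← hq, ← map_mul, ← monHom_lam hM, (isSpecial_line (σ := M)).lam_mul n Q hQ p q,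
      show ∀ z, monHom M z = (monHom M).toRingHom z from fun _ => rfl, ringHom_aeval_int, ringHom_aeval_int]
    congr 2
    funext k
    rcases k with k | k
    · simp only [Sum.elim_inl, AlgHom.toRingHom_eq_coe, RingHom.coe_coe, monHom_lam hM, hp]
      exact (hf _ _).symm
    · simp only [Sum.elim_inr, AlgHom.toRingHom_eq_coe, RingHom.coe_coe, monHom_lam hM, hq]
      exact (hf _ _).symm
  · obtain ⟨K', _, _, f, M, hinj, hf, hM, hx, -⟩ := h x x
    obtain ⟨p, hp⟩ := exists_preimage hx
    apply hinj
    rw [hf, hf, ← hp, ← monHom_lam hM, ← monHom_lam hM, (isSpecial_line (σ := M)).lam_lam i j Q hQ p,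
      show ∀ z, monHom M z = (monHom M).toRingHom z from fun _ => rfl, ringHom_aeval_int, ringHom_aeval_int]
    congr 2
    funext k
    simp only [AlgHom.toRingHom_eq_coe, RingHom.coe_coe, monHom_lam hM, hp]
    exact (hf _ _).symm

end Groth.Agent.H28.PBSpecialAlg
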