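import Groth.Agent.SymAlgX.Exists
import Mathlib.Algebra.Polynomial.Coeff
import Mathlib.RingTheory.GradedAlgebra.Basic

/-!
The grading of the symmetric algebra of a quasi-coherent module.
-/

noncomputable section

universe u

set_option autoImplicit false
set_option backward.isDefEq.respectTransparency false
set_option backward.isDefEq.respectTransparency.types false

open CategoryTheory AlgebraicGeometry TopologicalSpace Opposite Groth.Agent Groth.Agent.SymAlgX Groth.Agent.QCoh
open scoped Polynomial DirectSum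

namespace Groth.Agent.H28.PBSym

variable {X : Scheme.{u}} {E : X.Modules} (hE : Coh.IsQCoh E) {U : X.Opens} (hU : IsAffineOpen U)

/-- The sections of the symmetric algebra. -/
abbrev AU (U : X.Opens) : Type u := (symAlg hE).presheaf.obj (op U)

/-- Linear forms go to degree one. -/
def tag : SymAt E U →+* (AU hE U)[X] :=
  liftHom (Polynomial.C.comp ((symAlg hE).str.app (op U)).hom)
    { toFun := fun e => Polynomial.C (jv (symAlg hE) (symJ hE) U e) * Polynomial.X
      map_zero' := by simp [jv]
      map_add' := fun a b => by simp [jv, add_mul] }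
    fun r e => by
      show Polynomial.C (jv (symAlg hE) (symJ hE) U (r • e)) * Polynomial.X =
        Polynomial.C ((symAlg hE).str.app (op U) r) * (Polynomial.C (jv (symAlg hE) (symJ hE) U e) * Polynomial.X)
      rw [← mul_assoc, ← Polynomial.C_mul]
      exact congrArg (fun z => Polynomial.C z * Polynomial.X) (Scheme.Modules.Hom.app_smul (symJ hE) r e)

/-- The coaction of the multiplicative monoid. -/
def Δ : AU hE U →+* (AU hE U)[X] :=
  (tag hE).comp (RingEquiv.ofBijective (liftAt (symAlg hE) (symJ hE) U)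
    (liftAt_bijective hE _ (isSymAlg_symAlg hE) hU)).symm.toRingHom

theorem Δ_liftAt (z : SymAt E U) : Δ hE hU (liftAt (symAlg hE) (symJ hE) U z) = tag hE z :=
  congrArg (tag hE) ((RingEquiv.ofBijective (liftAt (symAlg hE) (symJ hE) U)
    (liftAt_bijective hE _ (isSymAlg_symAlg hE) hU)).symm_apply_apply z)

theorem Δ_str (r : Γ(X, U)) :
    Δ hE hU ((symAlg hE).str.app (op U) r) = Polynomial.C ((symAlg hE).str.app (op U) r) := by
  rw [← liftAt_algebraMap (symAlg hE) (symJ hE) U r, Δ_liftAt, tag, liftHom_algebraMap, liftAt_algebraMap]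
  rfl

theorem Δ_jv (e : Γ(E, U)) :
    Δ hE hU (jv (symAlg hE) (symJ hE) U e) = Polynomial.C (jv (symAlg hE) (symJ hE) U e) * Polynomial.X := by
  rw [← liftAt_ι (symAlg hE) (symJ hE) U e, Δ_liftAt, tag, liftHom_ι, liftAt_ι]
  rfl

/-- The homogeneous elements. -/
def deg (d : ℕ) : AddSubgroup (AU hE U) where
  carrier := {b | Δ hE hU b = Polynomial.C b * Polynomial.X ^ d}
  zero_mem' := by simp
  add_mem' {a b} ha hb := by
    simp only [Set.mem_ofPred_eq] at *
    rw [map_add, ha, hb, map_add, add_mul]
  neg_mem' {a} ha := by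
    simp only [Set.mem_ofPred_eq] at *
    rw [map_neg, ha, map_neg, neg_mul]

theorem mem_deg {d : ℕ} {b : AU hE U} : b ∈ deg hE hU d ↔ Δ hE hU b = Polynomial.C b * Polynomial.X ^ d :=
  Iff.rfl

theorem str_mem_deg (r : Γ(X, U)) : (symAlg hE).str.app (op U) r ∈ deg hE hU 0 := by
  rw [mem_deg, Δ_str, pow_zero, mul_one]

theorem jv_mem_deg (e : Γ(E, U)) : jv (symAlg hE) (symJ hE) U e ∈ deg hE hU 1 := by
  rw [mem_deg, Δ_jv, pow_one]

instance gradedMonoid : SetLike.GradedMonoid (deg hE hU) where
  one_mem := by rw [mem_deg]; simp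
  mul_mem i j a b ha hb := by
    rw [mem_deg] at *
    rw [map_mul, ha, hb, map_mul, pow_add]
    ring

theorem isInternal : DirectSum.IsInternal (deg hE hU) := by
  classical
  let G : (⨁ d, deg hE hU d) →+ (AU hE U)[X] :=
    DirectSum.toAddMonoid fun d => (Polynomial.monomial d).toAddMonoidHom.comp (deg hE hU d).subtype
  have hG : G = (Δ hE hU).toAddMonoidHom.comp (DirectSum.coeAddMonoidHom (deg hE hU)) := by
    refine DirectSum.addHom_ext fun d x => ?_
    simp only [G, AddMonoidHom.comp_apply, DirectSum.toAddMonoid_of, DirectSum.coeAddMonoidHom_of]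
    show Polynomial.monomial d (x : AU hE U) = Δ hE hU x
    rw [x.2, Polynomial.C_mul_X_pow_eq_monomial]
  have hc : ∀ (x : ⨁ d, deg hE hU d) (d : ℕ), (G x).coeff d = (x d : AU hE U) := by
    intro x d
    induction x using DirectSum.induction_on with
    | zero => simp
    | of i y =>
      simp only [G, DirectSum.toAddMonoid_of]
      show (Polynomial.monomial i (y : AU hE U)).coeff d = _
      rw [Polynomial.coeff_monomial]
      by_cases h : i = d
      · subst h; simp
      · rw [if_neg h, DirectSum.of_eq_of_ne _ _ _ (Ne.symm h)]; rfl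
    | add a b ha hb => rw [map_add, Polynomial.coeff_add, ha, hb, DirectSum.add_apply]; rfl
  refine ⟨(injective_iff_map_eq_zero _).2 fun x hx => DFinsupp.ext fun d => Subtype.ext ?_, fun b => ?_⟩
  · rw [← hc, hG, AddMonoidHom.comp_apply, hx, map_zero, Polynomial.coeff_zero]
    rfl
  · let f := DirectSum.coeRingHom (deg hE hU)
    have hb : b ∈ genAt (symAlg hE) (symJ hE) U := by
      rw [genAt_eq_top hE (isSymAlg_symAlg hE) hU]; exact Subring.mem_top b
    have hle : genAt (symAlg hE) (symJ hE) U ≤ f.range := by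
      refine Subring.closure_le.2 ?_
      rintro _ (⟨r, rfl⟩ | ⟨e, rfl⟩)
      · exact ⟨DirectSum.of (fun d => deg hE hU d) 0 ⟨_, str_mem_deg hE hU r⟩, DirectSum.coeRingHom_of _ _ _⟩
      · exact ⟨DirectSum.of (fun d => deg hE hU d) 1 ⟨_, jv_mem_deg hE hU e⟩, DirectSum.coeRingHom_of _ _ _⟩
    exact hle hb

/-- The symmetric algebra, graded. -/
def grSymAlg : RelProj.QCGrAlg X :=
  { symAlg hE with
    deg := fun U hU => deg hE hU
    graded := fun U hU =>
      { gradedMonoid hE hU, (isInternal hE hU).chooseDecomposition with }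
    map_mem := fun {U V} hU hV i {d x} hx => by
      let ρ : AU hE U →+* AU hE V := ((symAlg hE).presheaf.map (homOfLE i).op).hom
      have key : (Δ hE hV).comp ρ = (Polynomial.mapRingHom ρ).comp (Δ hE hU) := by
        refine RingHom.ext fun b => ?_
        have hb : b ∈ genAt (symAlg hE) (symJ hE) U := by
          rw [genAt_eq_top hE (isSymAlg_symAlg hE) hU]; exact Subring.mem_top b
        refine (Subring.closure_le (t := RingHom.eqLocus ((Δ hE hV).comp ρ)
          ((Polynomial.mapRingHom ρ).comp (Δ hE hU)))).2 ?_ hb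
        rintro _ (⟨r, rfl⟩ | ⟨e, rfl⟩)
        · show Δ hE hV (rB (symAlg hE) i _) = Polynomial.map ρ (Δ hE hU _)
          rw [rB_str, Δ_str, Δ_str, Polynomial.map_C]
          exact congrArg Polynomial.C (rB_str (symAlg hE) i r).symm
        · show Δ hE hV (rB (symAlg hE) i _) = Polynomial.map ρ (Δ hE hU _)
          rw [rB_jv, Δ_jv, Δ_jv, Polynomial.map_mul, Polynomial.map_C, Polynomial.map_X]
          exact congrArg (fun z => Polynomial.C z * Polynomial.X) (rB_jv (symAlg hE) (symJ hE) i e).symm
      show Δ hE hV (ρ x) = _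
      have h := RingHom.congr_fun key x
      rw [RingHom.comp_apply, RingHom.comp_apply, hx] at h
      rw [h]
      simp
      rfl
    str_mem := fun U hU r => str_mem_deg hE hU r }

theorem isGrSymAlg : RelProj.IsGrSymAlg E (grSymAlg hE) (symJ hE) :=
  ⟨isSymAlg_symAlg hE, fun _ hU e => jv_mem_deg hE hU e⟩

end Groth.Agent.H28.PBSym

end
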