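import Groth.Agent.KZ.LFRes
import Groth.Agent.KZ.Localization
import Groth.Agent.KZ.RegPerf
import Groth.Agent.H28.VectPerf
import Groth.Agent.KFlatLib.Scheme.CohExtend
import Groth.Agent.KFlatLib.Scheme.ProjAffineFlat
import Groth.Agent.RefX.Normal
import Groth.Prelude.Def_SGA6

/-!
# Perfect classes of coherent modules that are locally free on an open with regular complement
-/

set_option autoImplicit false
set_option linter.style.haveILetI false
set_option linter.unusedSectionVars false
set_option backward.isDefEq.respectTransparency false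
set_option backward.isDefEq.respectTransparency.types false
set_option maxHeartbeats 1000000

universe u

open CategoryTheory CategoryTheory.Limits CategoryTheory.Pretriangulated AlgebraicGeometry TopologicalSpace Opposite
open ZeroObject
attribute [local instance] HasDerivedCategory.standard

noncomputable section

namespace Groth.Agent.H28.PerfGen

open Groth.Agent Groth.Agent.KZ.LFRes

variable {X : Scheme.{u}}

/-- The class of a module among perfect objects. -/
abbrev pc (M : X.Modules) : SGA6.Kperf X := KZero.clTr (SGA6.perfP X) (DCoh.inD X M)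

theorem locSP_lf {E : X.Modules} (hE : FlatMod.IsFinLocFree E) : DCoh.IsPerfect (DCoh.inD X E) := by
  refine (KFlatLib.isPerfect_iff _).2 fun x => ⟨X, 𝟙 X, inferInstance, ⟨x, rfl⟩,
    (HomologicalComplex.single X.Modules (ComplexShape.up ℤ) 0).obj E, ⟨⟨0, 0, fun i hi =>
      HomologicalComplex.isZero_single_obj_X _ _ _ _ (by omega)⟩, fun i => ?_⟩, ?_⟩
  · by_cases h : i = 0
    · subst h
      exact H23.PullPush.isFinLocFree_of_iso (HomologicalComplex.singleObjXSelf _ 0 E).symm hE
    · exact KFlatLib.isFinLocFree_of_isZero (HomologicalComplex.isZero_single_obj_X _ _ _ _ h)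
  · obtain ⟨e'⟩ := KFlatLib.CohExtend.nonempty_rho_id (DCoh.inD X E)
    exact ⟨((DerivedCategory.singleFunctorIsoCompQ X.Modules 0).app E).symm ≪≫ e'.symm⟩

variable [IsNoetherian X]

theorem isPerfect_pdlt (hX : KRR.HasEnoughLocFree X) :
    ∀ (n : ℕ) (M : X.Modules), PDLT (n + 1) M → DCoh.IsPerfect (DCoh.inD X M) := by
  intro n
  induction n with
  | zero => exact fun M hM => locSP_lf (pdlt_one_iff.1 hM)
  | succ n ih =>
    intro M hM
    obtain ⟨E, p, hE, hp⟩ := hX M hM.1
    haveI := hp
    have hS := KZ.kerSeq_shortExact p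
    have hK : PDLT (n + 1) (kernel p) :=
      PDLT.kernel_of hS ((pdlt_one_iff.2 hE).mono (by omega)) hM
    exact (KFlatLib.isPerfect_iff _).2 (KFlatLib.locSP_obj₃ _ hS.singleTriangle_distinguished
      ((KFlatLib.isPerfect_iff _).1 (ih _ hK)) ((KFlatLib.isPerfect_iff _).1 (locSP_lf hE)))

theorem isPerfect_P₁ (hX : KRR.HasEnoughLocFree X) {M : X.Modules} (hM : P₁ X M) :
    DCoh.IsPerfect (DCoh.inD X M) := by
  obtain ⟨n, hn⟩ := exists_pdlt hM.2
  exact isPerfect_pdlt hX n M hn

theorem pc_ses (hX : KRR.HasEnoughLocFree X) {S : ShortComplex X.Modules} (hS : S.ShortExact)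
    (h₁ : P₁ X S.X₁) (h₂ : P₁ X S.X₂) (h₃ : P₁ X S.X₃) : pc S.X₂ = pc S.X₁ + pc S.X₃ :=
  KZ.clTr_triangle (SGA6.perfP X) hS.singleTriangle_distinguished (isPerfect_P₁ hX h₁) (isPerfect_P₁ hX h₂)
    (isPerfect_P₁ hX h₃)

theorem pc_isZero {Z : X.Modules} (hZ : IsZero Z) : pc Z = 0 :=
  KZ.clTr_isZero _ ((DerivedCategory.singleFunctor X.Modules 0).map_isZero hZ)

theorem pc_iso {M N : X.Modules} (e : M ≅ N) (hM : DCoh.IsPerfect (DCoh.inD X M))
    (hN : DCoh.IsPerfect (DCoh.inD X N)) : pc M = pc N :=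
  KZ.clTr_iso (SGA6.perfP X) ((DerivedCategory.singleFunctor X.Modules 0).mapIso e) hM hN
    ((DerivedCategory.singleFunctor X.Modules 0).map_isZero (isZero_zero X.Modules))
    (locSP_lf (KFlatLib.isFinLocFree_of_isZero (isZero_zero _)))

/-- Finite projective dimension at every point gives a finite resolution. -/
theorem hasLFRes_of_pd (hX : KRR.HasEnoughLocFree X) {A : X.Modules} (hA : Coh.IsCoh A)
    (h : ∀ x : X, ∃ n : ℕ, HasProjectiveDimensionLT (stk A x) (n + 1)) : KRR.HasLFRes A := by
  classical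
  have hcov : ∀ N : {N : X.Modules // Coh.IsCoh N}, ∃ (E : X.Modules) (p : E ⟶ N.1), FlatMod.IsFinLocFree E ∧ Epi p :=
    fun N => hX N.1 N.2
  choose E p hE hp using hcov
  let next : {N : X.Modules // Coh.IsCoh N} → {N : X.Modules // Coh.IsCoh N} := fun N =>
    ⟨kernel (p N), QCoh.isCoh_kernel (flf_isCoh (hE N)) N.2 (p N)⟩
  let K : ℕ → {N : X.Modules // Coh.IsCoh N} := fun k => next^[k] ⟨A, hA⟩
  have step : ∀ (k m : ℕ) (x : X), HasProjectiveDimensionLT (stk (K k).1 x) (m + 2) ↔
      HasProjectiveDimensionLT (stk (K (k + 1)).1 x) (m + 1) := fun k m x => by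
    have hK : (K (k + 1)).1 = kernel (p (K k)) := by
      show (next^[k + 1] _).1 = _
      rw [Function.iterate_succ_apply']
    rw [hK]
    haveI := hp (K k)
    have hproj : Projective (stk (E (K k)) x) :=
      projective_iff_hasProjectiveDimensionLT_one.2 ((pdlt_one_iff.2 (hE (K k))).2 x)
    exact (stk_shortExact (KZ.kerSeq_shortExact (p (K k))) x).hasProjectiveDimensionLT_X₃_iff m hproj
  have key : ∀ (n k : ℕ) (x : X), HasProjectiveDimensionLT (stk (K k).1 x) (n + 1) ↔
      HasProjectiveDimensionLT (stk (K (k + n)).1 x) 1 := by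
    intro n
    induction n with
    | zero => exact fun k x => Iff.rfl
    | succ n ih => intro k x; rw [step k n x, ih (k + 1) x, show k + 1 + n = k + (n + 1) by omega]
  let O : ℕ → Set X := fun n => {x | HasProjectiveDimensionLT (stk A x) (n + 1)}
  have hO : ∀ n, IsOpen (O n) := fun n => isOpen_iff_forall_mem_open.2 fun x hx => by
    have hx' : HasProjectiveDimensionLT (stk (K (0 + n)).1 x) 1 := (key n 0 x).1 hx
    refine ⟨(RefX.freeLocus (K (0 + n)).1 (K (0 + n)).2).1, fun y hy => (key n 0 y).2 ?_,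
      (RefX.freeLocus _ _).2, (free_iff_pd (K (0 + n)).2 x).2 hx'⟩
    exact (free_iff_pd (K (0 + n)).2 y).1 hy
  have hmono : Monotone O := fun a b hab x hx =>
    have : HasProjectiveDimensionLT (stk A x) (a + 1) := hx
    hasProjectiveDimensionLT_of_ge _ (a + 1) (b + 1) (by omega)
  obtain ⟨s, hs⟩ := isCompact_univ.elim_finite_subcover O hO fun x _ => by
    obtain ⟨n, hn⟩ := h x
    exact Set.mem_iUnion.2 ⟨n, hn⟩
  refine hasLFRes hX (s.sup id) A ⟨hA, fun x => ?_⟩
  obtain ⟨i, hi, hxi⟩ := Set.mem_iUnion₂.1 (hs (Set.mem_univ x))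
  exact hmono (Finset.le_sup (f := id) hi) hxi

/-- Coherent and locally free on `U`. -/
def FreeOn (U : X.Opens) (M : X.Modules) : Prop :=
  Coh.IsCoh M ∧ ∀ x ∈ U, Module.Free (X.presheaf.stalk x) (M.presheaf.stalk x)

theorem FreeOn.lf {U : X.Opens} {M : X.Modules} (h : FreeOn U M) : FlatMod.IsFinLocFree (M.restrict U.ι) :=
  RefX.isFinLocFree_restrict h.1 U h.2

theorem freeOn_of_lf {U : X.Opens} {M : X.Modules} (hM : Coh.IsCoh M)
    (h : FlatMod.IsFinLocFree (M.restrict U.ι)) : FreeOn U M :=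
  ⟨hM, fun x hx => (RefX.free_restrict_iff U.ι M ⟨x, hx⟩).1 (QCoh.free_stalk_of_isFinLocFree h ⟨x, hx⟩)⟩

theorem freeOn_of_isFinLocFree (U : X.Opens) {E : X.Modules} (hE : FlatMod.IsFinLocFree E) : FreeOn U E :=
  ⟨flf_isCoh hE, fun x _ => QCoh.free_stalk_of_isFinLocFree hE x⟩

theorem freeOn_of_support {U : X.Opens} {M : X.Modules} (hM : Coh.IsCoh M)
    (h : Disjoint (CohB1.support M) (U : Set X)) : FreeOn U M := by
  refine ⟨hM, fun x hx => ?_⟩
  haveI : Subsingleton (M.presheaf.stalk x) := not_not.1 fun hs => Set.disjoint_left.1 h hs hx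
  exact Module.Free.of_subsingleton _ _

theorem support_of_isZero {U : X.Opens} {M : X.Modules} (hM : Coh.IsCoh M) (h : IsZero (M.restrict U.ι)) :
    Disjoint (CohB1.support M) (U : Set X) :=
  Set.disjoint_left.2 fun _ hs hxU => KZ.Localization.isZero_restrict_iff hM h hs hxU

theorem FreeOn.iso {U : X.Opens} {M N : X.Modules} (h : FreeOn U M) (e : M ≅ N) : FreeOn U N :=
  freeOn_of_lf (KZ.isClosedUnderIsomorphisms_isCoh.of_iso e h.1)
    (H23.PullPush.isFinLocFree_of_iso ((Scheme.Modules.restrictFunctor U.ι).mapIso e) h.lf)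

variable (hX : KRR.HasEnoughLocFree X) (U : X.Opens)
  (hreg : ∀ x : X, x ∉ U → IsRegularLocalRing (X.presheaf.stalk x))

include hX hreg in
theorem FreeOn.p₁ {M : X.Modules} (h : FreeOn U M) : P₁ X M := by
  refine ⟨h.1, hasLFRes_of_pd hX h.1 fun x => ?_⟩
  by_cases hx : x ∈ U
  · exact ⟨0, (free_iff_pd h.1 x).1 (h.2 x hx)⟩
  · haveI := hreg x hx
    haveI : Module.Finite (X.presheaf.stalk x) (stk M x) := QCoh.finite_stalk_of_isFT h.1.1 h.1.2 x
    exact ⟨_, RegLoc6.pdLE_of_isRegularLocalRing (X.presheaf.stalk x) (stk M x)⟩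

theorem FreeOn.ker {S : ShortComplex X.Modules} (hS : S.ShortExact) (hc : Coh.IsCoh S.X₁)
    (h₂ : FreeOn U S.X₂) (h₃ : FreeOn U S.X₃) : FreeOn U S.X₁ := by
  haveI : PreservesFiniteLimits (Scheme.Modules.restrictFunctor U.ι) := inferInstance
  have hS' := hS.map_of_exact (Scheme.Modules.restrictFunctor U.ι)
  haveI := hS'.epi_g
  exact freeOn_of_lf hc (H23.PullPush.isFinLocFree_of_iso
    (IsLimit.conePointUniqueUpToIso hS'.fIsKernel (kernelIsKernel _)).symm
    (KFlatLib.isFinLocFree_kernel _ h₂.lf h₃.lf))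

include hX hreg in
/-- Modules isomorphic on `U` have classes differing by classes of modules supported outside `U`. -/
theorem sub_mem_of_isIso (S : AddSubgroup (SGA6.Kperf X))
    (hS : ∀ M : X.Modules, Coh.IsCoh M → Disjoint (CohB1.support M) (U : Set X) → pc M ∈ S)
    {G F : X.Modules} (hG : FreeOn U G) (hF : FreeOn U F) (p : G ⟶ F)
    [IsIso ((Scheme.Modules.restrictFunctor U.ι).map p)] : pc G - pc F ∈ S := by
  let R := Scheme.Modules.restrictFunctor U.ι
  haveI : PreservesFiniteLimits R := inferInstance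
  have hk := QCoh.isCoh_kernel hG.1 hF.1 p
  have hc := QCoh.isCoh_cokernel hG.1.1 hF.1 p
  have hI : Coh.IsCoh (cokernel (kernel.ι p)) := QCoh.isCoh_cokernel hk.1 hG.1 _
  let m : cokernel (kernel.ι p) ⟶ F := cokernel.desc _ p (kernel.condition p)
  haveI : Mono m := inferInstanceAs (Mono (Abelian.factorThruCoimage p))
  have hkz : IsZero (R.obj (kernel p)) :=
    (isZero_kernel_of_mono (R.map p)).of_iso (PreservesKernel.iso R p)
  have hcz : IsZero (R.obj (cokernel p)) :=
    (isZero_cokernel_of_epi (R.map p)).of_iso (PreservesCokernel.iso R p)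
  haveI : IsIso (R.map (cokernel.π (kernel.ι p))) := by
    haveI : Mono (R.map (cokernel.π (kernel.ι p))) := by
      haveI : Mono (R.map (cokernel.π (kernel.ι p)) ≫ R.map m) := by
        rw [← R.map_comp, show cokernel.π (kernel.ι p) ≫ m = p by simp [m]]
        infer_instance
      exact mono_of_mono _ (R.map m)
    exact isIso_of_mono_of_epi _
  have hIf : FreeOn U (cokernel (kernel.ι p)) := freeOn_of_lf hI
    (H23.PullPush.isFinLocFree_of_iso (asIso (R.map (cokernel.π (kernel.ι p)))) hG.lf)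
  have hkf := freeOn_of_support hk (support_of_isZero hk hkz)
  have hcf := freeOn_of_support hc (support_of_isZero hc hcz)
  have P : ∀ {M : X.Modules}, FreeOn U M → P₁ X M := fun h => h.p₁ hX U hreg
  have h1 := pc_ses hX (KZ.shortExact_of_mono (kernel.ι p)) (P hkf) (P hG) (P hIf)
  have hS2 : (ShortComplex.mk m (cokernel.π p) (by
      rw [← cancel_epi (cokernel.π (kernel.ι p))]; simp [m])).ShortExact := by
    refine .mk' ?_ inferInstance inferInstance
    refine ShortComplex.exact_of_g_is_cokernel _ (CokernelCofork.IsColimit.ofπ _ _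
      (fun g hg => cokernel.desc p g (by
        rw [show p = cokernel.π (kernel.ι p) ≫ m by simp [m], Category.assoc]
        exact (congrArg _ hg).trans comp_zero))
      (fun g hg => cokernel.π_desc _ _ _) (fun g hg b hb => ?_))
    rw [← cancel_epi (cokernel.π p), cokernel.π_desc]
    exact hb
  have h2 := pc_ses hX hS2 (P hIf) (P hF) (P hcf)
  have e : pc G - pc F = pc (kernel p) - pc (cokernel p) := by
    rw [show pc G = _ from h1, show pc F = _ from h2]
    simp only [ShortComplex.mk]
    abel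
  rw [e]
  exact S.sub_mem (hS _ hk (support_of_isZero hk hkz)) (hS _ hc (support_of_isZero hc hcz))

include hX hreg in
/-- Classes of coherent modules supported in a regular closed subscheme are pushed forward from it. -/
theorem mem_range_mapTr {Z : Scheme.{u}} (j : Z ⟶ X) [IsClosedImmersion j]
    (hU : Disjoint (Set.range j) (U : Set X)) (hZ : ∀ z : Z, IsRegularLocalRing (Z.presheaf.stalk z))
    [(Scheme.Modules.pushforward j).Additive] [PreservesFiniteLimits (Scheme.Modules.pushforward j)]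
    [PreservesFiniteColimits (Scheme.Modules.pushforward j)]
    (hj : ∀ K : DCoh.D Z, DCoh.IsPerfect K → DCoh.IsPerfect ((Scheme.Modules.pushforward j).mapDerivedCategory.obj K))
    {M : X.Modules} (hM : Coh.IsCoh M) (hs : CohB1.support M ⊆ Set.range j) :
    pc M ∈ (SGA6.mapTr ((Scheme.Modules.pushforward j).mapDerivedCategory) (SGA6.perfP Z) (SGA6.perfP X) hj).range := by
  set f := SGA6.mapTr ((Scheme.Modules.pushforward j).mapDerivedCategory) (SGA6.perfP Z) (SGA6.perfP X) hj with hf
  haveI : IsLocallyNoetherian Z := LocallyOfFiniteType.isLocallyNoetherian j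
  have P : ∀ {N : X.Modules}, Coh.IsCoh N → CohB1.support N ⊆ Set.range j → P₁ X N := fun hN hNs =>
    FreeOn.p₁ hX U hreg (freeOn_of_support hN (Set.disjoint_of_subset_left hNs hU))
  have hpush : ∀ N : Z.Modules, Coh.IsCoh N → DCoh.IsPerfect (DCoh.inD X ((Scheme.Modules.pushforward j).obj N)) ∧
      pc ((Scheme.Modules.pushforward j).obj N) ∈ f.range := fun N hN => by
    have hp : DCoh.IsPerfect (DCoh.inD Z N) := KZ.isPerfect_of_isCoh hZ N hN
    let e := ((Scheme.Modules.pushforward j).mapDerivedCategorySingleFunctor 0).app N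
    have h2 := hj _ hp
    have h3 : DCoh.IsPerfect (DCoh.inD X ((Scheme.Modules.pushforward j).obj N)) :=
      (KFlatLib.isPerfect_iff _).2 (KFlatLib.LocSP.of_iso e ((KFlatLib.isPerfect_iff _).1 h2))
    refine ⟨h3, KZero.clTr (SGA6.perfP Z) (DCoh.inD Z N), ?_⟩
    rw [KZ.clTr_of_prop (SGA6.perfP Z) hp]
    refine (KZ.clTr_of_prop (SGA6.perfP X) h2).symm.trans ?_
    exact KZ.clTr_iso (SGA6.perfP X) e h2 h3
      ((DerivedCategory.singleFunctor X.Modules 0).map_isZero (isZero_zero X.Modules))
      (locSP_lf (KFlatLib.isFinLocFree_of_isZero (isZero_zero _)))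
  induction QCoh.filt_of_isCoh hM with
  | @zero N h => rw [pc_isZero h]; exact zero_mem _
  | @step N M' g _ _ hNc hMc hex ih =>
    obtain ⟨Y, k, hk', hY, I, ι, hι, hI, hI0, ⟨e⟩⟩ := hex
    haveI := hk'; haveI := hY; haveI := hι
    have hcok := QCoh.isCoh_cokernel hNc.1 hMc g
    have hsub : CohB1.support N ⊆ CohB1.support M' := QCoh.mem_support_of_mono hNc.1 hMc.1 g
    have hp : CohB1.support ((Coh.push k).obj I) ⊆ CohB1.support M' := by
      rw [← QCoh.support_iso e hcok.1]
      exact QCoh.support_of_epi hMc.1 hcok.1 (cokernel.π g)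
    have hcs : CohB1.support (cokernel g) ⊆ CohB1.support M' := QCoh.support_of_epi hMc.1 hcok.1 (cokernel.π g)
    rw [pc_ses hX (KZ.shortExact_of_mono g) (P hNc (hsub.trans hs)) (P hMc hs) (P hcok (hcs.trans hs))]
    refine add_mem (ih hNc (hsub.trans hs)) ?_
    have hj' : Set.range k ⊆ Set.range j := by
      rw [QCoh.range_eq_closure k, ← QCoh.support_push_ideal k ι hI hI0]
      exact hp.trans hs
    have hk : KZ.ClosedDev.Killed j (cokernel g) := (KZ.ClosedDev.killed_push_reduced j k hj' I).of_mono j e.hom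
    haveI := (QCoh.isIso_unit_closed_iff j hcok.1).2 hk
    obtain ⟨h3, h4⟩ := hpush _ (KZ.ClosedDev.isCoh_pull j hcok)
    have he : pc (cokernel g) =
        pc ((Scheme.Modules.pushforward j).obj ((Scheme.Modules.pullback j).obj (cokernel g))) :=
      pc_iso (asIso ((Scheme.Modules.pullbackPushforwardAdjunction j).unit.app (cokernel g)))
        (isPerfect_P₁ hX (P hcok (hcs.trans hs))) h3
    show pc (cokernel g) ∈ _
    exact (congrArg (· ∈ f.range) he).mpr h4

end Groth.Agent.H28.PerfGen

end
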