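import Groth.Agent.H28.PnBox
import Groth.Agent.H28.RegTwist
import Groth.Agent.H28.FlatPr
import Groth.Agent.KFlatLib.Perfect.Top
import Groth.Agent.KFlatLib.Perfect.Tensor
import Groth.Agent.AmpleX.Generated
import Groth.Agent.AmpleX.Separated
import Groth.Agent.InvX.GenEpi
import Groth.Agent.PnCoh.Finite.SerreVanishing
import Groth.Agent.QCoh.VanIdeal

/-!
# Projective space over an affine base: generation and vanishing for locally free modules
-/

set_option linter.style.haveILetI false
set_option linter.unusedSectionVars false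
set_option backward.isDefEq.respectTransparency false
set_option backward.isDefEq.respectTransparency.types false

universe u

open CategoryTheory CategoryTheory.Limits AlgebraicGeometry TopologicalSpace Opposite MonoidalCategory
open Groth.Agent.H23.PicMul

attribute [local instance] Groth.Agent.QCoh.hasFiniteBiproducts

namespace Groth.Agent.H28.PnChart

open Groth.Agent Groth.Agent.PnCoh Groth.Agent.H28.Box Groth.Agent.H28.KRRTw Groth.Agent.H28.KRRReg

attribute [local instance] MvPolynomial.gradedAlgebra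

variable {n : ℕ} {A : Type u} [CommRing A] {V : Scheme.{u}} [V.Over (Spec (CommRingCat.of A))]
  (g : V ⟶ PS (Fin (n + 1)) R0.{u})

local notation "π" => (V ↘ Spec (CommRingCat.of A))

/-- `V` is projective `n`-space over `A`. -/
abbrev IsChart : Prop :=
  IsPullback g (V ↘ Spec (CommRingCat.of A)) (CohB1.ProjSpace.toSpec n (ULift.{u} ℤ))
    (specULiftZIsTerminal.from (Spec (CommRingCat.of A)))

variable (n) in
/-- The pulled back twisting sheaf. -/
noncomputable abbrev L (d : ℤ) : V.Modules := (Scheme.Modules.pullback g).obj (O1 n d)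

variable {g} (h : IsChart (A := A) g)

include h in
theorem isAffineHom : IsAffineHom g :=
  MorphismProperty.of_isPullback h.flip (isAffineHom_of_isAffine _)

include h in
theorem isProper : IsProper π :=
  MorphismProperty.of_isPullback h (PnCoh.Chow.isProper_toSpec n (ULift.{u} ℤ))

include h in
theorem flat : Flat π :=
  MorphismProperty.of_isPullback h (FlatPr.flat_toSpec n)

include h in
theorem compactSpace : CompactSpace V :=
  haveI := isProper h
  QuasiCompact.compactSpace_of_compactSpace π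

include h in
theorem isSeparated : V.IsSeparated := ⟨by
  haveI := isProper h
  have e : terminal.from V = π ≫ terminal.from _ := Subsingleton.elim _ _
  rw [e]
  exact MorphismProperty.comp_mem @IsSeparated _ _ inferInstance inferInstance⟩

include h in
theorem isBox (D : (PS (Fin (n + 1)) R0.{u}).Opens) (hD : IsAffineOpen D) :
    Box.IsBox g π D ⊤ (Box.hle g π ⊤ rfl D) := by
  let T := Spec (CommRingCat.of A)
  let W := g ⁻¹ᵁ D
  refine PnBox.isBox_of_isPullback g π D ⊤ hD (isAffineOpen_top _) _ (W.ι ≫ π ≫ T.topIso.inv)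
    (by simp [← Scheme.topIso_hom]) (D.ι ≫ CohB1.ProjSpace.toSpec n (ULift.{u} ℤ))
    ((⊤ : T.Opens).ι ≫ specULiftZIsTerminal.from T) ?_
  refine IsPullback.of_iso ((isPullback_morphismRestrict g D).paste_vert h) (Iso.refl _) (Iso.refl _)
    T.topIso.symm (Iso.refl _) ?_ ?_ ?_ ?_ <;> simp

theorem isQCoh_L (d : ℤ) : Coh.IsQCoh (L n g d) :=
  QCoh.isQCoh_pullback _ (PnCoh.isQCoh_twist_mvPolynomial _ _ d)

theorem isInvertible_L (d : ℤ) : PicF.IsInvertible (L n g d) :=
  PicClLib.isInvertible_pullback g (PnCoh.Finite.isInvertible_twist (crd n) crd_mem crd_cover d)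

theorem cl_L_add (a b : ℤ) : PicF.cl (L n g a) * PicF.cl (L n g b) = PicF.cl (L n g (a + b)) := by
  obtain ⟨e⟩ := PnCoh.Finite.twist_tensor_iso (crd n) crd_mem crd_cover a b
  rw [← cl_tensor, cl_eq_iff]
  exact ⟨(pull g (O1 n a) (O1 n b)).some.symm ≪≫ (Scheme.Modules.pullback g).mapIso e⟩

theorem tensorPow_L (k : ℕ) : Nonempty (CohB1.tensorPow (L n g 1) k ≅ L n g (k : ℤ)) := by
  obtain ⟨e⟩ := PnCoh.Finite.twist_tensorPow_iso (crd n) crd_mem crd_cover k
  obtain ⟨e'⟩ := AmpleVan.RelVanish.pullback_tensorPow g (O1.{u} n 1) k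
  exact ⟨e'.symm ≪≫ (Scheme.Modules.pullback g).mapIso e.symm⟩

include h in
theorem isAmple_L : CohB1.IsAmple (L n g 1) :=
  haveI := isAffineHom h
  haveI := compactSpace h
  RegTwist.isAmple_pull g (RegTwist.isAmple_O1 n)

/-- `π^* G`. -/
noncomputable abbrev P (G : (Spec (CommRingCat.of A)).Modules) : V.Modules :=
  (Scheme.Modules.pullback π).obj G

include h in
theorem subsingleton_HH_of_lt {M : V.Modules} (hM : Coh.IsQCoh M) (i : ℕ) (hi : n < i) :
    Subsingleton (Coh.HH V M i) := by
  haveI := isAffineHom h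
  haveI := isSeparated h
  refine QCoh.HH_subsingleton_of_cover (n + 1) (fun k : Fin (n + 1) => Box.cov g ⟨k⟩)
    (fun k => (PnCoh.isAffineOpen_mOpen (Finsupp.single_ne_zero.2 one_ne_zero)).preimage g) ?_
    (fun V W hV hW => hV.inf hW) hM i hi
  rw [← Scheme.Hom.preimage_iSup, show ⨆ k : Fin (n + 1), PnCoh.stdU (Fin (n + 1)) Box.R0.{u} ⟨k⟩ = ⊤ from
    PnCoh.iSup_mOpen_single, Scheme.Hom.preimage_top]

include h in
theorem subsingleton_HH_Mod (G : (Spec (CommRingCat.of A)).Modules) (hG : Coh.IsQCoh G) (d : ℤ)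
    (hd : -((n : ℤ) + 1) < d) (p : ℕ) : Subsingleton (Coh.HH V (Box.Mod g π d G) (p + 1)) :=
  haveI := isAffineHom h
  Box.subsingleton_HH g π d G ⊤ rfl (isAffineOpen_top _) (fun D hD => isBox h D hD) hG hd
    (KFlatLib.isQCoh_tensor (isQCoh_L d) (QCoh.isQCoh_pullback _ hG)) p

include h in
/-- Locally free modules are quotients of sums of twists. -/
theorem exists_epi {F : V.Modules} (hF : FlatMod.IsFinLocFree F) :
    ∃ (a c : ℕ) (q : (⨁ fun _ : Fin c => Coh.structureModule V) ⟶ CohB1.tensorMod F (L n g (a : ℤ))),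
      Epi q := by
  haveI := compactSpace h
  haveI := isSeparated h
  obtain ⟨a, ha⟩ := AmpleX.eventually_generated_finite (isAmple_L h) (QCoh.isQCoh_of_isFinLocFree hF)
    (QCoh.isFT_of_isFP (QCoh.isFP_of_isFinLocFree hF))
  obtain ⟨G, φ, ι, _, t, ht⟩ := ha a le_rfl
  haveI := Fintype.ofFinite ι
  have ht' : ProjUP.GeneratedBy G (t ∘ (Fintype.equivFin ι).symm) := fun x => by
    rw [← ht x]
    refine congrArg (Submodule.span _) ?_
    exact (Fintype.equivFin ι).symm.surjective.range_comp (g := fun i => (G.presheaf.germ ⊤ x trivial).hom (t i))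
  obtain ⟨p, hp⟩ := InvX.exists_epi_freeMod ht'
  obtain ⟨w⟩ := tensorPow_L (g := g) a
  exact ⟨a, _, (biproduct.isoCoproduct _).hom ≫ p ≫ φ.hom ≫ (DCoh.tensorBi.obj F).map w.hom,
    epi_comp _ _⟩

theorem isFinLocFree_sum (c : ℕ) : FlatMod.IsFinLocFree (⨁ fun _ : Fin c => Coh.structureModule V) :=
  H23.PullPush.isFinLocFree_of_iso (biproduct.isoCoproduct (fun _ : Fin c => Coh.structureModule V)).symm
    (KFlatLib.isFinLocFree_freeMod c)

include h in
/-- Finite locally free modules tensored with inverse images are acyclic after a high twist. -/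
theorem exists_vanish (j : ℕ) : ∀ (F : V.Modules), FlatMod.IsFinLocFree F → ∀ i : ℕ, 1 ≤ i → n < i + j →
    ∃ m₀ : ℕ, ∀ m : ℕ, m₀ ≤ m → ∀ G : (Spec (CommRingCat.of A)).Modules, Coh.IsQCoh G →
      Subsingleton (Coh.HH V (CohB1.tensorMod (Box.Mod g π (m : ℤ) G) F) i) := by
  induction j with
  | zero =>
    intro F hF i _ hin
    exact ⟨0, fun m _ G hG => subsingleton_HH_of_lt h (KFlatLib.isQCoh_tensor
      (KFlatLib.isQCoh_tensor (isQCoh_L _) (QCoh.isQCoh_pullback _ hG)) (QCoh.isQCoh_of_isFinLocFree hF)) i (by omega)⟩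
  | succ j ih =>
    intro F hF i hi hin
    obtain ⟨a, c, q, hq⟩ := exists_epi h hF
    let F' := CohB1.tensorMod F (L n g (a : ℤ))
    have hF' : FlatMod.IsFinLocFree F' :=
      KFlatLib.isFinLocFree_tensor hF (H23.PullPush.isFinLocFree_of_isInvertible (isInvertible_L _))
    have hK : FlatMod.IsFinLocFree (kernel q) := KFlatLib.isFinLocFree_kernel q (isFinLocFree_sum c) hF'
    obtain ⟨m₁, hm₁⟩ := ih (kernel q) hK (i + 1) (by omega) (by omega)
    refine ⟨m₁ + a, fun m hm G hG => ?_⟩
    obtain ⟨k, rfl⟩ : ∃ k, m = k + a := ⟨m - a, by omega⟩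
    let Q := Box.Mod g π (k : ℤ) G
    let S : ShortComplex V.Modules := ShortComplex.mk (kernel.ι q) q (kernel.condition q)
    have hS : S.ShortExact := { exact := ShortComplex.exact_of_f_is_kernel _ (kernelIsKernel q) }
    have hSQ := KFlatLib.shortExact_tensor_of_isFlat Q hS (KFlatLib.isFlat_of_isFinLocFree hF')
    obtain ⟨q', rfl⟩ : ∃ q', i = q' + 1 := ⟨i - 1, by omega⟩
    let Φ : V.Modules ⥤ V.Modules := DCoh.tensorBi.obj Q
    haveI : PreservesColimitsOfSize.{u, u} Φ := ⟨fun {K} _ => inferInstance⟩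
    haveI : PreservesColimitsOfSize.{0, 0} Φ := preservesColimitsOfSize_shrink.{0, u, 0, u} _
    haveI : PreservesBinaryBiproducts Φ := preservesBinaryBiproducts_of_preservesBinaryCoproducts _
    haveI : Φ.Additive := Functor.additive_of_preservesBinaryBiproducts _
    have h2 : Subsingleton (Coh.HH V (Φ.obj (⨁ fun _ : Fin c => Coh.structureModule V)) (q' + 1)) := by
      refine PnCoh.Finite.subsingleton_HH_of_decomposition (fun _ : Fin c => Φ.obj (Coh.structureModule V))
        (fun j => Φ.map (biproduct.π (fun _ : Fin c => Coh.structureModule V) j))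
        (fun j => Φ.map (biproduct.ι (fun _ : Fin c => Coh.structureModule V) j)) ?_ _ fun _ => ?_
      · simp only [← Functor.map_comp, ← Functor.map_sum]
        erw [biproduct.total]
        exact CategoryTheory.Functor.map_id _ _
      · exact QCoh.subsingleton_HH_of_iso (unit Q).some.symm _ (subsingleton_HH_Mod h G hG _ (by omega) q')
    have h3 := PnCoh.Finite.subsingleton_HH_X₃ hSQ (q' + 1) h2 (hm₁ k (by omega) G hG)
    obtain ⟨e⟩ : Nonempty (CohB1.tensorMod Q F' ≅ CohB1.tensorMod (Box.Mod g π ((k + a : ℕ) : ℤ) G) F) :=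
      cl_eq_iff.1 (by
        rw [cl_tensor, cl_tensor, cl_tensor, cl_tensor, cl_tensor, Nat.cast_add, ← cl_L_add]
        show _ = PicF.cl (L n g (k : ℤ)) * PicF.cl (L n g (a : ℤ)) * PicF.cl (P G) * PicF.cl F
        show PicF.cl (L n g (k : ℤ)) * PicF.cl (P G) * (PicF.cl F * PicF.cl (L n g (a : ℤ))) = _
        ac_rfl)
    exact QCoh.subsingleton_HH_of_iso e _ h3

include h in
/-- One twist kills the higher cohomology in all degrees. -/
theorem exists_vanish_all {F : V.Modules} (hF : FlatMod.IsFinLocFree F) :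
    ∃ m₀ : ℕ, ∀ m : ℕ, m₀ ≤ m → ∀ i : ℕ, 1 ≤ i → ∀ G : (Spec (CommRingCat.of A)).Modules, Coh.IsQCoh G →
      Subsingleton (Coh.HH V (CohB1.tensorMod (Box.Mod g π (m : ℤ) G) F) i) := by
  choose m hm using fun i : Fin n => exists_vanish h n F hF (i + 1) (by omega) (by omega)
  refine ⟨Finset.univ.sup m, fun k hk i hi G hG => ?_⟩
  by_cases hin : n < i
  · exact subsingleton_HH_of_lt h (KFlatLib.isQCoh_tensor
      (KFlatLib.isQCoh_tensor (isQCoh_L _) (QCoh.isQCoh_pullback _ hG)) (QCoh.isQCoh_of_isFinLocFree hF)) i hin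
  · have := hm ⟨i - 1, by omega⟩ k ((Finset.le_sup (f := m) (Finset.mem_univ _)).trans hk) G hG
    rwa [show i - 1 + 1 = i by omega] at this

end Groth.Agent.H28.PnChart
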