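import Groth.Agent.H28.PnChart
import Groth.Agent.H28.PnH0
import Groth.Agent.H28.CechAug
import Groth.Agent.QCoh.CechTensorA
import Groth.Agent.QCoh.Extension
import Groth.Agent.QCoh.FlatModel
import Groth.Agent.QCoh.LocFree
import Groth.Agent.QCoh.HHExact
import Mathlib.Algebra.Module.FinitePresentation
import Mathlib.RingTheory.Finiteness.Projective
import Mathlib.RingTheory.Flat.EquationalCriterion

/-!
# Projective space over an affine base: direct images of high twists are locally free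
-/

set_option linter.style.haveILetI false
set_option linter.unusedSectionVars false
set_option backward.isDefEq.respectTransparency false
set_option backward.isDefEq.respectTransparency.types false

universe u

open CategoryTheory CategoryTheory.Limits AlgebraicGeometry TopologicalSpace Opposite MonoidalCategory
open Groth.Agent.H23.PicMul
open scoped TensorProduct

attribute [local instance] Groth.Agent.QCoh.hasFiniteBiproducts

namespace Groth.Agent.H28.PnGamma

open Groth.Agent Groth.Agent.PnCoh Groth.Agent.H28.Box Groth.Agent.H28.PnChart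

attribute [local instance] MvPolynomial.gradedAlgebra

variable {n : ℕ} {A : Type u} [CommRing A] {V : Scheme.{u}} [V.Over (Spec (CommRingCat.of A))]
  {g : V ⟶ PS (Fin (n + 1)) R0.{u}}

local notation "π" => (V ↘ Spec (CommRingCat.of A))

variable (A) in
/-- Global sections as a module over `A`. -/
noncomputable def Sec (M : V.Modules) : ModuleCat.{u} A :=
  @ModuleCat.of A _ Γ(M, ⊤) _ (QCoh.secModule (Coh.toGlobal π) M ⊤)

variable (A) in
/-- The map induced on global sections. -/
noncomputable def secMap {M N : V.Modules} (φ : M ⟶ N) : Sec A M →ₗ[A] Sec A N where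
  toFun := φ.app ⊤
  map_add' := map_add _
  map_smul' a s := by
    letI := QCoh.secModule (Coh.toGlobal π) M ⊤
    letI := QCoh.secModule (Coh.toGlobal π) N ⊤
    exact Scheme.Modules.Hom.app_smul φ _ s

variable (A) in
theorem secMap_apply {M N : V.Modules} (φ : M ⟶ N) (s : Γ(M, ⊤)) : secMap A φ s = φ.app ⊤ s := rfl

variable (A) in
theorem finite_of_iso {M N : V.Modules} (e : M ≅ N) (hM : Module.Finite A (Sec A M)) :
    Module.Finite A (Sec A N) :=
  Module.Finite.of_surjective (secMap A e.hom) fun y => ⟨secMap A e.inv y,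
    congr($(congrArg (fun φ : N ⟶ N => φ.app ⊤) e.inv_hom_id) y)⟩

variable (A) in
theorem finitePresentation_of_iso {M N : V.Modules} (e : M ≅ N) (hM : Module.FinitePresentation A (Sec A M)) :
    Module.FinitePresentation A (Sec A N) := by
  let f : Sec A M ≃ₗ[A] Sec A N := LinearEquiv.ofLinearMap (secMap A e.hom) (secMap A e.inv)
    (LinearMap.ext fun y => congr($(congrArg (fun φ : N ⟶ N => φ.app ⊤) e.inv_hom_id) y))
    (LinearMap.ext fun y => congr($(congrArg (fun φ : M ⟶ M => φ.app ⊤) e.hom_inv_id) y))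
  exact Module.finitePresentation_of_surjective f.toLinearMap f.surjective (by
    rw [LinearEquiv.ker]; exact Submodule.fg_bot)

section Flat

variable (h : IsChart (A := A) g)

include h in
theorem isAffineOpen_cov {p : ℕ} (σ : Fin (p + 1) → Idx.{u} n) : IsAffineOpen (⨅ a, cov g (σ a)) := by
  haveI := PnChart.isAffineHom h
  rw [show ⨅ a, cov g (σ a) = g ⁻¹ᵁ tupOpen σ from le_antisymm
    (le_preimage_tupOpen g σ _ fun a => iInf_le _ a) (le_iInf fun a => le_cov g σ a)]
  exact (isAffineOpen_mOpen (tupExp_ne_zero _)).preimage g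

theorem iSup_cov : ⨆ i, cov g i = ⊤ := by
  show ⨆ i, g ⁻¹ᵁ _ = ⊤
  rw [← Scheme.Hom.preimage_iSup, iSup_stdU, Scheme.Hom.preimage_top]

include h in
/-- If `H¹(V, M ⊗ N) = 0` for all `A`-modules `N`, then `H⁰(V, M)` is flat. -/
theorem flat_sec {M : V.Modules} (hM : FlatMod.IsFinLocFree M)
    (hH : ∀ N : ModuleCat.{u} A, Subsingleton (Coh.HH V (QCoh.tA (A := A) M N) 1)) :
    Module.Flat A (Sec A M) := by
  haveI := PnChart.flat h
  let U : Idx.{u} n → V.Opens := cov g
  have hq := QCoh.isQCoh_of_isFinLocFree hM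
  have hU : ∀ {p : ℕ} (σ : Fin (p + 1) → Idx.{u} n), IsAffineOpen (⨅ a, U (σ a)) := fun σ => isAffineOpen_cov h σ
  let K := QCoh.cechA (A := A) M U
  have hfl : ∀ p, Module.Flat A (K.X p) := fun p =>
    QCoh.flat_cechA M hq (FlatPr.isFlatOver_of_isFinLocFree _ hM) hU p
  obtain ⟨e⟩ := QCoh.nonempty_tfun_iso (A := A) M hq (iSup_cov (g := g)) hU 1
  have hex : ∀ N : ModuleCat.{u} A,
      Function.Exact ((K.d 0 1).hom.rTensor N) ((K.d 1 2).hom.rTensor N) := fun N => by
    haveI : Subsingleton ((CohIII.tensorAFunctor A M ⋙ CohIII.HAb V 1).obj N) := hH N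
    haveI : Subsingleton ((CohIII.TFun K 1).obj N : ModuleCat.{u} A) :=
      (e.app N).addCommGroupIsoToAddEquiv.toEquiv.subsingleton
    have hz : IsZero ((CohIII.tensorObj K N).homology 1) :=
      ModuleCat.isZero_of_subsingleton ((CohIII.TFun K 1).obj N)
    have h1 := (HomologicalComplex.exactAt_iff_isZero_homology _ _).2 hz
    rw [HomologicalComplex.exactAt_iff' _ 0 1 2 (by simp) (by simp),
      ShortComplex.moduleCat_exact_iff_range_eq_ker] at h1
    exact LinearMap.exact_iff.2 h1.symm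
  have := hfl 1
  have := hfl 2
  have hR : Module.Flat A (LinearMap.range (K.d 1 2).hom) :=
    QCoh.FlatModel.flat_range_of_tensor_exact _ _ fun N _ _ => hex (ModuleCat.of A N)
  have h01 : Function.Exact (K.d 0 1).hom (K.d 1 2).hom := by
    intro y
    refine ⟨fun hy => ?_, ?_⟩
    · obtain ⟨x, hx⟩ := (hex (ModuleCat.of A A) (y ⊗ₜ[A] (1 : A))).1 (by
        rw [LinearMap.rTensor_tmul, hy, TensorProduct.zero_tmul])
      refine ⟨TensorProduct.rid A _ x, ?_⟩
      have h2 : ∀ x : (K.X 0) ⊗[A] A,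
          TensorProduct.rid A _ ((K.d 0 1).hom.rTensor A x) = (K.d 0 1).hom (TensorProduct.rid A _ x) := fun x => by
        induction x using TensorProduct.induction_on with
        | zero => simp
        | tmul a b => simp
        | add a b ha hb => simp [ha, hb]
      rw [← h2, hx, TensorProduct.rid_tmul, one_smul]
    · rintro ⟨x, rfl⟩
      exact congr($(congrArg ModuleCat.Hom.hom (K.d_comp_d 0 1 2)) x)
  have hK1 : Module.Flat A (LinearMap.ker (K.d 1 2).hom) :=
    FlatCxLib.flat_sub_of_flat (f := (LinearMap.ker (K.d 1 2).hom).subtype)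
      (g := (K.d 1 2).hom.rangeRestrict) Subtype.val_injective
      (LinearMap.exact_iff.2 (by rw [LinearMap.ker_rangeRestrict, Submodule.range_subtype]))
      (LinearMap.surjective_rangeRestrict _)
  haveI : Module.Flat A (LinearMap.range (K.d 0 1).hom) :=
    Module.Flat.of_linearEquiv (LinearEquiv.ofEq _ _ (LinearMap.exact_iff.1 h01).symm)
  have := hfl 0
  haveI hK0 : Module.Flat A (LinearMap.ker (K.d 0 1).hom) :=
    FlatCxLib.flat_sub_of_flat (f := (LinearMap.ker (K.d 0 1).hom).subtype)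
      (g := (K.d 0 1).hom.rangeRestrict) Subtype.val_injective
      (LinearMap.exact_iff.2 (by rw [LinearMap.ker_rangeRestrict, Submodule.range_subtype]))
      (LinearMap.surjective_rangeRestrict _)
  let a : Sec A M →ₗ[A] K.X 0 :=
    { toFun := fun s => CechAug.aug M U s
      map_add' := fun x y => map_add (CechAug.aug M U) x y
      map_smul' := fun r s => Subtype.ext (funext₂ fun σ W => by
        show AModX.res M le_top (V.presheaf.map (homOfLE (le_top : (⊤ : V.Opens) ≤ ⊤)).op (Coh.toGlobal π r) •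
            (show Γ(M, ⊤) from s)) =
          V.presheaf.map (homOfLE (le_top : W.1 ≤ ⊤)).op (Coh.toGlobal π r) •
            (AModX.res M (le_top : W.1 ≤ ⊤) (show Γ(M, ⊤) from s))
        refine (QCoh.map_smul' (M := M) (homOfLE (le_top : W.1 ≤ ⊤)) _ s).trans ?_
        congr 1
        rw [← ConcreteCategory.comp_apply, ← Functor.map_comp]
        rfl) }
  have ha : Function.Exact a (K.d 0 1).hom := fun c => by
    have h0 : ⇑(K.d 0 1).hom = ⇑(QCoh.Ab.natD (X := V.toPresheafedSpace.carrier) M.presheaf U 0) := by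
      funext z
      show (QCoh.Ab.natCx M.presheaf U).d 0 1 z = _
      rw [QCoh.Ab.natCx_d]
      rfl
    rw [h0]
    exact CechAug.exact_aug M (iSup_cov (g := g)) c
  exact Module.Flat.of_linearEquiv ((LinearEquiv.ofInjective a (CechAug.injective_aug M (iSup_cov (g := g)))).trans
    (LinearEquiv.ofEq _ _ (LinearMap.exact_iff.1 ha).symm))

end Flat

section Finite

variable (h : IsChart (A := A) g)

theorem finite_homog (m : ℕ) :
    Module.Finite ℤ Γ(O1.{u} n (m : ℤ), ⊤) := by
  haveI : Module.Finite R0.{u} (MvPolynomial.homogeneousSubmodule (Fin (n + 1)) R0.{u} m) :=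
    Module.Finite.iff_fg.2 (MvPolynomial.homogeneousSubmodule_fg (Fin (n + 1)) R0.{u} m)
  haveI : Module.Finite ℤ R0.{u} :=
    Module.Finite.of_surjective (Algebra.linearMap ℤ R0.{u}) fun r => ⟨r.down, ULift.ext _ _ (by simp)⟩
  haveI : Module.Finite ℤ (MvPolynomial.homogeneousSubmodule (Fin (n + 1)) R0.{u} m) :=
    Module.Finite.trans R0.{u} _
  let e : MvPolynomial.homogeneousSubmodule (Fin (n + 1)) R0.{u} m ≃+ Γ(O1.{u} n (m : ℤ), ⊤) :=
    { globalOfEquiv (ι := Fin (n + 1)) (R := R0.{u}) (d := m) with map_add' := globalOf_add }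
  exact Module.Finite.equiv
    (AddEquiv.toIntLinearEquiv (M := ↥(MvPolynomial.homogeneousSubmodule (Fin (n + 1)) R0.{u} m)) e)

include h in
/-- `H⁰(V, O(m))` is finitely presented. -/
theorem finitePresentation_L (m : ℕ) : Module.FinitePresentation A (Sec A (L n g (m : ℤ))) := by
  haveI := PnChart.isAffineHom h
  let T := Spec (CommRingCat.of A)
  let G := Coh.structureModule T
  have hG : Coh.IsQCoh G := QCoh.isQCoh_structureModule
  obtain ⟨e₀⟩ := PicClLib.nonempty_pullback_structureModule π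
  refine finitePresentation_of_iso A
    ((DCoh.tensorBi.obj (L n g (m : ℤ))).mapIso e₀ ≪≫ (unit (L n g (m : ℤ))).some : Box.Mod g π (m : ℤ) G ≅ _) ?_
  let S := Sec A (Box.Mod g π (m : ℤ) G)
  let H : Type u := Γ(O1.{u} n (m : ℤ), ⊤)
  haveI := finite_homog.{u} (n := n) m
  haveI : Module.FinitePresentation ℤ H := Module.finitePresentation_of_finite ℤ H
  haveI : Module.FinitePresentation A (A ⊗[ℤ] H) := inferInstance
  let hle := Box.hle g π ⊤ rfl ⊤
  let bh := boxHom g π (O1 n (m : ℤ)) G (D := ⊤) hle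
  let iA : A →+* Γ(T, ⊤) := (Scheme.ΓSpecIso (CommRingCat.of A)).inv.hom
  let one : Γ(G, ⊤) := (1 : Γ(T, ⊤))
  let f : H →ₗ[ℤ] S := (AddMonoidHom.mk' (fun a : H => (show S from bh (a ⊗ₜ[ℤ] one))) fun a b => by
    rw [TensorProduct.add_tmul]; exact map_add bh _ _).toIntLinearMap
  let ψ : A ⊗[ℤ] H →ₗ[A] S := f.liftBaseChange A
  let eA : A ≃ₗ[ℤ] Γ(G, ⊤) :=
    (Scheme.ΓSpecIso (CommRingCat.of A)).commRingCatIsoToRingEquiv.symm.toAddEquiv.toIntLinearEquiv
  let e := (TensorProduct.congr eA (LinearEquiv.refl ℤ H)).trans (TensorProduct.comm ℤ Γ(G, ⊤) H)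
  have hψ : ⇑ψ = ⇑bh ∘ ⇑e := by
    funext z
    induction z using TensorProduct.induction_on with
    | zero =>
      rw [map_zero, Function.comp_apply, map_zero]
      exact (map_zero bh).symm
    | add x y hx hy => simp only [Function.comp_apply] at hx hy ⊢; rw [map_add, map_add, map_add, hx, hy]
    | tmul r a =>
      rw [LinearMap.liftBaseChange_tmul]
      show _ = bh (a ⊗ₜ[ℤ] (iA r))
      have h1 : (iA r : Γ(G, ⊤)) = iA r • one := (mul_one (iA r)).symm
      rw [h1]
      show (show Γ(V, g ⁻¹ᵁ ⊤) from V.presheaf.map (homOfLE (le_top : (⊤ : V.Opens) ≤ ⊤)).op (Coh.toGlobal π r)) • _ =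
        InvX.tmul (QCoh.pullSec g (O1 n (m : ℤ)) le_rfl a) (QCoh.pullSec π G hle (iA r • one))
      rw [QCoh.pullSec_smul, InvX.tmul_smul_right]
      rfl
  have hb : Function.Bijective ψ := by
    rw [hψ]
    exact (Box.bijective_boxHom_top g π (m : ℤ) G ⊤ rfl (isAffineOpen_top _) (fun D hD => PnChart.isBox h D hD) hG
      (by omega)).comp e.bijective
  exact Module.finitePresentation_of_surjective ψ hb.2 (by
    rw [LinearMap.ker_eq_bot.2 hb.1]; exact Submodule.fg_bot)

variable (c : ℕ)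

include h in
/-- The same for finite sums. -/
theorem finitePresentation_sum (m : ℕ) : Module.FinitePresentation A
    (Sec A ((DCoh.tensorBi.obj (L n g (m : ℤ))).obj (⨁ fun _ : Fin c => Coh.structureModule V))) := by
  let B := fun _ : Fin c => Coh.structureModule V
  let Φ : V.Modules ⥤ V.Modules := DCoh.tensorBi.obj (L n g (m : ℤ))
  haveI : PreservesColimitsOfSize.{u, u} Φ := ⟨fun {K} _ => inferInstance⟩
  haveI : PreservesColimitsOfSize.{0, 0} Φ := preservesColimitsOfSize_shrink.{0, u, 0, u} _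
  haveI : PreservesBinaryBiproducts Φ := preservesBinaryBiproducts_of_preservesBinaryCoproducts _
  haveI : Φ.Additive := Functor.additive_of_preservesBinaryBiproducts _
  haveI : Module.FinitePresentation A (Sec A (Φ.obj (Coh.structureModule V))) :=
    finitePresentation_of_iso A (unit (L n g (m : ℤ))).some.symm (finitePresentation_L h m)
  let f : Sec A (Φ.obj (⨁ B)) →ₗ[A] Fin c → Sec A (Φ.obj (Coh.structureModule V)) :=
    LinearMap.pi fun j => secMap A (Φ.map (biproduct.π B j))
  let r : (Fin c → Sec A (Φ.obj (Coh.structureModule V))) →ₗ[A] Sec A (Φ.obj (⨁ B)) :=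
    ∑ j, (secMap A (Φ.map (biproduct.ι B j))).comp (LinearMap.proj j)
  have hrf : r ∘ₗ f = LinearMap.id := by
    refine LinearMap.ext fun s => ?_
    have h1 : ∑ j, (Φ.map (biproduct.π B j) ≫ Φ.map (biproduct.ι B j)) = 𝟙 (Φ.obj (⨁ B)) := by
      simp only [← Functor.map_comp, ← Functor.map_sum]
      erw [biproduct.total]
      exact CategoryTheory.Functor.map_id _ _
    let ev : (Φ.obj (⨁ B) ⟶ Φ.obj (⨁ B)) →+ Γ(Φ.obj (⨁ B), ⊤) :=
      AddMonoidHom.mk' (fun φ => φ.app ⊤ s) fun _ _ => rfl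
    have h2 := congrArg ev h1
    rw [map_sum] at h2
    rw [LinearMap.comp_apply, LinearMap.sum_apply]
    exact h2
  refine Module.finitePresentation_of_surjective r (fun s => ⟨f s, LinearMap.congr_fun hrf s⟩) ?_
  have hker : LinearMap.ker r = LinearMap.range (LinearMap.id - f ∘ₗ r) := by
    refine le_antisymm (fun x hx => ?_) ?_
    · refine ⟨x, ?_⟩
      show x - f (r x) = x
      rw [LinearMap.mem_ker.1 hx, map_zero, sub_zero]
    · rintro _ ⟨x, rfl⟩
      show r (x - f (r x)) = 0
      rw [map_sub, sub_eq_zero]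
      exact (LinearMap.congr_fun hrf (r x)).symm
  rw [hker, LinearMap.range_eq_map]
  exact Module.Finite.fg_top.map _

include h in
theorem exists_surjection {F : V.Modules} (hF : FlatMod.IsFinLocFree F) :
    ∃ (a c : ℕ) (K : V.Modules), FlatMod.IsFinLocFree K ∧ ∃ m₀ : ℕ, ∀ m, m₀ ≤ m → ∃ S : ShortComplex V.Modules,
      S.ShortExact ∧ Nonempty (S.X₁ ≅ CohB1.tensorMod (L n g (m : ℤ)) K) ∧
      Nonempty (S.X₂ ≅ (DCoh.tensorBi.obj (L n g (m : ℤ))).obj (⨁ fun _ : Fin c => Coh.structureModule V)) ∧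
      Nonempty (S.X₃ ≅ CohB1.tensorMod (L n g ((m + a : ℕ) : ℤ)) F) ∧
      Function.Surjective (secMap A S.g) := by
  obtain ⟨a, c, q, hq⟩ := PnChart.exists_epi h hF
  let F' := CohB1.tensorMod F (L n g (a : ℤ))
  have hF' : FlatMod.IsFinLocFree F' :=
    KFlatLib.isFinLocFree_tensor hF (H23.PullPush.isFinLocFree_of_isInvertible (isInvertible_L _))
  have hK : FlatMod.IsFinLocFree (kernel q) := KFlatLib.isFinLocFree_kernel q (isFinLocFree_sum c) hF'
  let S : ShortComplex V.Modules := ShortComplex.mk (kernel.ι q) q (kernel.condition q)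
  have hS : S.ShortExact := { exact := ShortComplex.exact_of_f_is_kernel _ (kernelIsKernel q) }
  obtain ⟨m₀, hm₀⟩ := exists_vanish_all h hK
  refine ⟨a, c, kernel q, hK, m₀, fun m hm => ?_⟩
  have hSQ := KFlatLib.shortExact_tensor_of_isFlat (L n g (m : ℤ)) hS (KFlatLib.isFlat_of_isFinLocFree hF')
  refine ⟨_, hSQ, ⟨Iso.refl _⟩, ⟨Iso.refl _⟩, ?_, QCoh.app_top_surjective_of_HH_one hSQ ?_⟩
  · show Nonempty (CohB1.tensorMod (L n g (m : ℤ)) F' ≅ _)
    rw [← cl_eq_iff, cl_tensor, cl_tensor, cl_tensor, Nat.cast_add, ← cl_L_add]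
    ac_rfl
  · obtain ⟨e₀⟩ := PicClLib.nonempty_pullback_structureModule π
    refine QCoh.subsingleton_HH_of_iso ?_ _
      (hm₀ m hm 1 le_rfl (Coh.structureModule _) QCoh.isQCoh_structureModule)
    exact (DCoh.tensorBi.mapIso ((DCoh.tensorBi.obj (L n g (m : ℤ))).mapIso e₀ ≪≫ (unit _).some)).app (kernel q)

include h in
theorem exists_finite {F : V.Modules} (hF : FlatMod.IsFinLocFree F) :
    ∃ m₀ : ℕ, ∀ m, m₀ ≤ m → Module.Finite A (Sec A (CohB1.tensorMod (L n g (m : ℤ)) F)) := by
  obtain ⟨a, c, K, -, m₀, hm₀⟩ := exists_surjection h hF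
  refine ⟨m₀ + a, fun m hm => ?_⟩
  obtain ⟨k, rfl⟩ : ∃ k, m = k + a := ⟨m - a, by omega⟩
  obtain ⟨S, -, -, ⟨e₂⟩, ⟨e₃⟩, hs⟩ := hm₀ k (by omega)
  haveI := finitePresentation_sum h c k
  haveI := finite_of_iso A e₂.symm inferInstance
  exact finite_of_iso A e₃ (Module.Finite.of_surjective _ hs)

include h in
theorem exists_finitePresentation {F : V.Modules} (hF : FlatMod.IsFinLocFree F) :
    ∃ m₀ : ℕ, ∀ m, m₀ ≤ m → Module.FinitePresentation A (Sec A (CohB1.tensorMod (L n g (m : ℤ)) F)) := by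
  obtain ⟨a, c, K, hK, m₁, hm₁⟩ := exists_surjection h hF
  obtain ⟨m₂, hm₂⟩ := exists_finite h hK
  refine ⟨max m₁ m₂ + a, fun m hm => ?_⟩
  obtain ⟨k, rfl⟩ : ∃ k, m = k + a := ⟨m - a, by omega⟩
  obtain ⟨S, hS, ⟨e₁⟩, ⟨e₂⟩, ⟨e₃⟩, hs⟩ := hm₁ k (by omega)
  haveI := finitePresentation_of_iso A e₂.symm (finitePresentation_sum h c k)
  haveI := finite_of_iso A e₁.symm (hm₂ k (by omega))
  refine finitePresentation_of_iso A e₃ (Module.finitePresentation_of_surjective _ hs ?_)
  have hker : LinearMap.ker (secMap A S.g) = LinearMap.range (secMap A S.f) := by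
    refine le_antisymm (fun x hx => ?_) ?_
    · obtain ⟨y, hy⟩ := QCoh.exists_app_f_eq hS ⊤ (show Γ(S.X₂, ⊤) from x)
        (show secMap A S.g x = 0 from hx)
      exact ⟨(show Sec A S.X₁ from y), hy⟩
    · rintro _ ⟨y, rfl⟩
      exact QCoh.app_g_f (S := S) ⊤ (show Γ(S.X₁, ⊤) from y)
  rw [hker, LinearMap.range_eq_map]
  exact Module.Finite.fg_top.map _

/-- A quasi-coherent module on an affine scheme with finite projective sections is locally free. -/
theorem isFinLocFree_spec {R : CommRingCat.{u}} {P' : (Spec R).Modules} (hq : Coh.IsQCoh P')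
    {S : Type u} [AddCommGroup S] [Module R S] [Module.Finite R S] [Module.Projective R S]
    (l : S →ₗ[R] moduleSpecΓFunctor.obj P') (hl : Function.Bijective l) :
    FlatMod.IsFinLocFree P' := by
  have := (isQuasicoherent_iff_isIso_fromTildeΓ P').1 hq
  let e : tilde (moduleSpecΓFunctor.obj P') ≅ P' := @asIso _ _ _ _ P'.fromTildeΓ this
  let eN := LinearEquiv.ofBijective l hl
  exact H23.PullPush.isFinLocFree_of_iso e
    ((QCoh.isFinLocFree_tilde_iff _).2 ⟨Module.Finite.equiv eN, Module.Projective.of_equiv eN⟩)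

variable (A) in
/-- Global sections, seen as those of the direct image. -/
noncomputable def toGam (M : V.Modules) :
    Sec A M →ₗ[A] (moduleSpecΓFunctor (R := CommRingCat.of A)).obj ((Scheme.Modules.pushforward π).obj M) where
  toFun s := (show Γ(M, ⊤) from s)
  map_add' _ _ := rfl
  map_smul' a s := by
    show V.presheaf.map (homOfLE (le_top : (⊤ : V.Opens) ≤ ⊤)).op (Coh.toGlobal π a) • (show Γ(M, ⊤) from s) = _
    rw [show (homOfLE (le_top : (⊤ : V.Opens) ≤ ⊤)).op = 𝟙 _ from rfl, V.presheaf.map_id]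
    rfl

theorem bijective_toGam (M : V.Modules) : Function.Bijective (toGam A M) :=
  ⟨fun _ _ hab => hab, fun s => ⟨(show Γ(M, ⊤) from s), rfl⟩⟩

/-- A module with finite projective sections has locally free direct image. -/
theorem isFinLocFree_push_of_sec [QuasiCompact π] [QuasiSeparated π] {M : V.Modules} (hM : Coh.IsQCoh M)
    (h1 : Module.Finite A (Sec A M)) (h2 : Module.Projective A (Sec A M)) :
    FlatMod.IsFinLocFree ((Scheme.Modules.pushforward π).obj M) :=
  haveI := h1; haveI := h2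
  isFinLocFree_spec (R := CommRingCat.of A) (P' := (Scheme.Modules.pushforward π).obj M) (QCoh.isQCoh_pushforward π hM)
    (toGam A M) (bijective_toGam M)

include h in
/-- The sections of an acyclic twist are flat. -/
theorem flat_sec_twist {F : V.Modules} (hF : FlatMod.IsFinLocFree F) (m : ℕ)
    (hm : ∀ G : (Spec (CommRingCat.of A)).Modules, Coh.IsQCoh G →
      Subsingleton (Coh.HH V (CohB1.tensorMod (Box.Mod g π (m : ℤ) G) F) 1)) :
    Module.Flat A (Sec A (CohB1.tensorMod (L n g (m : ℤ)) F)) := by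
  refine flat_sec h (KFlatLib.isFinLocFree_tensor
    (H23.PullPush.isFinLocFree_of_isInvertible (isInvertible_L _)) hF) fun N => ?_
  obtain ⟨e⟩ : Nonempty (CohB1.tensorMod (Box.Mod g π (m : ℤ) (QCoh.tlA N)) F ≅
      QCoh.tA (A := A) (CohB1.tensorMod (L n g (m : ℤ)) F) N) := cl_eq_iff.1 (by
    show PicF.cl (L n g (m : ℤ)) * PicF.cl (P (QCoh.tlA N)) * PicF.cl F =
      PicF.cl (P (QCoh.tlA N)) * (PicF.cl (L n g (m : ℤ)) * PicF.cl F)
    ac_rfl)
  exact QCoh.subsingleton_HH_of_iso e 1 (hm _ (QCoh.isQCoh_spec_iff.2 ⟨N, ⟨Iso.refl _⟩⟩))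

include h in
/-- High twists have locally free direct image. -/
theorem exists_isFinLocFree_push {F : V.Modules} (hF : FlatMod.IsFinLocFree F) :
    ∃ m₀ : ℕ, ∀ m, m₀ ≤ m →
      FlatMod.IsFinLocFree ((Scheme.Modules.pushforward π).obj (CohB1.tensorMod (L n g (m : ℤ)) F)) := by
  obtain ⟨m₁, hm₁⟩ := exists_vanish_all h hF
  obtain ⟨m₂, hm₂⟩ := exists_finitePresentation h hF
  refine ⟨max m₁ m₂, fun m hm => ?_⟩
  haveI := PnChart.isProper h
  haveI := hm₂ m (by omega)
  haveI := flat_sec_twist h hF m fun G hG => hm₁ m (by omega) 1 le_rfl G hG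
  exact isFinLocFree_push_of_sec (QCoh.isQCoh_of_isFinLocFree (KFlatLib.isFinLocFree_tensor
    (H23.PullPush.isFinLocFree_of_isInvertible (isInvertible_L _)) hF)) inferInstance
    Module.Flat.projective_of_finitePresentation

end Finite

end Groth.Agent.H28.PnGamma
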