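import Groth.Agent.H28.PushComp
import Groth.Agent.H28.RegBC
import Groth.Agent.H28.PushLocFree
import Groth.Agent.H28.GenBasis

/-!
# Base change of push-forwards along regular immersions; comparison with coherent modules
-/

set_option autoImplicit false
set_option linter.style.haveILetI false
set_option linter.unusedSectionVars false
set_option backward.isDefEq.respectTransparency false
set_option backward.isDefEq.respectTransparency.types false
set_option maxHeartbeats 1000000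

universe v w u

open CategoryTheory CategoryTheory.Limits AlgebraicGeometry TopologicalSpace

noncomputable section

namespace Groth.Agent.H28.PushBC

open Groth.Agent Groth.Agent.KZ.LFRes Groth.Agent.H28.KRRTw Groth.Agent.H28.KRRReg Groth.Agent.H28.KRegK0
  Groth.Agent.H28.PushEngine Groth.Agent.H28.PushComp
open scoped ZeroObject

section BC

variable {n : ℕ} {X Y : Scheme.{u}} [AlgebraicGeometry.IsNoetherian X] [AlgebraicGeometry.IsNoetherian Y]

/-- A regular sheaf stays regular along the induced map of projective spaces. -/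
theorem isReg_push_map (i : X ⟶ Y) [IsAffineHom i] [IsClosedImmersion (KRR.projSpaceMap n i)]
    {F : (KRR.PY n X).Modules} (hF : Coh.IsQCoh F) (hr : KRR.IsRegSheaf n X F) :
    KRR.IsRegSheaf n Y ((Scheme.Modules.pushforward (KRR.projSpaceMap n i)).obj F) := by
  haveI : IsProper (KRR.pr n X) := PushK.isProper_pr
  refine isReg_push (KRR.projSpaceMap n i) (f := KRR.pr n X ≫ i) (PnBC.ψ_pr i) hF fun q hq => ?_
  obtain ⟨e⟩ := PnBC.pullback_twistOver (n := n) i (-(q : ℤ))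
  obtain ⟨c⟩ := H23.PicMul.comm F (Twist.twistOver n X (-(q : ℤ)))
  have h : RKoszul.RZ (KRR.pr n X) ((DCoh.tensorBi.obj F).obj (Lx (KRR.projSpaceMap n i) (-(q : ℤ)))) q :=
    RKoszul.rz_of_iso (KRR.pr n X) (PicGrp.tensorModIso (Iso.refl F) e ≪≫ c).symm q (hr q hq)
  obtain ⟨e'⟩ := QCoh.nonempty_RpushAb_affine_base (KRR.pr n X) i (isQCoh_twL (KRR.projSpaceMap n i) hF (-(q : ℤ))) q
  exact ((Coh.pushAb i).map_isZero h).of_iso e'

/-- `i_K g_K = f_K j_K`. -/
theorem baseChange (hY : KRR.HasEnoughLocFree Y) (hP : KRR.HasEnoughLocFree (KRR.PY n Y))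
    (i : X ⟶ Y) (hi : Mor2.IsRegularClosedImmersion i)
    {KX : Type v} [CommRing KX] {φX : SGA6.Kvb X →+ KX}
    {KY : Type v} [CommRing KY] {φY : SGA6.Kvb Y →+ KY}
    {KPX : Type v} [CommRing KPX] [LambdaRing.LambdaOps KPX] {PPX : LambdaRing.PosStructure KPX}
    {φPX : SGA6.Kvb (KRR.PY n X) →+ KPX} (hKPX : KRR.IsModel (KRR.PY n X) KPX PPX φPX)
    {KPY : Type v} [CommRing KPY] {φPY : SGA6.Kvb (KRR.PY n Y) →+ KPY}
    {gi : KX →+ KY} (hgi : KRR.IsPushCl i φX φY gi)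
    {gj : KPX →+ KPY} (hgj : KRR.IsPushCl (KRR.projSpaceMap n i) φPX φPY gj)
    {gX : KPX →+ KX} (hgX : KRR.IsPushPr n X φPX φX gX) {gY : KPY →+ KY} (hgY : KRR.IsPushPr n Y φPY φY gY) :
    gi.comp gX = gY.comp gj := by
  haveI := isNoetherian_PY n X
  haveI := isNoetherian_PY n Y
  haveI := hi.1
  have hj := RegBC.regular_projSpaceMap n hi
  haveI := hj.1
  obtain ⟨VY, hVY⟩ := exists_val hY φY
  obtain ⟨VP, hVP⟩ := exists_val hP φPY
  refine eq_of_twists hKPX.bijective hKPX.map_one hKPX.map_mul _ _ (𝟙 (KRR.PY n X)) fun F hF => ?_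
  obtain ⟨d₀, hd⟩ := RegTwist.exists_isReg (PushLocFree.isCoh_of_isFinLocFree hF)
  refine ⟨d₀, fun d hdd => ?_⟩
  have hF' := KFlatLib.isFinLocFree_tensor hF (lf_Lx (𝟙 (KRR.PY n X)) (d : ℤ))
  obtain ⟨c⟩ := H23.PicMul.comm F (Twist.twistOver n X (d : ℤ))
  have hr : KRR.IsRegSheaf n X ((DCoh.tensorBi.obj F).obj (Lx (𝟙 (KRR.PY n X)) (d : ℤ))) :=
    isReg_of_iso (PicGrp.tensorModIso (Iso.refl F) ((Scheme.Modules.pullbackId _).app _) ≪≫ c).symm (hd d hdd)
  have hr' := isReg_push_map i (QCoh.isQCoh_of_isFinLocFree hF') hr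
  obtain ⟨h1, e1⟩ := pushCl_val i hi hY hgi hVY (PushLocFree.isFinLocFree_push_of_isReg n X _ hF' hr)
  obtain ⟨h2, e2⟩ := val_comp hY hP (KRR.projSpaceMap n i) hj (f := KRR.pr n X ≫ i) (PnBC.ψ_pr i) hgj hgY hVY hF' hr'
  show gi (gX _) = gY (gj _)
  rw [hgX _ hF' hr, e1, e2]
  exact congrArg VY (KZ.clSub_iso (P₁ Y) ((Scheme.Modules.pushforwardComp (KRR.pr n X) i).app _) h1 h2
    (isZero_zero _) (p1_zero hY (isZero_zero _)))

end BC

section Coherent

variable {n : ℕ} {X Y : Scheme.{u}} [AlgebraicGeometry.IsNoetherian Y]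

/-- `δ f_K = f_! δ`. -/
theorem comm_push (hY : KRR.HasEnoughLocFree Y) (hP : KRR.HasEnoughLocFree (KRR.PY n Y))
    [HasInjectiveResolutions X.Modules] (i : X ⟶ KRR.PY n Y) (hi : Mor2.IsRegularClosedImmersion i)
    (hXc : ∀ M : X.Modules, FlatMod.IsFinLocFree M → Coh.IsCoh M)
    (hYc : ∀ M : Y.Modules, FlatMod.IsFinLocFree M → Coh.IsCoh M)
    {KX : Type v} [CommRing KX] [LambdaRing.LambdaOps KX] {PX : LambdaRing.PosStructure KX}
    {φX : SGA6.Kvb X →+ KX} (hKX : KRR.IsModel X KX PX φX)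
    {KP : Type v} [CommRing KP] {φP : SGA6.Kvb (KRR.PY n Y) →+ KP}
    {KY : Type v} [CommRing KY] {φY : SGA6.Kvb Y →+ KY} (hφY : Function.Bijective φY)
    {a : KX →+ KP} (ha : KRR.IsPushCl i φX φP a) {b : KP →+ KY} (hb : KRR.IsPushPr n Y φP φY b)
    {N : ℕ} {g : SGA6.Kcoh X →+ SGA6.Kcoh Y} (hg : KRR.IsPushCoh (i ≫ KRR.pr n Y) N g)
    (x : SGA6.Kvb X) (y : SGA6.Kvb Y) (hxy : φY y = b (a (φX x))) :
    SGA6.mapSub (𝟭 Y.Modules) (KRR.vbP Y) (fun M : Y.Modules => Coh.IsCoh M) hYc y =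
      g (SGA6.mapSub (𝟭 X.Modules) (KRR.vbP X) (fun M : X.Modules => Coh.IsCoh M) hXc x) := by
  haveI := isNoetherian_PY n Y
  haveI := hi.1
  haveI := isNoetherian_of_closed i
  let f := i ≫ KRR.pr n Y
  let δX := SGA6.mapSub (𝟭 X.Modules) (KRR.vbP X) (fun M : X.Modules => Coh.IsCoh M) hXc
  let δY := SGA6.mapSub (𝟭 Y.Modules) (KRR.vbP Y) (fun M : Y.Modules => Coh.IsCoh M) hYc
  let eX := AddEquiv.ofBijective φX hKX.bijective
  let eY := AddEquiv.ofBijective φY hφY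
  obtain ⟨VY, hVY⟩ := exists_val hY φY
  obtain ⟨T, hT⟩ := KZ.exists_liftSub (P₁ Y)
    (fun M => KZero.clSub (fun M : Y.Modules => Coh.IsCoh M) M) fun _ hS h₁ h₂ h₃ =>
    KZ.clSub_ses (fun M : Y.Modules => Coh.IsCoh M) hS h₁.1 h₂.1 h₃.1
  have hTV : (δY.comp eY.symm.toAddMonoidHom).comp VY = T := hom_ext hY fun E hE => by
    show δY (eY.symm (VY _)) = T _
    rw [hVY E hE, hT E (p1_flf hY hE)]
    exact (congrArg δY (eY.symm_apply_apply _)).trans (GenBasis.mapSub_clSub _ _ _ _ hE)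
  have key : (δY.comp eY.symm.toAddMonoidHom).comp (b.comp a) = (g.comp δX).comp eX.symm.toAddMonoidHom := by
    refine eq_of_twists hKX.bijective hKX.map_one hKX.map_mul _ _ i fun F hF => ?_
    have hc := PushLocFree.isCoh_of_isFinLocFree hF
    obtain ⟨d₁, hd₁⟩ := exists_reg_twist i (f := f) rfl i rfl hc (isCoh_lx i) (isCoh_lx i)
    obtain ⟨d₂, hd₂⟩ := exists_van i (f := f) rfl hc
    refine ⟨d₁ + d₂, fun d hd => ?_⟩
    have hF' := KFlatLib.isFinLocFree_tensor hF (lf_Lx i (d : ℤ))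
    obtain ⟨h1, e1⟩ := val_comp hY hP i hi (f := f) rfl ha hb hVY hF' (hd₁ d (by omega))
    show δY (eY.symm (b (a _))) = g (δX (eX.symm (eX _)))
    rw [e1, AddEquiv.symm_apply_apply]
    refine ((DFunLike.congr_fun hTV _).trans (hT _ h1)).trans ?_
    refine Eq.trans ?_ (congrArg g (GenBasis.mapSub_clSub (𝟭 X.Modules) (KRR.vbP X)
      (fun M : X.Modules => Coh.IsCoh M) hXc hF')).symm
    show _ = g (KZero.clSub (fun M : X.Modules => Coh.IsCoh M) ((DCoh.tensorBi.obj F).obj (Lx i (d : ℤ))))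
    rw [hg.2 _ (hXc _ hF'), Finset.sum_range_succ', Finset.sum_eq_zero fun q _ => ?_]
    · rw [zero_add, pow_zero, one_zsmul]
      haveI : PreservesFiniteLimits (Scheme.Modules.pushforward f) := QCoh.preservesFiniteLimits_push f
      have e0 : (Coh.Rpush f 0).obj ((DCoh.tensorBi.obj F).obj (Lx i (d : ℤ))) ≅
          (Scheme.Modules.pushforward f).obj ((DCoh.tensorBi.obj F).obj (Lx i (d : ℤ))) :=
        (Scheme.Modules.pushforward f).rightDerivedZeroIsoSelf.app _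
      exact KZ.clSub_iso (fun M : Y.Modules => Coh.IsCoh M) e0.symm h1.1 (RefX.isCoh_of_iso e0.symm h1.1)
        (isZero_zero _) (p1_zero hY (isZero_zero _)).1
    · have hz := PushLocFree.isZero_Rpush_of_rz f _ q (hd₂ d (by omega) (q + 1) (by omega))
      rw [show KZero.clSub (fun M : Y.Modules => Coh.IsCoh M) _ = 0 from KZ.clSub_isZero _ hz, smul_zero]
  have h := DFunLike.congr_fun key (φX x)
  change δY (eY.symm (b (a (φX x)))) = g (δX (eX.symm (eX x))) at h
  rw [← hxy, AddEquiv.symm_apply_apply] at h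
  exact (congrArg δY (eY.symm_apply_apply y)).symm.trans h

end Coherent

end Groth.Agent.H28.PushBC
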