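import Groth.Agent.H28.GenPush
import Groth.Agent.H28.PushK
import Groth.Agent.H28.RegTwistLF
import Groth.Agent.H28.KRRPushProp
import Groth.Agent.H28.PullVB
import Groth.Agent.QCoh.RpushAbGod
import Groth.Agent.AmpleVan.FiniteSurj
import Groth.Agent.RefX.Transfer
import Groth.Agent.RefX.Tensor

/-!
# Push-forwards on `K` of bundles through cohomology: the general principle
-/

set_option autoImplicit false
set_option linter.style.haveILetI false
set_option linter.unusedSectionVars false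
set_option backward.isDefEq.respectTransparency false
set_option backward.isDefEq.respectTransparency.types false
set_option maxHeartbeats 1000000

universe v w u

open CategoryTheory CategoryTheory.Limits AlgebraicGeometry TopologicalSpace

noncomputable section

namespace Groth.Agent.H28.PushEngine

open Groth.Agent Groth.Agent.KZ.LFRes Groth.Agent.H28.KRRTw Groth.Agent.H28.KRRReg Groth.Agent.H28.KRegK0
open scoped ZeroObject

section Res

variable {X : Scheme.{u}} [AlgebraicGeometry.IsNoetherian X] (hX : KRR.HasEnoughLocFree X)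

theorem isCoh_X₃ {S : ShortComplex X.Modules} (hS : S.ShortExact) (h₁ : Coh.IsCoh S.X₁) (h₂ : Coh.IsCoh S.X₂) :
    Coh.IsCoh S.X₃ :=
  RefX.isCoh_of_iso ((cokernelIsCokernel S.f).coconePointUniqueUpToIso hS.gIsCokernel)
    (QCoh.isCoh_cokernel h₁.1 h₂ S.f)

include hX in
theorem p1_flf {M : X.Modules} (h : FlatMod.IsFinLocFree M) : P₁ X M := (resSetup hX).le _ h

include hX in
theorem p1_zero {M : X.Modules} (h : IsZero M) : P₁ X M := p1_flf hX (KFlatLib.isFinLocFree_of_isZero h)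

include hX in
theorem p1_iso {M N : X.Modules} (e : M ≅ N) (h : P₁ X M) : P₁ X N :=
  let ⟨_, hn⟩ := exists_pdlt h.2
  KRRPushK.p₁_of_pdlt hX (PDLT.iso e hn)

include hX in
theorem p1_mid {S : ShortComplex X.Modules} (hS : S.ShortExact) (h₁ : P₁ X S.X₁) (h₃ : P₁ X S.X₃) : P₁ X S.X₂ := by
  obtain ⟨a, ha⟩ := exists_pdlt h₁.2
  obtain ⟨b, hb⟩ := exists_pdlt h₃.2
  exact KRRPushK.p₁_of_pdlt hX (n := a + b) (PDLT.ext hS (ha.mono (by omega)) (hb.mono (by omega)))

include hX in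
theorem p1_ker {S : ShortComplex X.Modules} (hS : S.ShortExact) (h₂ : P₁ X S.X₂) (h₃ : P₁ X S.X₃) : P₁ X S.X₁ := by
  obtain ⟨a, ha⟩ := exists_pdlt h₂.2
  obtain ⟨b, hb⟩ := exists_pdlt h₃.2
  exact KRRPushK.p₁_of_pdlt hX (n := a + b) (PDLT.kernel_of hS (ha.mono (by omega)) (hb.mono (by omega)))

include hX in
theorem p1_coker {S : ShortComplex X.Modules} (hS : S.ShortExact) (h₁ : P₁ X S.X₁) (h₂ : P₁ X S.X₂) : P₁ X S.X₃ := by
  obtain ⟨a, ha⟩ := exists_pdlt h₁.2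
  obtain ⟨b, hb⟩ := exists_pdlt h₂.2
  exact KRRPushK.p₁_of_pdlt hX (n := a + b + 1)
    (PDLT.cokernel_of hS (isCoh_X₃ hS h₁.1 h₂.1) (ha.mono (by omega)) (hb.mono (by omega)))

include hX in
theorem p1_tensor {E : X.Modules} (hE : FlatMod.IsFinLocFree E) {M M' : X.Modules}
    (e : (DCoh.tensorBi.obj M).obj E ≅ M') (h : P₁ X M) : P₁ X M' := by
  obtain ⟨n, L, π, hL⟩ := h.2
  obtain ⟨L', π', hL', -⟩ := KRRPushProp.exists_isLFRes_tensor hE e hL
  exact ⟨RefX.isCoh_of_iso e (RefX.isCoh_tensor h.1 (PushLocFree.isCoh_of_isFinLocFree hE)), n, L', π', hL'⟩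

include hX in
theorem hom_ext {G : Type w} [AddCommGroup G] {f g : KZero.K0sub (P₁ X) →+ G}
    (h : ∀ E, FlatMod.IsFinLocFree E → f (KZero.clSub (P₁ X) E) = g (KZero.clSub (P₁ X) E)) : f = g := by
  obtain ⟨ι, hι, hval⟩ := KRRPushK.exists_inclusion hX
  refine AddMonoidHom.ext fun z => ?_
  obtain ⟨y, rfl⟩ := hι.2 z
  refine DFunLike.congr_fun (f := f.comp ι) (g := g.comp ι) (KZ.K0sub_hom_ext _ fun E hE => ?_) y
  show f (ι (KRR.cl X E)) = g (ι (KRR.cl X E))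
  rw [hval E hE]
  exact h E hE

include hX in
/-- The class of a resolvable module in a model. -/
theorem exists_val {K : Type w} [AddCommGroup K] (φ : SGA6.Kvb X →+ K) :
    ∃ V : KZero.K0sub (P₁ X) →+ K, ∀ M, FlatMod.IsFinLocFree M → V (KZero.clSub (P₁ X) M) = φ (KRR.cl X M) := by
  obtain ⟨ι, hι, hval⟩ := KRRPushK.exists_inclusion hX
  refine ⟨φ.comp (AddEquiv.ofBijective ι hι).symm.toAddMonoidHom, fun M hM => ?_⟩
  show φ ((AddEquiv.ofBijective ι hι).symm _) = _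
  rw [← hval M hM]
  exact congrArg φ ((AddEquiv.ofBijective ι hι).symm_apply_apply _)

include hX in
theorem val_res {K : Type w} [AddCommGroup K] {φ : SGA6.Kvb X →+ K} {V : KZero.K0sub (P₁ X) →+ K}
    (hV : ∀ M, FlatMod.IsFinLocFree M → V (KZero.clSub (P₁ X) M) = φ (KRR.cl X M)) {F : X.Modules} {n : ℕ}
    {L : ChainComplex X.Modules ℕ} {π : L ⟶ (ChainComplex.single₀ X.Modules).obj F} (h : KRR.IsLFRes F n L π) :
    V (KZero.clSub (P₁ X) F) = ∑ k ∈ Finset.range (n + 1), (-1 : ℤ) ^ k • φ (KRR.cl X (L.X k)) := by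
  rw [KRRPushK.clSub_resolution hX h, map_sum]
  exact Finset.sum_congr rfl fun k _ => by rw [map_zsmul, hV _ (h.finLocFree k)]

end Res

section ClosedPush

variable {X Y : Scheme.{u}} [AlgebraicGeometry.IsNoetherian X] [AlgebraicGeometry.IsNoetherian Y]

/-- A push-forward along a closed immersion evaluated through resolvable modules. -/
theorem pushCl_val (i : X ⟶ Y) (hi : Mor2.IsRegularClosedImmersion i) (hY : KRR.HasEnoughLocFree Y)
    {KX : Type v} [CommRing KX] {φX : SGA6.Kvb X →+ KX} {KY : Type w} [CommRing KY] {φY : SGA6.Kvb Y →+ KY}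
    {g : KX →+ KY} (hg : KRR.IsPushCl i φX φY g) {V : KZero.K0sub (P₁ Y) →+ KY}
    (hV : ∀ M, FlatMod.IsFinLocFree M → V (KZero.clSub (P₁ Y) M) = φY (KRR.cl Y M)) {F : X.Modules}
    (hF : FlatMod.IsFinLocFree F) :
    P₁ Y ((Scheme.Modules.pushforward i).obj F) ∧
      g (φX (KRR.cl X F)) = V (KZero.clSub (P₁ Y) ((Scheme.Modules.pushforward i).obj F)) := by
  haveI := hi.1
  have h := KRRPushK.p₁_push i hY hi hF
  obtain ⟨n, L, π, hL⟩ := h.2
  exact ⟨h, (hg F hF n L π hL).trans (val_res hY hV hL).symm⟩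

end ClosedPush

section GoodSec

variable {n : ℕ} {Y : Scheme.{u}} [AlgebraicGeometry.IsNoetherian Y] [AlgebraicGeometry.IsNoetherian (KRR.PY n Y)]
  (hY : KRR.HasEnoughLocFree Y) (hP : KRR.HasEnoughLocFree (KRR.PY n Y))
  {G : Type w} [AddCommGroup G] (a : KZero.K0sub (P₁ (KRR.PY n Y)) →+ G) (b : KZero.K0sub (P₁ Y) →+ G)

/-- Regular resolvable modules on which `a` is `b` of the direct image. -/
def Good : ObjectProperty (KRR.PY n Y).Modules := fun M =>
  P₁ (KRR.PY n Y) M ∧ KRR.IsRegSheaf n Y M ∧ P₁ Y ((Scheme.Modules.pushforward (KRR.pr n Y)).obj M) ∧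
    a (KZero.clSub (P₁ (KRR.PY n Y)) M) = b (KZero.clSub (P₁ Y) ((Scheme.Modules.pushforward (KRR.pr n Y)).obj M))

variable {a b}

include hY hP in
theorem good_iso {M N : (KRR.PY n Y).Modules} (e : M ≅ N) (h : Good a b M) : Good a b N := by
  have h1 := p1_iso hP e h.1
  have h2 := p1_iso hY ((Scheme.Modules.pushforward (KRR.pr n Y)).mapIso e) h.2.2.1
  refine ⟨h1, isReg_of_iso e h.2.1, h2, ?_⟩
  rw [← KZ.clSub_iso (P₁ _) e h.1 h1 (isZero_zero _) (p1_zero hP (isZero_zero _)),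
    ← KZ.clSub_iso (P₁ Y) ((Scheme.Modules.pushforward (KRR.pr n Y)).mapIso e) h.2.2.1 h2 (isZero_zero _)
      (p1_zero hY (isZero_zero _))]
  exact h.2.2.2

include hY hP in
theorem good_zero {M : (KRR.PY n Y).Modules} (h : IsZero M) : Good a b M := by
  have h' := (Scheme.Modules.pushforward (KRR.pr n Y)).map_isZero h
  exact ⟨p1_zero hP h, isReg_of_isZero h, p1_zero hY h',
    by rw [KZ.clSub_isZero _ h, KZ.clSub_isZero _ h', map_zero, map_zero]⟩

include hY hP in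
theorem good_mid {S : ShortComplex (KRR.PY n Y).Modules} (hS : S.ShortExact)
    (hA : Good a b S.X₁) (hB : Good a b S.X₃) : Good a b S.X₂ := by
  have hS' := PushK.shortExact_push (KRR.pr n Y) hS (rz_self _ hA.2.1 1 le_rfl)
  have h1 : P₁ _ S.X₂ := p1_mid hP hS hA.1 hB.1
  have h2 : P₁ Y ((Scheme.Modules.pushforward (KRR.pr n Y)).obj S.X₂) := p1_mid hY hS' hA.2.2.1 hB.2.2.1
  refine ⟨h1, isReg_mid hS hA.2.1 hB.2.1, h2, ?_⟩
  rw [KZ.clSub_ses _ hS hA.1 h1 hB.1, map_add, hA.2.2.2, hB.2.2.2, ← map_add]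
  exact congrArg b (KZ.clSub_ses _ hS' hA.2.2.1 h2 hB.2.2.1).symm

include hY hP in
theorem good_biprod {A B : (KRR.PY n Y).Modules} (hA : Good a b A) (hB : Good a b B) : Good a b (A ⊞ B) :=
  good_mid hY hP (S := ShortComplex.mk (biprod.inl : A ⟶ A ⊞ B) biprod.snd biprod.inl_snd)
    (ShortComplex.Splitting.ofHasBinaryBiproduct A B).shortExact hA hB

include hY hP in
theorem good_ker {S : ShortComplex (KRR.PY n Y).Modules} (hS : S.ShortExact) (hr : KRR.IsRegSheaf n Y S.X₁)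
    (h₂ : Good a b S.X₂) (h₃ : Good a b S.X₃) : Good a b S.X₁ := by
  have hS' := PushK.shortExact_push (KRR.pr n Y) hS (rz_self _ hr 1 le_rfl)
  have h1 : P₁ _ S.X₁ := p1_ker hP hS h₂.1 h₃.1
  have h2 : P₁ Y ((Scheme.Modules.pushforward (KRR.pr n Y)).obj S.X₁) := p1_ker hY hS' h₂.2.2.1 h₃.2.2.1
  refine ⟨h1, hr, h2, ?_⟩
  refine add_right_cancel (b := a (KZero.clSub (P₁ _) S.X₃)) ?_
  rw [← map_add, ← KZ.clSub_ses _ hS h1 h₂.1 h₃.1, h₂.2.2.2, h₃.2.2.2, ← map_add]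
  exact congrArg b (KZ.clSub_ses _ hS' h2 h₂.2.2.1 h₃.2.2.1)

include hY hP in
theorem good_coker {S : ShortComplex (KRR.PY n Y).Modules} (hS : S.ShortExact) (hr : KRR.IsRegSheaf n Y S.X₃)
    (h₁ : Good a b S.X₁) (h₂ : Good a b S.X₂) : Good a b S.X₃ := by
  have hS' := PushK.shortExact_push (KRR.pr n Y) hS (rz_self _ h₁.2.1 1 le_rfl)
  have h1 : P₁ _ S.X₃ := p1_coker hP hS h₁.1 h₂.1
  have h2 : P₁ Y ((Scheme.Modules.pushforward (KRR.pr n Y)).obj S.X₃) := p1_coker hY hS' h₁.2.2.1 h₂.2.2.1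
  refine ⟨h1, hr, h2, ?_⟩
  refine add_left_cancel (a := a (KZero.clSub (P₁ _) S.X₁)) ?_
  rw [← map_add, ← KZ.clSub_ses _ hS h₁.1 h₂.1 h1, h₂.2.2.2, h₁.2.2.2, ← map_add]
  exact congrArg b (KZ.clSub_ses _ hS' h₁.2.2.1 h₂.2.2.1 h2)

theorem reg_obj' {E : (KRR.PY n Y).Modules} (hE : KRR.IsRegSheaf n Y E) (p : ℕ) :
    KRR.IsRegSheaf n Y (KoszulCone.obj (M E) (ls.{u} n) ((n + 1 : ℕ) : ℤ) p) := by
  by_cases h : p ≤ n + 1
  · refine KoszulK.mem_obj (M E) (P := fun Z : (KRR.PY n Y).Modules => KRR.IsRegSheaf n Y Z) (fun _ => isReg_of_isZero)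
      (fun A B hA hB => isReg_mid (S := ShortComplex.mk (biprod.inl : A ⟶ A ⊞ B) biprod.snd biprod.inl_snd)
        (ShortComplex.Splitting.ofHasBinaryBiproduct A B).shortExact hA hB) (ls.{u} n) ((n + 1 : ℕ) : ℤ) p ?_
    have e : ((n + 1 : ℕ) : ℤ) - (p : ℤ) = ((n + 1 - p : ℕ) : ℤ) := by omega
    rw [e]
    exact isReg_twF E hE _
  · exact isReg_of_isZero (KoszulCone.isZero_obj (M E) (ls.{u} n) _ _ (by rw [length_ls]; omega))

theorem reg_kernel' {E : (KRR.PY n Y).Modules} (hE : KRR.IsRegSheaf n Y E) (m : ℕ) :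
    ∀ p : ℕ, n + 1 ≤ p + m → KRR.IsRegSheaf n Y (kernel (KoszulCone.dd (M E) (xs E) (ls.{u} n) ((n + 1 : ℕ) : ℤ) p)) := by
  induction m with
  | zero =>
    intro p hp
    exact isReg_of_isZero (IsZero.of_mono (kernel.ι _)
      (KoszulCone.isZero_obj (M E) (ls.{u} n) _ (p + 1) (by rw [length_ls]; omega)))
  | succ m ih =>
    intro p hp
    have h1 : KRR.IsRegSheaf n Y (KRR.twF n Y (1 : ℤ)
        (kernel (KoszulCone.dd (M E) (xs E) (ls.{u} n) ((n + 1 : ℕ) : ℤ) (p + 1)))) :=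
      Nat.cast_one (R := ℤ) ▸ isReg_twF _ (ih (p + 1) (by omega)) 1
    have h2 : KRR.IsRegSheaf n Y
        (KoszulK.piece (M E) (xs E) (mul_comm' E) (ls.{u} n) ((n + 1 : ℕ) : ℤ) p).X₂ := reg_obj' hE (p + 2)
    exact isReg_quot (S := KoszulK.piece (M E) (xs E) (mul_comm' E) (ls.{u} n) ((n + 1 : ℕ) : ℤ) p)
      (shortExact_piece E _ p) h2 h1

include hY hP in
/-- The descending step. -/
theorem good_of_twists {E : (KRR.PY n Y).Modules} (hE : KRR.IsRegSheaf n Y E)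
    (h : ∀ m : ℕ, 1 ≤ m → Good a b (M E (m : ℤ))) : Good a b E := by
  let d : ℤ := ((n + 1 : ℕ) : ℤ)
  let l := ls.{u} n
  have hl : l.length = n + 1 := length_ls (n := n)
  have hobj : ∀ p ≤ n, Good a b (KoszulCone.obj (M E) l d p) := fun p hp =>
    KoszulK.mem_obj (M E) (P := Good a b) (fun _ => good_zero hY hP) (fun _ _ => good_biprod hY hP) l d p (by
      rw [show d - (p : ℤ) = ((n + 1 - p : ℕ) : ℤ) by omega]
      exact h _ (by omega))
  have hk : ∀ p < n, Good a b (kernel (KoszulCone.dd (M E) (xs E) l d p)) := by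
    intro p
    induction p with
    | zero =>
      intro hp
      haveI := epi_dd E d
      exact good_ker hY hP (KZ.kerSeq_shortExact (KoszulCone.dd (M E) (xs E) l d 0))
        (reg_kernel' hE (n + 1) 0 (by omega)) (hobj 1 hp) (hobj 0 (Nat.zero_le _))
    | succ p ih =>
      intro hp
      exact good_ker hY hP (shortExact_piece E d p) (reg_kernel' hE (n + 1) (p + 1) (by omega)) (hobj (p + 2) hp)
        (ih (Nat.lt_of_succ_lt hp))
  have hz : ∀ p, n ≤ p → IsZero (kernel (KoszulCone.dd (M E) (xs E) l d p)) := fun p hp => by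
    haveI := (shortExact_piece E d p).epi_g
    exact IsZero.of_epi (KoszulK.piece (M E) (xs E) (mul_comm' E) l d p).g
      (KoszulCone.isZero_obj (M E) l _ (p + 2) (by omega))
  have htop : Good a b (KoszulCone.obj (M E) l d (n + 1)) → Good a b E := by
    intro ht
    have e : ∀ (l : List (ULift.{u} (Fin (n + 1)))) (d : ℤ),
        Nonempty (KoszulCone.obj (M E) l d l.length ≅ M E (d - (l.length : ℤ))) := by
      intro l
      induction l with
      | nil => intro d; exact ⟨eqToIso (by simp [KoszulCone.obj])⟩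
      | cons x l ih =>
        intro d
        obtain ⟨e⟩ := ih (d - 1)
        exact ⟨biprod.mapIso
            ((KoszulCone.isZero_obj (M E) l d (l.length + 1) (by omega)).iso (isZero_zero _))
            (Iso.refl _) ≪≫ (isoZeroBiprod (Y := KoszulCone.obj (M E) l (d - 1) l.length) (isZero_zero _)).symm ≪≫
          e ≪≫ eqToIso (congrArg (M E) (by simp only [List.length_cons]; omega))⟩
    obtain ⟨e'⟩ := e l d
    rw [hl] at e'
    exact good_iso hY hP (e' ≪≫ eqToIso (congrArg (M E) (by omega)) ≪≫ (twF_zero E).some) ht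
  refine htop ?_
  rcases Nat.eq_zero_or_pos n with h0 | h0
  · subst h0
    haveI := epi_dd E d
    haveI : Mono (KoszulCone.dd (M E) (xs E) l d 0) := Preadditive.mono_of_isZero_kernel _ (hz 0 le_rfl)
    haveI := isIso_of_mono_of_epi (KoszulCone.dd (M E) (xs E) l d 0)
    exact good_iso hY hP (asIso (KoszulCone.dd (M E) (xs E) l d 0)).symm (hobj 0 le_rfl)
  · obtain ⟨q, rfl⟩ : ∃ q, n = q + 1 := ⟨n - 1, by omega⟩
    have hS := shortExact_piece E d q
    haveI : IsIso (KoszulK.piece (M E) (xs E) (mul_comm' E) l d q).g :=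
      (hS.isIso_g_iff).2 (hz (q + 1) le_rfl)
    exact good_iso hY hP (asIso (KoszulK.piece (M E) (xs E) (mul_comm' E) l d q).g).symm (hk q (by omega))

include hY hP in
theorem good_of_high : ∀ (j : ℕ) (F : (KRR.PY n Y).Modules), KRR.IsRegSheaf n Y F →
    (∀ m : ℕ, j ≤ m → Good a b (M F (m : ℤ))) → Good a b F
  | 0, F, _, h => good_iso hY hP (twF_zero F).some (h 0 le_rfl)
  | j + 1, F, hF, h => good_of_twists hY hP hF fun m hm =>
    good_of_high j (M F (m : ℤ)) (isReg_twF F hF m) fun c hc =>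
      good_iso hY hP (twF_twF (c : ℤ) (m : ℤ) ((c + m : ℕ) : ℤ) (by push_cast; ring) F).some.symm (h _ (by omega))

include hY hP in
/-- High twists of resolvable modules are good when regular bundles are. -/
theorem exists_good_twist
    (hab : ∀ F, FlatMod.IsFinLocFree F → KRR.IsRegSheaf n Y F →
      a (KZero.clSub (P₁ _) F) = b (KZero.clSub (P₁ Y) ((Scheme.Modules.pushforward (KRR.pr n Y)).obj F))) :
    ∀ (c : ℕ) (F : (KRR.PY n Y).Modules), PDLT (c + 1) F → ∃ t : ℕ, ∀ m : ℕ, t ≤ m → Good a b (M F (m : ℤ))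
  | 0, F, hF => by
    obtain ⟨t, ht⟩ := RegTwist.exists_isReg hF.1
    refine ⟨t, fun m hm => ?_⟩
    have h1 := RegTwist.isFinLocFree_twF (n := n) (Y := Y) (m : ℤ) (pdlt_one_iff.1 hF)
    exact ⟨p1_flf hP h1, ht m hm, p1_flf hY (PushLocFree.isFinLocFree_push_of_isReg n Y _ h1 (ht m hm)),
      hab _ h1 (ht m hm)⟩
  | c + 1, F, hF => by
    obtain ⟨E, p, hE, hp⟩ := hP F hF.1
    have hS := KZ.kerSeq_shortExact p
    obtain ⟨t₁, h₁⟩ := exists_good_twist hab c _ (PDLT.kernel_of hS ((pdlt_one_iff.2 hE).mono (by omega)) hF)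
    obtain ⟨t₂, h₂⟩ := exists_good_twist hab 0 E (pdlt_one_iff.2 hE)
    obtain ⟨t₃, h₃⟩ := RegTwist.exists_isReg hF.1
    exact ⟨t₁ + t₂ + t₃, fun m hm => good_coker hY hP (RegRes.shortExact_tw hS (m : ℤ)) (h₃ m (by omega))
      (h₁ m (by omega)) (h₂ m (by omega))⟩

include hY hP in
/-- The general principle. -/
theorem good_of_reg
    (hab : ∀ F, FlatMod.IsFinLocFree F → KRR.IsRegSheaf n Y F →
      a (KZero.clSub (P₁ _) F) = b (KZero.clSub (P₁ Y) ((Scheme.Modules.pushforward (KRR.pr n Y)).obj F)))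
    {F : (KRR.PY n Y).Modules} (hF : P₁ (KRR.PY n Y) F) (hr : KRR.IsRegSheaf n Y F) : Good a b F := by
  obtain ⟨c, hc⟩ := exists_pdlt hF.2
  obtain ⟨t, ht⟩ := exists_good_twist hY hP hab c F hc
  exact good_of_high hY hP t F hr ht

end GoodSec

section PrVal

variable {n : ℕ} {Y : Scheme.{u}} [AlgebraicGeometry.IsNoetherian Y] [AlgebraicGeometry.IsNoetherian (KRR.PY n Y)]

/-- The push-forward along the projection evaluated on regular resolvable modules. -/
theorem pushPr_val (hY : KRR.HasEnoughLocFree Y) (hP : KRR.HasEnoughLocFree (KRR.PY n Y))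
    {KP : Type v} [CommRing KP] {φP : SGA6.Kvb (KRR.PY n Y) →+ KP} {KY : Type w} [CommRing KY]
    {φY : SGA6.Kvb Y →+ KY} {g : KP →+ KY} (hg : KRR.IsPushPr n Y φP φY g)
    {VP : KZero.K0sub (P₁ (KRR.PY n Y)) →+ KP}
    (hVP : ∀ M, FlatMod.IsFinLocFree M → VP (KZero.clSub (P₁ _) M) = φP (KRR.cl _ M))
    {VY : KZero.K0sub (P₁ Y) →+ KY}
    (hVY : ∀ M, FlatMod.IsFinLocFree M → VY (KZero.clSub (P₁ Y) M) = φY (KRR.cl Y M))
    {F : (KRR.PY n Y).Modules} (hF : P₁ (KRR.PY n Y) F) (hr : KRR.IsRegSheaf n Y F) :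
    P₁ Y ((Scheme.Modules.pushforward (KRR.pr n Y)).obj F) ∧
      g (VP (KZero.clSub (P₁ _) F)) = VY (KZero.clSub (P₁ Y) ((Scheme.Modules.pushforward (KRR.pr n Y)).obj F)) := by
  have h := good_of_reg (a := g.comp VP) (b := VY) hY hP (fun E hE hEr => by
    show g (VP _) = _
    rw [hVP E hE, hg E hE hEr, hVY _ (PushLocFree.isFinLocFree_push_of_isReg n Y _ hE hEr)]) hF hr
  exact ⟨h.2.2.1, h.2.2.2⟩

end PrVal

section Gen

variable {X : Scheme.{u}} {n : ℕ} {S : Scheme.{u}}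

/-- `i^* O(d)`. -/
abbrev Lx (i : X ⟶ KRR.PY n S) (d : ℤ) : X.Modules := (Scheme.Modules.pullback i).obj (Twist.twistOver n S d)

theorem lf_Lx (i : X ⟶ KRR.PY n S) (d : ℤ) : FlatMod.IsFinLocFree (Lx i d) :=
  KFlatLib.isFinLocFree_pullback i (RegTwist.isFinLocFree_twistOver d)

/-- Homomorphisms agreeing on high twists are equal. -/
theorem eq_of_twists {KX : Type v} [CommRing KX] {φX : SGA6.Kvb X →+ KX} (hφ : Function.Bijective φX)
    (hone : φX (KRR.cl X (Coh.structureModule X)) = 1)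
    (hmul : ∀ E F : X.Modules, FlatMod.IsFinLocFree E → FlatMod.IsFinLocFree F →
      φX (KRR.cl X E) * φX (KRR.cl X F) = φX (KRR.cl X ((DCoh.tensorBi.obj E).obj F)))
    {G : Type w} [AddCommGroup G] (a b : KX →+ G) (i : X ⟶ KRR.PY n S)
    (h : ∀ F : X.Modules, FlatMod.IsFinLocFree F → ∃ d₀ : ℕ, ∀ d : ℕ, d₀ ≤ d →
      a (φX (KRR.cl X ((DCoh.tensorBi.obj F).obj (Lx i (d : ℤ))))) =
        b (φX (KRR.cl X ((DCoh.tensorBi.obj F).obj (Lx i (d : ℤ)))))) : a = b := by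
  refine AddMonoidHom.ext fun x => ?_
  obtain ⟨x, rfl⟩ := hφ.2 x
  refine DFunLike.congr_fun (f := a.comp φX) (g := b.comp φX) (KZ.K0sub_hom_ext _ fun F hF => ?_) x
  obtain ⟨d₀, hd⟩ := h F hF
  obtain ⟨p, hp⟩ := PullVB.exists_pullHom i
  let χ : SGA6.Kvb (KRR.PY n S) →+ G :=
    (a - b).comp ((AddMonoidHom.mulLeft (φX (KRR.cl X F))).comp (φX.comp p))
  have hO := PushK.isFinLocFree_structure (KRR.PY n S)
  have hχ : ∀ (d : ℤ) (E : (KRR.PY n S).Modules), FlatMod.IsFinLocFree E → Nonempty (E ≅ Twist.twistOver n S d) →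
      χ (KRR.cl _ E) = a (φX (KRR.cl X ((DCoh.tensorBi.obj F).obj (Lx i d)))) -
        b (φX (KRR.cl X ((DCoh.tensorBi.obj F).obj (Lx i d)))) := by
    intro d E hE ⟨e⟩
    show (a - b) (φX (KRR.cl X F) * φX (p (KRR.cl _ E))) = _
    rw [hp E hE, GenPush.cl_iso ((Scheme.Modules.pullback i).mapIso e) (KFlatLib.isFinLocFree_pullback i hE) (lf_Lx i d),
      hmul F _ hF (lf_Lx i d)]
    rfl
  let ψ : ℕ → G := fun e => χ (KRR.cl _ (KRR.twF n S (e : ℤ) (Coh.structureModule (KRR.PY n S))))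
  have hiso : ∀ d : ℤ, Nonempty (KRR.twF n S d (Coh.structureModule (KRR.PY n S)) ≅ Twist.twistOver n S d) :=
    fun d => H23.PicMul.unit _
  have hrec : ∀ j e : ℕ, d₀ ≤ e + j → ψ e = 0 := by
    intro j
    induction j with
    | zero =>
      intro e he
      show χ _ = 0
      rw [hχ (e : ℤ) _ (vp_twF _ hO) (hiso _), hd e (by omega), sub_self]
    | succ j ih =>
      intro e he
      let E := KRR.twF n S (e : ℤ) (Coh.structureModule (KRR.PY n S))
      have hE : VP n S E := vp_twF _ hO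
      have hval : ∀ m : ℕ, χ (KZero.clSub (VP n S) (M E (m : ℤ))) = ψ (m + e) := fun m =>
        congrArg χ (GenPush.cl_iso (twF_twF (m : ℤ) (e : ℤ) _ (by push_cast; ring) _).some
          (vp_twF _ hE) (vp_twF _ hO))
      have hr := congrArg χ (relation E (P := VP n S) (fun _ => KFlatLib.isFinLocFree_of_isZero)
        (fun _ _ => KFlatLib.isFinLocFree_biprod) (vp_kernel E hE _) (fun m => vp_twF _ hE))
      have h0 : (fun m : ℕ => ψ (m + e)) 0 = sol n fun m : ℕ => ψ (m + e) := eq_sol n (fun m : ℕ => ψ (m + e)) (by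
        show ψ (n + 1 + e) = _
        rw [← hval]
        refine hr.trans ?_
        rw [map_sum]
        exact Finset.sum_congr rfl fun q _ => by rw [map_zsmul, map_nsmul, hval])
      have h1 : sol n (fun m : ℕ => ψ (m + e)) = sol n (fun _ : ℕ => (0 : G)) :=
        sol_congr n fun m hm => ih (m + e) (by omega)
      simp only [Nat.zero_add] at h0
      rw [h0, h1]
      simp [sol]
  have h0 := hrec d₀ 0 (by omega)
  change χ _ = 0 at h0
  rw [hχ ((0 : ℕ) : ℤ) _ (vp_twF _ hO) (hiso _), sub_eq_zero] at h0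
  obtain ⟨e0⟩ := twistOver_zero (n := n) (T := S)
  obtain ⟨eX⟩ := PicClLib.nonempty_pullback_structureModule i
  have hF' : φX (KRR.cl X ((DCoh.tensorBi.obj F).obj (Lx i ((0 : ℕ) : ℤ)))) = φX (KRR.cl X F) := by
    rw [← hmul F _ hF (lf_Lx i _), GenPush.cl_iso (show Lx i ((0 : ℕ) : ℤ) ≅ Coh.structureModule X from
      (Scheme.Modules.pullback i).mapIso e0 ≪≫ eX) (lf_Lx i _) (PushK.isFinLocFree_structure X), hone, mul_one]
  rw [hF'] at h0
  exact h0

end Gen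

section Van

variable {X Y : Scheme.{u}}

theorem rz_push_iff (i : X ⟶ Y) [IsAffineHom i] {Z : Scheme.{u}} (g : Y ⟶ Z) {G : X.Modules} (hG : Coh.IsQCoh G)
    (q : ℕ) : RKoszul.RZ g ((Scheme.Modules.pushforward i).obj G) q ↔ RKoszul.RZ (i ≫ g) G q := by
  obtain ⟨e⟩ := QCoh.nonempty_RpushAb_affine_push i g hG q
  exact ⟨fun h => h.of_iso e.symm, fun h => h.of_iso e⟩

variable {n : ℕ}

theorem twF_push (i : X ⟶ KRR.PY n Y) (F : X.Modules) (d : ℤ) :
    Nonempty (KRR.twF n Y d ((Scheme.Modules.pushforward i).obj F) ≅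
      (Scheme.Modules.pushforward i).obj ((DCoh.tensorBi.obj F).obj (Lx i d))) := by
  obtain ⟨e⟩ := AmpleVan.FiniteSurj.nonempty_push_twist i F (isInvertible_twistOver (n := n) (T := Y) d)
  obtain ⟨c⟩ := H23.PicMul.comm (Twist.twistOver n Y d) ((Scheme.Modules.pushforward i).obj F)
  exact ⟨c ≪≫ e⟩

theorem isQCoh_twL (i : X ⟶ KRR.PY n Y) {F : X.Modules} (hF : Coh.IsQCoh F) (d : ℤ) :
    Coh.IsQCoh ((DCoh.tensorBi.obj F).obj (Lx i d)) :=
  KFlatLib.isQCoh_tensor hF (QCoh.isQCoh_of_isFinLocFree (lf_Lx i d))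

variable (i : X ⟶ KRR.PY n Y) [IsClosedImmersion i] {f : X ⟶ Y} (hf : i ≫ KRR.pr n Y = f)

include hf in
theorem isReg_push {F : X.Modules} (hF : Coh.IsQCoh F)
    (h : ∀ q : ℕ, 1 ≤ q → RKoszul.RZ f ((DCoh.tensorBi.obj F).obj (Lx i (-(q : ℤ)))) q) :
    KRR.IsRegSheaf n Y ((Scheme.Modules.pushforward i).obj F) := fun q hq => by
  subst hf
  obtain ⟨e⟩ := twF_push i F (-(q : ℤ))
  exact RKoszul.rz_of_iso (KRR.pr n Y) e.symm q ((rz_push_iff i _ (isQCoh_twL i hF _) q).2 (h q hq))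

include hf in
theorem rz_of_lt {G : X.Modules} (hG : Coh.IsQCoh G) {q : ℕ} (hq : n < q) : RKoszul.RZ f G q := by
  subst hf
  exact (rz_push_iff i _ hG q).1 (PnBox.rz_of_lt (QCoh.isQCoh_pushforward i hG) q hq)

include hf in
theorem exists_van [AlgebraicGeometry.IsNoetherian Y] {H : X.Modules} (hH : Coh.IsCoh H) :
    ∃ d₀ : ℕ, ∀ d : ℕ, d₀ ≤ d → ∀ q : ℕ, 1 ≤ q → RKoszul.RZ f ((DCoh.tensorBi.obj H).obj (Lx i (d : ℤ))) q := by
  subst hf
  obtain ⟨d₀, hd⟩ := RegTwist.exists_isReg (QCoh.isCoh_pushforward_finite i hH)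
  refine ⟨d₀, fun d hdd q hq => (rz_push_iff i _ (isQCoh_twL i hH.1 _) q).1 ?_⟩
  obtain ⟨e⟩ := twF_push i H (d : ℤ)
  exact RKoszul.rz_of_iso (KRR.pr n Y) e q (rz_self _ (hd d hdd) q hq)

variable {l : ℕ} (k : X ⟶ KRR.PY l Y) [IsClosedImmersion k] (hk : k ≫ KRR.pr l Y = f)

include hf hk in
/-- High twists by one projective embedding are regular for another. -/
theorem exists_reg_twist [AlgebraicGeometry.IsNoetherian Y] {F : X.Modules} (hF : Coh.IsCoh F)
    (hL : ∀ d : ℤ, Coh.IsCoh (Lx k d)) (hL' : ∀ d : ℤ, Coh.IsCoh (Lx i d)) :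
    ∃ d₀ : ℕ, ∀ d : ℕ, d₀ ≤ d →
      KRR.IsRegSheaf n Y ((Scheme.Modules.pushforward i).obj ((DCoh.tensorBi.obj F).obj (Lx k (d : ℤ)))) := by
  have hc : ∀ q : ℕ, Coh.IsCoh ((DCoh.tensorBi.obj F).obj (Lx i (-(q : ℤ)))) := fun q =>
    RefX.isCoh_tensor hF (hL' _)
  choose D hD using fun q : ℕ => exists_van k hk (hc q)
  refine ⟨(Finset.range (n + 1)).sup D, fun d hd => isReg_push i hf (isQCoh_twL k hF.1 _) fun q hq => ?_⟩
  rcases Nat.lt_or_ge n q with hq' | hq'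
  · exact rz_of_lt i hf (isQCoh_twL i (isQCoh_twL k hF.1 _) _) hq'
  · obtain ⟨a₁⟩ := H23.PicMul.assoc F (Lx k (d : ℤ)) (Lx i (-(q : ℤ)))
    obtain ⟨a₂⟩ := H23.PicMul.assoc F (Lx i (-(q : ℤ))) (Lx k (d : ℤ))
    obtain ⟨c⟩ := H23.PicMul.comm (Lx k (d : ℤ)) (Lx i (-(q : ℤ)))
    refine RKoszul.rz_of_iso f (a₂ ≪≫ PicGrp.tensorModIso (Iso.refl F) c.symm ≪≫ a₁.symm) q (hD q d ?_ q hq)
    exact le_trans (Finset.le_sup (f := D) (Finset.mem_range.2 (by omega))) hd

end Van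

end Groth.Agent.H28.PushEngine
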