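import Groth.Agent.H28.RefChDet
import Groth.Agent.H28.PBCores

/-!
# The class of a torsion-free module modulo codimension two
-/

set_option autoImplicit false
set_option linter.style.haveILetI false
set_option linter.unusedSectionVars false
set_option backward.isDefEq.respectTransparency false
set_option backward.isDefEq.respectTransparency.types false
set_option maxHeartbeats 1000000

universe u

open CategoryTheory CategoryTheory.Limits AlgebraicGeometry TopologicalSpace Opposite

noncomputable section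

namespace Groth.Agent.H28.RefChAlpha

open Groth.Agent Groth.Agent.AModX Groth.Agent.H28.RefChK Groth.Agent.H23.CycleClassK
  Groth.Agent.H23.K0TensorInv Groth.Agent.H23.LocFinCoprod Groth.Agent.H28.RefChDet

variable {X : Scheme.{u}} [IsIntegral X] [IsLocallyNoetherian X] {δ : X → ℤ}

/-- Frames of a torsion-free module at the points of codimension at most one. -/
theorem exists_frame_high (hd : Cyc.IsDimFun X δ) (hN : Pi1.IsNormalScheme X) {F : X.Modules} (hF : Coh.IsCoh F)
    (ht : TorSh.IsTorsionFree F) {r : ℕ}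
    (hrk : Module.finrank (X.presheaf.stalk (genericPoint X)) (F.presheaf.stalk (genericPoint X)) = r) {x : X}
    (hx : δ (genericPoint X) - 1 ≤ δ x) :
    ∃ (U : X.Opens) (s : Fin r → Γ(F, U)), x ∈ U ∧ H23.Frame.IsFrame F s := by
  have h1 : Order.coheight x ≤ 1 := coheight_le_one hd hx
  haveI : Module.Free (X.presheaf.stalk x) (F.presheaf.stalk x) := by
    refine RefX.free_of_torsionFree_of_dim_lt_two hN hF x (ht x) ?_
    rw [ringKrullDim_stalk_eq_coheight]
    exact WithBot.coe_lt_coe.2 (lt_of_le_of_lt h1 (by norm_num : (1 : ℕ∞) < 2))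
  obtain ⟨U, n, hxU, ⟨e⟩⟩ := QCoh.exists_free_nhd_of_free_stalk (QCoh.isCoh_iff_isFP.1 hF) x
  obtain ⟨s, hs⟩ := H23.Frame.exists_frame e
  have hη : genericPoint X ∈ U :=
    ((genericPoint_spec X).mem_open_set_iff U.2).2 (Set.univ_inter (U : Set X) ▸ ⟨x, hxU⟩)
  haveI : Nontrivial (X.presheaf.stalk (genericPoint X)) := inferInstance
  obtain rfl : n = r := by
    rw [← hrk, Module.finrank_eq_card_basis (germBasis hs hη), Fintype.card_fin]
  exact ⟨U, s, hxU, hs⟩

/-- The rank is unchanged by tensoring with an invertible module. -/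
theorem finrank_tm {M : X.Modules} (hM : PicF.IsInvertible M) (F : X.Modules) (x : X) :
    Module.finrank (X.presheaf.stalk x) ((tm F M).presheaf.stalk x) =
      Module.finrank (X.presheaf.stalk x) (F.presheaf.stalk x) := by
  obtain ⟨U, hxU, e, he⟩ := InvX.exists_frame hM x
  exact (LinearEquiv.ofBijective _ (sig_bijective M F (H23.RatSec.isGen_germ he x hxU))).finrank_eq.symm

/-- Sections generating at the generic point give a map from a free module. -/
theorem exists_gen {T G : X.Modules} (hT : Coh.IsCoh T) (iso : G ≅ T) {ι : Type u} {sec : ι → Γ(G, ⊤)}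
    (hs : ProjUP.GeneratedBy G sec) {r : ℕ}
    (hr : Module.finrank (X.presheaf.stalk (genericPoint X)) (T.presheaf.stalk (genericPoint X)) = r) :
    ∃ φ : FlatMod.freeMod X r ⟶ T, Function.Surjective (stk φ (genericPoint X)) := by
  classical
  set η := genericPoint X with hη
  let g : ι → T.presheaf.stalk η := fun i => stk iso.hom η (G.presheaf.germ ⊤ η trivial (sec i))
  have hspan : Submodule.span (X.presheaf.stalk η) (Set.range g) = ⊤ := by
    have h := congrArg (Submodule.map (stk iso.hom η)) (hs η)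
    rw [Submodule.map_span, Submodule.map_top, ← Set.range_comp] at h
    rw [show Set.range g = _ from rfl]
    exact h.trans (LinearMap.range_eq_top.2 (((DerSch.stalkFunctor X η).mapIso iso).toLinearEquiv).surjective)
  haveI hfin : Module.Finite (X.presheaf.stalk η) (T.presheaf.stalk η) := QCoh.finite_stalk_of_isFT hT.1 hT.2 η
  haveI : Module.Finite (X.functionField) (T.presheaf.stalk η) := hfin
  haveI : Module.Finite (X.functionField) ↥(Submodule.span (X.functionField) (Set.range g)) :=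
    Module.Finite.of_fg ((isNoetherian_def.1 (inferInstance : IsNoetherian X.functionField (T.presheaf.stalk η))) _)
  obtain ⟨f, hf, hfs, -⟩ :=
    Submodule.exists_fun_fin_finrank_span_eq (X.functionField) (Set.range g)
  have hcard : Module.finrank X.functionField (Submodule.span (X.presheaf.stalk η) (Set.range g)) = r := by
    rw [hspan]
    exact Eq.trans (finrank_top _ _) hr
  obtain ⟨f', hf', hfs'⟩ : ∃ f' : Fin r → T.presheaf.stalk η, (∀ i, f' i ∈ Set.range g) ∧
      Submodule.span (X.presheaf.stalk η) (Set.range f') = ⊤ := by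
    refine ⟨fun i => f (Fin.cast hcard.symm i), fun i => hf _, ?_⟩
    have : Set.range (fun i => f (Fin.cast hcard.symm i)) = Set.range f :=
      (finCongr hcard.symm).surjective.range_comp f
    rw [this]
    exact hfs.trans hspan
  choose idx hidx using hf'
  let φ : FlatMod.freeMod X r ⟶ T := ∑ i, H23.Frame.proj X r i ≫ InvX.ofSect (sec (idx i)) ≫ iso.hom
  have hφ : ∀ i, H23.Frame.incl X r i ≫ φ = InvX.ofSect (sec (idx i)) ≫ iso.hom := fun i => by
    rw [Preadditive.comp_sum, Finset.sum_eq_single i]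
    · rw [← Category.assoc, H23.Frame.incl_proj, if_pos rfl, Category.id_comp]
    · intro j _ hj
      rw [← Category.assoc, H23.Frame.incl_proj, if_neg (Ne.symm hj), zero_comp]
    · simp
  refine ⟨φ, LinearMap.range_eq_top.1 (top_le_iff.1 (hfs' ▸ Submodule.span_le.2 ?_))⟩
  rintro _ ⟨i, rfl⟩
  let one' : (Coh.structureModule X).presheaf.stalk η :=
    (Coh.structureModule X).presheaf.germ ⊤ η trivial (1 : Γ(X, ⊤))
  refine ⟨stk (H23.Frame.incl X r i) η one', ?_⟩
  rw [← stk_comp, hφ, stk_comp, ← hidx]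
  refine congrArg (stk iso.hom η) ?_
  refine (DerSch.stalkFunctor_map_germ η (InvX.ofSect (sec (idx i))) ⊤ trivial _).trans ?_
  exact congrArg (G.presheaf.germ ⊤ η trivial) (InvX.one_ofSect (sec (idx i)))

/-- Tensoring preserves surjectivity on stalks. -/
theorem surjective_ten {A B M : X.Modules} (hM : PicF.IsInvertible M) (f : A ⟶ B) {x : X}
    (hf : Function.Surjective (stk f x)) : Function.Surjective (stk ((ten M).map f) x) := by
  obtain ⟨U, hxU, e, he⟩ := InvX.exists_frame hM x
  intro y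
  obtain ⟨b, rfl⟩ := (sig_bijective M B (H23.RatSec.isGen_germ he x hxU)).2 y
  obtain ⟨a, rfl⟩ := hf b
  exact ⟨_, stk_sig M f _ a⟩

/-- `[F] - r[O] + ([O] - [det F]) ∈ K_{n-2}`. -/
theorem alpha_mem (hd : Cyc.IsDimFun X δ) (hN : Pi1.IsNormalScheme X) {L : X.Modules} (hL : CohB1.IsAmple L)
    {F : X.Modules} (hF : Coh.IsCoh F) (ht : TorSh.IsTorsionFree F) {r : ℕ}
    (hrk : Module.finrank (X.presheaf.stalk (genericPoint X)) (F.presheaf.stalk (genericPoint X)) = r)
    {W : X.Modules} (hW : ExtPow.IsExtPow r F W) (hWc : Coh.IsCoh (RefHull.ddual W)) :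
    c δ (δ (genericPoint X)) F - (r : ℤ) • c δ (δ (genericPoint X)) (Coh.structureModule X) +
        (c δ (δ (genericPoint X)) (Coh.structureModule X) - c δ (δ (genericPoint X)) (RefHull.ddual W)) ∈
      Fil δ (δ (genericPoint X)) (δ (genericPoint X) - 2) := by
  classical
  haveI : CompactSpace X := hL.2.1
  haveI : X.IsSeparated := AmpleX.isSeparated_of_isAmple hL
  let O := Coh.structureModule X
  let Fr := FlatMod.freeMod X r
  have hFr : FlatMod.IsFinLocFree Fr := fun _ =>
    ⟨⊤, r, trivial, H23.Frame.exists_iso_of_frame _ (H23.Frame.incl_isFrame (X := X) (n := r))⟩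
  have hFrC : Coh.IsCoh Fr := isCoh_lf hFr
  obtain ⟨m₁, hm₁⟩ := AmpleX.eventually_generated hL hF.1 hF.2
  obtain ⟨m₂, hm₂⟩ := AmpleX.eventually_generated hL hFrC.1 hFrC.2
  obtain ⟨G₁, iso₁, ι₁, s₁, hs₁⟩ := hm₁ (max m₁ m₂) (le_max_left _ _)
  obtain ⟨G₂, iso₂, ι₂, s₂, hs₂⟩ := hm₂ (max m₁ m₂) (le_max_right _ _)
  let M := CohB1.tensorPow L (max m₁ m₂)
  have hM : PicF.IsInvertible M := InvX.isInvertible_tensorPow hL.1 _
  obtain ⟨D, hD, ⟨eD⟩⟩ := H23.PicInv.exists_inverse hM
  have hFrη : Module.finrank (X.presheaf.stalk (genericPoint X)) (Fr.presheaf.stalk (genericPoint X)) = r := by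
    rw [Module.finrank_eq_card_basis (germBasis (H23.Frame.incl_isFrame (X := X) (n := r))
      (show genericPoint X ∈ (⊤ : X.Opens) from trivial)), Fintype.card_fin]
  obtain ⟨φ₁, hφ₁⟩ := exists_gen (RefX.isCoh_tensor hF (isCoh_invertible hM)) iso₁ hs₁ ((finrank_tm hM F _).trans hrk)
  obtain ⟨φ₂, hφ₂⟩ := exists_gen (RefX.isCoh_tensor hFrC (isCoh_invertible hM)) iso₂ hs₂ ((finrank_tm hM Fr _).trans hFrη)
  let E := tm Fr D
  let u : ∀ A : X.Modules, tm (tm A M) D ≅ A := fun A =>
    assoc _ _ _ ≪≫ congrTm (Iso.refl A) eD ≪≫ KFlatLib.tensorUnitIso A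
  have hsurj : ∀ {A : X.Modules} (φ : Fr ⟶ tm A M), Function.Surjective (stk φ (genericPoint X)) →
      Function.Surjective (stk ((ten D).map φ ≫ (u A).hom) (genericPoint X)) := fun {A} φ hφ y => by
    obtain ⟨a, ha⟩ := stk_surjective_of_epi (u A).hom _ y
    obtain ⟨b, hb⟩ := surjective_ten hD φ hφ a
    refine ⟨b, ?_⟩
    rw [← ha, ← hb]
    exact stk_comp _ _ _ _
  have hElf : FlatMod.IsFinLocFree E :=
    KvbLam.lf_tens hFr (KvbModel.lf_of_rank (PBCores.isInvertible_iff_rank.1 hD))
  obtain ⟨k, hk⟩ := KvbModel.exists_rank hElf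
  have hkr : k = r := by
    have := KvbModel.rank_tens (F := D) (n := r) (m := 1)
      (fun x => ⟨⊤, trivial, H23.Frame.exists_iso_of_frame _ (H23.Frame.incl_isFrame (X := X) (n := r))⟩)
      (PBCores.isInvertible_iff_rank.1 hD) hk (genericPoint X)
    omega
  subst hkr
  have hWF : ExtPow.IsExtPow k Fr (ExtBase.L Fr k) := ExtSh.isExtPow_L k hFr
  have hw₀ : InvX.IsFrame ((RefHull.bidualMap (ExtBase.L Fr k)).app ⊤
      (ExtBase.mu Fr k ⊤ fun i => (H23.Frame.incl X k i).app ⊤ (H23.Frame.one ⊤))) :=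
    RefX.bidual_frame (isCoh_lf (ExtSh.isFinLocFree_L k hFr))
      (ExtBase.isFrame_wedge (H23.Frame.incl_isFrame (X := X) (n := k)))
  have hW₀i : PicF.IsInvertible (RefHull.ddual (ExtBase.L Fr k)) :=
    InvX.isInvertible_of_frames fun x => ⟨⊤, trivial, _, hw₀⟩
  have hW₀c : Coh.IsCoh (RefHull.ddual (ExtBase.L Fr k)) := isCoh_invertible hW₀i
  have h1 := det_diff hd hk hF (fun x hx => exists_frame_high hd hN hF ht hrk hx) hW hWc
    ((ten D).map φ₁ ≫ (u F).hom) (hsurj φ₁ hφ₁)
  have h2 := det_diff hd hk hFrC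
    (fun x _ => ⟨⊤, _, trivial, H23.Frame.incl_isFrame (X := X) (n := k)⟩) hWF hW₀c
    ((ten D).map φ₂ ≫ (u Fr).hom) (hsurj φ₂ hφ₂)
  -- the free module
  have hO : Cyc.CohLe δ (δ (genericPoint X)) O := RefChKRows.cohLe_O hd rfl
  have hfree : c δ (δ (genericPoint X)) Fr = (k : ℤ) • c δ (δ (genericPoint X)) O := by
    obtain ⟨h, hh⟩ := KZ.exists_liftSub (KRR.vbP X) (fun A => c δ (δ (genericPoint X)) A)
      fun S hS a b d => KZ.clSub_ses (Cyc.CohLe δ (δ (genericPoint X))) hS
        (cohLe_gen hd (isCoh_lf a)) (cohLe_gen hd (isCoh_lf b)) (cohLe_gen hd (isCoh_lf d))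
    refine (hh _ hFr).symm.trans ?_
    have e := congrArg h (KvbAmple.cl_free (X := X) k)
    refine e.trans ?_
    rw [map_nsmul, hh _ KvbLam.lf_O, natCast_zsmul]
  have hO' : c δ (δ (genericPoint X)) (RefHull.ddual (ExtBase.L Fr k)) = c δ (δ (genericPoint X)) O := by
    refine c_iso ?_ (cohLe_gen hd hW₀c) hO
    haveI : IsIso (InvX.ofSect ((RefHull.bidualMap (ExtBase.L Fr k)).app ⊤
        (ExtBase.mu Fr k ⊤ fun i => (H23.Frame.incl X k i).app ⊤ (H23.Frame.one ⊤)))) :=
      Scheme.Modules.Hom.isIso_iff_isIso_app.2 fun V => (ConcreteCategory.isIso_iff_bijective _).2 (hw₀ V le_top)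
    exact (asIso (InvX.ofSect ((RefHull.bidualMap (ExtBase.L Fr k)).app ⊤
        (ExtBase.mu Fr k ⊤ fun i => (H23.Frame.incl X k i).app ⊤ (H23.Frame.one ⊤))))).symm
  have h := sub_mem h1 h2
  rw [hfree, hO'] at h
  convert h using 1
  abel

end Groth.Agent.H28.RefChAlpha

end
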