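import Groth.Agent.H28.DualFlatPull
import Groth.Agent.Pic13Lib.NumTrivBC
import Groth.Agent.KFlatLib.Scheme.PullTensor
import Groth.Agent.H28.KvbPull
import Groth.Agent.H28.PBCores
import Groth.Agent.RefX.Transfer
import Groth.Prelude.Def_Frob
import Groth.Prelude.Def_CurvBase
import Groth.Prelude.Def_FGA
import Groth.Prelude.Def_RefHull

/-!
# Intersection numbers and reflexive Frobenius pull-backs under extensions of the base field
-/

set_option autoImplicit false
set_option linter.style.haveILetI false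
set_option linter.unusedSectionVars false
set_option backward.isDefEq.respectTransparency false
set_option backward.isDefEq.respectTransparency.types false
set_option maxHeartbeats 1000000

universe u

open CategoryTheory CategoryTheory.Limits AlgebraicGeometry TopologicalSpace Opposite

noncomputable section

namespace Groth.Agent.H28.RefChBC

open Groth.Agent

theorem nonempty_pullback_tensorList {X X' : Scheme.{u}} (g : X' ⟶ X) : ∀ l : List X.Modules,
    Nonempty ((Scheme.Modules.pullback g).obj (FGA.tensorList l) ≅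
      FGA.tensorList (l.map (Scheme.Modules.pullback g).obj))
  | [] => ⟨KvbPull.unitIso g⟩
  | M :: l => by
    obtain ⟨e⟩ := nonempty_pullback_tensorList g l
    exact ⟨KvbPull.tensIso g M (FGA.tensorList l) ≪≫ (DCoh.tensorBi.obj _).mapIso e⟩

theorem lf_tensorList {X : Scheme.{u}} : ∀ l : List X.Modules, (∀ A ∈ l, FlatMod.IsFinLocFree A) →
    FlatMod.IsFinLocFree (FGA.tensorList l)
  | [], _ => KvbLam.lf_O
  | A :: l, h => KvbLam.lf_tens (h A List.mem_cons_self) (lf_tensorList l fun B hB => h B (List.mem_cons_of_mem _ hB))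

variable {k : Type u} [Field k] {E : Type u} [Field E] [Algebra k E] {X X' : Scheme.{u}}
  [X.Over (Spec (CommRingCat.of k))] [IsProper (X ↘ Spec (CommRingCat.of k))]
  [X'.Over (Spec (CommRingCat.of E))] [IsProper (X' ↘ Spec (CommRingCat.of E))] (g : X' ⟶ X)
  (sq : IsPullback g (X' ↘ Spec (CommRingCat.of E)) (X ↘ Spec (CommRingCat.of k))
    (Spec.map (CommRingCat.ofHom (algebraMap k E))))

include sq in
/-- Truncated Euler characteristics do not change. -/
theorem eulerCharLE_bc {F : X.Modules} (hF : Coh.IsQCoh F) {F' : X'.Modules}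
    (e' : (Scheme.Modules.pullback g).obj F ≅ F') (d : ℕ) :
    FGA.eulerCharLE E X' F' d = FGA.eulerCharLE k X F d := by
  haveI := CurveCohLib.isNoetherian_of_proper (k := k) (X := X)
  haveI : X.IsSeparated := ⟨by
    rw [← Limits.terminal.comp_from (X ↘ Spec (CommRingCat.of k))]
    infer_instance⟩
  unfold FGA.eulerCharLE
  refine Finset.sum_congr rfl fun i _ => ?_
  obtain ⟨e⟩ := QCoh.HH_flatBaseChange (A := k) (B := E) sq hF i
  congr 2
  rw [← (CurveCohLib.hhEquiv (k := E) e' i).finrank_eq]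
  exact e.finrank_eq.symm.trans Module.finrank_baseChange

include sq in
/-- Intersection numbers do not change. -/
theorem intNum_bc {r : ℕ} (M : Fin r → X.Modules) (hM : ∀ i, PicF.IsInvertible (M i)) {F : X.Modules}
    (hF : Coh.IsQCoh F) {F' : X'.Modules} (e' : (Scheme.Modules.pullback g).obj F ≅ F') (d : ℕ) :
    FGA.intNum E X' d (fun i => (Scheme.Modules.pullback g).obj (M i)) F' = FGA.intNum k X d M F := by
  unfold FGA.intNum
  refine Finset.sum_congr rfl fun I _ => congrArg (_ * ·) ?_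
  obtain ⟨el⟩ := nonempty_pullback_tensorList g ((I.sort (· ≤ ·)).map M)
  rw [List.map_map] at el
  refine eulerCharLE_bc g sq (KFlatLib.isQCoh_tensor ?_ hF) (KvbPull.tensIso g _ F ≪≫
    (DCoh.tensorBi.mapIso el).app _ ≪≫ (DCoh.tensorBi.obj _).mapIso e') d
  exact QCoh.isQCoh_of_isFinLocFree (lf_tensorList _ fun A hA => by
    obtain ⟨i, -, rfl⟩ := List.mem_map.1 hA
    exact KvbModel.lf_of_rank (PBCores.isInvertible_iff_rank.1 (hM i)))

variable {Y Y' : Scheme.{u}} [IsLocallyNoetherian Y] [IsLocallyNoetherian Y'] (h : Y' ⟶ Y) [Flat h]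
  (p : ℕ) [Fact p.Prime] [FrobSch.IsCharP Y p] [FrobSch.IsCharP Y' p]

/-- Iterated reflexive Frobenius pull-backs commute with flat inverse images. -/
theorem iter_pullback {G : ℕ → Y.Modules} {G' : ℕ → Y'.Modules} (hG0 : Coh.IsCoh (G 0))
    (h0 : Nonempty ((Scheme.Modules.pullback h).obj (G 0) ≅ G' 0))
    (hG : ∀ m, Nonempty (G (m + 1) ≅ RefHull.ddual ((Scheme.Modules.pullback (FrobSch.frob Y p)).obj (G m))))
    (hG' : ∀ m, Nonempty (G' (m + 1) ≅ RefHull.ddual ((Scheme.Modules.pullback (FrobSch.frob Y' p)).obj (G' m)))) :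
    ∀ m, Coh.IsCoh (G m) ∧ Nonempty ((Scheme.Modules.pullback h).obj (G m) ≅ G' m)
  | 0 => ⟨hG0, h0⟩
  | m + 1 => by
    obtain ⟨hc, ⟨em⟩⟩ := iter_pullback hG0 h0 hG hG' m
    obtain ⟨a⟩ := hG m
    obtain ⟨b⟩ := hG' m
    have hP : Coh.IsCoh ((Scheme.Modules.pullback (FrobSch.frob Y p)).obj (G m)) := ZClosLib.isCoh_pullback _ hc
    refine ⟨RefX.isCoh_of_iso a.symm (RefX.isCoh_dual (RefX.isCoh_dual hP)), ?_⟩
    obtain ⟨c⟩ := DualFlatPull.nonempty_pullback_ddual h hP
    let d : (Scheme.Modules.pullback h).obj ((Scheme.Modules.pullback (FrobSch.frob Y p)).obj (G m)) ≅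
        (Scheme.Modules.pullback (FrobSch.frob Y' p)).obj (G' m) :=
      (Scheme.Modules.pullbackComp h (FrobSch.frob Y p)).app (G m) ≪≫
        (Scheme.Modules.pullbackCongr (FrobSch.frob_comp p h).symm).app (G m) ≪≫
        ((Scheme.Modules.pullbackComp (FrobSch.frob Y' p) h).app (G m)).symm ≪≫
        (Scheme.Modules.pullback (FrobSch.frob Y' p)).mapIso em
    have hd : Coh.IsCoh ((Scheme.Modules.pullback h).obj ((Scheme.Modules.pullback (FrobSch.frob Y p)).obj (G m))) :=
      ZClosLib.isCoh_pullback _ hP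
    obtain ⟨d1⟩ := DualFlatPull.nonempty_dual_congr hd d
    obtain ⟨d2⟩ := DualFlatPull.nonempty_dual_congr (RefX.isCoh_dual hd) d1
    exact ⟨(Scheme.Modules.pullback h).mapIso a ≪≫ c ≪≫ d2 ≪≫ b.symm⟩

end Groth.Agent.H28.RefChBC

end
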