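import Groth.Agent.H28.RefChKRows
import Groth.Agent.H28.ExtSh
import Groth.Agent.H28.KvbModel
import Groth.Agent.H28.KvbAmple
import Groth.Agent.H23.ModZero
import Groth.Agent.Synt29.ExtPowPull
import Groth.Agent.IntThLib.DetLength
import Groth.Agent.RefX.NormalSheaf
import Groth.Agent.RefX.Tensor
import Mathlib.AlgebraicGeometry.FunctionField
import Mathlib.LinearAlgebra.ExteriorPower.Basis
import Mathlib.LinearAlgebra.Matrix.Nondegenerate

/-!
# Determinants and classes modulo codimension two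
-/

set_option autoImplicit false
set_option linter.style.haveILetI false
set_option linter.unusedSectionVars false
set_option backward.isDefEq.respectTransparency false
set_option backward.isDefEq.respectTransparency.types false
set_option maxHeartbeats 1000000

universe u

open CategoryTheory CategoryTheory.Limits AlgebraicGeometry TopologicalSpace Opposite
open scoped nonZeroDivisors

noncomputable section

namespace Groth.Agent.H28.RefChDet

open Groth.Agent Groth.Agent.AModX Groth.Agent.H28.RefChK Groth.Agent.H23.CycleClassK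
  Groth.Agent.H23.K0TensorInv Groth.Agent.H23.LocFinCoprod

section Algebra

/-- An alternating map in top degree is the determinant. -/
theorem alt_eq_det {A M N : Type*} [CommRing A] [AddCommGroup M] [Module A M] [AddCommGroup N] [Module A N]
    {r : ℕ} (g : M [⋀^Fin r]→ₗ[A] N) (b : Module.Basis (Fin r) A M) (v : Fin r → M) :
    g v = b.det v • g b := by
  have h : g = (LinearMap.toSpanSingleton A N (g b)).compAlternatingMap b.det := by
    refine Module.Basis.ext_alternating b fun f hf => ?_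
    let σ : Equiv.Perm (Fin r) := Equiv.ofBijective f (Finite.injective_iff_bijective.1 hf)
    have h1 : g (b ∘ σ) = (Equiv.Perm.sign σ) • g b := g.map_perm _ σ
    show g (b ∘ σ) = b.det (b ∘ σ) • g b
    rw [h1, b.det.map_perm, b.det_self, Units.smul_def, Units.smul_def, zsmul_one, Int.cast_smul_eq_zsmul]
  exact congrArg (fun q : M [⋀^Fin r]→ₗ[A] N => q v) h

/-- The length of a cokernel between free modules. -/
theorem length_quot_range {A : Type u} [CommRing A] [IsDomain A] [IsNoetherianRing A] {M N : Type u}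
    [AddCommGroup M] [Module A M] [AddCommGroup N] [Module A N] {n : ℕ} (bM : Module.Basis (Fin n) A M)
    (bN : Module.Basis (Fin n) A N) (f : M →ₗ[A] N) (hd : (LinearMap.toMatrix bM bN f).det ≠ 0) :
    Function.Injective f ∧
      Module.length A (N ⧸ LinearMap.range f) = Ring.ord A (LinearMap.toMatrix bM bN f).det := by
  classical
  set G := LinearMap.toMatrix bM bN f with hG
  have hf : ∀ v, bN.equivFun (f v) = G.mulVec (bM.equivFun v) := fun v =>
    (LinearMap.toMatrix_mulVec_repr bM bN f v).symm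
  refine ⟨(injective_iff_map_eq_zero _).2 fun v hv => bM.equivFun.injective ?_, ?_⟩
  · rw [map_zero]
    refine Matrix.eq_zero_of_mulVec_eq_zero hd ?_
    rw [← hf, hv, map_zero]
  · rw [← IntThLib.length_coker_eq_ord_det G (Or.inr (mem_nonZeroDivisors_of_ne_zero hd))]
    refine (Submodule.Quotient.equiv _ _ bN.equivFun ?_).length_eq
    ext w
    constructor
    · rintro ⟨_, ⟨v, rfl⟩, rfl⟩
      exact ⟨bM.equivFun v, (hf v).symm⟩
    · rintro ⟨c, rfl⟩
      refine ⟨f (bM.equivFun.symm c), ⟨_, rfl⟩, ?_⟩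
      show bN.equivFun (f (bM.equivFun.symm c)) = _
      rw [hf, LinearEquiv.apply_symm_apply]
      rfl

end Algebra

section Local

variable {X : Scheme.{u}}

/-- The basis of germs of a frame. -/
def germBasis {M : X.Modules} {U : X.Opens} {r : ℕ} {s : Fin r → Γ(M, U)} (hs : H23.Frame.IsFrame M s) {x : X}
    (hx : x ∈ U) : Module.Basis (Fin r) (X.presheaf.stalk x) (M.presheaf.stalk x) :=
  Module.Basis.mk (H23.ModZero.linearIndependent_germ hs hx) (H23.ModZero.span_germ_frame hs hx)

theorem germBasis_apply {M : X.Modules} {U : X.Opens} {r : ℕ} {s : Fin r → Γ(M, U)}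
    (hs : H23.Frame.IsFrame M s) {x : X} (hx : x ∈ U) (i : Fin r) :
    germBasis hs hx i = M.presheaf.germ U x hx (s i) := Module.Basis.mk_apply _ _ _

/-- The basis of a frame of rank one. -/
def lineBasis {M : X.Modules} {U : X.Opens} {e : Γ(M, U)} (he : InvX.IsFrame e) {x : X} (hx : x ∈ U) :
    Module.Basis (Fin 1) (X.presheaf.stalk x) (M.presheaf.stalk x) :=
  (Module.Basis.singleton (Fin 1) (X.presheaf.stalk x)).map
    (LinearEquiv.ofBijective (LinearMap.toSpanSingleton _ _ (M.presheaf.germ U x hx e)) (he.germ_bijective hx))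

theorem lineBasis_apply {M : X.Modules} {U : X.Opens} {e : Γ(M, U)} (he : InvX.IsFrame e) {x : X} (hx : x ∈ U)
    (i : Fin 1) : lineBasis he hx i = M.presheaf.germ U x hx e := by
  simp [lineBasis]

/-- Surjectivity of a map on a stalk in matrices. -/
theorem isUnit_det_of_surjective {A M N : Type*} [CommRing A] [AddCommGroup M] [Module A M] [AddCommGroup N]
    [Module A N] {n : ℕ} (bM : Module.Basis (Fin n) A M) (bN : Module.Basis (Fin n) A N) (f : M →ₗ[A] N)
    (hf : Function.Surjective f) : IsUnit (LinearMap.toMatrix bM bN f).det := by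
  classical
  refine (Matrix.isUnit_iff_isUnit_det _).1 (Matrix.mulVec_surjective_iff_isUnit.1 fun w => ?_)
  obtain ⟨v, hv⟩ := hf (bN.equivFun.symm w)
  refine ⟨bM.equivFun v, (LinearMap.toMatrix_mulVec_repr bM bN f v).trans ?_⟩
  show bN.equivFun (f v) = w
  rw [hv, LinearEquiv.apply_symm_apply]

/-- The stalk of a cokernel. -/
theorem length_coker {E F : X.Modules} (φ : E ⟶ F) (x : X) :
    Module.length (X.presheaf.stalk x) ((cokernel φ).presheaf.stalk x) =
      Module.length (X.presheaf.stalk x) (F.presheaf.stalk x ⧸ LinearMap.range (stk φ x)) :=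
  (PreservesCokernel.iso (DerSch.stalkFunctor X x) φ ≪≫
    ModuleCat.cokernelIsoRangeQuotient ((DerSch.stalkFunctor X x).map φ)).toLinearEquiv.length_eq

theorem subsingleton_ker {E F : X.Modules} (φ : E ⟶ F) (x : X) (h : Function.Injective (stk φ x)) :
    Subsingleton ((kernel φ).presheaf.stalk x) :=
  ⟨fun a b => stk_injective_of_mono (kernel.ι φ) x (h (by
    rw [← stk_comp, ← stk_comp, kernel.condition, stk_zero, stk_zero]))⟩

theorem subsingleton_coker {E F : X.Modules} (φ : E ⟶ F) (x : X) (h : Function.Surjective (stk φ x)) :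
    Subsingleton ((cokernel φ).presheaf.stalk x) :=
  subsingleton_of_forall_eq 0 fun a => by
    obtain ⟨b, rfl⟩ := stk_surjective_of_epi (cokernel.π φ) x a
    obtain ⟨c, rfl⟩ := h b
    rw [← stk_comp, cokernel.condition, stk_zero]

variable {E F W : X.Modules} {r : ℕ}

/-- The determinant of a map. -/
theorem exists_detMap (φ : E ⟶ F) (μ : ∀ V : X.Opens, Γ(F, V) [⋀^Fin r]→ₗ[Γ(X, V)] Γ(W, V))
    (hμ : ∀ V V' (i : V' ≤ V) (e : Fin r → Γ(F, V)), res W i (μ V e) = μ V' (fun k => res F i (e k))) :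
    ∃ ψ : ExtBase.L E r ⟶ W, ∀ (V : X.Opens) (v : Fin r → Γ(E, V)),
      ψ.app V (ExtBase.mu E r V v) = μ V fun i => φ.app V (v i) := by
  let μ' : ∀ V : X.Opens, Γ(E, V) [⋀^Fin r]→ₗ[Γ(X, V)] Γ(W, V) := fun V =>
    (μ V).compLinearMap
      { toFun := φ.app V
        map_add' := fun a b => map_add _ a b
        map_smul' := fun c a => Scheme.Modules.Hom.app_smul φ c a }
  have hμ' : ∀ V V' (i : V' ≤ V) (e : Fin r → Γ(E, V)), res W i (μ' V e) = μ' V' (fun k => res E i (e k)) :=
    fun V V' i e => (hμ V V' i _).trans (congrArg (μ V') (funext fun k => (app_res φ i (e k)).symm))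
  let adj := PresheafOfModules.sheafificationAdjunction (𝟙 X.ringCatSheaf.obj)
  let θ : ExtBase.L E r ⟶ W := (adj.homEquiv (ExtBase.P E r) W).symm (ExtSh.liftP μ' hμ')
  have hθ : KFlatLib.unitShP (ExtBase.P E r) ≫ DCoh.toP.map θ = ExtSh.liftP μ' hμ' := by
    have h := (adj.homEquiv (ExtBase.P E r) W).apply_symm_apply (ExtSh.liftP μ' hμ')
    rw [Adjunction.homEquiv_unit] at h
    exact h
  refine ⟨θ, fun V v => ?_⟩
  exact (congrArg (fun q : ExtBase.P E r ⟶ DCoh.toP.obj W =>
    (q.app (op V)).hom (exteriorPower.ιMulti Γ(X, V) r (M := E.val.obj (op V)) v)) hθ).trans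
    (AltGlue.lift_ιMulti μ' V v)

/-- The wedge of a frame is a frame of an exterior power. -/
theorem isFrame_of_wedge {F W : X.Modules} {r : ℕ} (μ : ∀ V : X.Opens, Γ(F, V) [⋀^Fin r]→ₗ[Γ(X, V)] Γ(W, V))
    (hμ : ∀ V V' (i : V' ≤ V) (e : Fin r → Γ(F, V)), res W i (μ V e) = μ V' (fun k => res F i (e k)))
    (hb : ∀ V : X.Opens, IsAffineOpen V → Function.Bijective (AltGlue.lift μ V))
    {U : X.Opens} {s : Fin r → Γ(F, U)} (hs : H23.Frame.IsFrame F s) : InvX.IsFrame (μ U s) := by
  have key : ∀ T : X.Opens, IsAffineOpen T → ∀ h : T ≤ U,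
      Function.Bijective fun c : Γ(X, T) => c • res W h (μ U s) := fun T hT h => by
    refine (congrArg Function.Bijective (funext fun c => ?_)).mp
      ((hb T hT).comp (ExtBase.bijective_smul_wedge hs h))
    refine (map_smul (AltGlue.lift μ T) c _).trans (congrArg (c • ·) ?_)
    exact (AltGlue.lift_ιMulti μ T _).trans (hμ U T h s).symm
  refine InvX.isFrame_of_germ fun y hy => ⟨(injective_iff_map_eq_zero
    (LinearMap.toSpanSingleton _ _ (W.presheaf.germ U y hy (μ U s)))).2 fun a ha => ?_, fun m => ?_⟩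
  · obtain ⟨A, hA, c, rfl⟩ := X.presheaf.germ_exist a
    obtain ⟨_, ⟨T, hT, rfl⟩, hyT, hTle⟩ :=
      X.isBasis_affineOpens.exists_subset_of_mem_open (show y ∈ A ⊓ U from ⟨hA, hy⟩) (A ⊓ U).2
    have hTA : T ≤ A := fun z hz => (hTle hz).1
    have hTU : T ≤ U := fun z hz => (hTle hz).2
    have e0 : X.presheaf.germ A y hA c = X.presheaf.germ T y hyT (resR hTA c) :=
      (X.presheaf.germ_res_apply (homOfLE hTA) y hyT c).symm
    have e1 : W.presheaf.germ U y hy (μ U s) = W.presheaf.germ T y hyT (res W hTU (μ U s)) :=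
      (W.presheaf.germ_res_apply (homOfLE hTU) y hyT _).symm
    change X.presheaf.germ A y hA c • W.presheaf.germ U y hy (μ U s) = 0 at ha
    rw [e0, e1] at ha
    have h2 : W.presheaf.germ T y hyT (resR hTA c • res W hTU (μ U s)) = W.presheaf.germ T y hyT 0 :=
      ((QCoh.germ_smul' W hyT _ _).trans ha).trans (map_zero _).symm
    obtain ⟨T', hyT', i, i', hij⟩ := TopCat.Presheaf.germ_eq (C := AddCommGrpCat.{u}) W.presheaf y hyT hyT _ _ h2
    obtain ⟨_, ⟨T'', hT'', rfl⟩, hyT'', hle⟩ := X.isBasis_affineOpens.exists_subset_of_mem_open hyT' T'.2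
    have hTT : T'' ≤ T' := hle
    have h3 := congrArg (res W hTT) hij
    change res W hTT (res W i.le (resR hTA c • res W hTU (μ U s))) = res W hTT (res W i'.le 0) at h3
    rw [map_zero, map_zero, res_res, res_smul, res_res] at h3
    have h4 : resR (hTT.trans i.le) (resR hTA c) = 0 :=
      (key T'' hT'' ((hTT.trans i.le).trans hTU)).1 (h3.trans (zero_smul _ _).symm)
    rw [e0, ← X.presheaf.germ_res_apply (homOfLE (hTT.trans i.le)) y hyT'' (resR hTA c)]
    exact (congrArg (X.presheaf.germ T'' y hyT'') h4).trans (map_zero _)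
  · obtain ⟨A, hA, n, rfl⟩ := W.presheaf.germ_exist m
    obtain ⟨_, ⟨T, hT, rfl⟩, hyT, hTle⟩ :=
      X.isBasis_affineOpens.exists_subset_of_mem_open (show y ∈ A ⊓ U from ⟨hA, hy⟩) (A ⊓ U).2
    have hTA : T ≤ A := fun z hz => (hTle hz).1
    have hTU : T ≤ U := fun z hz => (hTle hz).2
    obtain ⟨c, hc⟩ := (key T hT hTU).2 (res W hTA n)
    refine ⟨X.presheaf.germ T y hyT c, ?_⟩
    have h1 := congrArg (W.presheaf.germ T y hyT) hc
    change W.presheaf.germ T y hyT (c • res W hTU (μ U s)) = W.presheaf.germ T y hyT (res W hTA n) at h1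
    have e1 : W.presheaf.germ U y hy (μ U s) = W.presheaf.germ T y hyT (res W hTU (μ U s)) :=
      (W.presheaf.germ_res_apply (homOfLE hTU) y hyT _).symm
    show X.presheaf.germ T y hyT c • W.presheaf.germ U y hy (μ U s) = _
    rw [e1]
    exact ((QCoh.germ_smul' W hyT _ _).symm.trans h1).trans (W.presheaf.germ_res_apply (homOfLE hTA) y hyT n)

variable [IsIntegral X] [IsLocallyNoetherian X]

/-- A map and its determinant have cokernels of the same length. -/
theorem local_compare (φ : E ⟶ F) {W' : X.Modules} (ψ : ExtBase.L E r ⟶ W)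
    (μ : ∀ V : X.Opens, Γ(F, V) [⋀^Fin r]→ₗ[Γ(X, V)] Γ(W, V))
    (hψ : ∀ (V : X.Opens) (v : Fin r → Γ(E, V)), ψ.app V (ExtBase.mu E r V v) = μ V fun i => φ.app V (v i))
    {V : X.Opens} {e : Fin r → Γ(E, V)} (he : H23.Frame.IsFrame E e) {s : Fin r → Γ(F, V)}
    (hs : H23.Frame.IsFrame F s) (β : W ⟶ W') (hw : InvX.IsFrame (β.app V (μ V s)))
    (hη : Function.Surjective (stk φ (genericPoint X))) {x : X} (hx : x ∈ V) :
    Function.Injective (stk φ x) ∧ Function.Injective (stk (ψ ≫ β) x) ∧
      Function.Surjective (stk (ψ ≫ β) (genericPoint X)) ∧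
      Module.length (X.presheaf.stalk x) ((cokernel φ).presheaf.stalk x) =
        Module.length (X.presheaf.stalk x) ((cokernel (ψ ≫ β)).presheaf.stalk x) := by
  classical
  have hηV : genericPoint X ∈ V :=
    ((genericPoint_spec X).mem_open_set_iff V.2).2 (Set.univ_inter (V : Set X) ▸ ⟨x, hx⟩)
  choose c hc using fun j => (hs V le_rfl).2 (φ.app V (e j))
  let G : Matrix (Fin r) (Fin r) Γ(X, V) := Matrix.of fun i j => c j i
  have hcol : ∀ j, φ.app V (e j) = ∑ i, G i j • s i := fun j => by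
    rw [← hc j]
    refine Finset.sum_congr rfl fun i _ => ?_
    exact congrArg (c j i • ·) (res_self (M := F) (s i))
  let bs : Module.Basis (Fin r) Γ(X, V) Γ(F, V) := ExtBase.frameBasis hs le_rfl
  have hbs : ∀ i, bs i = s i := fun i => (ExtBase.frameBasis_apply hs le_rfl i).trans (res_self _)
  have hμd : μ V (fun j => φ.app V (e j)) = G.det • μ V s := by
    refine (alt_eq_det (μ V) bs _).trans ?_
    refine congrArg₂ (· • ·) ?_ (congrArg (μ V) (funext hbs))
    rw [Module.Basis.det_apply]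
    congr 1
    ext i j
    rw [Module.Basis.toMatrix_apply, hcol j]
    simp only [← hbs, map_sum, map_smul, Module.Basis.repr_self, Finsupp.coe_finset_sum, Finset.sum_apply,
      Finsupp.coe_smul, Pi.smul_apply, smul_eq_mul, Finsupp.single_apply, mul_ite, mul_one, mul_zero]
    simp
  have hwe : InvX.IsFrame (ExtBase.mu E r V e) := ExtBase.isFrame_wedge he
  have hψe : (ψ ≫ β).app V (ExtBase.mu E r V e) = G.det • β.app V (μ V s) := by
    refine ((congrArg (β.app V) ((hψ V e).trans hμd))).trans ?_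
    exact Scheme.Modules.Hom.app_smul β _ _
  have hmat : ∀ (z : X) (hz : z ∈ V),
      LinearMap.toMatrix (germBasis he hz) (germBasis hs hz) (stk φ z) =
        G.map (X.presheaf.germ V z hz) := fun z hz => by
    ext i j
    rw [LinearMap.toMatrix_apply, germBasis_apply, stk_germ, hcol, map_sum]
    have h : ∀ k, F.presheaf.germ V z hz (G k j • s k) = X.presheaf.germ V z hz (G k j) • germBasis hs hz k :=
      fun k => by rw [germBasis_apply]; exact QCoh.germ_smul' F hz _ _
    rw [Finset.sum_congr rfl fun k _ => h k]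
    simp [Finsupp.single_apply]
  have hdet : ∀ (z : X) (hz : z ∈ V),
      (LinearMap.toMatrix (germBasis he hz) (germBasis hs hz) (stk φ z)).det = X.presheaf.germ V z hz G.det :=
    fun z hz => by rw [hmat z hz]; exact (RingHom.map_det (X.presheaf.germ V z hz).hom G).symm
  have hdet1 : ∀ (z : X) (hz : z ∈ V),
      (LinearMap.toMatrix (lineBasis hwe hz) (lineBasis hw hz) (stk (ψ ≫ β) z)).det = X.presheaf.germ V z hz G.det :=
    fun z hz => by
      rw [Matrix.det_fin_one, LinearMap.toMatrix_apply, lineBasis_apply, stk_germ, hψe]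
      have h : W'.presheaf.germ V z hz (G.det • β.app V (μ V s)) =
          X.presheaf.germ V z hz G.det • lineBasis hw hz 0 := by
        rw [lineBasis_apply]; exact QCoh.germ_smul' W' hz _ _
      rw [h, map_smul, Finsupp.smul_apply, Module.Basis.repr_self, Finsupp.single_eq_same, smul_eq_mul, mul_one]
  have hu : IsUnit (X.presheaf.germ V (genericPoint X) hηV G.det) :=
    hdet _ hηV ▸ isUnit_det_of_surjective _ _ _ hη
  haveI : Nonempty V := ⟨⟨x, hx⟩⟩
  have hne : X.presheaf.germ V x hx G.det ≠ 0 := fun h => by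
    have h0 : G.det = 0 := germ_injective_of_isIntegral X x hx (h.trans (map_zero _).symm)
    rw [h0, map_zero] at hu
    exact hu.ne_zero rfl
  have k1 := length_quot_range (germBasis he hx) (germBasis hs hx) (stk φ x) (by rw [hdet]; exact hne)
  have k2 := length_quot_range (lineBasis hwe hx) (lineBasis hw hx) (stk (ψ ≫ β) x) (by rw [hdet1]; exact hne)
  refine ⟨k1.1, k2.1, ?_, ?_⟩
  · intro y
    let bw := lineBasis hw hηV
    refine ⟨(bw.equivFun y 0 * (hu.unit⁻¹ : (X.presheaf.stalk (genericPoint X))ˣ)) •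
      (ExtBase.L E r).presheaf.germ V _ hηV (ExtBase.mu E r V e), ?_⟩
    have h : W'.presheaf.germ V _ hηV (G.det • β.app V (μ V s)) =
        X.presheaf.germ V _ hηV G.det • bw 0 := by rw [lineBasis_apply]; exact QCoh.germ_smul' W' hηV _ _
    rw [map_smul, stk_germ, hψe, h, smul_smul, mul_assoc, IsUnit.val_inv_mul, mul_one]
    refine Eq.trans ?_ (bw.sum_equivFun y)
    rw [Fin.sum_univ_one]
  · rw [length_coker φ x, length_coker (ψ ≫ β) x, k1.2, k2.2, hdet, hdet1]

end Local

section Classes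

variable {X : Scheme.{u}} [IsIntegral X] [IsLocallyNoetherian X] {δ : X → ℤ} (hd : Cyc.IsDimFun X δ)

include hd in
/-- The class of a map surjective at the generic point and injective in codimension one. -/
theorem sub_coker_mem {A B : X.Modules} (f : A ⟶ B) (hA : Coh.IsCoh A) (hB : Coh.IsCoh B)
    (hs : Function.Surjective (stk f (genericPoint X)))
    (hi : ∀ x : X, δ (genericPoint X) - 1 ≤ δ x → Function.Injective (stk f x)) :
    Cyc.CohLe δ (δ (genericPoint X) - 1) (cokernel f) ∧
      c δ (δ (genericPoint X)) B - c δ (δ (genericPoint X)) A - c δ (δ (genericPoint X)) (cokernel f) ∈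
        Fil δ (δ (genericPoint X)) (δ (genericPoint X) - 2) := by
  have hP := cohClosed_cohLe δ (δ (genericPoint X))
  have hk : Cyc.CohLe δ (δ (genericPoint X)) (kernel f) :=
    hP.sub (kernel.ι f) (QCoh.isQCoh_kernel hA.1 hB.1 f) (cohLe_gen hd hA)
  have hc : Cyc.CohLe δ (δ (genericPoint X)) (cokernel f) :=
    hP.quot (cokernel.π f) (QCoh.isQCoh_cokernel hA.1 hB.1 f) (cohLe_gen hd hB)
  refine ⟨⟨hc.1, fun y hy => ?_⟩, ?_⟩
  · by_contra hlt
    obtain rfl := eq_genericPoint hd (x := y) (by omega)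
    exact not_subsingleton_iff_nontrivial.2 hy (subsingleton_coker f _ hs)
  have hk2 : Cyc.CohLe δ (δ (genericPoint X) - 2) (kernel f) := ⟨hk.1, fun y hy => by
    by_contra hlt
    exact not_subsingleton_iff_nontrivial.2 hy (subsingleton_ker f _ (hi y (by omega)))⟩
  have h := H23.K0Swindle.cl_hom hP f (cohLe_gen hd hA) (cohLe_gen hd hB)
  have hm : c δ (δ (genericPoint X)) (kernel f) ∈ Fil δ (δ (genericPoint X)) (δ (genericPoint X) - 2) :=
    AddSubgroup.subset_closure ⟨_, hk2, rfl⟩
  have e : c δ (δ (genericPoint X)) B - c δ (δ (genericPoint X)) A - c δ (δ (genericPoint X)) (cokernel f) =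
      -c δ (δ (genericPoint X)) (kernel f) := by
    rw [eq_neg_iff_add_eq_zero, sub_sub, sub_add_eq_add_sub, sub_eq_zero]
    exact h.symm
  rw [e]
  exact neg_mem hm

include hd in
theorem eq_of_length {M N : X.Modules} (hM : Cyc.CohLe δ (δ (genericPoint X) - 1) M)
    (hN : Cyc.CohLe δ (δ (genericPoint X) - 1) N)
    (hl : ∀ x : X, δ (genericPoint X) - 1 ≤ δ x →
      Module.length (X.presheaf.stalk x) (M.presheaf.stalk x) =
        Module.length (X.presheaf.stalk x) (N.presheaf.stalk x)) :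
    c δ (δ (genericPoint X)) M - c δ (δ (genericPoint X)) N ∈
      Fil δ (δ (genericPoint X)) (δ (genericPoint X) - 2) := by
  obtain ⟨Q, hQ⟩ := H23.K0Rat.exists_quotMap (X := X) δ (a := δ (genericPoint X) - 1) (a' := δ (genericPoint X))
    (b := δ (genericPoint X) - 1 - 1) (by omega)
  rw [show δ (genericPoint X) - 2 = δ (genericPoint X) - 1 - 1 by ring]
  refine tK_eq_iff.1 ?_
  rw [← hQ M hM, ← hQ N hN, tK_eq_of_sheafFun hd hM hN (funext fun x => ?_)]
  simp only [Cyc.sheafFun]
  split_ifs with hx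
  · rw [hl x hx.ge]
  · rfl

/-- Exterior powers of coherent modules are coherent. -/
theorem isCoh_of_isExtPow {F W : X.Modules} {r : ℕ} (hF : Coh.IsCoh F) (hW : ExtPow.IsExtPow r F W) :
    Coh.IsCoh W := by
  refine QCoh.isCoh_iff.2 ⟨Synt29.ExtPowPull.isQCoh_of_isExtPow hF.1 hW, fun U => ?_⟩
  obtain ⟨φ, -⟩ := hW
  haveI := QCoh.finite_sections hF U.2
  haveI : Module.Finite Γ(X, U.1) (F.val.obj (op U.1)) := this
  exact Module.Finite.equiv (φ U).symm

theorem isCoh_lf {E : X.Modules} (hE : FlatMod.IsFinLocFree E) : Coh.IsCoh E :=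
  QCoh.isCoh_iff_isFP.2 (QCoh.isFP_of_isFinLocFree hE)

include hd in
/-- `[F] - [E] ≡ [det F] - [det E]`. -/
theorem det_diff {E F W : X.Modules} {r : ℕ} (hE : FlatMod.IsFinLocFreeOfRank r E) (hF : Coh.IsCoh F)
    (hfr : ∀ x : X, δ (genericPoint X) - 1 ≤ δ x →
      ∃ (U : X.Opens) (s : Fin r → Γ(F, U)), x ∈ U ∧ H23.Frame.IsFrame F s)
    (hW : ExtPow.IsExtPow r F W) (hWc : Coh.IsCoh (RefHull.ddual W)) (φ : E ⟶ F)
    (hη : Function.Surjective (stk φ (genericPoint X))) :
    (c δ (δ (genericPoint X)) F - c δ (δ (genericPoint X)) E) -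
        (c δ (δ (genericPoint X)) (RefHull.ddual W) - c δ (δ (genericPoint X)) (ExtBase.L E r)) ∈
      Fil δ (δ (genericPoint X)) (δ (genericPoint X) - 2) := by
  obtain ⟨μ, hμ, hb⟩ := ExtSh.exists_mu hW
  obtain ⟨ψ, hψ⟩ := exists_detMap φ μ hμ
  have hWW : Coh.IsCoh W := isCoh_of_isExtPow hF hW
  let β := RefHull.bidualMap W
  have hloc : ∀ x : X, δ (genericPoint X) - 1 ≤ δ x → Function.Injective (stk φ x) ∧
      Function.Injective (stk (ψ ≫ β) x) ∧ Function.Surjective (stk (ψ ≫ β) (genericPoint X)) ∧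
      Module.length (X.presheaf.stalk x) ((cokernel φ).presheaf.stalk x) =
        Module.length (X.presheaf.stalk x) ((cokernel (ψ ≫ β)).presheaf.stalk x) := fun x hx => by
    obtain ⟨U, s, hxU, hs⟩ := hfr x hx
    obtain ⟨U', e, hxU', he⟩ := KvbModel.frameAt_of_rank hE x
    obtain ⟨_, ⟨V, hV, rfl⟩, hxV, hVle⟩ :=
      X.isBasis_affineOpens.exists_subset_of_mem_open (show x ∈ U ⊓ U' from ⟨hxU, hxU'⟩) (U ⊓ U').2
    have hV1 : V ≤ U := fun z hz => (hVle hz).1
    have hV2 : V ≤ U' := fun z hz => (hVle hz).2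
    have hsV := hs.res hV1
    exact local_compare φ ψ μ hψ (he.res hV2) hsV β (RefX.bidual_frame hWW (isFrame_of_wedge μ hμ hb hsV)) hη hxV
  have hEc := isCoh_lf (KvbModel.lf_of_rank hE)
  have hLc := isCoh_lf (ExtSh.isFinLocFree_L r (KvbModel.lf_of_rank hE))
  obtain ⟨hc1, h1⟩ := sub_coker_mem hd φ hEc hF hη fun x hx => (hloc x hx).1
  obtain ⟨hc2, h2⟩ := sub_coker_mem hd (ψ ≫ β) hLc hWc (hloc (genericPoint X) (by omega)).2.2.1 fun x hx => (hloc x hx).2.1
  have h3 := eq_of_length hd hc1 hc2 fun x hx => (hloc x hx).2.2.2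
  have h := add_mem (sub_mem h1 h2) h3
  convert h using 1
  abel

end Classes

end Groth.Agent.H28.RefChDet

end
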