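import Groth.Agent.H28.RefChPair
import Groth.Agent.InvX.GenLocusPull
import Groth.Agent.ZClosLib.CohDescent
import Groth.Prelude.Def_Frob

/-!
Reflexive Frobenius pull-backs of reflexive modules of rank one are reflexive powers.
-/

set_option autoImplicit false
set_option linter.style.haveILetI false
set_option linter.unusedSectionVars false
set_option backward.isDefEq.respectTransparency false
set_option backward.isDefEq.respectTransparency.types false
set_option maxHeartbeats 1000000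

universe u

open CategoryTheory CategoryTheory.Limits AlgebraicGeometry TopologicalSpace Filter

noncomputable section

namespace Groth.Agent.H28.RefChFrob

open Groth.Agent Groth.Agent.H28.RefChK Groth.Agent.H28.RefChKRows

variable {X : Scheme.{u}} [IsIntegral X] [IsLocallyNoetherian X] {M F G : X.Modules} {D : X → ℤ}

theorem ord_pow {x : X} (hx : Order.coheight x = 1) {f : X.functionField} (hf : f ≠ 0) :
    ∀ n : ℕ, Scheme.ord (f ^ n) x = (n : ℤ) * Scheme.ord f x
  | 0 => by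
    have h := Scheme.ord_mul (x := x) (one_ne_zero (α := X.functionField)) one_ne_zero
    rw [mul_one] at h
    rw [pow_zero]
    push_cast
    linarith
  | n + 1 => by
    rw [pow_succ, Scheme.ord_mul (pow_ne_zero n hf) hf, ord_pow hx hf n]
    push_cast
    ring

theorem isRef1_of_iso (e : F ≅ G) (hF : RefHull.IsRef1 F) : RefHull.IsRef1 G := by
  have hc := RefX.isCoh_of_iso e hF.1
  refine ⟨hc, (RefX.isReflexive_iff hc).2 fun x => RefX.isReflexiveAt_of_iso e ((RefX.isReflexive_iff hF.1).1 hF.2.1 x), ?_⟩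
  obtain ⟨U, hU, h⟩ := hF.2.2
  exact ⟨U, hU, H23.PicMul.isInvertible_of_iso ((Scheme.Modules.restrictFunctor U.ι).mapIso e) h⟩

variable (p : ℕ) [Fact p.Prime] [FrobSch.IsCharP X p]

/-- The inverse image by Frobenius multiplies orders by `p`. -/
theorem isDivOf_frob (hM : Coh.IsCoh M) (hf : RefX.HasFrames M) (hD : RefX.IsDivOf M D) :
    Coh.IsCoh ((Scheme.Modules.pullback (FrobSch.frob X p)).obj M) ∧
      RefX.HasFrames ((Scheme.Modules.pullback (FrobSch.frob X p)).obj M) ∧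
      RefX.IsDivOf ((Scheme.Modules.pullback (FrobSch.frob X p)).obj M) (p • D) := by
  let N := (Scheme.Modules.pullback (FrobSch.frob X p)).obj M
  have hframe : ∀ {U : X.Opens} {e : Γ(M, U)}, InvX.IsFrame e →
      InvX.IsFrame (show Γ(N, U) from InvX.pullElt (FrobSch.frob X p) e) := fun he =>
    InvX.isFrame_pullElt (FrobSch.frob X p) he
  refine ⟨ZClosLib.isCoh_pullback _ hM, fun x hx => ?_, ?_⟩
  · obtain ⟨U, hU, e, he⟩ := hf x hx
    exact ⟨U, hU, _, hframe he⟩
  obtain ⟨v, hv, hv'⟩ := hD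
  obtain ⟨U, hU, e, he⟩ := hf (genericPoint X) (by rw [RefX.coheight_genericPoint]; exact zero_le)
  obtain ⟨φ, rfl⟩ := RefX.exists_coord_generic he hU v
  have hφ : (show X.functionField from φ) ≠ 0 := fun h => hv (by rw [show φ = 0 from h, zero_smul])
  let e' : Γ(N, U) := InvX.pullElt (FrobSch.frob X p) e
  refine ⟨(φ ^ p) • N.presheaf.germ U (genericPoint X) hU e', fun h => ?_, fun x hx => ?_⟩
  · rcases RefX.smul_eq_zero_generic h with h1 | h1
    · exact pow_ne_zero p hφ h1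
    · exact RefX.germ_frame_ne_zero (hframe he) hU h1
  obtain ⟨V, hV, f, hfr⟩ := hf x hx.le
  have hη := (RefX.specializes_genericPoint x).mem_open V.2 hV
  let W : X.Opens := U ⊓ V
  have hW : genericPoint X ∈ W := ⟨hU, hη⟩
  let f' : Γ(N, V) := InvX.pullElt (FrobSch.frob X p) f
  obtain ⟨a, ha⟩ := hfr.exists_coord (inf_le_right : W ≤ V) (AModX.res M (inf_le_left : W ≤ U) e)
  let A : X.presheaf.stalk (genericPoint X) := X.presheaf.germ W _ hW a
  have h1 : M.presheaf.germ U _ hU e = A • M.presheaf.germ V _ hη f := by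
    rw [← RefX.germ_frame_res (inf_le_left : W ≤ U) e hW, ha, QCoh.germ_smul', RefX.germ_frame_res]
  have hres : ∀ {U' W' : X.Opens} (h : W' ≤ U') (g : Γ(M, U')),
      AModX.res N h (show Γ(N, U') from InvX.pullElt (FrobSch.frob X p) g) =
        (show Γ(N, W') from InvX.pullElt (FrobSch.frob X p) (AModX.res M h g)) := fun h g =>
    InvX.res_pullElt (FrobSch.frob X p) h g
  have h2' : AModX.res N (inf_le_left : W ≤ U) e' = (a ^ p) • AModX.res N (inf_le_right : W ≤ V) f' := by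
    rw [hres, hres, ha]
    exact InvX.pullElt_smul (FrobSch.frob X p) a _
  have h2 : N.presheaf.germ U _ hU e' = (A ^ p) • N.presheaf.germ V _ hη f' := by
    rw [← RefX.germ_frame_res (inf_le_left : W ≤ U) e' hW, h2', QCoh.germ_smul', RefX.germ_frame_res, map_pow]
  have hA : (show X.functionField from A) ≠ 0 := fun h => RefX.germ_frame_ne_zero he hU (by
    rw [h1, show A = 0 from h, zero_smul])
  have hkey := hv' x hx
  rw [h1, ← mul_smul] at hkey
  have e1 := RefX.secOrd_frame hfr hV hx (φ := (show X.functionField from φ) * (show X.functionField from A)) (mul_ne_zero hφ hA)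
  rw [h2, ← mul_smul, ← mul_pow]
  refine (RefX.secOrd_frame (hframe hfr) hV hx
    (φ := ((show X.functionField from φ) * (show X.functionField from A)) ^ p) (pow_ne_zero p (mul_ne_zero hφ hA))).trans ?_
  rw [ord_pow hx (mul_ne_zero hφ hA), Pi.smul_apply, nsmul_eq_mul]
  congr 1
  exact e1.symm.trans hkey

theorem isDivOf_iter (hN : Pi1.IsNormalScheme X) (hF : RefHull.IsRef1 F) (hD : RefX.IsDivOf F D) (G : ℕ → X.Modules)
    (hG0 : G 0 = F)
    (hG : ∀ m, Nonempty (G (m + 1) ≅ RefHull.ddual ((Scheme.Modules.pullback (FrobSch.frob X p)).obj (G m)))) :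
    ∀ m, RefHull.IsRef1 (G m) ∧ RefX.IsDivOf (G m) ((p ^ m) • D)
  | 0 => by
    rw [hG0, pow_zero, one_smul]
    exact ⟨hF, hD⟩
  | m + 1 => by
    obtain ⟨hr, hd⟩ := isDivOf_iter hN hF hD G hG0 hG m
    obtain ⟨hc, hfr, hd'⟩ := isDivOf_frob p hr.1 (RefX.hasFrames_of_isRef1 hN hr) hd
    obtain ⟨e⟩ := hG m
    have hR := RefX.isRef1_ddual hc hfr
    obtain ⟨v, hv, hv'⟩ := hd'
    obtain ⟨h1, h2⟩ := RefX.secOrd_bidual hc hfr hv
    have hdd : RefX.IsDivOf (RefHull.ddual ((Scheme.Modules.pullback (FrobSch.frob X p)).obj (G m))) (p • ((p ^ m) • D)) :=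
      ⟨_, h1, fun x hx => by rw [h2 x hx, hv' x hx]⟩
    refine ⟨isRef1_of_iso e.symm hR, ?_⟩
    rw [pow_succ', mul_smul]
    exact hdd.of_cl_eq hN hR (H23.PicMul.cl_eq_iff.2 ⟨e.symm⟩)

theorem iter_iso_refPow (hN : Pi1.IsNormalScheme X) (hF : RefHull.IsRef1 F) (G : ℕ → X.Modules)
    (hG0 : G 0 = F)
    (hG : ∀ m, Nonempty (G (m + 1) ≅ RefHull.ddual ((Scheme.Modules.pullback (FrobSch.frob X p)).obj (G m)))) (m : ℕ) :
    RefHull.IsRef1 (G m) ∧ Nonempty (G m ≅ RefPow.refPow F (p ^ m)) := by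
  obtain ⟨D, hD⟩ := RefX.exists_isDivOf (RefX.hasFrames_of_isRef1 hN hF)
  obtain ⟨hr, hd⟩ := isDivOf_iter p hN hF hD G hG0 hG m
  exact ⟨hr, RefChPair.iso_of_isDivOf hN hr (RefX.isRef1_refPow hN hF _) hd (RefChPair.isDivOf_refPow hN hF hD _)⟩

theorem limit_eq (k : Type u) [Field k] [X.Over (Spec (CommRingCat.of k))] [IsProper (X ↘ Spec (CommRingCat.of k))]
    (hN : Pi1.IsNormalScheme X) {s : ℕ} (hdim : topologicalKrullDim X ≤ (s + 2 : ℕ)) {M : Fin s → X.Modules}
    (hM : ∀ i, PicF.IsInvertible (M i)) (hF : RefHull.IsRef1 F) (G : ℕ → X.Modules) (hG0 : G 0 = F)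
    (hG : ∀ m, Nonempty (G (m + 1) ≅ RefHull.ddual ((Scheme.Modules.pullback (FrobSch.frob X p)).obj (G m)))) (a b : ℝ)
    (ha : Tendsto (fun m : ℕ => (2 : ℝ) * (FGA.intNum k X (s + 2) M (RefPow.refPow F m) : ℝ) / ((m : ℝ) ^ 2)) atTop (nhds a))
    (hb : Tendsto (fun m : ℕ => (FGA.intNum k X (s + 2) M (G m) : ℝ) / ((p : ℝ) ^ (2 * m))) atTop (nhds b)) :
    a = 2 * b := by
  have hp : 1 < p := (Fact.out : p.Prime).one_lt
  refine tendsto_nhds_unique (ha.comp (tendsto_pow_atTop_atTop_of_one_lt hp)) ((hb.const_mul 2).congr fun m => ?_)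
  obtain ⟨hr, ⟨e⟩⟩ := iter_iso_refPow p hN hF G hG0 hG m
  simp only [Function.comp_apply]
  rw [IntAlt.intNum_eq_alt k hdim hM hr.1, IntAlt.intNum_eq_alt k hdim hM (RefX.isRef1_refPow hN hF _).1,
    H23.IntNumCycle.alt_congr k s M e, Nat.cast_pow, pow_mul', mul_div_assoc]

end Groth.Agent.H28.RefChFrob
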