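import Groth.Agent.H28.RefChAlpha
import Groth.Agent.H28.RefChFrob
import Groth.Agent.Euler.Basic
import Groth.Agent.Synt29.CotangentQI
import Groth.Agent.KFlatLib.Perfect.LocFree

/-!
# Classes of reflexive Frobenius pull-backs modulo codimension two
-/

set_option autoImplicit false
set_option linter.style.haveILetI false
set_option linter.unusedSectionVars false
set_option backward.isDefEq.respectTransparency false
set_option backward.isDefEq.respectTransparency.types false
set_option maxHeartbeats 1000000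

universe u

open CategoryTheory CategoryTheory.Limits AlgebraicGeometry TopologicalSpace Opposite Filter

noncomputable section

namespace Groth.Agent.H28.RefChFrobK

open Groth.Agent Groth.Agent.AModX Groth.Agent.H28.RefChK Groth.Agent.H23.CycleClassK
  Groth.Agent.H23.K0TensorInv Groth.Agent.H23.LocFinCoprod Groth.Agent.H28.RefChDet Groth.Agent.H28.RefChAlpha

variable {X : Scheme.{u}}

/-- The matrix of a map on stalks. -/
theorem toMatrix_germ {E F : X.Modules} (φ : E ⟶ F) {V : X.Opens} {n : ℕ} {e : Fin n → Γ(E, V)}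
    (he : H23.Frame.IsFrame E e) {s : Fin n → Γ(F, V)} (hs : H23.Frame.IsFrame F s)
    (G : Matrix (Fin n) (Fin n) Γ(X, V)) (hG : ∀ j, φ.app V (e j) = ∑ i, G i j • s i) (z : X) (hz : z ∈ V) :
    LinearMap.toMatrix (germBasis he hz) (germBasis hs hz) (stk φ z) = G.map (X.presheaf.germ V z hz) ∧
      (LinearMap.toMatrix (germBasis he hz) (germBasis hs hz) (stk φ z)).det = X.presheaf.germ V z hz G.det := by
  classical
  have h0 : LinearMap.toMatrix (germBasis he hz) (germBasis hs hz) (stk φ z) = G.map (X.presheaf.germ V z hz) := by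
    ext i j
    rw [LinearMap.toMatrix_apply, germBasis_apply, stk_germ, hG, map_sum]
    have h : ∀ k, F.presheaf.germ V z hz (G k j • s k) = X.presheaf.germ V z hz (G k j) • germBasis hs hz k :=
      fun k => by rw [germBasis_apply]; exact QCoh.germ_smul' F hz _ _
    rw [Finset.sum_congr rfl fun k _ => h k]
    simp [Finsupp.single_apply]
  exact ⟨h0, by rw [h0]; exact (RingHom.map_det (X.presheaf.germ V z hz).hom G).symm⟩

theorem surjective_of_isUnit_det {A M N : Type*} [CommRing A] [AddCommGroup M] [Module A M] [AddCommGroup N]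
    [Module A N] {n : ℕ} (bM : Module.Basis (Fin n) A M) (bN : Module.Basis (Fin n) A N) (f : M →ₗ[A] N)
    (hf : IsUnit (LinearMap.toMatrix bM bN f).det) : Function.Surjective f := by
  classical
  intro y
  obtain ⟨c, hc⟩ := Matrix.mulVec_surjective_iff_isUnit.2 ((Matrix.isUnit_iff_isUnit_det _).2 hf) (bN.equivFun y)
  refine ⟨bM.equivFun.symm c, bN.equivFun.injective ?_⟩
  have h := LinearMap.toMatrix_mulVec_repr bM bN f (bM.equivFun.symm c)
  rw [show ⇑(bM.repr (bM.equivFun.symm c)) = c from bM.equivFun.apply_symm_apply c, hc] at h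
  exact h.symm

variable [IsIntegral X] [IsLocallyNoetherian X] (p : ℕ) [Fact p.Prime] [FrobSch.IsCharP X p]

/-- Frobenius raises determinants to the `p`-th power. -/
theorem frob_local {E F F' : X.Modules} (φ : E ⟶ F)
    (θ : (Scheme.Modules.pullback (FrobSch.frob X p)).obj F ⟶ F') {r : ℕ} {V : X.Opens}
    {e : Fin r → Γ(E, V)} (he : H23.Frame.IsFrame E e) {s : Fin r → Γ(F, V)} (hs : H23.Frame.IsFrame F s)
    (hη : Function.Surjective (stk φ (genericPoint X))) {x : X} (hx : x ∈ V)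
    (hθ : Function.Bijective (stk θ x)) (hθη : Function.Surjective (stk θ (genericPoint X))) :
    Function.Injective (stk φ x) ∧
      Function.Injective (stk ((Scheme.Modules.pullback (FrobSch.frob X p)).map φ ≫ θ) x) ∧
      Function.Surjective (stk ((Scheme.Modules.pullback (FrobSch.frob X p)).map φ ≫ θ) (genericPoint X)) ∧
      (Module.length (X.presheaf.stalk x)
        ((cokernel ((Scheme.Modules.pullback (FrobSch.frob X p)).map φ ≫ θ)).presheaf.stalk x)).toNat =
        p * (Module.length (X.presheaf.stalk x) ((cokernel φ).presheaf.stalk x)).toNat ∧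
      Nonempty (Module.Basis (Fin r) (X.presheaf.stalk x) (F'.presheaf.stalk x)) := by
  classical
  let π := FrobSch.frob X p
  let P := Scheme.Modules.pullback π
  have hηV : genericPoint X ∈ V :=
    ((genericPoint_spec X).mem_open_set_iff V.2).2 (Set.univ_inter (V : Set X) ▸ ⟨x, hx⟩)
  choose c hc using fun j => (hs V le_rfl).2 (φ.app V (e j))
  let G : Matrix (Fin r) (Fin r) Γ(X, V) := Matrix.of fun i j => c j i
  have hcol : ∀ j, φ.app V (e j) = ∑ i, G i j • s i := fun j => by
    rw [← hc j]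
    refine Finset.sum_congr rfl fun i _ => ?_
    exact congrArg (c j i • ·) (res_self (M := F) (s i))
  let G' : Matrix (Fin r) (Fin r) Γ(X, V) := G.map fun a => a ^ p
  let e' : Fin r → Γ(P.obj E, V) := fun i => InvX.pullElt π (e i)
  let s' : Fin r → Γ(P.obj F, V) := fun i => InvX.pullElt π (s i)
  have he' : H23.Frame.IsFrame (P.obj E) e' := Euler.isFrame_pull e he
  have hs' : H23.Frame.IsFrame (P.obj F) s' := Euler.isFrame_pull s hs
  have hcol' : ∀ j, (P.map φ).app V (e' j) = ∑ i, G' i j • s' i := fun j => by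
    refine (Synt29.CotangentQI.pullback_map_pullSect π φ V (e j)).trans ?_
    show InvX.pullElt π (φ.app V (e j)) = _
    rw [hcol]
    refine (map_sum (((Scheme.Modules.pullbackPushforwardAdjunction π).unit.app F).app V).hom _ _).trans ?_
    exact Finset.sum_congr rfl fun i _ => InvX.pullElt_smul π (G i j) (s i)
  have hdet : G'.det = G.det ^ p :=
    (RingHom.map_det (π.app V).hom G).symm
  obtain ⟨-, k1⟩ := toMatrix_germ φ he hs G hcol x hx
  obtain ⟨-, k1η⟩ := toMatrix_germ φ he hs G hcol _ hηV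
  obtain ⟨-, k2⟩ := toMatrix_germ (P.map φ) he' hs' G' hcol' x hx
  obtain ⟨-, k2η⟩ := toMatrix_germ (P.map φ) he' hs' G' hcol' _ hηV
  rw [hdet, map_pow] at k2 k2η
  let θl := LinearEquiv.ofBijective (stk θ x) hθ
  let b := germBasis he' hx
  let b' := (germBasis hs' hx).map θl
  have hk3 : (LinearMap.toMatrix b b' (stk (P.map φ ≫ θ) x)).det = X.presheaf.germ V x hx G.det ^ p := by
    rw [← k2]
    congr 1
    ext i j
    rw [LinearMap.toMatrix_apply, LinearMap.toMatrix_apply, Module.Basis.map_repr, LinearEquiv.trans_apply]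
    refine congrArg (fun q => (germBasis hs' hx).repr q i) ?_
    rw [LinearEquiv.symm_apply_eq]
    exact stk_comp (P.map φ) θ x _
  have hu : IsUnit (X.presheaf.germ V (genericPoint X) hηV G.det) :=
    k1η ▸ isUnit_det_of_surjective _ _ _ hη
  haveI : Nonempty V := ⟨⟨x, hx⟩⟩
  have hne : X.presheaf.germ V x hx G.det ≠ 0 := fun h => by
    have h0 : G.det = 0 := germ_injective_of_isIntegral X x hx (h.trans (map_zero _).symm)
    rw [h0, map_zero] at hu
    exact hu.ne_zero rfl
  have l1 := length_quot_range (germBasis he hx) (germBasis hs hx) (stk φ x) (by rw [k1]; exact hne)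
  have l2 := length_quot_range b b' (stk (P.map φ ≫ θ) x) (by rw [hk3]; exact pow_ne_zero p hne)
  refine ⟨l1.1, l2.1, ?_, ?_, ⟨b'⟩⟩
  · intro y
    obtain ⟨a, rfl⟩ := hθη y
    obtain ⟨d, rfl⟩ := surjective_of_isUnit_det _ _ _ (by rw [k2η]; exact hu.pow p) a
    exact ⟨d, stk_comp (P.map φ) θ _ d⟩
  · rw [length_coker (P.map φ ≫ θ) x, length_coker φ x, l1.2, l2.2, k1, hk3,
      Ring.ord_pow (mem_nonZeroDivisors_of_ne_zero hne), nsmul_eq_mul, ENat.toNat_mul, ENat.toNat_natCast]

variable {δ : X → ℤ} (hd : Cyc.IsDimFun X δ)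

include hd in
/-- Modules with proportional cycles have proportional classes. -/
theorem smul_of_length {M N : X.Modules} (hM : Cyc.CohLe δ (δ (genericPoint X) - 1) M)
    (hN : Cyc.CohLe δ (δ (genericPoint X) - 1) N) (q : ℕ)
    (hl : ∀ x : X, δ (genericPoint X) - 1 ≤ δ x →
      (Module.length (X.presheaf.stalk x) (N.presheaf.stalk x)).toNat =
        q * (Module.length (X.presheaf.stalk x) (M.presheaf.stalk x)).toNat) :
    c δ (δ (genericPoint X)) N - (q : ℤ) • c δ (δ (genericPoint X)) M ∈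
      Fil δ (δ (genericPoint X)) (δ (genericPoint X) - 2) := by
  obtain ⟨Q, hQ⟩ := H23.K0Rat.exists_quotMap (X := X) δ (a := δ (genericPoint X) - 1) (a' := δ (genericPoint X))
    (b := δ (genericPoint X) - 1 - 1) (by omega)
  obtain ⟨ψ, hψ⟩ := exists_psi hd (δ (genericPoint X) - 1)
  have key : Cyc.toK0CohQuot δ (δ (genericPoint X) - 1) (δ (genericPoint X) - 1 - 1) N =
      (q : ℤ) • Cyc.toK0CohQuot δ (δ (genericPoint X) - 1) (δ (genericPoint X) - 1 - 1) M := by
    rw [← sub_eq_zero]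
    obtain ⟨A, B, hA, hB, hAB⟩ := H23.CycleClassK.exists_sub δ _ _
      (Cyc.toK0CohQuot δ (δ (genericPoint X) - 1) (δ (genericPoint X) - 1 - 1) N -
        (q : ℤ) • Cyc.toK0CohQuot δ (δ (genericPoint X) - 1) (δ (genericPoint X) - 1 - 1) M)
    have h := congrArg ψ hAB
    rw [map_sub, map_zsmul, map_sub, hψ _ hN, hψ _ hM, hψ _ hA, hψ _ hB] at h
    have h0 : Cyc.sheafFun δ (δ (genericPoint X) - 1) N - (q : ℤ) • Cyc.sheafFun δ (δ (genericPoint X) - 1) M = 0 := by
      funext x
      simp only [Pi.sub_apply, Pi.smul_apply, Cyc.sheafFun, smul_eq_mul, Pi.zero_apply]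
      split_ifs with hx
      · rw [hl x hx.ge]; push_cast; ring
      · ring
    rw [h0, eq_comm, sub_eq_zero] at h
    rw [hAB, tK_eq_of_sheafFun hd hA hB h, sub_self]
  have h2 : Cyc.toK0CohQuot δ (δ (genericPoint X)) (δ (genericPoint X) - 1 - 1) N =
      (q : ℤ) • Cyc.toK0CohQuot δ (δ (genericPoint X)) (δ (genericPoint X) - 1 - 1) M := by
    rw [← hQ M hM, ← hQ N hN, key, map_zsmul]
  rw [show δ (genericPoint X) - 2 = δ (genericPoint X) - 1 - 1 by ring]
  simp only [Cyc.toK0CohQuot] at h2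
  exact QuotientAddGroup.eq_iff_sub_mem.1 h2

include hd in
/-- `[F'] - [F^*E] ≡ p ([F] - [E])`. -/
theorem frob_diff {E F F' : X.Modules} {r : ℕ} (hE : FlatMod.IsFinLocFreeOfRank r E) (hF : Coh.IsCoh F)
    (hF' : Coh.IsCoh F')
    (hfr : ∀ x : X, δ (genericPoint X) - 1 ≤ δ x →
      ∃ (U : X.Opens) (s : Fin r → Γ(F, U)), x ∈ U ∧ H23.Frame.IsFrame F s)
    (φ : E ⟶ F) (hη : Function.Surjective (stk φ (genericPoint X)))
    (θ : (Scheme.Modules.pullback (FrobSch.frob X p)).obj F ⟶ F')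
    (hθ : ∀ x : X, δ (genericPoint X) - 1 ≤ δ x → Function.Bijective (stk θ x)) :
    (c δ (δ (genericPoint X)) F' - c δ (δ (genericPoint X)) ((Scheme.Modules.pullback (FrobSch.frob X p)).obj E)) -
        (p : ℤ) • (c δ (δ (genericPoint X)) F - c δ (δ (genericPoint X)) E) ∈
      Fil δ (δ (genericPoint X)) (δ (genericPoint X) - 2) ∧
    ∀ x : X, δ (genericPoint X) - 1 ≤ δ x →
      Nonempty (Module.Basis (Fin r) (X.presheaf.stalk x) (F'.presheaf.stalk x)) := by
  have hloc : ∀ x : X, δ (genericPoint X) - 1 ≤ δ x → Function.Injective (stk φ x) ∧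
      Function.Injective (stk ((Scheme.Modules.pullback (FrobSch.frob X p)).map φ ≫ θ) x) ∧
      Function.Surjective (stk ((Scheme.Modules.pullback (FrobSch.frob X p)).map φ ≫ θ) (genericPoint X)) ∧
      (Module.length (X.presheaf.stalk x)
        ((cokernel ((Scheme.Modules.pullback (FrobSch.frob X p)).map φ ≫ θ)).presheaf.stalk x)).toNat =
        p * (Module.length (X.presheaf.stalk x) ((cokernel φ).presheaf.stalk x)).toNat ∧
      Nonempty (Module.Basis (Fin r) (X.presheaf.stalk x) (F'.presheaf.stalk x)) := fun x hx => by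
    obtain ⟨U, s, hxU, hs⟩ := hfr x hx
    obtain ⟨U', e, hxU', he⟩ := KvbModel.frameAt_of_rank hE x
    exact frob_local p φ θ (he.res (inf_le_right : U ⊓ U' ≤ U')) (hs.res (inf_le_left : U ⊓ U' ≤ U)) hη
      (x := x) ⟨hxU, hxU'⟩ (hθ x hx) (hθ _ (by omega)).2
  refine ⟨?_, fun x hx => (hloc x hx).2.2.2.2⟩
  have hEc := isCoh_lf (KvbModel.lf_of_rank hE)
  have hE'c : Coh.IsCoh ((Scheme.Modules.pullback (FrobSch.frob X p)).obj E) := ZClosLib.isCoh_pullback _ hEc
  obtain ⟨hc1, h1⟩ := sub_coker_mem hd φ hEc hF hη fun x hx => (hloc x hx).1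
  obtain ⟨hc2, h2⟩ := sub_coker_mem hd _ hE'c hF' (hloc (genericPoint X) (by omega)).2.2.1
    fun x hx => (hloc x hx).2.1
  have h3 := smul_of_length hd hc1 hc2 p fun x hx => (hloc x hx).2.2.2.1
  have h := add_mem (sub_mem h2 (zsmul_mem h1 (p : ℤ))) h3
  convert h using 1
  rw [smul_sub, smul_sub, smul_sub]
  abel

omit [Fact p.Prime] [FrobSch.IsCharP X p] in
/-- A bundle mapping onto both `F` and a free module at the generic point. -/
theorem exists_two {L : X.Modules} (hL : CohB1.IsAmple L) {F : X.Modules} (hF : Coh.IsCoh F) {r : ℕ}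
    (hrk : Module.finrank (X.presheaf.stalk (genericPoint X)) (F.presheaf.stalk (genericPoint X)) = r) :
    ∃ (E : X.Modules) (_ : FlatMod.IsFinLocFreeOfRank r E) (φ₁ : E ⟶ F) (φ₂ : E ⟶ FlatMod.freeMod X r),
      Function.Surjective (stk φ₁ (genericPoint X)) ∧ Function.Surjective (stk φ₂ (genericPoint X)) := by
  classical
  haveI : CompactSpace X := hL.2.1
  haveI : X.IsSeparated := AmpleX.isSeparated_of_isAmple hL
  let Fr := FlatMod.freeMod X r
  have hFr : FlatMod.IsFinLocFree Fr := fun _ =>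
    ⟨⊤, r, trivial, H23.Frame.exists_iso_of_frame _ (H23.Frame.incl_isFrame (X := X) (n := r))⟩
  have hFrC : Coh.IsCoh Fr := isCoh_lf hFr
  obtain ⟨m₁, hm₁⟩ := AmpleX.eventually_generated hL hF.1 hF.2
  obtain ⟨m₂, hm₂⟩ := AmpleX.eventually_generated hL hFrC.1 hFrC.2
  obtain ⟨G₁, iso₁, ι₁, s₁, hs₁⟩ := hm₁ (max m₁ m₂) (le_max_left _ _)
  obtain ⟨G₂, iso₂, ι₂, s₂, hs₂⟩ := hm₂ (max m₁ m₂) (le_max_right _ _)
  let M := CohB1.tensorPow L (max m₁ m₂)
  have hM : PicF.IsInvertible M := InvX.isInvertible_tensorPow hL.1 _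
  obtain ⟨D, hD, ⟨eD⟩⟩ := H23.PicInv.exists_inverse hM
  have hFrη : Module.finrank (X.presheaf.stalk (genericPoint X)) (Fr.presheaf.stalk (genericPoint X)) = r := by
    rw [Module.finrank_eq_card_basis (germBasis (H23.Frame.incl_isFrame (X := X) (n := r))
      (show genericPoint X ∈ (⊤ : X.Opens) from trivial)), Fintype.card_fin]
  obtain ⟨φ₁, hφ₁⟩ := exists_gen (RefX.isCoh_tensor hF (isCoh_invertible hM)) iso₁ hs₁
    ((finrank_tm hM F _).trans hrk)
  obtain ⟨φ₂, hφ₂⟩ := exists_gen (RefX.isCoh_tensor hFrC (isCoh_invertible hM)) iso₂ hs₂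
    ((finrank_tm hM Fr _).trans hFrη)
  let u : ∀ A : X.Modules, tm (tm A M) D ≅ A := fun A =>
    assoc _ _ _ ≪≫ congrTm (Iso.refl A) eD ≪≫ KFlatLib.tensorUnitIso A
  have hsurj : ∀ {A : X.Modules} (φ : Fr ⟶ tm A M), Function.Surjective (stk φ (genericPoint X)) →
      Function.Surjective (stk ((ten D).map φ ≫ (u A).hom) (genericPoint X)) := fun {A} φ hφ y => by
    obtain ⟨a, ha⟩ := stk_surjective_of_epi (u A).hom _ y
    obtain ⟨b, hb⟩ := surjective_ten hD φ hφ a
    refine ⟨b, ?_⟩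
    rw [← ha, ← hb]
    exact stk_comp _ _ _ _
  have hElf : FlatMod.IsFinLocFree (tm Fr D) :=
    KvbLam.lf_tens hFr (KvbModel.lf_of_rank (PBCores.isInvertible_iff_rank.1 hD))
  obtain ⟨k, hk⟩ := KvbModel.exists_rank hElf
  have hkr : k = r := by
    have := KvbModel.rank_tens (F := D) (n := r) (m := 1)
      (fun x => ⟨⊤, trivial, H23.Frame.exists_iso_of_frame _ (H23.Frame.incl_isFrame (X := X) (n := r))⟩)
      (PBCores.isInvertible_iff_rank.1 hD) hk (genericPoint X)
    omega
  subst hkr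
  exact ⟨_, hk, _, _, hsurj φ₁ hφ₁, hsurj φ₂ hφ₂⟩

omit [Fact p.Prime] [FrobSch.IsCharP X p] in
include hd in
theorem c_free (r : ℕ) : Coh.IsCoh (FlatMod.freeMod X r) ∧ c δ (δ (genericPoint X)) (FlatMod.freeMod X r) =
    (r : ℤ) • c δ (δ (genericPoint X)) (Coh.structureModule X) := by
  have hFr : FlatMod.IsFinLocFree (FlatMod.freeMod X r) := fun _ =>
    ⟨⊤, r, trivial, H23.Frame.exists_iso_of_frame _ (H23.Frame.incl_isFrame (X := X) (n := r))⟩
  refine ⟨isCoh_lf hFr, ?_⟩
  obtain ⟨h, hh⟩ := KZ.exists_liftSub (KRR.vbP X) (fun A => c δ (δ (genericPoint X)) A)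
    fun S hS a b d => KZ.clSub_ses (Cyc.CohLe δ (δ (genericPoint X))) hS
      (cohLe_gen hd (isCoh_lf a)) (cohLe_gen hd (isCoh_lf b)) (cohLe_gen hd (isCoh_lf d))
  refine (hh _ hFr).symm.trans ?_
  refine (congrArg h (KvbAmple.cl_free (X := X) r)).trans ?_
  rw [map_nsmul, hh _ KvbLam.lf_O, natCast_zsmul]

/-- The frames at the points of codimension at most one. -/
def HighFrames (δ : X → ℤ) (r : ℕ) (F : X.Modules) : Prop :=
  ∀ x : X, δ (genericPoint X) - 1 ≤ δ x → ∃ (U : X.Opens) (s : Fin r → Γ(F, U)), x ∈ U ∧ H23.Frame.IsFrame F s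

include hd in
/-- One reflexive Frobenius pull-back. -/
theorem step {L : X.Modules} (hL : CohB1.IsAmple L) {F G : X.Modules} {r : ℕ} (hF : Coh.IsCoh F)
    (hfr : HighFrames δ r F)
    (e : G ≅ RefHull.ddual ((Scheme.Modules.pullback (FrobSch.frob X p)).obj F)) :
    Coh.IsCoh G ∧ HighFrames δ r G ∧
      (c δ (δ (genericPoint X)) G - (r : ℤ) • c δ (δ (genericPoint X)) (Coh.structureModule X)) -
        (p : ℤ) • (c δ (δ (genericPoint X)) F - (r : ℤ) • c δ (δ (genericPoint X)) (Coh.structureModule X)) ∈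
      Fil δ (δ (genericPoint X)) (δ (genericPoint X) - 2) := by
  let P := Scheme.Modules.pullback (FrobSch.frob X p)
  have hPF : Coh.IsCoh (P.obj F) := ZClosLib.isCoh_pullback _ hF
  have hG : Coh.IsCoh G := RefX.isCoh_of_iso e.symm (RefX.isCoh_dual (RefX.isCoh_dual hPF))
  obtain ⟨U₀, s₀, hU₀, hs₀⟩ := hfr (genericPoint X) (by omega)
  have hrk : Module.finrank (X.presheaf.stalk (genericPoint X)) (F.presheaf.stalk (genericPoint X)) = r := by
    rw [Module.finrank_eq_card_basis (germBasis hs₀ hU₀), Fintype.card_fin]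
  obtain ⟨E, hE, φ₁, φ₂, h₁, h₂⟩ := exists_two hL hF hrk
  let θ : P.obj F ⟶ G := RefHull.bidualMap (P.obj F) ≫ e.inv
  have hθ : ∀ x : X, δ (genericPoint X) - 1 ≤ δ x → Function.Bijective (stk θ x) := fun x hx => by
    obtain ⟨U, s, hxU, hs⟩ := hfr x hx
    let b := germBasis (Euler.isFrame_pull (p := FrobSch.frob X p) s hs) (x := x) hxU
    have hr : RefHull.IsReflexiveAt (P.obj F) x := by
      haveI := Module.Free.of_basis b
      haveI := Module.Finite.of_basis b
      show Module.IsReflexive _ _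
      infer_instance
    have hb := (RefX.stalkMap_bidual_bijective_iff hPF x).2 hr
    have he : Function.Bijective (stk e.inv x) :=
      ⟨stk_injective_of_mono e.inv x, stk_surjective_of_epi e.inv x⟩
    have : (stk θ x : _ → _) = stk e.inv x ∘ stk (RefHull.bidualMap (P.obj F)) x :=
      funext fun t => stk_comp _ _ x t
    rw [this]
    exact he.comp hb
  obtain ⟨hfree, hfreeC⟩ := c_free hd r
  obtain ⟨d1, b1⟩ := frob_diff p hd hE hF hG hfr φ₁ h₁ θ hθ
  have hiso := (KFlatLib.pullFreeIso (FrobSch.frob X p) r)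
  obtain ⟨d2, -⟩ := frob_diff p hd hE hfree hfree
    (fun x _ => ⟨⊤, _, trivial, H23.Frame.incl_isFrame (X := X) (n := r)⟩) φ₂ h₂ hiso.hom
    (fun x _ => ⟨stk_injective_of_mono hiso.hom x, stk_surjective_of_epi hiso.hom x⟩)
  refine ⟨hG, fun x hx => ?_, ?_⟩
  · obtain ⟨b⟩ := b1 x hx
    haveI := Module.Free.of_basis b
    obtain ⟨U, n, hxU, ⟨i⟩⟩ := QCoh.exists_free_nhd_of_free_stalk (QCoh.isCoh_iff_isFP.1 hG) x
    obtain ⟨s, hs⟩ := H23.Frame.exists_frame i
    obtain rfl : n = r := by simpa using Fintype.card_congr ((germBasis hs hxU).indexEquiv b)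
    exact ⟨U, s, hxU, hs⟩
  · have h := sub_mem d1 d2
    rw [hfreeC] at h
    convert h using 1
    rw [smul_sub, smul_sub, smul_sub]
    abel

end Groth.Agent.H28.RefChFrobK

end
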