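import Groth.Agent.H28.RefChFrobK
import Groth.Agent.RefX.Normal

/-!
# Additivity of the second Chern character of a reflexive module in an invertible module
-/

set_option autoImplicit false
set_option linter.style.haveILetI false
set_option linter.unusedSectionVars false
set_option backward.isDefEq.respectTransparency false
set_option backward.isDefEq.respectTransparency.types false
set_option maxHeartbeats 1000000

universe u

open CategoryTheory CategoryTheory.Limits AlgebraicGeometry TopologicalSpace Opposite Filter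

noncomputable section

namespace Groth.Agent.H28.RefChFrobLim

open Groth.Agent Groth.Agent.H28.RefChK Groth.Agent.H28.RefChKRows Groth.Agent.H23.K0TensorInv
  Groth.Agent.H28.RefChFrobK Groth.Agent.H23.IntNumCycle Groth.Agent.H28.RefChPair

variable (k : Type u) [Field k] {X : Scheme.{u}} [X.Over (Spec (CommRingCat.of k))]
  [IsProper (X ↘ Spec (CommRingCat.of k))] [IsIntegral X]

/-- The defect of additivity. -/
theorem alt_tensor {r : ℕ} (N : Fin r → X.Modules) (A B G : X.Modules) :
    alt k (r + 1) (Fin.cons (CohB1.tensorMod A B) N) G =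
      alt k (r + 1) (Fin.cons A N) G + alt k (r + 1) (Fin.cons B N) G -
        alt k (r + 2) (Fin.cons A (Fin.cons B N)) G := by
  have e : alt k r N (tm G (CohB1.tensorMod A B)) = alt k r N (tm (tm G A) B) :=
    alt_congr k r N (assoc G A B).symm
  have h1 : ∀ (L Z : X.Modules), alt k (r + 1) (Fin.cons L N) Z = alt k r N Z - alt k r N (tm Z L) :=
    fun _ _ => rfl
  have h2 : alt k (r + 2) (Fin.cons A (Fin.cons B N)) G =
      alt k (r + 1) (Fin.cons B N) G - alt k (r + 1) (Fin.cons B N) (tm G A) := rfl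
  rw [h2, h1, h1, h1, h1, e]
  ring

/-- The limit is additive. -/
theorem main (p : ℕ) [Fact p.Prime] [FrobSch.IsCharP X p] (hN : Pi1.IsNormalScheme X)
    (hA : ∃ L : X.Modules, CohB1.IsAmple L) {s : ℕ} (hdim : topologicalKrullDim X = (s + 3 : ℕ))
    {M : Fin s → X.Modules} (hM : ∀ i, PicF.IsInvertible (M i)) {A B : X.Modules} (hA' : PicF.IsInvertible A)
    (hB' : PicF.IsInvertible B) {E : X.Modules} (hE : Coh.IsCoh E) (hEr : RefHull.IsReflexive E)
    (G : ℕ → X.Modules) (hG0 : G 0 = E)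
    (hG : ∀ m, Nonempty (G (m + 1) ≅ RefHull.ddual ((Scheme.Modules.pullback (FrobSch.frob X p)).obj (G m))))
    (a b c' : ℝ)
    (ha : Tendsto (fun m : ℕ => (FGA.intNum k X (s + 3) (Fin.cons A M) (G m) : ℝ) / ((p : ℝ) ^ (2 * m))) atTop (nhds a))
    (hb : Tendsto (fun m : ℕ => (FGA.intNum k X (s + 3) (Fin.cons B M) (G m) : ℝ) / ((p : ℝ) ^ (2 * m))) atTop (nhds b))
    (hc : Tendsto (fun m : ℕ => (FGA.intNum k X (s + 3) (Fin.cons (CohB1.tensorMod A B) M) (G m) : ℝ) /
      ((p : ℝ) ^ (2 * m))) atTop (nhds c')) :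
    c' = a + b := by
  haveI := CurveCohLib.isNoetherian_of_proper (k := k) (X := X)
  obtain ⟨L, hL⟩ := hA
  have hd := SnapLead.isDimFun k (X := X)
  have hn : SnapLead.δ k (genericPoint X) = ((s + 3 : ℕ) : ℤ) := RefChLim.delta_generic k hdim
  let δ := SnapLead.δ k (X := X)
  set r := Module.finrank (X.presheaf.stalk (genericPoint X)) (E.presheaf.stalk (genericPoint X)) with hr
  let N₂ : Fin (s + 2) → X.Modules := Fin.cons A (Fin.cons B M)
  have hN₂ : ∀ i, PicF.IsInvertible (N₂ i) := invertible_cons hA' (invertible_cons hB' hM)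
  obtain ⟨g, hg, hg'⟩ := exists_lift k (show s + 2 ≤ s + 3 by omega) hN₂
  have hHF : ∀ m, Coh.IsCoh (G m) ∧ HighFrames δ r (G m) := by
    intro m
    induction m with
    | zero =>
      rw [hG0]
      exact ⟨hE, fun x hx => RefChAlpha.exists_frame_high hd hN hE (RefX.isTorsionFree_of_isReflexive hE hEr) hr.symm hx⟩
    | succ m ih =>
      obtain ⟨h1, h2, -⟩ := step p hd hL ih.1 ih.2 (hG m).some
      exact ⟨h1, h2⟩
  have hle : ∀ {F : X.Modules}, Coh.IsCoh F → Cyc.CohLe δ ((s + 3 : ℕ) : ℤ) F := fun hF => hn ▸ cohLe_gen hd hF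
  have hO : Cyc.CohLe δ ((s + 3 : ℕ) : ℤ) (Coh.structureModule X) := hle RefX.isRef1_unit.1
  set u₀ := alt k (s + 2) N₂ (Coh.structureModule X)
  set w := alt k (s + 2) N₂ E - (r : ℤ) * u₀
  have hlin : ∀ m, alt k (s + 2) N₂ (G m) = (r : ℤ) * u₀ + (p : ℤ) ^ m * w := by
    intro m
    induction m with
    | zero => rw [hG0]; simp [w]
    | succ m ih =>
      obtain ⟨h1, -, h3⟩ := step p hd hL (hHF m).1 (hHF m).2 (hG m).some
      rw [hn, show ((s + 3 : ℕ) : ℤ) - 2 = (((s + 2 : ℕ) : ℤ)) - 1 by push_cast; ring] at h3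
      have h := hg' _ h3
      simp only [map_sub, map_zsmul, smul_eq_mul] at h
      rw [hg _ (hle h1), hg _ (hle (hHF m).1), hg _ hO, ih] at h
      rw [pow_succ]
      linarith
  have hp : (1 : ℝ) < (p : ℝ) := by exact_mod_cast (Fact.out : p.Prime).one_lt
  have hinv : Tendsto (fun m : ℕ => ((p : ℝ)⁻¹) ^ m) atTop (nhds 0) :=
    tendsto_pow_atTop_nhds_zero_of_lt_one (by positivity) (inv_lt_one_of_one_lt₀ hp)
  have hz : Tendsto (fun m : ℕ => (alt k (s + 2) N₂ (G m) : ℝ) / ((p : ℝ) ^ (2 * m))) atTop (nhds 0) := by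
    have h := ((hinv.mul hinv).const_mul ((r : ℝ) * (u₀ : ℝ))).add (hinv.const_mul (w : ℝ))
    rw [mul_zero, mul_zero, mul_zero, add_zero] at h
    refine h.congr fun m => ?_
    rw [hlin m, inv_pow, two_mul, pow_add]
    push_cast
    have : (p : ℝ) ^ m ≠ 0 := pow_ne_zero _ (by positivity)
    field_simp
  refine tendsto_nhds_unique hc ?_
  have hsum := (ha.add hb).sub hz
  rw [sub_zero] at hsum
  refine hsum.congr fun m => ?_
  rw [IntAlt.intNum_eq_alt k hdim.le (invertible_cons hA' hM) (hHF m).1,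
    IntAlt.intNum_eq_alt k hdim.le (invertible_cons hB' hM) (hHF m).1,
    IntAlt.intNum_eq_alt k hdim.le (invertible_cons (H23.PicMul.isInvertible_tensor hA' hB') hM) (hHF m).1,
    alt_tensor k M A B (G m)]
  push_cast
  ring

end Groth.Agent.H28.RefChFrobLim

end
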