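import Groth.Agent.H23.K0TensorInv
import Groth.Agent.RefX.Tensor
import Groth.Agent.RefX.Iso
import Groth.Agent.KFlatLib.Scheme.QCohD
import Groth.Agent.H23.InvStalk
import Groth.Agent.H23.K0Swindle
import Groth.Agent.KFlatLib.Scheme.TensorAssoc
import Groth.Prelude.Def_RefPow
import Groth.Prelude.Def_FGA
import Mathlib.Order.KrullDimension

/-!
# Rank one reflexive modules in `K₀(Coh X)` filtered by dimension
-/

set_option autoImplicit false
set_option linter.style.haveILetI false
set_option linter.unusedSectionVars false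
set_option backward.isDefEq.respectTransparency false
set_option backward.isDefEq.respectTransparency.types false

universe u

open CategoryTheory CategoryTheory.Limits AlgebraicGeometry TopologicalSpace MonoidalCategory

noncomputable section

namespace Groth.Agent.H28.RefChK

open Groth.Agent Groth.Agent.H23.CycleClassK Groth.Agent.H23.K0TensorInv Groth.Agent.KFlatLib

variable {X : Scheme.{u}} [IsLocallyNoetherian X] {δ : X → ℤ} {n : ℤ}

/-- The class in `K₀` of modules of dimension at most `n`. -/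
abbrev c (δ : X → ℤ) (n : ℤ) (F : X.Modules) : KZero.K0sub (Cyc.CohLe δ n) := KZero.clSub (Cyc.CohLe δ n) F

/-- The filtration by dimension. -/
def Fil (δ : X → ℤ) (n k : ℤ) : AddSubgroup (KZero.K0sub (Cyc.CohLe δ n)) :=
  AddSubgroup.closure {x | ∃ F, Cyc.CohLe δ k F ∧ x = c δ n F}

theorem tK_eq_iff {k : ℤ} {F G : X.Modules} :
    Cyc.toK0CohQuot δ n k F = Cyc.toK0CohQuot δ n k G ↔ c δ n F - c δ n G ∈ Fil δ n k := by
  have hset : AddSubgroup.closure {x | ∃ F, Cyc.CohLe δ k F ∧ KZero.clSub (Cyc.CohLe δ n) F = x} = Fil δ n k := by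
    unfold Fil
    congr 1
    ext x
    simp only [Set.mem_setOf_eq, c, eq_comm]
  constructor
  · intro h
    have h1 := QuotientAddGroup.eq_iff_sub_mem.1 h
    first
      | exact h1
      | (rw [← hset]; exact h1)
  · intro h
    refine QuotientAddGroup.eq_iff_sub_mem.2 ?_
    first
      | exact h
      | (rw [← hset] at h; exact h)

theorem c_iso {A B : X.Modules} (e : A ≅ B) (hA : Cyc.CohLe δ n A) (hB : Cyc.CohLe δ n B) :
    c δ n A = c δ n B := by
  obtain ⟨O, hO, hO'⟩ := (cohClosed_cohLe δ n).exists_zero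
  exact KZ.clSub_iso (P := Cyc.CohLe δ n) e hA hB hO hO'

/-- The tensor product of modules. -/
abbrev tm (E F : X.Modules) : X.Modules := CohB1.tensorMod E F

theorem tm_eq (E F : X.Modules) : tm E F = (ten F).obj E := rfl

theorem tm_bi (E F : X.Modules) : ((DCoh.tensorBi (X := X)).obj E).obj F = tm E F := rfl

theorem isQCoh_tm {E F : X.Modules} (hE : Coh.IsQCoh E) (hF : Coh.IsQCoh F) : Coh.IsQCoh (tm E F) := by
  rw [← tm_bi]
  exact KFlatLib.isQCoh_tensor hE hF

/-- Commutativity. -/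
def comm (E F : X.Modules) : tm E F ≅ tm F E := DCoh.shP.mapIso (β_ (DCoh.toP.obj E) (DCoh.toP.obj F))

/-- Associativity. -/
def assoc (E F G : X.Modules) : tm (tm E F) G ≅ tm E (tm F G) := (((tensorAssocSch X).app E).app F).app G

/-- Functoriality. -/
def congrTm {E E' F F' : X.Modules} (e : E ≅ E') (f : F ≅ F') : tm E F ≅ tm E' F' :=
  (DCoh.tensorBi.mapIso e).app F ≪≫ (DCoh.tensorBi.obj E').mapIso f

theorem cohLe_tm {L : X.Modules} (hL : PicF.IsInvertible L) {k : ℤ} {F : X.Modules} (hF : Cyc.CohLe δ k F) :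
    Cyc.CohLe δ k (tm F L) := cohLe_ten hL hF

theorem cohLe_of_iso {k : ℤ} {F G : X.Modules} (e : F ≅ G) (hF : Cyc.CohLe δ k F) (hq : Coh.IsQCoh G) :
    Cyc.CohLe δ k G :=
  (cohClosed_cohLe δ k).quot e.hom hq hF

variable (δ n) in
theorem exists_twist {L : X.Modules} (hL : PicF.IsInvertible L) :
    ∃ E : KZero.K0sub (Cyc.CohLe δ n) →+ KZero.K0sub (Cyc.CohLe δ n),
      ∀ F, Cyc.CohLe δ n F → E (c δ n F) = c δ n (tm F L) := by
  have hse : ∀ S : ShortComplex X.Modules, S.ShortExact → Cyc.CohLe δ n S.X₁ → Cyc.CohLe δ n S.X₂ →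
      Cyc.CohLe δ n S.X₃ →
      c δ n ((ten L).obj S.X₂) = c δ n ((ten L).obj S.X₁) + c δ n ((ten L).obj S.X₃) := by
    intro S hS h₁ h₂ h₃
    have k₁ : Cyc.CohLe δ n ((ten L).obj S.X₁) := cohLe_ten hL h₁
    have k₂ : Cyc.CohLe δ n ((ten L).obj S.X₂) := cohLe_ten hL h₂
    have k₃ : Cyc.CohLe δ n ((ten L).obj S.X₃) := cohLe_ten hL h₃
    exact KZ.clSub_ses (Cyc.CohLe δ n) (S := S.map (ten L)) (shortExact_ten hL hS) k₁ k₂ k₃
  obtain ⟨E, hE⟩ := KZ.exists_liftSub (Cyc.CohLe δ n) (fun F => c δ n ((ten L).obj F)) hse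
  refine ⟨E, fun F hF => (hE F hF).trans ?_⟩
  rw [← tm_eq]

theorem sub_twist_mem (hd : Cyc.IsDimFun X δ) {L : X.Modules} (hL : PicF.IsInvertible L) {k : ℤ} (hk : k ≤ n)
    {F : X.Modules} (hF : Cyc.CohLe δ k F) : c δ n F - c δ n (tm F L) ∈ Fil δ n (k - 1) := by
  obtain ⟨Q, hQ⟩ := H23.K0Rat.exists_quotMap (X := X) δ (a := k) (a' := n) (b := k - 1) hk
  refine tK_eq_iff.1 ?_
  show _ = Cyc.toK0CohQuot δ n (k - 1) ((ten L).obj F)
  rw [← hQ F hF, ← hQ _ (cohLe_ten hL hF),
    tK_eq_of_sheafFun hd hF (cohLe_ten hL hF) (sheafFun_ten hL δ k F).symm]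

theorem map_sub_twist (hd : Cyc.IsDimFun X δ) {L : X.Modules} (hL : PicF.IsInvertible L)
    (E : KZero.K0sub (Cyc.CohLe δ n) →+ KZero.K0sub (Cyc.CohLe δ n))
    (hE : ∀ F, Cyc.CohLe δ n F → E (c δ n F) = c δ n (tm F L)) {k : ℤ} (hk : k ≤ n)
    {x : KZero.K0sub (Cyc.CohLe δ n)} (hx : x ∈ Fil δ n k) : x - E x ∈ Fil δ n (k - 1) := by
  induction hx using AddSubgroup.closure_induction with
  | mem y hy =>
    obtain ⟨F, hF, rfl⟩ := hy
    rw [hE F (cohLe_mono hk hF)]
    exact sub_twist_mem hd hL hk hF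
  | zero => simp
  | add a b _ _ ha hb => rw [map_add, add_sub_add_comm]; exact add_mem ha hb
  | neg a _ ha => rw [map_neg, ← neg_sub']; exact neg_mem ha

section Alt

variable {ι : Type} [LinearOrder ι] (M : ι → X.Modules) (hM : ∀ i, PicF.IsInvertible (M i))
  (E : ι → KZero.K0sub (Cyc.CohLe δ n) →+ KZero.K0sub (Cyc.CohLe δ n))
  (hE : ∀ i F, Cyc.CohLe δ n F → E i (c δ n F) = c δ n (tm F (M i)))

/-- Twisting by a list. -/
def Φ : List ι → (KZero.K0sub (Cyc.CohLe δ n) →+ KZero.K0sub (Cyc.CohLe δ n))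
  | [] => AddMonoidHom.id _
  | i :: l => (Φ l).comp (E i)

include hM hE in
theorem comm_E (i j : ι) : (E i).comp (E j) = (E j).comp (E i) := by
  refine KZ.K0sub_hom_ext _ fun F hF => ?_
  show E i (E j (c δ n F)) = E j (E i (c δ n F))
  rw [hE j F hF, hE i _ (cohLe_tm (hM j) hF), hE i F hF, hE j _ (cohLe_tm (hM i) hF)]
  exact c_iso (assoc _ _ _ ≪≫ congrTm (Iso.refl F) (comm _ _) ≪≫ (assoc _ _ _).symm)
    (cohLe_tm (hM i) (cohLe_tm (hM j) hF)) (cohLe_tm (hM j) (cohLe_tm (hM i) hF))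

include hM hE in
theorem Φ_perm {l l' : List ι} (h : l.Perm l') : Φ E l = Φ E l' := by
  induction h with
  | nil => rfl
  | cons i _ ih => simp only [Φ, ih]
  | swap i j l =>
    simp only [Φ, AddMonoidHom.comp_assoc, comm_E M hM E hE i j]
  | trans _ _ h₁ h₂ => exact h₁.trans h₂

include hM hE in
theorem c_tensorList : ∀ (l : List ι) (G : X.Modules), Cyc.CohLe δ n G →
    Cyc.CohLe δ n (tm (FGA.tensorList (l.map M)) G) ∧
      c δ n (tm (FGA.tensorList (l.map M)) G) = Φ E l (c δ n G) := by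
  intro l
  induction l with
  | nil =>
    intro G hG
    let e : G ≅ tm (Coh.structureModule X) G := (comm _ _ ≪≫ KFlatLib.tensorUnitIso G).symm
    have hlf : Coh.IsQCoh (Coh.structureModule X) :=
      (isCoh_invertible H23.InvStalk.isInvertible_structureModule).1
    have h := cohLe_of_iso e hG (isQCoh_tm hlf hG.1.1)
    exact ⟨h, (c_iso e hG h).symm⟩
  | cons i l ih =>
    intro G hG
    obtain ⟨h, he⟩ := ih (tm G (M i)) (cohLe_tm (hM i) hG)
    let e : tm (FGA.tensorList (l.map M)) (tm G (M i)) ≅ tm (FGA.tensorList ((i :: l).map M)) G :=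
      congrTm (Iso.refl _) (comm G (M i)) ≪≫ (assoc _ _ _).symm ≪≫ congrTm (comm _ _) (Iso.refl G)
    have hq : Coh.IsQCoh (tm (FGA.tensorList ((i :: l).map M)) G) :=
      isQCoh_of_iso e h.1.1
    have h' := cohLe_of_iso e h hq
    refine ⟨h', ?_⟩
    rw [← c_iso e h h', he]
    show Φ E l (c δ n (tm G (M i))) = Φ E l (E i (c δ n G))
    rw [hE i G hG]

/-- The alternating sum over subsets. -/
def alt (s : Finset ι) : KZero.K0sub (Cyc.CohLe δ n) →+ KZero.K0sub (Cyc.CohLe δ n) :=
  ∑ I ∈ s.powerset, ((-1 : ℤ) ^ I.card) • Φ E (I.sort (· ≤ ·))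

include hM hE in
theorem alt_insert {a : ι} {s : Finset ι} (ha : a ∉ s) :
    alt E (insert a s) = alt E s - (alt E s).comp (E a) := by
  refine AddMonoidHom.ext fun x => ?_
  have hl : ∀ I ∈ s.powerset, Φ E ((insert a I).sort (· ≤ ·)) = (Φ E (I.sort (· ≤ ·))).comp (E a) := fun I hI => by
    have haI : a ∉ I := fun h => ha (Finset.mem_powerset.1 hI h)
    refine Φ_perm M hM E hE (l' := a :: I.sort (· ≤ ·)) ?_
    refine (Finset.sort_perm_toList _ _).trans ((Finset.toList_insert haI).trans ?_)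
    exact (Finset.sort_perm_toList _ _).symm.cons a
  rw [alt, Finset.sum_powerset_insert ha, AddMonoidHom.add_apply, AddMonoidHom.sub_apply, AddMonoidHom.comp_apply,
    alt, AddMonoidHom.finsetSum_apply, AddMonoidHom.finsetSum_apply, AddMonoidHom.finsetSum_apply, sub_eq_add_neg,
    ← Finset.sum_neg_distrib]
  refine congrArg _ (Finset.sum_congr rfl fun I hI => ?_)
  have haI : a ∉ I := fun h => ha (Finset.mem_powerset.1 hI h)
  rw [hl I hI, Finset.card_insert_of_notMem haI, pow_succ, mul_neg_one, neg_smul, AddMonoidHom.neg_apply]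
  rfl

include hM hE in
theorem alt_mem (hd : Cyc.IsDimFun X δ) : ∀ (s : Finset ι) {k : ℤ}, k ≤ n →
    ∀ x ∈ Fil δ n k, alt E s x ∈ Fil δ n (k - s.card) := by
  intro s
  induction s using Finset.induction_on with
  | empty =>
    intro k hk x hx
    simpa [alt, Φ] using hx
  | @insert a s ha ih =>
    intro k hk x hx
    rw [alt_insert M hM E hE ha, AddMonoidHom.sub_apply, AddMonoidHom.comp_apply, ← map_sub,
      Finset.card_insert_of_notMem ha]
    have h := ih (k := k - 1) (by omega) _ (map_sub_twist hd (hM a) (E a) (hE a) hk hx)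
    convert h using 2
    push_cast
    ring

include hM hE in
/-- The alternating sums of the statements. -/
theorem sum_eq_alt [Fintype ι] {G H : X.Modules} (hG : Cyc.CohLe δ n G) (hH : Cyc.CohLe δ n H) :
    (∑ I : Finset ι, ((-1 : ℤ) ^ I.card) •
      (c δ n (tm (FGA.tensorList ((I.sort (· ≤ ·)).map M)) G) - c δ n (tm (FGA.tensorList ((I.sort (· ≤ ·)).map M)) H))) =
      alt E Finset.univ (c δ n G - c δ n H) := by
  rw [alt, Finset.powerset_univ, AddMonoidHom.finsetSum_apply]
  refine Finset.sum_congr rfl fun I _ => ?_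
  rw [(c_tensorList M hM E hE _ G hG).2, (c_tensorList M hM E hE _ H hH).2, AddMonoidHom.smul_apply, map_sub]

end Alt

section Ref

variable [IsIntegral X]

theorem delta_le (hd : Cyc.IsDimFun X δ) (x : X) : δ x ≤ δ (genericPoint X) := by
  by_cases h : genericPoint X = x
  · rw [h]
  · exact (hd _ _ ((genericPoint_spec X).specializes (Set.mem_univ x)) h).1.le

theorem cohLe_gen (hd : Cyc.IsDimFun X δ) {F : X.Modules} (hF : Coh.IsCoh F) :
    Cyc.CohLe δ (δ (genericPoint X)) F := ⟨hF, fun x _ => delta_le hd x⟩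

theorem coheight_le_one (hd : Cyc.IsDimFun X δ) {x : X} (hx : δ (genericPoint X) - 1 ≤ δ x) :
    Order.coheight x ≤ 1 := by
  refine Order.coheight_le fun p hp => ?_
  by_contra hlen
  have h2 : 2 ≤ p.length := by
    rw [not_le] at hlen
    exact_mod_cast hlen
  have step : ∀ i : Fin p.length, δ (p.toFun i.castSucc) < δ (p.toFun i.succ) := fun i => by
    have hlt : p.toFun i.castSucc < p.toFun i.succ := p.step i
    exact (hd _ _ hlt.le fun he => hlt.ne he.symm).1
  have s0 := step ⟨0, by omega⟩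
  have s1 := step ⟨1, by omega⟩
  have e1 : p.toFun (Fin.succ ⟨0, by omega⟩) = p.toFun (Fin.castSucc ⟨1, by omega⟩) := rfl
  have top := delta_le hd (p.toFun (Fin.succ ⟨1, by omega⟩))
  have e0 : δ (p.toFun (Fin.castSucc ⟨0, by omega⟩)) = δ x := by
    rw [← hp]
    rfl
  rw [e1] at s0
  omega

theorem nonneg (hd : Cyc.IsDimFun X δ) (hdim : topologicalKrullDim X ≤ (n.toNat : ℕ)) (hn : δ (genericPoint X) = n)
    (hn0 : 0 ≤ n) (x : X) : 0 ≤ δ x := by
  letI := specializationOrder X
  have hchain : ∀ (d : ℕ) (x : X), δ x + d = n → ∃ p : LTSeries X, p.head = x ∧ p.length = d := by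
    intro d
    induction d with
    | zero => exact fun x _ => ⟨RelSeries.singleton _ x, rfl, rfl⟩
    | succ d ih =>
      intro x hx
      classical
      have hne : genericPoint X ≠ x := fun h => by subst h; omega
      obtain ⟨m, ⟨y, hyx, hyne, hym⟩, hmin⟩ := Int.exists_least_of_bdd
        (P := fun m => ∃ y : X, y ⤳ x ∧ y ≠ x ∧ δ y = m) ⟨δ x, fun m ⟨y, hyx, hyne, hym⟩ => hym ▸ (hd y x hyx hyne).1.le⟩
        ⟨_, genericPoint X, (genericPoint_spec X).specializes (Set.mem_univ x), hne, rfl⟩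
      have him : δ y = δ x + 1 := (hd y x hyx hyne).2 fun z hyz hzx => by
        by_contra hc
        rw [not_or] at hc
        have h1 := hmin (δ z) ⟨z, hzx, hc.2, rfl⟩
        have h2 := (hd y z hyz fun h => hc.1 h.symm).1
        omega
      obtain ⟨p, hp, hpl⟩ := ih y (by omega)
      have hlt : x < p.head := by
        rw [hp]
        exact lt_of_le_of_ne hyx hyne.symm
      exact ⟨p.cons x hlt, RelSeries.head_cons _ _ _, by rw [RelSeries.cons_length, hpl]⟩
  by_contra hx
  obtain ⟨p, -, hp⟩ := hchain (n - δ x).toNat x (by omega)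
  have h := Order.LTSeries.length_le_krullDim p
  rw [← Order.krullDim_eq_of_orderIso (irreducibleSetEquivPoints (α := X))] at h
  have h' : ((p.length : ℕ∞) : WithBot ℕ∞) ≤ ((n.toNat : ℕ) : WithBot ℕ∞) := h.trans hdim
  rw [hp] at h'
  norm_cast at h'
  omega

variable (hd : Cyc.IsDimFun X δ) (hN : Pi1.IsNormalScheme X)

include hd hN in
theorem exists_frame_high {F : X.Modules} (hF : RefHull.IsRef1 F) {x : X} (hx : δ (genericPoint X) - 1 ≤ δ x) :
    ∃ (U : X.Opens) (_ : x ∈ U) (e : Γ(F, U)), InvX.IsFrame e :=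
  RefX.hasFrames_of_isRef1 hN hF x (coheight_le_one hd hx)

theorem length_of_frame {F : X.Modules} {U : X.Opens} {x : X} (hx : x ∈ U) {e : Γ(F, U)} (he : InvX.IsFrame e) :
    Module.length (X.presheaf.stalk x) (F.presheaf.stalk x) = Module.length (X.presheaf.stalk x) (X.presheaf.stalk x) :=
  (LinearEquiv.ofBijective (LinearMap.toSpanSingleton _ _ (F.presheaf.germ U x hx e)) (he.germ_bijective hx)).length_eq.symm

include hd in
theorem sub_mem_one_of_frames {F : X.Modules} (hFc : Coh.IsCoh F) (hfr : RefX.HasFrames F) :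
    c δ (δ (genericPoint X)) (Coh.structureModule X) - c δ (δ (genericPoint X)) F ∈
      Fil δ (δ (genericPoint X)) (δ (genericPoint X) - 1) := by
  have hO : Coh.IsCoh (Coh.structureModule X) :=
    isCoh_invertible H23.InvStalk.isInvertible_structureModule
  refine tK_eq_iff.1 (tK_eq_of_sheafFun hd (cohLe_gen hd hO) (cohLe_gen hd hFc) (funext fun x => ?_))
  simp only [Cyc.sheafFun]
  split_ifs with hx
  · obtain ⟨U, hxU, e, he⟩ := hfr x (coheight_le_one hd (by omega))
    obtain ⟨e₀⟩ := H23.InvStalk.exists_stalk_equiv (H23.InvStalk.isInvertible_structureModule (X := X)) x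
    rw [length_of_frame hxU he]
    exact congrArg (fun t : ℕ∞ => (t.toNat : ℤ)) e₀.length_eq
  · rfl

include hd hN in
theorem sub_mem_one {F : X.Modules} (hF : RefHull.IsRef1 F) :
    c δ (δ (genericPoint X)) (Coh.structureModule X) - c δ (δ (genericPoint X)) F ∈
      Fil δ (δ (genericPoint X)) (δ (genericPoint X) - 1) :=
  sub_mem_one_of_frames hd hF.1 (RefX.hasFrames_of_isRef1 hN hF)

include hd in
/-- A map which is bijective on the stalks of large dimension preserves classes modulo small dimension. -/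
theorem tK_eq_of_bij_ge {b : ℤ} {A B : X.Modules} (f : A ⟶ B) (hA : Cyc.CohLe δ n A) (hB : Cyc.CohLe δ n B)
    (hf : ∀ x : X, b < δ x → Function.Bijective (H23.LocFinCoprod.stk f x)) :
    Cyc.toK0CohQuot δ n b A = Cyc.toK0CohQuot δ n b B := by
  have hP := cohClosed_cohLe δ n
  have hk : Cyc.CohLe δ n (kernel f) := hP.sub (kernel.ι f) (QCoh.isQCoh_kernel hA.1.1 hB.1.1 f) hA
  have hc : Cyc.CohLe δ n (cokernel f) := hP.quot (cokernel.π f) (QCoh.isQCoh_cokernel hA.1.1 hB.1.1 f) hB
  have e := tK_hom (b := b) f hA hB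
  rw [tK_small (F := cokernel f) ⟨hc.1, fun x hx => ?_⟩,
    tK_small (F := kernel f) ⟨hk.1, fun x hx => ?_⟩, add_zero, add_zero] at e
  · exact e
  · by_contra hlt
    refine not_subsingleton_iff_nontrivial.2 hx ⟨fun a b => H23.LocFinCoprod.stk_injective_of_mono (kernel.ι f) x
      ((hf x (not_le.1 hlt)).1 ?_)⟩
    rw [← H23.LocFinCoprod.stk_comp, ← H23.LocFinCoprod.stk_comp, kernel.condition, H23.LocFinCoprod.stk_zero,
      H23.LocFinCoprod.stk_zero]
  · by_contra hlt
    refine not_subsingleton_iff_nontrivial.2 hx (subsingleton_of_forall_eq 0 fun a => ?_)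
    obtain ⟨b, rfl⟩ := H23.LocFinCoprod.stk_surjective_of_epi (cokernel.π f) x a
    obtain ⟨c, rfl⟩ := (hf x (not_le.1 hlt)).2 b
    rw [← H23.LocFinCoprod.stk_comp, cokernel.condition, H23.LocFinCoprod.stk_zero]

include hd hN in
theorem tK_refTensor {F G : X.Modules} (hF : RefHull.IsRef1 F) (hG : RefHull.IsRef1 G)
    (hT : Coh.IsCoh (tm F G)) (hR : Coh.IsCoh (RefPow.refTensor F G)) :
    Cyc.toK0CohQuot δ (δ (genericPoint X)) (δ (genericPoint X) - 2) (tm F G) =
      Cyc.toK0CohQuot δ (δ (genericPoint X)) (δ (genericPoint X) - 2) (RefPow.refTensor F G) := by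
  refine tK_eq_of_bij_ge hd (RefHull.bidualMap (tm F G)) (cohLe_gen hd hT) (cohLe_gen hd hR) fun x hx => ?_
  obtain ⟨U, hxU, e, he⟩ := RefX.hasFrames_tensor (RefX.hasFrames_of_isRef1 hN hF) (RefX.hasFrames_of_isRef1 hN hG) x
    (coheight_le_one hd (by omega))
  have hr : RefHull.IsReflexiveAt (tm F G) x := Module.equiv
    (LinearEquiv.ofBijective (LinearMap.toSpanSingleton _ _ ((tm F G).presheaf.germ U x hxU e)) (he.germ_bijective hxU))
  exact (RefX.stalkMap_bidual_bijective_iff hT x).2 hr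

include hd in
/-- The rank one relation `[ℒ ⊗ N] - [N] ≡ [ℒ] - [O]` modulo dimension `n - 2`. -/
theorem sub_twist_mem_two {F : X.Modules} (hO : c δ (δ (genericPoint X)) (Coh.structureModule X) -
      c δ (δ (genericPoint X)) F ∈ Fil δ (δ (genericPoint X)) (δ (genericPoint X) - 1))
    (hF : Coh.IsCoh F) {L : X.Modules} (hL : PicF.IsInvertible L) :
    (c δ (δ (genericPoint X)) (tm F L) - c δ (δ (genericPoint X)) F) -
        (c δ (δ (genericPoint X)) L - c δ (δ (genericPoint X)) (Coh.structureModule X)) ∈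
      Fil δ (δ (genericPoint X)) (δ (genericPoint X) - 2) := by
  obtain ⟨E, hE⟩ := exists_twist δ (δ (genericPoint X)) hL
  have hOc : Coh.IsCoh (Coh.structureModule X) := isCoh_invertible H23.InvStalk.isInvertible_structureModule
  have hEO : E (c δ (δ (genericPoint X)) (Coh.structureModule X)) = c δ (δ (genericPoint X)) L := by
    rw [hE _ (cohLe_gen hd hOc)]
    exact c_iso (comm _ _ ≪≫ KFlatLib.tensorUnitIso L) (cohLe_tm hL (cohLe_gen hd hOc))
      (cohLe_gen hd (isCoh_invertible hL))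
  have h := map_sub_twist hd hL E hE (by omega) hO
  rw [map_sub, hEO, hE F (cohLe_gen hd hF)] at h
  rw [show δ (genericPoint X) - 2 = δ (genericPoint X) - 1 - 1 by ring]
  convert h using 1
  abel

theorem eq_genericPoint (hd : Cyc.IsDimFun X δ) {x : X} (hx : δ (genericPoint X) ≤ δ x) : x = genericPoint X := by
  by_contra h
  have := (hd _ _ ((genericPoint_spec X).specializes (Set.mem_univ x)) (Ne.symm h)).1
  omega

include hd in
/-- Tensoring a map with a module free of rank one in codimension one. -/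
theorem tensor_hom_sub_mem {A B G : X.Modules} (f : A ⟶ B) (hA : Coh.IsCoh A) (hB : Coh.IsCoh B) (hG : Coh.IsCoh G)
    (hfr : RefX.HasFrames G) (hf : Function.Bijective (H23.LocFinCoprod.stk f (genericPoint X))) :
    (c δ (δ (genericPoint X)) (tm B G) - c δ (δ (genericPoint X)) (tm A G)) -
        (c δ (δ (genericPoint X)) B - c δ (δ (genericPoint X)) A) ∈
      Fil δ (δ (genericPoint X)) (δ (genericPoint X) - 2) := by
  obtain ⟨Q, hQ⟩ := H23.K0Rat.exists_quotMap (X := X) δ (a := δ (genericPoint X) - 1) (a' := δ (genericPoint X))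
    (b := δ (genericPoint X) - 1 - 1) (by omega)
  let f' : tm A G ⟶ tm B G := (ten G).map f
  have hA' : Coh.IsCoh (tm A G) := RefX.isCoh_tensor hA hG
  have hB' : Coh.IsCoh (tm B G) := RefX.isCoh_tensor hB hG
  have harrow : ∀ x : X, δ (genericPoint X) - 1 ≤ δ x →
      ∃ (eA : (DerSch.stalkFunctor X x).obj A ≅ (DerSch.stalkFunctor X x).obj (tm A G))
        (eB : (DerSch.stalkFunctor X x).obj B ≅ (DerSch.stalkFunctor X x).obj (tm B G)),
        eA.hom ≫ (DerSch.stalkFunctor X x).map f' = (DerSch.stalkFunctor X x).map f ≫ eB.hom := fun x hx => by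
    obtain ⟨U, hxU, e, he⟩ := hfr x (coheight_le_one hd hx)
    have ht := H23.RatSec.isGen_germ he x hxU
    exact ⟨(LinearEquiv.ofBijective _ (sig_bijective G A ht)).toModuleIso,
      (LinearEquiv.ofBijective _ (sig_bijective G B ht)).toModuleIso,
      ModuleCat.hom_ext (LinearMap.ext fun m => stk_sig G f _ m)⟩
  have hlen : ∀ x : X, δ (genericPoint X) - 1 ≤ δ x →
      Module.length (X.presheaf.stalk x) ((kernel f').presheaf.stalk x) =
          Module.length (X.presheaf.stalk x) ((kernel f).presheaf.stalk x) ∧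
        Module.length (X.presheaf.stalk x) ((cokernel f').presheaf.stalk x) =
          Module.length (X.presheaf.stalk x) ((cokernel f).presheaf.stalk x) := fun x hx => by
    obtain ⟨eA, eB, he⟩ := harrow x hx
    let F := DerSch.stalkFunctor X x
    let ek : F.obj (kernel f') ≅ F.obj (kernel f) :=
      PreservesKernel.iso F f' ≪≫ (kernel.mapIso (F.map f) (F.map f') eA eB he.symm).symm ≪≫
        (PreservesKernel.iso F f).symm
    let ec : F.obj (cokernel f') ≅ F.obj (cokernel f) :=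
      PreservesCokernel.iso F f' ≪≫ (cokernel.mapIso (F.map f) (F.map f') eA eB he.symm).symm ≪≫
        (PreservesCokernel.iso F f).symm
    exact ⟨ek.toLinearEquiv.length_eq, ec.toLinearEquiv.length_eq⟩
  have hP := cohClosed_cohLe δ (δ (genericPoint X))
  have hsmall : ∀ {M N : X.Modules} (g : M ⟶ N), Coh.IsCoh M → Coh.IsCoh N →
      Function.Bijective (H23.LocFinCoprod.stk g (genericPoint X)) →
      Cyc.CohLe δ (δ (genericPoint X) - 1) (kernel g) ∧ Cyc.CohLe δ (δ (genericPoint X) - 1) (cokernel g) ∧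
        c δ (δ (genericPoint X)) N - c δ (δ (genericPoint X)) M =
          c δ (δ (genericPoint X)) (cokernel g) - c δ (δ (genericPoint X)) (kernel g) := by
    intro M N g hM hN hg
    have hk : Cyc.CohLe δ (δ (genericPoint X)) (kernel g) :=
      hP.sub (kernel.ι g) (QCoh.isQCoh_kernel hM.1 hN.1 g) (cohLe_gen hd hM)
    have hc : Cyc.CohLe δ (δ (genericPoint X)) (cokernel g) :=
      hP.quot (cokernel.π g) (QCoh.isQCoh_cokernel hM.1 hN.1 g) (cohLe_gen hd hN)
    refine ⟨⟨hk.1, fun y hy => ?_⟩, ⟨hc.1, fun y hy => ?_⟩, ?_⟩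
    · by_contra hlt
      obtain rfl := eq_genericPoint hd (x := y) (by omega)
      refine not_subsingleton_iff_nontrivial.2 hy ⟨fun a b => H23.LocFinCoprod.stk_injective_of_mono (kernel.ι g) _
        (hg.1 ?_)⟩
      rw [← H23.LocFinCoprod.stk_comp, ← H23.LocFinCoprod.stk_comp, kernel.condition, H23.LocFinCoprod.stk_zero,
        H23.LocFinCoprod.stk_zero]
    · by_contra hlt
      obtain rfl := eq_genericPoint hd (x := y) (by omega)
      refine not_subsingleton_iff_nontrivial.2 hy (subsingleton_of_forall_eq 0 fun a => ?_)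
      obtain ⟨b, rfl⟩ := H23.LocFinCoprod.stk_surjective_of_epi (cokernel.π g) _ a
      obtain ⟨d, rfl⟩ := hg.2 b
      rw [← H23.LocFinCoprod.stk_comp, cokernel.condition, H23.LocFinCoprod.stk_zero]
    · have h := H23.K0Swindle.cl_hom hP g (cohLe_gen hd hM) (cohLe_gen hd hN)
      rw [sub_eq_sub_iff_add_eq_add]
      exact h.symm.trans (add_comm _ _)
  have hf' : Function.Bijective (H23.LocFinCoprod.stk f' (genericPoint X)) := by
    obtain ⟨eA, eB, he⟩ := harrow (genericPoint X) (by omega)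
    have h : ∀ a, H23.LocFinCoprod.stk f' _ (eA.hom a) = eB.hom (H23.LocFinCoprod.stk f _ a) := fun a =>
      congrArg (fun q => q.hom a) he
    refine (Function.Bijective.of_comp_iff _ eA.toLinearEquiv.bijective).1 ?_
    exact (funext h : _ ∘ _ = _) ▸ eB.toLinearEquiv.bijective.comp hf
  obtain ⟨hk, hc, h1⟩ := hsmall f hA hB hf
  obtain ⟨hk', hc', h2⟩ := hsmall f' hA' hB' hf'
  have key : ∀ {M N : X.Modules}, Cyc.CohLe δ (δ (genericPoint X) - 1) M → Cyc.CohLe δ (δ (genericPoint X) - 1) N →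
      (∀ x : X, δ (genericPoint X) - 1 ≤ δ x →
        Module.length (X.presheaf.stalk x) (M.presheaf.stalk x) =
          Module.length (X.presheaf.stalk x) (N.presheaf.stalk x)) →
      c δ (δ (genericPoint X)) M - c δ (δ (genericPoint X)) N ∈
        Fil δ (δ (genericPoint X)) (δ (genericPoint X) - 2) := fun {M N} hM hN hl => by
    rw [show δ (genericPoint X) - 2 = δ (genericPoint X) - 1 - 1 by ring]
    refine tK_eq_iff.1 ?_
    rw [← hQ M hM, ← hQ N hN, tK_eq_of_sheafFun hd hM hN (funext fun x => ?_)]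
    simp only [Cyc.sheafFun]
    split_ifs with hx
    · rw [hl x hx.ge]
    · rfl
  rw [h1, h2, sub_sub_sub_comm]
  exact sub_mem (key hc' hc fun x hx => (hlen x hx).2) (key hk' hk fun x hx => (hlen x hx).1)

include hd hN in
/-- Additivity modulo dimension `n - 2`. -/
theorem add_mem_two {F G N : X.Modules} (hF : RefHull.IsRef1 F) (hG : RefHull.IsRef1 G)
    (hN' : PicF.IsInvertible N) (s : Coh.structureModule X ⟶ tm F N)
    (hs : Function.Bijective (H23.LocFinCoprod.stk s (genericPoint X))) :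
    c δ (δ (genericPoint X)) (RefPow.refTensor F G) + c δ (δ (genericPoint X)) (Coh.structureModule X) -
        c δ (δ (genericPoint X)) F - c δ (δ (genericPoint X)) G ∈
      Fil δ (δ (genericPoint X)) (δ (genericPoint X) - 2) := by
  have hFf := RefX.hasFrames_of_isRef1 hN hF
  have hGf := RefX.hasFrames_of_isRef1 hN hG
  have hTf := RefX.hasFrames_tensor hFf hGf
  have hT : Coh.IsCoh (tm F G) := RefX.isCoh_tensor hF.1 hG.1
  have hR : Coh.IsCoh (RefPow.refTensor F G) :=
    (RefX.isRef1_dual (RefX.isRef1_dual hT hTf).1 (RefX.hasFrames_dual hT hTf)).1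
  have hOc : Coh.IsCoh (Coh.structureModule X) := isCoh_invertible H23.InvStalk.isInvertible_structureModule
  have hFN : Coh.IsCoh (tm F N) := RefX.isCoh_tensor hF.1 (isCoh_invertible hN')
  have h1 := tK_eq_iff.1 (tK_refTensor hd hN hF hG hT hR)
  have h2 := tensor_hom_sub_mem hd s hOc hFN hG.1 hGf hs
  have h3 := sub_twist_mem_two hd (sub_mem_one hd hN hF) hF.1 hN'
  have h4 := sub_twist_mem_two hd (sub_mem_one_of_frames hd hT hTf) hT hN'
  have e1 : c δ (δ (genericPoint X)) (tm (tm F N) G) = c δ (δ (genericPoint X)) (tm (tm F G) N) :=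
    c_iso (assoc _ _ _ ≪≫ congrTm (Iso.refl F) (comm _ _) ≪≫ (assoc _ _ _).symm)
      (cohLe_gen hd (RefX.isCoh_tensor hFN hG.1)) (cohLe_gen hd (RefX.isCoh_tensor hT (isCoh_invertible hN')))
  have e2 : c δ (δ (genericPoint X)) (tm (Coh.structureModule X) G) = c δ (δ (genericPoint X)) G :=
    c_iso (comm _ _ ≪≫ KFlatLib.tensorUnitIso G) (cohLe_gen hd (RefX.isCoh_tensor hOc hG.1)) (cohLe_gen hd hG.1)
  rw [e1, e2] at h2
  have h := add_mem (sub_mem (sub_mem h2 h4) h1) h3
  convert h using 1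
  abel

end Ref

end Groth.Agent.H28.RefChK
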