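import Groth.Agent.H28.RefChK
import Groth.Agent.AmpleVan.Pull
import Groth.Agent.AmpleX.Generated
import Groth.Agent.AmpleX.Separated
import Groth.Agent.H23.PicMul
import Groth.Agent.H23.PicInv

/-!
# The rows about `c₁(L₁) ⋯ c₁(L_{n-1}) [O_D]`
-/

set_option autoImplicit false
set_option linter.style.haveILetI false
set_option linter.unusedSectionVars false
set_option backward.isDefEq.respectTransparency false
set_option backward.isDefEq.respectTransparency.types false

universe u

open CategoryTheory CategoryTheory.Limits AlgebraicGeometry TopologicalSpace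

noncomputable section

namespace Groth.Agent.H28.RefChKRows

open Groth.Agent Groth.Agent.H28.RefChK Groth.Agent.H23.CycleClassK Groth.Agent.H23.K0TensorInv

variable {X : Scheme.{u}} [IsIntegral X] [IsLocallyNoetherian X] {δ : X → ℤ} {n : ℤ}

theorem invertible_inv {L M : X.Modules} (hL : PicF.IsInvertible L)
    (h : Nonempty (tm L M ≅ Coh.structureModule X)) : PicF.IsInvertible M := by
  obtain ⟨D, hD, ⟨e⟩⟩ := H23.PicInv.exists_inverse hL
  obtain ⟨e'⟩ := h
  refine H23.PicMul.isInvertible_of_iso (?_ : D ≅ M) hD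
  exact (comm _ _ ≪≫ KFlatLib.tensorUnitIso D).symm ≪≫ congrTm e'.symm (Iso.refl D) ≪≫
    assoc _ _ _ ≪≫ congrTm (Iso.refl L) (comm M D) ≪≫ (assoc _ _ _).symm ≪≫ congrTm e (Iso.refl M) ≪≫
    comm _ _ ≪≫ KFlatLib.tensorUnitIso M

theorem exists_section (hd : Cyc.IsDimFun X δ) (hN : Pi1.IsNormalScheme X) [CompactSpace X] {L : X.Modules}
    (hL : CohB1.IsAmple L) {F : X.Modules} (hF : RefHull.IsRef1 F) :
    ∃ (N : X.Modules) (_ : PicF.IsInvertible N) (s : Coh.structureModule X ⟶ tm F N),
      Function.Bijective (H23.LocFinCoprod.stk s (genericPoint X)) := by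
  haveI : X.IsSeparated := AmpleX.isSeparated_of_isAmple hL
  obtain ⟨m, hm⟩ := AmpleX.eventually_generated hL hF.1.1 hF.1.2
  obtain ⟨G, iso, ι, s, hs⟩ := hm m le_rfl
  have hNi : PicF.IsInvertible (CohB1.tensorPow L m) := InvX.isInvertible_tensorPow hL.1 _
  obtain ⟨U, hU, e, he⟩ := RefX.hasFrames_tensor (RefX.hasFrames_of_isRef1 hN hF) (RefX.hasFrames_of_invertible hNi)
    (genericPoint X) (coheight_le_one hd (by omega))
  refine ⟨_, hNi, ?_⟩
  let T := tm F (CohB1.tensorPow L m)
  let η := genericPoint X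
  have hgen : Submodule.span (X.presheaf.stalk η)
      (Set.range fun i => H23.LocFinCoprod.stk iso.hom η (G.presheaf.germ ⊤ η trivial (s i))) = ⊤ := by
    have h := congrArg (Submodule.map (H23.LocFinCoprod.stk iso.hom η)) (hs η)
    rw [Submodule.map_span, Submodule.map_top, ← Set.range_comp] at h
    rw [show (Set.range fun i => H23.LocFinCoprod.stk iso.hom η (G.presheaf.germ ⊤ η trivial (s i))) = _ from rfl]
    refine h.trans (LinearMap.range_eq_top.2 ?_)
    exact (((DerSch.stalkFunctor X η).mapIso iso).toLinearEquiv).surjective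
  have hb := he.germ_bijective hU
  have : ∃ i, H23.LocFinCoprod.stk iso.hom η (G.presheaf.germ ⊤ η trivial (s i)) ≠ 0 := by
    by_contra hc
    simp only [not_exists, not_not] at hc
    have : (Set.range fun i => H23.LocFinCoprod.stk iso.hom η (G.presheaf.germ ⊤ η trivial (s i))) ⊆ {0} := by
      rintro _ ⟨i, rfl⟩
      exact hc i
    have hbot : (⊤ : Submodule (X.presheaf.stalk η) (T.presheaf.stalk η)) = ⊥ :=
      hgen ▸ eq_bot_iff.2 ((Submodule.span_mono this).trans (Submodule.span_zero_singleton _).le)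
    have h1 : T.presheaf.germ U η hU e = 0 := (Submodule.mem_bot _).1 (hbot ▸ Submodule.mem_top)
    exact RefX.germ_frame_ne_zero he hU h1
  obtain ⟨i, hi⟩ := this
  refine ⟨InvX.ofSect (s i) ≫ iso.hom, ?_⟩
  let v := H23.LocFinCoprod.stk iso.hom η (G.presheaf.germ ⊤ η trivial (s i))
  obtain ⟨a, ha⟩ := hb.2 v
  have ha0 : (show X.functionField from a) ≠ 0 := fun h => hi (by
    show v = 0
    rw [← ha]
    show (a : X.presheaf.stalk η) • _ = 0
    rw [show a = 0 from h, zero_smul])
  have hau : IsUnit (show X.presheaf.stalk η from a) := isUnit_iff_ne_zero.2 ha0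
  let one' : (Coh.structureModule X).presheaf.stalk η :=
    (Coh.structureModule X).presheaf.germ ⊤ η trivial (1 : Γ(X, ⊤))
  have hv : H23.LocFinCoprod.stk (InvX.ofSect (s i) ≫ iso.hom) η one' = v := by
    rw [H23.LocFinCoprod.stk_comp]
    refine congrArg (H23.LocFinCoprod.stk iso.hom η) ?_
    refine (DerSch.stalkFunctor_map_germ η (InvX.ofSect (s i)) ⊤ trivial _).trans ?_
    exact congrArg (G.presheaf.germ ⊤ η trivial) (InvX.one_ofSect (s i))
  have hone : InvX.IsFrame (show Γ(Coh.structureModule X, ⊤) from (1 : Γ(X, ⊤))) :=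
    InvX.isFrame_one ⊤
  have hO := hone.germ_bijective (x := η) trivial
  refine (Function.Bijective.of_comp_iff _ hO).1 ?_
  have e1 : (fun c => H23.LocFinCoprod.stk (InvX.ofSect (s i) ≫ iso.hom) η (c • one')) =
      fun c => (c * a) • T.presheaf.germ U η hU e := funext fun c => by
    rw [map_smul, hv, mul_smul]
    exact congrArg (c • ·) ha.symm
  show Function.Bijective (fun c => H23.LocFinCoprod.stk (InvX.ofSect (s i) ≫ iso.hom) η (c • one'))
  rw [e1]
  exact hb.comp (Units.mulRight_bijective (IsUnit.unit hau))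

theorem mem_two (hd : Cyc.IsDimFun X δ) (hN : Pi1.IsNormalScheme X) {L : X.Modules} (hL : CohB1.IsAmple L)
    (hn : δ (genericPoint X) = n) {F G : X.Modules} (hF : RefHull.IsRef1 F) (hG : RefHull.IsRef1 G) :
    Coh.IsCoh (RefPow.refTensor F G) ∧
      c δ n (RefPow.refTensor F G) + c δ n (Coh.structureModule X) - c δ n F - c δ n G ∈ Fil δ n (n - 2) := by
  subst hn
  haveI : CompactSpace X := hL.2.1
  have hFf := RefX.hasFrames_of_isRef1 hN hF
  have hGf := RefX.hasFrames_of_isRef1 hN hG
  have hTf := RefX.hasFrames_tensor hFf hGf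
  have hT : Coh.IsCoh (tm F G) := RefX.isCoh_tensor hF.1 hG.1
  have hR : Coh.IsCoh (RefPow.refTensor F G) :=
    (RefX.isRef1_dual (RefX.isRef1_dual hT hTf).1 (RefX.hasFrames_dual hT hTf)).1
  obtain ⟨N, hNi, s, hs⟩ := exists_section hd hN hL hF
  exact ⟨hR, add_mem_two hd hN hF hG hNi s hs⟩

theorem fil_neg (hnn : ∀ x : X, 0 ≤ δ x) {k : ℤ} (hk : k < 0) : Fil δ n k = ⊥ := by
  refine AddSubgroup.closure_eq_bot_iff.2 ?_
  rintro _ ⟨F, hF, rfl⟩
  refine KZ.clSub_isZero _ (KFlatLib.isZero_of_stalk F fun x => ?_)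
  haveI : Subsingleton (F.presheaf.stalk x) := not_nontrivial_iff_subsingleton.1 fun h => ?_
  · haveI : Subsingleton ↥((DerSch.stalkFunctor X x).obj F) := this
    exact ModuleCat.isZero_of_subsingleton _
  have h1 := hF.2 x h
  have h2 := hnn x
  omega

theorem cohLe_O (hd : Cyc.IsDimFun X δ) (hn : δ (genericPoint X) = n) : Cyc.CohLe δ n (Coh.structureModule X) :=
  hn ▸ cohLe_gen hd (isCoh_invertible H23.InvStalk.isInvertible_structureModule)

end Groth.Agent.H28.RefChKRows
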