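import Groth.Agent.Lib.IntAlt
import Groth.Agent.H28.RefChKRows
import Groth.Agent.Lib.SnapLead
import Groth.Agent.PnCoh.Chow.Proper
import Mathlib

/-!
Limits of intersection numbers of reflexive powers are additive in a line bundle.
-/

set_option autoImplicit false
set_option linter.style.haveILetI false
set_option linter.unusedSectionVars false
set_option backward.isDefEq.respectTransparency false
set_option backward.isDefEq.respectTransparency.types false
set_option maxHeartbeats 1000000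

universe u

open CategoryTheory CategoryTheory.Limits AlgebraicGeometry TopologicalSpace Filter

noncomputable section

namespace Groth.Agent.H28.RefChLim

open Groth.Agent Groth.Agent.H28.RefChK Groth.Agent.H28.RefChKRows

section

variable {X : Scheme.{u}} [IsIntegral X] [IsLocallyNoetherian X] {δ : X → ℤ} {n : ℤ}

theorem isRef1_refPow (hN : Pi1.IsNormalScheme X) {F : X.Modules} (hF : RefHull.IsRef1 F) :
    ∀ m : ℕ, RefHull.IsRef1 (RefPow.refPow F (m + 1))
  | 0 => hF
  | m + 1 => by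
    have h := isRef1_refPow hN hF m
    have hTf := RefX.hasFrames_tensor (RefX.hasFrames_of_isRef1 hN h) (RefX.hasFrames_of_isRef1 hN hF)
    have hT := RefX.isCoh_tensor h.1 hF.1
    exact RefX.isRef1_dual (RefX.isRef1_dual hT hTf).1 (RefX.hasFrames_dual hT hTf)

/-- Reflexive powers are linear in `K₀` modulo dimension `n - 2`. -/
theorem refPow_mem (hd : Cyc.IsDimFun X δ) (hN : Pi1.IsNormalScheme X) {A : X.Modules} (hA : CohB1.IsAmple A)
    (hn : δ (genericPoint X) = n) {F : X.Modules} (hF : RefHull.IsRef1 F) :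
    ∀ m : ℕ, c δ n (RefPow.refPow F (m + 1)) - c δ n (Coh.structureModule X) -
      (m + 1) • (c δ n F - c δ n (Coh.structureModule X)) ∈ Fil δ n (n - 2)
  | 0 => by
    show c δ n F - c δ n (Coh.structureModule X) - (0 + 1) • _ ∈ _
    rw [zero_add, one_smul, sub_self]
    exact zero_mem _
  | m + 1 => by
    have ih := refPow_mem hd hN hA hn hF m
    obtain ⟨-, h⟩ := mem_two hd hN hA hn (isRef1_refPow hN hF m) hF
    have := add_mem ih h
    convert this using 1
    show c δ n (RefPow.refTensor (RefPow.refPow F (m + 1)) F) - _ - (m + 1 + 1) • _ = _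
    rw [succ_nsmul (c δ n F - c δ n (Coh.structureModule X)) (m + 1)]
    abel

end

section

variable (k : Type u) [Field k] {X : Scheme.{u}} [X.Over (Spec (CommRingCat.of k))]
  [IsProper (X ↘ Spec (CommRingCat.of k))] [IsIntegral X]

open H23.IntNumCycle

theorem alt_cons_tensor {r : ℕ} (M : Fin r → X.Modules) (A B F : X.Modules) :
    alt k (r + 1) (Fin.cons (CohB1.tensorMod A B) M) F =
      alt k (r + 1) (Fin.cons A M) F + alt k (r + 1) (Fin.cons B M) F -
        alt k (r + 2) (Fin.cons A (Fin.cons B M)) F := by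
  have e : H23.IntNumCycle.alt k r M (CohB1.tensorMod (CohB1.tensorMod F A) B) =
      H23.IntNumCycle.alt k r M (CohB1.tensorMod F (CohB1.tensorMod A B)) := alt_congr k r M (AmpleVan.assocT F A B)
  have h1 : ∀ (N G : X.Modules), H23.IntNumCycle.alt k (r + 1) (Fin.cons N M) G =
      H23.IntNumCycle.alt k r M G - H23.IntNumCycle.alt k r M (CohB1.tensorMod G N) := fun N G => rfl
  have h2 : H23.IntNumCycle.alt k (r + 2) (Fin.cons A (Fin.cons B M)) F =
      H23.IntNumCycle.alt k (r + 1) (Fin.cons B M) F -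
        H23.IntNumCycle.alt k (r + 1) (Fin.cons B M) (CohB1.tensorMod F A) := rfl
  rw [h2, h1, h1, h1, h1, e]
  ring

theorem delta_generic {n : ℕ} (h : topologicalKrullDim X = n) :
    SnapLead.δ k (genericPoint X) = (n : ℤ) := by
  have h1 := SnapLead.dim_closure k (genericPoint X)
  rw [show closure ({genericPoint X} : Set X) = Set.univ from genericPoint_spec X] at h1
  have h2 : topologicalKrullDim ↥(Set.univ : Set X) = topologicalKrullDim X :=
    IsHomeomorph.topologicalKrullDim_eq _ (Homeomorph.Set.univ X).isHomeomorph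
  rw [h2, h] at h1
  show ((FibDim.rd (X ↘ Spec (CommRingCat.of k)) (genericPoint X) : ℕ) : ℤ) = _
  congr 1
  exact_mod_cast h1.symm

/-- `c = a + b`. -/
theorem additive (hN : Pi1.IsNormalScheme X) (hA : ∃ A : X.Modules, CohB1.IsAmple A) {s : ℕ}
    (hdim : topologicalKrullDim X = (s + 3 : ℕ)) {M : Fin s → X.Modules} (hM : ∀ i, PicF.IsInvertible (M i))
    {A' B' : X.Modules} (hA' : PicF.IsInvertible A') (hB' : PicF.IsInvertible B') {ℒ : X.Modules}
    (hℒ : RefHull.IsRef1 ℒ) (a b c : ℝ)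
    (ha : Tendsto (fun m : ℕ => (2 : ℝ) * (FGA.intNum k X (s + 3) (Fin.cons A' M) (RefPow.refPow ℒ m) : ℝ) / ((m : ℝ) ^ 2)) atTop (nhds a))
    (hb : Tendsto (fun m : ℕ => (2 : ℝ) * (FGA.intNum k X (s + 3) (Fin.cons B' M) (RefPow.refPow ℒ m) : ℝ) / ((m : ℝ) ^ 2)) atTop (nhds b))
    (hc : Tendsto (fun m : ℕ => (2 : ℝ) * (FGA.intNum k X (s + 3) (Fin.cons (CohB1.tensorMod A' B') M) (RefPow.refPow ℒ m) : ℝ) / ((m : ℝ) ^ 2)) atTop (nhds c)) :
    c = a + b := by
  haveI := CurveCohLib.isNoetherian_of_proper (k := k) (X := X)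
  obtain ⟨L, hL⟩ := hA
  have hd := SnapLead.isDimFun k (X := X)
  have hn : SnapLead.δ k (genericPoint X) = ((s + 3 : ℕ) : ℤ) := delta_generic k hdim
  have hT : ∀ {r : ℕ} {N : X.Modules} {P : Fin r → X.Modules}, PicF.IsInvertible N → (∀ i, PicF.IsInvertible (P i)) →
      ∀ i, PicF.IsInvertible ((Fin.cons N P : Fin (r + 1) → X.Modules) i) := by
    intro r N P hN hP i
    refine Fin.cases ?_ (fun j => ?_) i
    · simpa using hN
    · simpa using hP j
  have hAB := InvX.isInvertible_tensorMod hA' hB'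
  let M2 : Fin (s + 2) → X.Modules := Fin.cons A' (Fin.cons B' M)
  have hM2 : ∀ i, PicF.IsInvertible (M2 i) := hT hA' (hT hB' hM)
  let δ := SnapLead.δ k (X := X)
  obtain ⟨g, hg⟩ := KZ.exists_liftSub (Cyc.CohLe δ ((s + 3 : ℕ) : ℤ)) (alt k (s + 2) M2)
    (fun S hS a b c => alt_add k (s + 2) M2 hM2 hS a.1 b.1 c.1)
  have hlow : ∀ x ∈ Fil δ ((s + 3 : ℕ) : ℤ) (((s + 3 : ℕ) : ℤ) - 2), g x = 0 := by
    intro x hx
    induction hx using AddSubgroup.closure_induction with
    | mem y hy =>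
      obtain ⟨F, hF, rfl⟩ := hy
      have hF' : Cyc.CohLe δ ((s + 3 : ℕ) : ℤ) F := IntAlt.cohLe_mono k (by omega) hF
      rw [hg F hF']
      refine IntAlt.alt_eq_zero k hM2 ?_
      have e : ((s + 2 : ℕ) : ℤ) - 1 = ((s + 3 : ℕ) : ℤ) - 2 := by push_cast; ring
      rw [e]
      exact hF
    | zero => exact map_zero g
    | add x y _ _ hx hy => rw [map_add, hx, hy, add_zero]
    | neg x _ hx => rw [map_neg, hx, neg_zero]
  have hO : Cyc.CohLe δ ((s + 3 : ℕ) : ℤ) (Coh.structureModule X) := cohLe_O hd hn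
  have hle : ∀ {F : X.Modules}, Coh.IsCoh F → Cyc.CohLe δ ((s + 3 : ℕ) : ℤ) F := fun hF => hn ▸ cohLe_gen hd hF
  let u₀ : ℤ := alt k (s + 2) M2 (Coh.structureModule X)
  let u₁ : ℤ := alt k (s + 2) M2 ℒ - alt k (s + 2) M2 (Coh.structureModule X)
  have hlin : ∀ m : ℕ, alt k (s + 2) M2 (RefPow.refPow ℒ (m + 1)) = u₀ + (m + 1 : ℕ) * u₁ := by
    intro m
    have h := hlow _ (refPow_mem hd hN hL hn hℒ m)
    rw [map_sub, map_sub, map_nsmul, map_sub, hg _ (hle (isRef1_refPow hN hℒ m).1), hg _ hO, hg _ (hle hℒ.1),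
      nsmul_eq_mul, sub_eq_zero, sub_eq_iff_eq_add'] at h
    exact h
  have key : ∀ m : ℕ, 1 ≤ m →
      (FGA.intNum k X (s + 3) (Fin.cons (CohB1.tensorMod A' B') M) (RefPow.refPow ℒ m) : ℝ) =
        (FGA.intNum k X (s + 3) (Fin.cons A' M) (RefPow.refPow ℒ m) : ℝ) +
        (FGA.intNum k X (s + 3) (Fin.cons B' M) (RefPow.refPow ℒ m) : ℝ) - ((u₀ : ℝ) + (m : ℝ) * (u₁ : ℝ)) := by
    intro m hm
    obtain ⟨m, rfl⟩ : ∃ m', m = m' + 1 := ⟨m - 1, by omega⟩
    have hP : Coh.IsCoh (RefPow.refPow ℒ (m + 1)) := (isRef1_refPow hN hℒ m).1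
    rw [IntAlt.intNum_eq_alt k hdim.le (hT hAB hM) hP, IntAlt.intNum_eq_alt k hdim.le (hT hA' hM) hP,
      IntAlt.intNum_eq_alt k hdim.le (hT hB' hM) hP, alt_cons_tensor, hlin m]
    push_cast
    ring
  have h0 : Tendsto (fun m : ℕ => (2 : ℝ) * ((u₀ : ℝ) + (m : ℝ) * (u₁ : ℝ)) / ((m : ℝ) ^ 2)) atTop (nhds 0) := by
    have h1 := tendsto_one_div_atTop_nhds_zero_nat (𝕜 := ℝ)
    have h2 : Tendsto (fun m : ℕ => (2 * (u₀ : ℝ)) * ((1 / (m : ℝ)) * (1 / (m : ℝ))) + (2 * (u₁ : ℝ)) * (1 / (m : ℝ)))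
        atTop (nhds 0) := by
      simpa using ((h1.mul h1).const_mul (2 * (u₀ : ℝ))).add (h1.const_mul (2 * (u₁ : ℝ)))
    refine h2.congr fun m => ?_
    rcases Nat.eq_zero_or_pos m with rfl | hm
    · simp
    · field_simp
  have h3 := (ha.add hb).sub h0
  rw [sub_zero] at h3
  refine tendsto_nhds_unique hc (h3.congr' ?_)
  filter_upwards [eventually_ge_atTop 1] with m hm
  rw [key m hm]
  ring

end

end Groth.Agent.H28.RefChLim
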