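import Groth.Agent.H28.RefChLim
import Groth.Agent.H23.PrincipalAt
import Groth.Agent.RefX.PowSec

/-!
The pairing of a reflexive module of rank one with an invertible module.
-/

set_option autoImplicit false
set_option linter.style.haveILetI false
set_option linter.unusedSectionVars false
set_option backward.isDefEq.respectTransparency false
set_option backward.isDefEq.respectTransparency.types false
set_option maxHeartbeats 1000000

universe u

open CategoryTheory CategoryTheory.Limits AlgebraicGeometry TopologicalSpace Filter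

noncomputable section

namespace Groth.Agent.H28.RefChPair

open Groth.Agent Groth.Agent.H28.RefChK Groth.Agent.H28.RefChKRows Groth.Agent.H23.K0TensorInv

section

variable {X : Scheme.{u}} [IsIntegral X] [IsLocallyNoetherian X] {F L : X.Modules} {D E : X → ℤ}

/-- Tensoring a reflexive module with an invertible one needs no hull. -/
theorem nonempty_tm_iso (hF : RefHull.IsRef1 F) (hL : PicF.IsInvertible L) :
    Nonempty (tm F L ≅ RefPow.refTensor F L) := by
  have hT : Coh.IsCoh (tm F L) := RefX.isCoh_tensor hF.1 (isCoh_invertible hL)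
  haveI : IsIso (RefHull.bidualMap (tm F L)) := (RefX.isReflexive_iff hT).2 fun x => by
    obtain ⟨U, hx, e, he⟩ := InvX.exists_frame hL x
    haveI : Module.IsReflexive (X.presheaf.stalk x) (F.presheaf.stalk x) := (RefX.isReflexive_iff hF.1).1 hF.2.1 x
    exact Module.equiv (LinearEquiv.ofBijective _ (sig_bijective L F (H23.RatSec.isGen_germ he x hx)))
  exact ⟨asIso (RefHull.bidualMap (tm F L))⟩

theorem isDivOf_tensor (hF : RefX.HasFrames F) (hG : RefX.HasFrames L) (hD : RefX.IsDivOf F D)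
    (hE : RefX.IsDivOf L E) : RefX.IsDivOf (tm F L) (D + E) := by
  obtain ⟨v, hv, hv'⟩ := hD
  obtain ⟨w, hw, hw'⟩ := hE
  obtain ⟨t, ht, ht'⟩ := RefX.exists_tensor_section hF hG hv hw
  exact ⟨t, ht, fun x hx => by rw [ht' x hx, hv' x hx, hw' x hx]; rfl⟩

theorem isDivOf_refPow (hN : Pi1.IsNormalScheme X) (hF : RefHull.IsRef1 F) (hD : RefX.IsDivOf F D) :
    ∀ m : ℕ, RefX.IsDivOf (RefPow.refPow F m) (m • D)
  | 0 => by rw [zero_smul]; exact RefX.isDivOf_unit
  | 1 => by rw [one_smul]; exact hD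
  | m + 2 => by
    rw [succ_nsmul D (m + 1)]
    exact (RefX.IsDivOf.tensor hN (RefX.isRef1_refPow hN hF (m + 1)) hF (isDivOf_refPow hN hF hD (m + 1)) hD).2

theorem isDivOf_tensorPow (hL : PicF.IsInvertible L) (hE : RefX.IsDivOf L E) :
    ∀ m : ℕ, RefX.IsDivOf (CohB1.tensorPow L m) (m • E)
  | 0 => by rw [zero_smul]; exact RefX.isDivOf_unit
  | m + 1 => by
    rw [succ_nsmul E m]
    exact isDivOf_tensor (RefX.hasFrames_of_invertible (InvX.isInvertible_tensorPow hL m))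
      (RefX.hasFrames_of_invertible hL) (isDivOf_tensorPow hL hE m) hE

theorem iso_of_isDivOf (hN : Pi1.IsNormalScheme X) {A B : X.Modules} (hA : RefHull.IsRef1 A) (hB : RefHull.IsRef1 B)
    (hAD : RefX.IsDivOf A D) (hBD : RefX.IsDivOf B D) : Nonempty (A ≅ B) :=
  H23.PicMul.cl_eq_iff.1 (RefX.cl_eq_of_isDivOf hN hA hB hAD hBD)

theorem refPow_twist (hN : Pi1.IsNormalScheme X) (hF : RefHull.IsRef1 F) (hL : PicF.IsInvertible L) (m : ℕ) :
    Nonempty (RefPow.refPow (RefPow.refTensor F L) m ≅ tm (RefPow.refPow F m) (CohB1.tensorPow L m)) := by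
  have hLr := H23.PrincipalAt.isRef1_of_invertible hL
  obtain ⟨D, hD⟩ := RefX.exists_isDivOf (RefX.hasFrames_of_isRef1 hN hF)
  obtain ⟨E, hE⟩ := RefX.exists_isDivOf (RefX.hasFrames_of_isRef1 hN hLr)
  obtain ⟨hT, hTD⟩ := RefX.IsDivOf.tensor hN hF hLr hD hE
  have hP := InvX.isInvertible_tensorPow hL m
  obtain ⟨hR, hRD⟩ := RefX.IsDivOf.tensor hN (RefX.isRef1_refPow hN hF m) (H23.PrincipalAt.isRef1_of_invertible hP)
    (isDivOf_refPow hN hF hD m) (isDivOf_tensorPow hL hE m)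
  obtain ⟨e⟩ := nonempty_tm_iso (RefX.isRef1_refPow hN hF m) hP
  obtain ⟨e'⟩ := iso_of_isDivOf hN (RefX.isRef1_refPow hN hT m) hR (isDivOf_refPow hN hT hTD m)
    (by rw [smul_add]; exact hRD)
  exact ⟨e' ≪≫ e.symm⟩

theorem refPow_invertible (hN : Pi1.IsNormalScheme X) (hL : PicF.IsInvertible L) (m : ℕ) :
    Nonempty (RefPow.refPow L m ≅ CohB1.tensorPow L m) := by
  have hLr := H23.PrincipalAt.isRef1_of_invertible hL
  obtain ⟨E, hE⟩ := RefX.exists_isDivOf (RefX.hasFrames_of_isRef1 hN hLr)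
  exact iso_of_isDivOf hN (RefX.isRef1_refPow hN hLr m)
    (H23.PrincipalAt.isRef1_of_invertible (InvX.isInvertible_tensorPow hL m))
    (isDivOf_refPow hN hLr hE m) (isDivOf_tensorPow hL hE m)

theorem refTensor_dual (hN : Pi1.IsNormalScheme X) (hF : RefHull.IsRef1 F) :
    RefHull.IsRef1 (RefHull.dual F) ∧ Nonempty (RefPow.refTensor F (RefHull.dual F) ≅ Coh.structureModule X) := by
  obtain ⟨D, hD⟩ := RefX.exists_isDivOf (RefX.hasFrames_of_isRef1 hN hF)
  obtain ⟨hd, hdD⟩ := RefX.IsDivOf.dual hN hF hD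
  obtain ⟨hT, hTD⟩ := RefX.IsDivOf.tensor hN hF hd hD hdD
  refine ⟨hd, iso_of_isDivOf hN hT RefX.isRef1_unit hTD ?_⟩
  rw [add_neg_cancel]
  exact RefX.isDivOf_unit

end

section

variable (k : Type u) [Field k] {X : Scheme.{u}} [X.Over (Spec (CommRingCat.of k))]
  [IsProper (X ↘ Spec (CommRingCat.of k))] [IsIntegral X]

open H23.IntNumCycle

theorem invertible_cons {r : ℕ} {N : X.Modules} {P : Fin r → X.Modules} (hN : PicF.IsInvertible N)
    (hP : ∀ i, PicF.IsInvertible (P i)) : ∀ i, PicF.IsInvertible ((Fin.cons N P : Fin (r + 1) → X.Modules) i) := by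
  intro i
  refine Fin.cases ?_ (fun j => ?_) i
  · simpa using hN
  · simpa using hP j

theorem exists_lift {d r : ℕ} (hrd : r ≤ d) {N : Fin r → X.Modules} (hN : ∀ i, PicF.IsInvertible (N i)) :
    ∃ g : KZero.K0sub (Cyc.CohLe (SnapLead.δ k (X := X)) (d : ℤ)) →+ ℤ,
      (∀ F, Cyc.CohLe (SnapLead.δ k) (d : ℤ) F → g (c (SnapLead.δ k) (d : ℤ) F) = alt k r N F) ∧
      ∀ x ∈ Fil (SnapLead.δ k (X := X)) (d : ℤ) ((r : ℤ) - 1), g x = 0 := by
  haveI := CurveCohLib.isNoetherian_of_proper (k := k) (X := X)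
  obtain ⟨g, hg⟩ := KZ.exists_liftSub (Cyc.CohLe (SnapLead.δ k (X := X)) (d : ℤ)) (alt k r N)
    (fun S hS a b c => alt_add k r N hN hS a.1 b.1 c.1)
  refine ⟨g, hg, fun x hx => ?_⟩
  induction hx using AddSubgroup.closure_induction with
  | mem y hy =>
    obtain ⟨F, hF, rfl⟩ := hy
    have hF' : Cyc.CohLe (SnapLead.δ k) (d : ℤ) F := IntAlt.cohLe_mono k (by omega) hF
    rw [hg F hF']
    exact IntAlt.alt_eq_zero k hN hF
  | zero => exact map_zero g
  | add x y _ _ hx hy => rw [map_add, hx, hy, add_zero]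
  | neg x _ hx => rw [map_neg, hx, neg_zero]

theorem alt_step {r : ℕ} (N : Fin r → X.Modules) {L L' : X.Modules} (e : tm L L' ≅ Coh.structureModule X)
    (G : X.Modules) :
    alt k (r + 1) (Fin.cons L' N) (tm G L) = alt k r N (tm G L) - alt k r N G := by
  have e' : tm (tm G L) L' ≅ G := assoc _ _ _ ≪≫ congrTm (Iso.refl G) e ≪≫ KFlatLib.tensorUnitIso G
  rw [← alt_congr k r N e']
  rfl

theorem pairing_eq (hN : Pi1.IsNormalScheme X) (hA : ∃ A : X.Modules, CohB1.IsAmple A) {s : ℕ}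
    (hdim : topologicalKrullDim X = (s + 2 : ℕ)) {M : Fin s → X.Modules} (hM : ∀ i, PicF.IsInvertible (M i))
    {F L L' : X.Modules} (hF : RefHull.IsRef1 F) (hL : PicF.IsInvertible L) (hL' : PicF.IsInvertible L')
    (e : tm L L' ≅ Coh.structureModule X) (q₁ q₂ q₁₂ : ℝ)
    (hq₁ : Tendsto (fun m : ℕ => (2 : ℝ) * (FGA.intNum k X (s + 2) M (RefPow.refPow F m) : ℝ) / ((m : ℝ) ^ 2)) atTop (nhds q₁))
    (hq₂ : Tendsto (fun m : ℕ => (2 : ℝ) * (FGA.intNum k X (s + 2) M (RefPow.refPow L m) : ℝ) / ((m : ℝ) ^ 2)) atTop (nhds q₂))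
    (hq₁₂ : Tendsto (fun m : ℕ => (2 : ℝ) * (FGA.intNum k X (s + 2) M (RefPow.refPow (RefPow.refTensor F L) m) : ℝ) / ((m : ℝ) ^ 2)) atTop (nhds q₁₂)) :
    (q₁₂ - q₁ - q₂) / 2 =
      ((FGA.intNum k X (s + 2) (Fin.cons L' M) (Coh.structureModule X) -
        FGA.intNum k X (s + 2) (Fin.cons L' M) (RefHull.dual F) : ℤ) : ℝ) := by
  haveI := CurveCohLib.isNoetherian_of_proper (k := k) (X := X)
  obtain ⟨A, hA⟩ := hA
  have hd := SnapLead.isDimFun k (X := X)
  have hn : SnapLead.δ k (genericPoint X) = ((s + 2 : ℕ) : ℤ) := RefChLim.delta_generic k hdim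
  let δ := SnapLead.δ k (X := X)
  let M1 : Fin (s + 1) → X.Modules := Fin.cons L' M
  let M2 : Fin (s + 2) → X.Modules := Fin.cons L' M1
  have hM1 : ∀ i, PicF.IsInvertible (M1 i) := invertible_cons hL' hM
  have hM2 : ∀ i, PicF.IsInvertible (M2 i) := invertible_cons hL' hM1
  have hle : ∀ {G : X.Modules}, Coh.IsCoh G → Cyc.CohLe δ ((s + 2 : ℕ) : ℤ) G := fun hG => hn ▸ cohLe_gen hd hG
  have hOr : RefHull.IsRef1 (Coh.structureModule X) := RefX.isRef1_unit
  have hO : Cyc.CohLe δ ((s + 2 : ℕ) : ℤ) (Coh.structureModule X) := hle hOr.1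
  obtain ⟨g1, hg1, hg1'⟩ := exists_lift k (show s + 1 ≤ s + 2 by omega) hM1
  obtain ⟨g2, hg2, hg2'⟩ := exists_lift k (show s + 2 ≤ s + 2 by omega) hM2
  let cc : ℤ := alt k (s + 2) M2 (Coh.structureModule X)
  let v₀ : ℤ := alt k s M (Coh.structureModule X)
  let u₀ : ℤ := alt k (s + 1) M1 (Coh.structureModule X)
  let u₁ : ℤ := alt k (s + 1) M1 (Coh.structureModule X) - alt k (s + 1) M1 (RefHull.dual F)
  have h2 : ∀ {G : X.Modules}, RefHull.IsRef1 G → alt k (s + 2) M2 G = cc := by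
    intro G hG
    have h := sub_mem_one hd hN hG
    rw [hn, show ((s + 2 : ℕ) : ℤ) - 1 = ((s + 2 : ℕ) : ℤ) - 1 from rfl] at h
    have h' := hg2' _ h
    rw [map_sub, hg2 _ hO, hg2 _ (hle hG.1), sub_eq_zero] at h'
    exact h'.symm
  have e1 : (((s + 1 : ℕ) : ℤ)) - 1 = ((s + 2 : ℕ) : ℤ) - 2 := by push_cast; ring
  rw [e1] at hg1'
  obtain ⟨hdual, ⟨ed⟩⟩ := refTensor_dual hN hF
  have hFd : alt k (s + 1) M1 F = u₀ + u₁ := by
    obtain ⟨hc, h⟩ := mem_two hd hN hA hn hF hdual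
    have h' := hg1' _ h
    rw [map_sub, map_sub, map_add, hg1 _ (hle hc), hg1 _ hO, hg1 _ (hle hF.1), hg1 _ (hle hdual.1),
      alt_congr k (s + 1) M1 ed] at h'
    simp only [u₀, u₁]
    linarith
  have h1 : ∀ m : ℕ, alt k (s + 1) M1 (RefPow.refPow F m) = u₀ + (m : ℤ) * u₁ := by
    intro m
    rcases m with _ | m
    · show alt k (s + 1) M1 (Coh.structureModule X) = u₀ + ((0 : ℕ) : ℤ) * u₁
      simp [u₀]
    have h := hg1' _ (RefChLim.refPow_mem hd hN hA hn hF m)
    rw [map_sub, map_sub, map_nsmul, map_sub, hg1 _ (hle (RefX.isRef1_refPow hN hF (m + 1)).1), hg1 _ hO,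
      hg1 _ (hle hF.1), nsmul_eq_mul, hFd, sub_eq_zero, sub_eq_iff_eq_add'] at h
    rw [h]
    simp only [u₀]
    ring
  have tw : ∀ {P : X.Modules}, RefHull.IsRef1 P → ∀ j : ℕ,
      alt k (s + 1) M1 (tm P (CohB1.tensorPow L j)) = alt k (s + 1) M1 P + (j : ℤ) * cc ∧
      2 * alt k s M (tm P (CohB1.tensorPow L j)) =
        2 * alt k s M P + 2 * (j : ℤ) * alt k (s + 1) M1 P + cc * (j : ℤ) * ((j : ℤ) + 1) := by
    intro P hP j
    induction j with
    | zero =>
      refine ⟨?_, ?_⟩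
      · show alt k (s + 1) M1 (tm P (Coh.structureModule X)) = _
        refine (alt_congr k (s + 1) M1 (KFlatLib.tensorUnitIso P)).trans ?_
        simp
      · show 2 * alt k s M (tm P (Coh.structureModule X)) = _
        refine (congrArg (2 * ·) (alt_congr k s M (KFlatLib.tensorUnitIso P))).trans ?_
        simp
    | succ j ih =>
      obtain ⟨ih1, ih0⟩ := ih
      let G := tm P (CohB1.tensorPow L j)
      have ea : tm P (CohB1.tensorPow L (j + 1)) ≅ tm G L := (assoc _ _ _).symm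
      have hP' := InvX.isInvertible_tensorPow hL (j + 1)
      obtain ⟨er⟩ := nonempty_tm_iso hP hP'
      have hPf := RefX.hasFrames_of_isRef1 hN hP
      have hRr : RefHull.IsRef1 (RefPow.refTensor P (CohB1.tensorPow L (j + 1))) :=
        RefX.isRef1_ddual (RefX.isCoh_tensor hP.1 (isCoh_invertible hP'))
          (RefX.hasFrames_tensor hPf (RefX.hasFrames_of_invertible hP'))
      have hc2 : alt k (s + 2) M2 (tm G L) = cc := by
        rw [← alt_congr k (s + 2) M2 ea, alt_congr k (s + 2) M2 er]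
        exact h2 hRr
      have s1 : cc = alt k (s + 1) M1 (tm G L) - alt k (s + 1) M1 G := hc2.symm.trans (alt_step k M1 e G)
      have s0 : alt k (s + 1) M1 (tm G L) = alt k s M (tm G L) - alt k s M G := alt_step k M e G
      rw [alt_congr k (s + 1) M1 ea, alt_congr k s M ea]
      push_cast
      constructor
      · linarith
      · linear_combination ih0 + 2 * ih1 - 2 * s0 - 2 * s1
  have key : ∀ m : ℕ, 1 ≤ m →
      2 * alt k s M (RefPow.refPow (RefPow.refTensor F L) m) - 2 * alt k s M (RefPow.refPow F m) -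
        2 * alt k s M (RefPow.refPow L m) = 2 * (m : ℤ) * (m : ℤ) * u₁ - 2 * v₀ := by
    intro m hm
    obtain ⟨e12⟩ := refPow_twist hN hF hL m
    obtain ⟨e2⟩ := refPow_invertible hN hL m
    have e2' : RefPow.refPow L m ≅ tm (Coh.structureModule X) (CohB1.tensorPow L m) :=
      e2 ≪≫ (RefChK.comm _ _ ≪≫ KFlatLib.tensorUnitIso (CohB1.tensorPow L m)).symm
    have a := (tw (RefX.isRef1_refPow hN hF m) m).2
    have b := (tw hOr m).2
    rw [alt_congr k s M e12, alt_congr k s M e2', a, b, h1 m]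
    simp only [v₀, u₀]
    ring
  have hRT : ∀ m, Coh.IsCoh (RefPow.refPow (RefPow.refTensor F L) m) := fun m =>
    (RefX.isRef1_refPow hN (RefX.isRef1_ddual (RefX.isCoh_tensor hF.1 (isCoh_invertible hL))
      (RefX.hasFrames_tensor (RefX.hasFrames_of_isRef1 hN hF) (RefX.hasFrames_of_invertible hL))) m).1
  rw [IntAlt.intNum_eq_alt k hdim.le hM1 hOr.1, IntAlt.intNum_eq_alt k hdim.le hM1 hdual.1]
  show (q₁₂ - q₁ - q₂) / 2 = ((u₁ : ℤ) : ℝ)
  have hT := (hq₁₂.sub hq₁).sub hq₂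
  have h0 : Tendsto (fun m : ℕ => 2 * (u₁ : ℝ) - 2 * (v₀ : ℝ) * ((1 / (m : ℝ)) * (1 / (m : ℝ)))) atTop
      (nhds (2 * (u₁ : ℝ))) := by
    have h1 := tendsto_one_div_atTop_nhds_zero_nat (𝕜 := ℝ)
    simpa using tendsto_const_nhds.sub ((h1.mul h1).const_mul (2 * (v₀ : ℝ)))
  have he : q₁₂ - q₁ - q₂ = 2 * (u₁ : ℝ) := by
    refine tendsto_nhds_unique hT (h0.congr' ?_)
    filter_upwards [eventually_ge_atTop 1] with m hm
    have hm' : (m : ℝ) ≠ 0 := by positivity
    rw [IntAlt.intNum_eq_alt k hdim.le hM (hRT m),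
      IntAlt.intNum_eq_alt k hdim.le hM (RefX.isRef1_refPow hN hF m).1,
      IntAlt.intNum_eq_alt k hdim.le hM (RefX.isRef1_refPow hN (H23.PrincipalAt.isRef1_of_invertible hL) m).1]
    have hk := congrArg (fun z : ℤ => (z : ℝ)) (key m hm)
    push_cast at hk
    field_simp
    linear_combination -hk / 2
  rw [he]
  ring

end

end Groth.Agent.H28.RefChPair
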