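import Mathlib.LinearAlgebra.Lagrange
import Mathlib.RingTheory.Polynomial.Vieta
import Mathlib.RingTheory.Localization.Away.Basic
import Mathlib.RingTheory.Localization.FractionRing
import Mathlib.RingTheory.MvPolynomial.Symmetric.Defs
import Mathlib.Algebra.Polynomial.Taylor

/-!
# The residue functional of `∏ (T - u_a)` and its behaviour under `u ↦ u^j`
-/

set_option autoImplicit false

universe v w

open Polynomial Finset

noncomputable section

namespace Groth.Agent.H28.Residue

variable {D : Type v} [CommRing D] {r : ℕ}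

/-- `∏ (T - u_a)`. -/
def pP (u : Fin (r + 1) → D) : D[X] := ∏ a, (X - C (u a))

theorem monic_pP (u : Fin (r + 1) → D) : (pP u).Monic :=
  monic_prod_of_monic _ _ fun _ _ => monic_X_sub_C _

/-- `g ↦` the residue of `T^r g / p`. -/
def res (u : Fin (r + 1) → D) : D[X] →ₗ[D] D :=
  ((lcoeff D r).comp (modByMonicHom (pP u))).comp (LinearMap.mulRight D (X ^ r))

theorem res_apply (u : Fin (r + 1) → D) (g : D[X]) : res u g = ((g * X ^ r) %ₘ pP u).coeff r := rfl

theorem res_of_dvd (u : Fin (r + 1) → D) {g : D[X]} (h : pP u ∣ g) : res u g = 0 := by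
  rw [res_apply, (modByMonic_eq_zero_iff_dvd (monic_pP u)).2 (dvd_mul_of_dvd_left h _), coeff_zero]

theorem res_congr (u : Fin (r + 1) → D) {g g' : D[X]} (h : pP u ∣ g - g') : res u g = res u g' :=
  sub_eq_zero.1 ((map_sub _ _ _).symm.trans (res_of_dvd u h))

section Map

variable {D' : Type w} [CommRing D'] (φ : D →+* D')

theorem map_pP (u : Fin (r + 1) → D) : (pP u).map φ = pP (fun a => φ (u a)) := by
  simp [pP, Polynomial.map_prod]

theorem map_res (u : Fin (r + 1) → D) (g : D[X]) : φ (res u g) = res (fun a => φ (u a)) (g.map φ) := by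
  rw [res_apply, res_apply, ← coeff_map, map_modByMonic _ (monic_pP u), map_pP, Polynomial.map_mul,
    Polynomial.map_pow, map_X]

end Map

/-- `p(T^j) = Φ_j(T) p(T)`. -/
def phi (j : ℕ) (u : Fin (r + 1) → D) : D[X] := ∏ a, ∑ k ∈ range j, X ^ k * C (u a) ^ (j - 1 - k)

theorem eval_phi (j : ℕ) (u : Fin (r + 1) → D) (x : D) :
    (phi j u).eval x = ∏ a, ∑ k ∈ range j, x ^ k * u a ^ (j - 1 - k) := by
  simp [phi, eval_prod, eval_finsetSum]

theorem map_phi {D' : Type w} [CommRing D'] (φ : D →+* D') (j : ℕ) (u : Fin (r + 1) → D) :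
    (phi j u).map φ = phi j fun a => φ (u a) := by
  simp [phi, Polynomial.map_prod, Polynomial.map_sum]

/-- Inverses modulo `p` of polynomials with invertible values. -/
theorem exists_inverse (u : Fin (r + 1) → D) (F : D[X]) (h : ∀ a, IsUnit (F.eval (u a))) :
    ∃ W : D[X], pP u ∣ W * F - 1 := by
  have hd : pP u ∣ ∏ a, (F - C (F.eval (u a))) := Finset.prod_dvd_prod_of_dvd _ _ fun a _ => X_sub_C_dvd_sub_C_eval
  have hq : ∀ s : Finset (Fin (r + 1)), ∃ Q : D[X],
      ∏ a ∈ s, (F - C (F.eval (u a))) = F * Q + ∏ a ∈ s, (-C (F.eval (u a))) := by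
    intro s
    induction s using Finset.induction_on with
    | empty => exact ⟨0, by simp⟩
    | @insert a s ha ih =>
      obtain ⟨Q, hQ⟩ := ih
      refine ⟨(F - C (F.eval (u a))) * Q + ∏ b ∈ s, (-C (F.eval (u b))), ?_⟩
      rw [prod_insert ha, prod_insert ha, hQ]
      ring
  obtain ⟨Q, hQ⟩ := hq Finset.univ
  have hu : IsUnit (∏ a, (-C (F.eval (u a)) : D[X])) :=
    IsUnit.prod_univ_iff.2 fun a => ((h a).map C).neg
  obtain ⟨c, hc⟩ := hu
  refine ⟨-(↑c⁻¹ * Q), ?_⟩
  have e : -(↑c⁻¹ * Q) * F - 1 = -↑c⁻¹ * ∏ a, (F - C (F.eval (u a))) := by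
    rw [hQ, ← hc, mul_add, neg_mul (↑c⁻¹ : D[X]) (↑c : D[X]), Units.inv_mul]
    ring
  rw [e]
  exact hd.mul_left _

section Field

variable {L : Type v} [Field L]

theorem res_eq_sum (u : Fin (r + 1) → L) (hu : Function.Injective u) (g : L[X]) :
    res u g = ∑ a, g.eval (u a) * u a ^ r / ∏ b ∈ Finset.univ.erase a, (u a - u b) := by
  have hdeg : ((g * X ^ r) %ₘ pP u).degree < #(Finset.univ : Finset (Fin (r + 1))) := by
    refine (degree_modByMonic_lt _ (monic_pP u)).trans_le ?_
    rw [pP, degree_prod]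
    simp
  have h := Lagrange.coeff_eq_sum (s := Finset.univ) (v := u) hu.injOn hdeg
  simp only [Finset.card_univ, Fintype.card_fin, Nat.add_sub_cancel] at h
  rw [res_apply, h]
  refine Finset.sum_congr rfl fun a _ => ?_
  have hroot : (pP u).IsRoot (u a) := by
    simp only [IsRoot.def, pP, eval_prod, eval_sub, eval_X, eval_C]
    exact Finset.prod_eq_zero (Finset.mem_univ a) (sub_self _)
  rw [modByMonic_eq_sub_mul_div _ , eval_sub, eval_mul, eval_mul, hroot, zero_mul, sub_zero, eval_pow, eval_X]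

theorem res_key_field (u : Fin (r + 1) → L) {j : ℕ} (hj : 1 ≤ j) (hjL : (j : L) ≠ 0) (_hu0 : ∀ a, u a ≠ 0)
    (hv : Function.Injective fun a => u a ^ j) (i : ℕ) {W : L[X]} (hW : pP u ∣ W * phi j u - 1) :
    res u (C (j : L) * W * X ^ (i * j + (j - 1) * (r + 1))) = res (fun a => u a ^ j) (X ^ i) := by
  have hu : Function.Injective u := fun a b h => hv (by simp [h])
  rw [res_eq_sum u hu, res_eq_sum _ hv]
  refine Finset.sum_congr rfl fun a _ => ?_
  have hroot : (pP u).eval (u a) = 0 := by
    simp only [pP, eval_prod, eval_sub, eval_X, eval_C]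
    exact Finset.prod_eq_zero (Finset.mem_univ a) (sub_self _)
  obtain ⟨Q, hQ⟩ := hW
  have h1 : W.eval (u a) * (phi j u).eval (u a) = 1 := by
    have h := congrArg (eval (u a)) hQ
    rw [eval_sub, eval_mul, eval_mul, hroot, zero_mul, eval_one, sub_eq_zero] at h
    exact h
  have hdiag : ∑ k ∈ range j, u a ^ k * u a ^ (j - 1 - k) = (j : L) * u a ^ (j - 1) := by
    rw [sum_congr rfl fun k hk => by rw [← pow_add, show k + (j - 1 - k) = j - 1 by
      have := mem_range.1 hk; omega], sum_const, card_range, nsmul_eq_mul]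
  have hphi : (phi j u).eval (u a) * ∏ b ∈ Finset.univ.erase a, (u a - u b) =
      (j : L) * u a ^ (j - 1) * ∏ b ∈ Finset.univ.erase a, (u a ^ j - u b ^ j) := by
    rw [eval_phi, ← Finset.mul_prod_erase _ _ (Finset.mem_univ a), hdiag, mul_assoc, ← prod_mul_distrib]
    exact congrArg _ (prod_congr rfl fun b _ => geom_sum₂_mul _ _ j)
  have hd : ∏ b ∈ Finset.univ.erase a, (u a - u b) ≠ 0 :=
    prod_ne_zero_iff.2 fun b hb => sub_ne_zero.2 fun h => (Finset.ne_of_mem_erase hb) (hu h).symm
  have hd' : ∏ b ∈ Finset.univ.erase a, (u a ^ j - u b ^ j) ≠ 0 :=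
    prod_ne_zero_iff.2 fun b hb => sub_ne_zero.2 fun h => (Finset.ne_of_mem_erase hb) (hv h).symm
  simp only [eval_mul, eval_C, eval_pow, eval_X]
  rw [div_eq_div_iff hd hd']
  have hpow : u a ^ (i * j + (j - 1) * (r + 1)) * u a ^ r = (u a ^ j) ^ i * (u a ^ j) ^ r * u a ^ (j - 1) := by
    rw [← pow_mul, ← pow_mul, ← pow_add, ← pow_add, ← pow_add]
    congr 1
    obtain ⟨q, rfl⟩ := Nat.exists_eq_add_of_le hj
    simp only [Nat.add_sub_cancel_left]
    ring
  calc _ = W.eval (u a) * (u a ^ (i * j + (j - 1) * (r + 1)) * u a ^ r) *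
        ((j : L) * ∏ b ∈ Finset.univ.erase a, (u a ^ j - u b ^ j)) := by ring
    _ = W.eval (u a) * ((u a ^ j) ^ i * (u a ^ j) ^ r) *
        ((j : L) * u a ^ (j - 1) * ∏ b ∈ Finset.univ.erase a, (u a ^ j - u b ^ j)) := by rw [hpow]; ring
    _ = W.eval (u a) * ((u a ^ j) ^ i * (u a ^ j) ^ r) *
        ((phi j u).eval (u a) * ∏ b ∈ Finset.univ.erase a, (u a - u b)) := by rw [hphi]
    _ = (W.eval (u a) * (phi j u).eval (u a)) *
        ((u a ^ j) ^ i * (u a ^ j) ^ r * ∏ b ∈ Finset.univ.erase a, (u a - u b)) := by ring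
    _ = _ := by rw [h1, one_mul]

end Field

section Universal

variable (r) in
/-- The product of the values of `Φ_j` at the variables. -/
def disc (j : ℕ) : MvPolynomial (Fin (r + 1)) ℤ :=
  ∏ a, (phi j fun b => (MvPolynomial.X b : MvPolynomial (Fin (r + 1)) ℤ)).eval (MvPolynomial.X a)

theorem disc_ne_zero {j : ℕ} (hj : 1 ≤ j) : disc r j ≠ 0 := by
  intro h
  have h' := congrArg (MvPolynomial.eval fun _ : Fin (r + 1) => (1 : ℤ)) h
  simp only [disc, eval_phi, map_prod, map_sum, map_mul, map_pow, MvPolynomial.eval_X, one_pow, mul_one,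
    sum_const, card_range, nsmul_eq_mul, map_zero, prod_const] at h'
  have hj0 : (j : ℤ) ≠ 0 := by omega
  exact pow_ne_zero _ (pow_ne_zero _ hj0) h'

theorem eval_pP (u : Fin (r + 1) → D) (a : Fin (r + 1)) : (pP u).eval (u a) = 0 := by
  simp only [pP, eval_prod, eval_sub, eval_X, eval_C]
  exact Finset.prod_eq_zero (Finset.mem_univ a) (sub_self _)

theorem res_key_domain {E : Type v} [CommRing E] [IsDomain E] (U : Fin (r + 1) → E) {j : ℕ} (hj : 1 ≤ j)
    (hjE : (j : E) ≠ 0) (hU0 : ∀ a, U a ≠ 0) (hv : Function.Injective fun a => U a ^ j) (i : ℕ) {W : E[X]}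
    (hW : pP U ∣ W * phi j U - 1) :
    res U (C (j : E) * W * X ^ (i * j + (j - 1) * (r + 1))) = res (fun a => U a ^ j) (X ^ i) := by
  have hψ : Function.Injective (algebraMap E (FractionRing E)) := IsFractionRing.injective E _
  apply hψ
  rw [map_res, map_res, Polynomial.map_mul, Polynomial.map_mul, Polynomial.map_pow, Polynomial.map_pow,
    map_X, map_C, map_natCast]
  simp only [map_pow]
  refine res_key_field _ hj ?_ (fun a => (map_ne_zero_iff _ hψ).2 (hU0 a)) ?_ i ?_
  · rw [← map_natCast (algebraMap E (FractionRing E))]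
    exact (map_ne_zero_iff _ hψ).2 hjE
  · intro a b hab
    refine hv (hψ ?_)
    show algebraMap E (FractionRing E) (U a ^ j) = algebraMap E (FractionRing E) (U b ^ j)
    rw [map_pow, map_pow]
    exact hab
  · obtain ⟨Q, hQ⟩ := hW
    refine ⟨Q.map (algebraMap E (FractionRing E)), ?_⟩
    have h := congrArg (Polynomial.map (algebraMap E (FractionRing E))) hQ
    rw [Polynomial.map_sub, Polynomial.map_mul, Polynomial.map_mul, Polynomial.map_one, map_phi, map_pP] at h
    exact h

theorem res_key_map {E : Type w} [CommRing E] (φ : E →+* D) (U : Fin (r + 1) → E) (u : Fin (r + 1) → D)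
    (hU : (fun a => φ (U a)) = u) (j i : ℕ) {W₀ : E[X]} (hW₀ : pP U ∣ W₀ * phi j U - 1)
    (key : res U (C (j : E) * W₀ * X ^ (i * j + (j - 1) * (r + 1))) = res (fun a => U a ^ j) (X ^ i))
    {W : D[X]} (hW : pP u ∣ W * phi j u - 1) :
    res u (C (j : D) * W * X ^ (i * j + (j - 1) * (r + 1))) = res (fun a => u a ^ j) (X ^ i) := by
  subst hU
  have h := congrArg φ key
  rw [map_res, map_res, Polynomial.map_mul, Polynomial.map_mul, Polynomial.map_pow, Polynomial.map_pow,
    map_X, map_C, map_natCast] at h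
  simp only [map_pow] at h
  rw [← h]
  refine res_congr _ ?_
  have hW' : pP (fun a => φ (U a)) ∣ W₀.map φ * phi j (fun a => φ (U a)) - 1 := by
    obtain ⟨Q, hQ⟩ := hW₀
    refine ⟨Q.map φ, ?_⟩
    have h' := congrArg (Polynomial.map φ) hQ
    rw [Polynomial.map_sub, Polynomial.map_mul, Polynomial.map_mul, Polynomial.map_one, map_phi, map_pP] at h'
    exact h'
  generalize (X : D[X]) ^ (i * j + (j - 1) * (r + 1)) = Y
  generalize hF : phi j (fun a => φ (U a)) = F at hW hW' ⊢
  have e : C (j : D) * W * Y - C (j : D) * W₀.map φ * Y =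
      C (j : D) * Y * (W₀.map φ * (W * F - 1) - W * (W₀.map φ * F - 1)) := by ring
  rw [e]
  exact dvd_mul_of_dvd_right (dvd_sub (dvd_mul_of_dvd_right hW _) (dvd_mul_of_dvd_right hW' _)) _

variable (r) in
theorem injective_algebraMap_disc {j : ℕ} (hj : 1 ≤ j) :
    Function.Injective (algebraMap (MvPolynomial (Fin (r + 1)) ℤ) (Localization.Away (disc r j))) :=
  IsLocalization.injective (Localization.Away (disc r j))
    (powers_le_nonZeroDivisors_of_noZeroDivisors (disc_ne_zero hj))

variable (r) in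
/-- The universal instance. -/
theorem res_key_universal {j : ℕ} (hj : 1 ≤ j) :
    ∃ W₀ : (Localization.Away (disc r j))[X],
      pP (fun a => algebraMap (MvPolynomial (Fin (r + 1)) ℤ) (Localization.Away (disc r j)) (MvPolynomial.X a)) ∣
          W₀ * phi j (fun a => algebraMap (MvPolynomial (Fin (r + 1)) ℤ) (Localization.Away (disc r j)) (MvPolynomial.X a)) - 1 ∧
      ∀ i, res (fun a => algebraMap (MvPolynomial (Fin (r + 1)) ℤ) (Localization.Away (disc r j)) (MvPolynomial.X a))
          (C (j : Localization.Away (disc r j)) * W₀ * X ^ (i * j + (j - 1) * (r + 1))) =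
        res (fun a => algebraMap (MvPolynomial (Fin (r + 1)) ℤ) (Localization.Away (disc r j)) (MvPolynomial.X a) ^ j) (X ^ i) := by
  have hι := injective_algebraMap_disc r hj
  have hu : IsUnit (algebraMap (MvPolynomial (Fin (r + 1)) ℤ) (Localization.Away (disc r j)) (disc r j)) :=
    IsLocalization.Away.algebraMap_isUnit (disc r j)
  have hdom : IsDomain (Localization.Away (disc r j)) := IsLocalization.isDomain_localization
    (powers_le_nonZeroDivisors_of_noZeroDivisors (disc_ne_zero hj))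
  revert hι hu hdom
  generalize algebraMap (MvPolynomial (Fin (r + 1)) ℤ) (Localization.Away (disc r j)) = ι
  intro hι hu hdom
  obtain ⟨W₀, hW₀⟩ := exists_inverse (fun a => ι (MvPolynomial.X a)) (phi j _) fun a => by
    unfold disc at hu
    erw [map_prod] at hu
    have ha := IsUnit.prod_univ_iff.1 hu a
    rw [← map_phi ι, eval_map, eval₂_at_apply]
    exact ha
  refine ⟨W₀, hW₀, fun i => res_key_domain _ hj ?_ (fun a => ?_) (fun a b hab => ?_) i hW₀⟩
  · rw [← map_natCast ι j]
    refine (map_ne_zero_iff ι hι).2 ?_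
    rw [← map_natCast (MvPolynomial.C : ℤ →+* MvPolynomial (Fin (r + 1)) ℤ) j]
    exact (map_ne_zero_iff _ (MvPolynomial.C_injective _ _)).2 (Nat.cast_ne_zero.2 (by omega))
  · exact (map_ne_zero_iff ι hι).2 (MvPolynomial.X_ne_zero a)
  · by_contra hne
    have hab' : ι (MvPolynomial.X a ^ j) = ι (MvPolynomial.X b ^ j) := by
      rw [map_pow, map_pow]
      exact hab
    have h := congrArg (MvPolynomial.eval fun c : Fin (r + 1) => if c = a then (2 : ℤ) else 1) (hι hab')
    rw [map_pow, map_pow, MvPolynomial.eval_X, MvPolynomial.eval_X, if_pos rfl, if_neg (Ne.symm hne), one_pow] at h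
    exact absurd h (one_lt_pow₀ one_lt_two (by omega)).ne'

/-- The universal identity: the residue of `j T^{ij+(j-1)(r+1)} / Φ_j` is that of `T^i` for `u^j`. -/
theorem res_key (u : Fin (r + 1) → D) {j : ℕ} (hj : 1 ≤ j) (i : ℕ) {W : D[X]}
    (hW : pP u ∣ W * phi j u - 1) :
    res u (C (j : D) * W * X ^ (i * j + (j - 1) * (r + 1))) = res (fun a => u a ^ j) (X ^ i) := by
  have hval : ∀ a, IsUnit ((phi j u).eval (u a)) := fun a => by
    obtain ⟨Q, hQ⟩ := hW
    have h := congrArg (eval (u a)) hQ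
    rw [eval_sub, eval_mul, eval_mul, eval_pP u a, zero_mul, eval_one, sub_eq_zero] at h
    exact IsUnit.of_mul_eq_one_right _ h
  have hd : IsUnit (MvPolynomial.eval₂Hom (Int.castRingHom D) u (disc r j)) := by
    simp only [disc, eval_phi, map_prod, map_sum, map_mul, map_pow, MvPolynomial.eval₂Hom_X']
    exact IsUnit.prod_univ_iff.2 fun a => eval_phi j u (u a) ▸ hval a
  obtain ⟨W₀, hW₀, key⟩ := res_key_universal r hj
  exact res_key_map (IsLocalization.Away.lift (disc r j) hd) _ u
    (funext fun a => by rw [IsLocalization.Away.lift_eq, MvPolynomial.eval₂Hom_X']) j i hW₀ (key i) hW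

end Universal

/-- The recursion of the complete symmetric functions. -/
theorem res_pow_rec (u : Fin (r + 1) → D) (s : ℕ) :
    ∑ k ∈ range (s + 1), (-1 : D) ^ k * (Finset.univ.val.map u).esymm k * res u (X ^ (s - k)) =
      if s = 0 then 1 else 0 := by
  rcases subsingleton_or_nontrivial D with hD | hD
  · exact Subsingleton.elim _ _
  have hd : (pP u).degree = ((r + 1 : ℕ) : WithBot ℕ) := by
    rw [pP, degree_prod_of_monic _ _ fun a _ => monic_X_sub_C _]; simp
  have hlow : ∀ c : ℕ, c ≤ r → ((X : D[X]) ^ c %ₘ pP u).coeff r = if c = r then 1 else 0 := fun c hc => by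
    rw [(modByMonic_eq_self_iff (monic_pP u)).2 ((degree_X_pow_le c).trans_lt (by rw [hd]; exact_mod_cast Nat.lt_succ_of_le hc)),
      coeff_X_pow]
    exact if_congr eq_comm rfl rfl
  rcases Nat.eq_zero_or_pos s with rfl | hs
  · simp [Multiset.esymm, res_apply, hlow r le_rfl]
  rw [if_neg (by omega)]
  obtain ⟨q, rfl⟩ : ∃ q, s = q + 1 := ⟨s - 1, by omega⟩
  have hexp : pP u = ∑ k ∈ range (r + 2), C ((-1 : D) ^ k * (Finset.univ.val.map u).esymm k) * X ^ (r + 1 - k) := by
    have h1 : pP u = ((Finset.univ.val.map u).map fun t => X - C t).prod := by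
      rw [pP, Multiset.map_map]
      rfl
    rw [h1, Multiset.prod_X_sub_X_eq_sum_esymm, Multiset.card_map, Finset.card_val, Finset.card_univ, Fintype.card_fin]
    exact sum_congr rfl fun k _ => by rw [C_mul, C_pow, C_neg, C_1, mul_assoc]
  have h0 : ((pP u * X ^ q) %ₘ pP u).coeff r = 0 := by
    rw [(modByMonic_eq_zero_iff_dvd (monic_pP u)).2 (dvd_mul_right _ _), coeff_zero]
  nth_rewrite 1 [hexp] at h0
  rw [sum_mul, ← modByMonicHom_apply, map_sum, finsetSum_coeff] at h0
  have hterm : ∀ k, (modByMonicHom (pP u) (C ((-1 : D) ^ k * (Finset.univ.val.map u).esymm k) * X ^ (r + 1 - k) * X ^ q)).coeff r =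
      (-1 : D) ^ k * (Finset.univ.val.map u).esymm k * ((X : D[X]) ^ (r + 1 - k + q) %ₘ pP u).coeff r := fun k => by
    rw [mul_assoc, ← pow_add, ← smul_eq_C_mul, map_smul, coeff_smul, smul_eq_mul]
    rfl
  simp only [hterm] at h0
  rcases le_or_gt (q + 1) (r + 1) with hq | hq
  · rw [← sum_subset (range_subset_range.2 (show q + 2 ≤ r + 2 by omega)) fun k hk hk' => by
      rw [mem_range] at hk hk'
      rw [hlow _ (by omega), if_neg (by omega), mul_zero]] at h0
    refine Eq.trans (sum_congr rfl fun k hk => ?_) h0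
    rw [mem_range] at hk
    rw [res_apply, ← pow_add, show q + 1 - k + r = r + 1 - k + q by omega]
  · rw [← sum_subset (range_subset_range.2 (show r + 2 ≤ q + 1 + 1 by omega)) fun k hk hk' => by
      rw [mem_range] at hk hk'
      rw [show (Finset.univ.val.map u).esymm k = 0 by
        rw [Multiset.esymm, Multiset.powersetCard_eq_empty _ (by simp; omega)]
        simp, mul_zero, zero_mul]]
    refine Eq.trans (sum_congr rfl fun k hk => ?_) h0
    rw [mem_range] at hk
    rw [res_apply, ← pow_add, show q + 1 - k + r = r + 1 - k + q by omega]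

theorem degree_X_sub_one_pow [Nontrivial D] (n : ℕ) : ((X - 1 : D[X]) ^ n).degree = (n : WithBot ℕ) := by
  rw [← C_1, degree_eq_natDegree ((monic_X_sub_C (1 : D)).pow n).ne_zero, (monic_X_sub_C (1 : D)).natDegree_pow,
    natDegree_X_sub_C, mul_one]

/-- The residue of the powers of `T - 1` for all roots `1`. -/
theorem res_one_pow (k : ℕ) :
    res (fun _ : Fin (r + 1) => (1 : D)) ((X - 1) ^ k) = if k ≤ r then (r.choose (r - k) : D) else 0 := by
  have hp : pP (fun _ : Fin (r + 1) => (1 : D)) = (X - 1) ^ (r + 1) := by simp [pP]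
  split_ifs with hk
  · rw [res_apply, hp]
    have hX : (X : D[X]) ^ r = ∑ i ∈ range (r + 1), (X - 1) ^ i * (r.choose i : D[X]) := by
      conv_lhs => rw [show (X : D[X]) = (X - 1) + 1 by ring]
      rw [add_pow]
      simp
    rcases subsingleton_or_nontrivial D with h | h
    · exact Subsingleton.elim _ _
    have hm : ((X - 1 : D[X]) ^ (r + 1)).Monic := (monic_X_sub_C (1 : D)).pow _
    rw [hX, mul_sum, ← modByMonicHom_apply, map_sum, finsetSum_coeff, sum_eq_single (r - k)]
    · show (((X - 1) ^ k * ((X - 1) ^ (r - k) * (r.choose (r - k) : D[X]))) %ₘ (X - 1) ^ (r + 1)).coeff r = _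
      rw [← mul_assoc, ← pow_add, Nat.add_sub_cancel' hk, mul_comm, ← C_eq_natCast, ← smul_eq_C_mul]
      rw [(modByMonic_eq_self_iff hm).2 ((degree_smul_le _ _).trans_lt (by
        rw [degree_X_sub_one_pow, degree_X_sub_one_pow]; exact_mod_cast Nat.lt_succ_self r)), coeff_smul,
        show ((X - 1 : D[X]) ^ r).coeff r = 1 by
          have h := ((monic_X_sub_C (1 : D)).pow r).coeff_natDegree
          rwa [(monic_X_sub_C (1 : D)).natDegree_pow, natDegree_X_sub_C, mul_one, C_1] at h, smul_eq_mul, mul_one]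
    · intro i hi hne
      show (((X - 1) ^ k * ((X - 1) ^ i * (r.choose i : D[X]))) %ₘ (X - 1) ^ (r + 1)).coeff r = 0
      rw [← mul_assoc, ← pow_add, mul_comm, ← C_eq_natCast, ← smul_eq_C_mul]
      rcases lt_or_gt_of_ne hne with h1 | h1
      · rw [(modByMonic_eq_self_iff hm).2 ((degree_smul_le _ _).trans_lt (by
          rw [degree_X_sub_one_pow, degree_X_sub_one_pow]; exact_mod_cast (show k + i < r + 1 by omega))),
          coeff_smul, coeff_eq_zero_of_degree_lt (by rw [degree_X_sub_one_pow]; exact_mod_cast (show k + i < r by omega)), smul_zero]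
      · have hdvd : ((X - 1 : D[X]) ^ (r + 1)) ∣ (r.choose i : D) • (X - 1 : D[X]) ^ (k + i) := by
          rw [smul_eq_C_mul]
          exact dvd_mul_of_dvd_right (pow_dvd_pow _ (by omega)) _
        rw [(modByMonic_eq_zero_iff_dvd hm).2 hdvd, coeff_zero]
    · intro h; exact absurd (mem_range.2 (by omega)) h
  · exact res_of_dvd _ (by rw [hp]; exact pow_dvd_pow _ (by omega))

/-- Functionals killing the multiples of `(T - 1)^{r+1}` with these values are the residue. -/
theorem eq_res_one (G : D[X] →ₗ[D] D)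
    (hG : ∀ k, G ((X - 1) ^ k) = if k ≤ r then (r.choose (r - k) : D) else 0) :
    G = res (fun _ : Fin (r + 1) => (1 : D)) := by
  refine LinearMap.ext fun g => ?_
  rw [← sum_taylor_eq g 1, Polynomial.sum_def, map_sum, map_sum]
  refine sum_congr rfl fun k _ => ?_
  rw [← smul_eq_C_mul, map_smul, map_smul, C_1, hG, res_one_pow]

end Groth.Agent.H28.Residue
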