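import Groth.Agent.H28.EqvLift
import Groth.Agent.S1488

/-! Lifts along smooth morphisms from square-zero thickenings of affine schemes. -/

universe u

open CategoryTheory CategoryTheory.Limits MonoidalCategory CartesianMonoidalCategory MonObj AlgebraicGeometry
open Opposite Magnet

namespace Groth.Agent.H28.SmoothLift

open H23.CharPts MagnetAff EqvAvg

/-- Lifts along square-zero thickenings of affine schemes. -/
theorem exists_lift {W₀ W X Y : Scheme.{u}} [IsAffine W₀] [IsAffine W] (t : W₀ ⟶ W)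
    (hsurj : Function.Surjective t.appTop.hom)
    (hsq : ∀ x y, t.appTop.hom x = 0 → t.appTop.hom y = 0 → x * y = 0) (f : X ⟶ Y)
    (hf : MoreMor.IsFormallySmoothHom f) (a : W₀ ⟶ X) (b : W ⟶ Y) (w : t ≫ b = a ≫ f) :
    ∃ l : W ⟶ X, t ≫ l = a ∧ l ≫ f = b := by
  let A := Γ(W, ⊤)
  let I : Ideal A := RingHom.ker t.appTop.hom
  have hI : I ^ 2 = ⊥ := by
    rw [pow_two, eq_bot_iff, Ideal.mul_le]
    exact fun x hx y hy => hsq x y hx hy
  let ψ : CommRingCat.of (A ⧸ I) ⟶ Γ(W₀, ⊤) := (RingHom.quotientKerEquivOfSurjective hsurj).toCommRingCatIso.hom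
  have hψ : CommRingCat.ofHom (Ideal.Quotient.mk I) ≫ ψ = t.appTop := by
    ext x
    exact RingHom.quotientKerEquivOfSurjective_apply_mk hsurj x
  let e' : Spec (CommRingCat.of A) ≅ W := W.isoSpec.symm
  let e : Spec (CommRingCat.of (A ⧸ I)) ≅ W₀ := (asIso (Spec.map ψ)).symm ≪≫ W₀.isoSpec.symm
  have he : e.hom ≫ t = Spec.map (CommRingCat.ofHom (Ideal.Quotient.mk I)) ≫ e'.hom := by
    simp only [e, e', Iso.trans_hom, Iso.symm_hom, asIso_inv, Category.assoc, IsIso.inv_comp_eq]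
    rw [← Scheme.isoSpec_inv_naturality, ← hψ, Spec.map_comp_assoc]
  obtain ⟨l, hl1, hl2⟩ := hf A I hI (e.hom ≫ a) (e'.hom ≫ b)
    (by rw [← reassoc_of% he, w, Category.assoc])
  refine ⟨e'.inv ≫ l, ?_, ?_⟩
  · rw [← cancel_epi e.hom, reassoc_of% he, e'.hom_inv_id_assoc, hl1]
  · rw [Category.assoc, hl2, e'.inv_hom_id_assoc]

variable {S : Scheme.{u}}

/-- Lifts over a base. -/
theorem exists_lift_over {Y Y' X Z : Over S} [IsAffine Y.left] [IsAffine Y'.left] {i : Y ⟶ Y'} (hi : IsSqZero i)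
    (f : X ⟶ Z) (hf : MoreMor.IsFormallySmoothHom f.left) (s : Y ⟶ X) (y : Y' ⟶ Z) (h : i ≫ y = s ≫ f) :
    ∃ l : Y' ⟶ X, i ≫ l = s ∧ l ≫ f = y := by
  obtain ⟨l, h1, h2⟩ := exists_lift i.left hi.surj hi.sq f.left hf s.left y.left (congrArg Over.Hom.left h)
  exact ⟨Over.homMk l (by rw [← Over.w f, ← Category.assoc, h2, Over.w y]), Over.OverMorphism.ext h1,
    Over.OverMorphism.ext h2⟩

theorem isSqZero_whisker {Y Y' : Over S} [IsAffine Y.left] [IsAffine Y'.left] {i : Y ⟶ Y'} (K : Type)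
    [AddCommMonoid K] (hi : IsSqZero i) : IsSqZero (AMonS S K ◁ i) := by
  have h := theta_whisker (K := K) Y' i
  refine ⟨fun y => ?_, fun x y hx hy => ?_⟩
  · obtain ⟨a, rfl⟩ := (theta_iso K Y).2.2 y
    obtain ⟨b, rfl⟩ := mapRingHom_surjective (G := Multiplicative K) hi.surj a
    exact ⟨theta K Y' b, RingHom.congr_fun h b⟩
  · obtain ⟨a, rfl⟩ := (theta_iso K Y').2.2 x
    obtain ⟨b, rfl⟩ := (theta_iso K Y').2.2 y
    have key : ∀ c, (AMonS S K ◁ i).left.appTop.hom (theta K Y' c) = 0 →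
        MonoidAlgebra.mapRingHom (Multiplicative K) i.left.appTop.hom c = 0 := fun c hc =>
      (theta_iso K Y).2.1 ((RingHom.congr_fun h c).symm.trans (hc.trans (map_zero _).symm))
    rw [← map_mul, mul_eq_zero_of_map hi.sq a b (key a hx) (key b hy), map_zero]

/-- The thickening `Spec (A ⧸ I) → Spec A` over `S`. -/
theorem isSqZero_quot (A : Type u) [CommRing A] (I : Ideal A) (hI : I ^ 2 = ⊥) (str : Spec (CommRingCat.of A) ⟶ S) :
    IsSqZero (Over.homMk (Spec.map (CommRingCat.ofHom (Ideal.Quotient.mk I))) rfl :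
      Over.mk (Spec.map (CommRingCat.ofHom (Ideal.Quotient.mk I)) ≫ str) ⟶ Over.mk str) := by
  let eA := Scheme.ΓSpecIso (CommRingCat.of A)
  let eQ := Scheme.ΓSpecIso (CommRingCat.of (A ⧸ I))
  have hnat := Scheme.ΓSpecIso_naturality (CommRingCat.ofHom (Ideal.Quotient.mk I))
  have hm : ∀ z, eQ.hom ((Spec.map (CommRingCat.ofHom (Ideal.Quotient.mk I))).appTop z) =
      Ideal.Quotient.mk I (eA.hom z) := fun z => ConcreteCategory.congr_hom hnat z
  have binj : Function.Injective eA.hom := (ConcreteCategory.bijective_of_isIso eA.hom).1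
  refine ⟨fun z => ?_, fun x y hx hy => ?_⟩
  · obtain ⟨w, hw⟩ := Ideal.Quotient.mk_surjective (eQ.hom z)
    obtain ⟨v, rfl⟩ := (ConcreteCategory.bijective_of_isIso eA.hom).2 w
    exact ⟨v, (ConcreteCategory.bijective_of_isIso eQ.hom).1 ((hm v).trans hw)⟩
  · have key : ∀ z, (Spec.map (CommRingCat.ofHom (Ideal.Quotient.mk I))).appTop z = 0 → eA.hom z ∈ I := fun z hz =>
      Ideal.Quotient.eq_zero_iff_mem.mp ((hm z).symm.trans ((congrArg eQ.hom hz).trans (map_zero _)))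
    refine binj ((map_mul _ _ _).trans (Eq.trans ?_ (map_zero _).symm))
    have := Ideal.mul_mem_mul (key x hx) (key y hy)
    rwa [← pow_two, hI, Ideal.mem_bot] at this

end Groth.Agent.H28.SmoothLift
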