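import Mathlib

/-!
Smooth algebras with a contraction onto the base ring are symmetric algebras of projective modules.
-/

set_option autoImplicit false
set_option linter.style.haveILetI false
set_option maxHeartbeats 1000000

universe u

open Polynomial

namespace Groth.Agent.H28.SymSplit

variable {B C : Type u} [CommRing B] [CommRing C] [Algebra B C]

theorem exists_projection {ρ : C →ₐ[B] C[X]} (h0 : ∀ c, (ρ c).coeff 0 ∈ (algebraMap B C).range)
    (hinj : Function.Injective (algebraMap B C)) :
    ∃ π : C →ₐ[B] B, ∀ c, algebraMap B C (π c) = (ρ c).coeff 0 := by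
  choose f hf using fun c => RingHom.mem_range.1 (h0 c)
  have hc : ∀ b : B, (ρ (algebraMap B C b)).coeff 0 = algebraMap B C b := fun b => by
    rw [AlgHom.commutes]; simp [Polynomial.algebraMap_eq, IsScalarTower.algebraMap_apply B C C[X]]
  exact ⟨
    { toFun := f
      map_one' := hinj (by rw [hf, map_one, map_one, coeff_one_zero])
      map_mul' := fun x y => hinj (by rw [hf, map_mul, map_mul, hf, hf, mul_coeff_zero])
      map_zero' := hinj (by rw [hf, map_zero, map_zero, coeff_zero])
      map_add' := fun x y => hinj (by rw [hf, map_add, map_add, hf, hf, coeff_add])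
      commutes' := fun b => hinj (by rw [hf, hc]; rfl) }, hf⟩

theorem sub_mem_ker (π : C →ₐ[B] B) (c : C) : c - algebraMap B C (π c) ∈ RingHom.ker π := by
  rw [RingHom.mem_ker, map_sub, AlgHom.commutes, Algebra.algebraMap_self, RingHom.id_apply, sub_self]

/-- The module of indecomposables of an augmented algebra. -/
abbrev indec (π : C →ₐ[B] B) : Submodule B C :=
  (RingHom.ker π * RingHom.ker π : Ideal C).restrictScalars B ⊔ LinearMap.range (Algebra.linearMap B C)

theorem mem_indec_iff (π : C →ₐ[B] B) (c : C) :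
    c ∈ indec π ↔ c - algebraMap B C (π c) ∈ RingHom.ker π * RingHom.ker π := by
  refine ⟨fun h => ?_, fun h => Submodule.mem_sup.2
    ⟨c - algebraMap B C (π c), h, algebraMap B C (π c), ⟨π c, rfl⟩, sub_add_cancel _ _⟩⟩
  obtain ⟨r, hr, _, ⟨b, rfl⟩, rfl⟩ := Submodule.mem_sup.1 h
  have h1 : π r = 0 := Ideal.mul_le_left (show r ∈ RingHom.ker π * RingHom.ker π from hr)
  have h2 : π (r + Algebra.linearMap B C b) = b := by
    rw [map_add, h1, zero_add, Algebra.linearMap_apply, AlgHom.commutes]; rfl
  rw [h2, Algebra.linearMap_apply, add_sub_cancel_right]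
  exact hr

theorem mk_mul (π : C →ₐ[B] B) (x y : C) :
    (indec π).mkQ (x * y) = π x • (indec π).mkQ y + π y • (indec π).mkQ x := by
  rw [← map_smul, ← map_smul, ← map_add, Submodule.mkQ_apply, Submodule.mkQ_apply, Submodule.Quotient.eq]
  rw [Algebra.smul_def, Algebra.smul_def]
  have h : x * y - (algebraMap B C (π x) * y + algebraMap B C (π y) * x) =
      (x - algebraMap B C (π x)) * (y - algebraMap B C (π y)) + algebraMap B C (-(π x * π y)) := by
    rw [map_neg, map_mul]; ring
  rw [h]
  exact Submodule.add_mem_sup (Ideal.mul_mem_mul (sub_mem_ker π x) (sub_mem_ker π y))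
    (LinearMap.mem_range.2 ⟨_, rfl⟩)

theorem indec_finite (π : C →ₐ[B] B) [Algebra.FiniteType B C] : Module.Finite B (C ⧸ indec π) := by
  classical
  obtain ⟨s, hs⟩ := (inferInstance : Algebra.FiniteType B C).1
  refine ⟨⟨s.image (indec π).mkQ, top_le_iff.1 fun x _ => ?_⟩⟩
  obtain ⟨c, rfl⟩ := Submodule.mkQ_surjective _ x
  have hc : c ∈ Algebra.adjoin B (s : Set C) := hs ▸ Algebra.mem_top
  induction hc using Algebra.adjoin_induction with
  | mem y hy => exact Submodule.subset_span (Finset.mem_coe.2 (Finset.mem_image_of_mem _ hy))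
  | algebraMap r =>
    rw [Submodule.mkQ_apply, (Submodule.Quotient.mk_eq_zero _).2 (Submodule.mem_sup_right
      (LinearMap.mem_range_self (Algebra.linearMap B C) r) : algebraMap B C r ∈ indec π)]
    exact zero_mem _
  | add y z _ _ hy hz => rw [map_add]; exact add_mem (hy trivial) (hz trivial)
  | mul y z _ _ hy hz => rw [mk_mul]; exact add_mem (Submodule.smul_mem _ _ (hz trivial)) (Submodule.smul_mem _ _ (hy trivial))

theorem indec_projective (π : C →ₐ[B] B) [Algebra.FormallySmooth B C] [Module.Finite B (C ⧸ indec π)] :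
    Module.Projective B (C ⧸ indec π) := by
  let P := C ⧸ indec π
  obtain ⟨k, q, hq⟩ := Module.Finite.exists_fin' B P
  let mk : C →ₗ[B] P := (indec π).mkQ
  letI : Module Bᵐᵒᵖ P := Module.compHom P ((RingHom.id B).fromOpposite mul_comm)
  haveI : IsCentralScalar B P := ⟨fun r x => rfl⟩
  let h : C →ₐ[B] TrivSqZeroExt B P := AlgHom.ofLinearMap
    { toFun := fun c => TrivSqZeroExt.inl (π c) + TrivSqZeroExt.inr (mk c)
      map_add' := fun x y => by rw [map_add, map_add, TrivSqZeroExt.inl_add, TrivSqZeroExt.inr_add]; abel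
      map_smul' := fun b x => TrivSqZeroExt.ext (by simp) (by simp) }
    (TrivSqZeroExt.ext (by simp) (by
      have h1 : mk 1 = 0 := (Submodule.Quotient.mk_eq_zero _).2
        (Submodule.mem_sup_right ⟨1, map_one (algebraMap B C)⟩ : (1 : C) ∈ indec π)
      simp [h1]))
    (fun x y => TrivSqZeroExt.ext (by simp) (by
      simp only [LinearMap.coe_mk, AddHom.coe_mk, TrivSqZeroExt.snd_add, TrivSqZeroExt.snd_inl, zero_add,
        TrivSqZeroExt.snd_inr, TrivSqZeroExt.snd_mul, TrivSqZeroExt.fst_add, TrivSqZeroExt.fst_inl,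
        TrivSqZeroExt.fst_inr, add_zero, op_smul_eq_smul]
      exact mk_mul π x y))
  let g : TrivSqZeroExt B (Fin k → B) →ₐ[B] TrivSqZeroExt B P := TrivSqZeroExt.map q
  have hg : Function.Surjective g := fun z => by
    obtain ⟨v, hv⟩ := hq z.snd
    exact ⟨TrivSqZeroExt.inl z.fst + TrivSqZeroExt.inr v,
      TrivSqZeroExt.ext (by simp [g]) (by simp [g, hv])⟩
  have hnil : IsNilpotent (RingHom.ker (g : TrivSqZeroExt B (Fin k → B) →+* TrivSqZeroExt B P)) := by
    refine ⟨2, le_bot_iff.1 ?_⟩
    rw [show (2 : ℕ) = 1 + 1 from rfl, Submodule.pow_succ, Submodule.pow_one, Ideal.mul_le]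
    intro x hx y hy
    have h1 := congrArg TrivSqZeroExt.fst (RingHom.mem_ker.1 hx)
    have h2 := congrArg TrivSqZeroExt.fst (RingHom.mem_ker.1 hy)
    simp [g] at h1 h2
    exact Submodule.mem_bot _ |>.2 (TrivSqZeroExt.ext (by simp [h1]) (by simp [h1, h2]))
  let σ := Algebra.FormallySmooth.liftOfSurjective h g hg hnil
  have hσ : ∀ c, g (σ c) = h c := fun c => Algebra.FormallySmooth.liftOfSurjective_apply h g hg hnil c
  have hfst : ∀ c, (σ c).fst = π c := fun c => by
    have := congrArg TrivSqZeroExt.fst (hσ c)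
    simpa [g, h] using this
  let l : C →ₗ[B] (Fin k → B) := (TrivSqZeroExt.sndHom B (Fin k → B)).restrictScalars B ∘ₗ σ.toLinearMap
  have hl : indec π ≤ LinearMap.ker l := sup_le (fun x hx => by
    rw [LinearMap.mem_ker]
    refine Submodule.mul_induction_on (show x ∈ RingHom.ker π * RingHom.ker π from hx) ?_ ?_
    · intro a ha b hb
      show (σ (a * b)).snd = 0
      have ha' : (σ a).fst = 0 := (hfst a).trans ha
      have hb' : (σ b).fst = 0 := (hfst b).trans hb
      simp [TrivSqZeroExt.snd_mul, ha', hb']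
    · intro a b ha hb
      rw [map_add, ha, hb, add_zero]) (by
    rintro _ ⟨b, rfl⟩
    rw [LinearMap.mem_ker]
    show (σ (algebraMap B C b)).snd = 0
    rw [AlgHom.commutes]
    rfl)
  refine Module.Projective.of_split ((indec π).liftQ l hl) q (Submodule.linearMap_qext _ (LinearMap.ext fun c => ?_))
  have h1 := congrArg TrivSqZeroExt.snd (hσ c)
  have h2 : q (σ c).snd = mk c := by simpa [g, h] using h1
  exact h2

theorem ker_le_mul {S : Type u} [CommRing S] [Algebra B S] [Algebra.FormallySmooth B C] (φ : S →ₐ[B] C)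
    (hsurj : Function.Surjective φ) (J : Ideal S) (hKJ : RingHom.ker φ ≤ J) (hJ2 : RingHom.ker φ ≤ J * J) :
    RingHom.ker φ ≤ J * RingHom.ker φ := by
  let K : Ideal S := RingHom.ker φ
  let q : S →ₐ[B] S ⧸ J * K := Ideal.Quotient.mkₐ B (J * K)
  let I' : Ideal (S ⧸ J * K) := K.map q
  have hsq : IsNilpotent I' := ⟨2, le_bot_iff.1 (by
    rw [show (2 : ℕ) = 1 + 1 from rfl, Submodule.pow_succ, Submodule.pow_one, ← Ideal.map_mul,
      Ideal.map_le_iff_le_comap]
    intro z hz
    rw [Ideal.mem_comap, Ideal.mem_bot]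
    exact Ideal.Quotient.eq_zero_iff_mem.2 (Ideal.mul_mono hKJ le_rfl hz))⟩
  let ψ : S ⧸ J * K →ₐ[B] C := Ideal.Quotient.liftₐ (J * K) φ
    fun a ha => RingHom.mem_ker.1 ((Ideal.mul_le_right : J * K ≤ K) ha)
  have hψq : ∀ a, ψ (q a) = φ a := fun a => rfl
  have hψ : Function.Surjective ψ := fun c => by
    obtain ⟨a, rfl⟩ := hsurj c
    exact ⟨q a, hψq a⟩
  have hker : RingHom.ker (ψ : S ⧸ J * K →+* C) ≤ I' := fun z hz => by
    obtain ⟨a, rfl⟩ := Ideal.Quotient.mk_surjective z
    exact Ideal.mem_map_of_mem q (RingHom.mem_ker.2 ((hψq a).symm.trans hz) : a ∈ K)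
  have hnil : IsNilpotent (RingHom.ker (ψ : S ⧸ J * K →+* C)) := by
    obtain ⟨n, hn⟩ := hsq
    exact ⟨n, le_bot_iff.1 ((pow_le_pow_left' hker n).trans hn.le)⟩
  obtain ⟨σ, hσ⟩ : ∃ σ : C →ₐ[B] S ⧸ J * K, ∀ c, ψ (σ c) = c :=
    ⟨Algebra.FormallySmooth.liftOfSurjective (AlgHom.id B C) ψ hψ hnil,
      fun c => Algebra.FormallySmooth.liftOfSurjective_apply (AlgHom.id B C) ψ hψ hnil c⟩
  let θ : S →ₐ[B] S ⧸ J * K := σ.comp φ
  have hθ : ∀ a, θ a - q a ∈ I' := fun a => hker (RingHom.mem_ker.2 (by
    show ψ (θ a - q a) = 0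
    rw [map_sub, hψq]
    show ψ (σ (φ a)) - φ a = 0
    rw [hσ, sub_self]))
  have hann : ∀ a ∈ J, ∀ z ∈ I', q a * z = 0 := fun a ha z hz => by
    obtain ⟨w, hw, rfl⟩ := (Ideal.mem_map_iff_of_surjective q Ideal.Quotient.mk_surjective).1 hz
    rw [← map_mul]
    exact Ideal.Quotient.eq_zero_iff_mem.2 (Ideal.mul_mem_mul ha hw)
  have hJJ : ∀ a ∈ J * J, θ a = q a := by
    intro a ha
    refine Submodule.mul_induction_on ha ?_ ?_
    · intro x hx y hy
      obtain ⟨w, hw, hw'⟩ := (Ideal.mem_map_iff_of_surjective q Ideal.Quotient.mk_surjective).1 (hθ x)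
      have e : θ x * θ y - q x * q y = q x * (θ y - q y) + q y * (θ x - q x) + q w * (θ y - q y) := by
        rw [hw']; ring
      rw [hann x hx _ (hθ y), hann y hy _ (hθ x), hann w (hKJ hw) _ (hθ y), add_zero, add_zero, sub_eq_zero] at e
      rw [map_mul, map_mul, e]
    · intro x y hx hy
      rw [map_add, map_add, hx, hy]
  intro k hk
  refine Ideal.Quotient.eq_zero_iff_mem.1 ?_
  show q k = 0
  rw [← hJJ k (hJ2 hk)]
  show σ (φ k) = 0
  rw [RingHom.mem_ker.1 hk, map_zero]

open scoped Classical in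
/-- An algebra smooth over `B` with a contraction onto `B` is a symmetric algebra. -/
theorem exists_equiv [Algebra.Smooth B C] (ρ : C →ₐ[B] C[X])
    (h1 : ∀ c, (ρ c).eval 1 = c) (h2 : ∀ c n, ρ ((ρ c).coeff n) = monomial n ((ρ c).coeff n))
    (h0 : ∀ c, (ρ c).coeff 0 ∈ (algebraMap B C).range) (hinj : Function.Injective (algebraMap B C)) :
    ∃ (P : Type u) (_ : AddCommGroup P) (_ : Module B P),
      Module.Finite B P ∧ Module.Projective B P ∧ Nonempty (SymmetricAlgebra B P ≃ₐ[B] C) := by
  obtain ⟨π, hπ⟩ := exists_projection h0 hinj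
  haveI : Algebra.FinitePresentation B C := Algebra.Smooth.finitePresentation
  haveI : Algebra.FormallySmooth B C := Algebra.Smooth.formallySmooth
  haveI := indec_finite π
  haveI := indec_projective π
  let P := C ⧸ indec π
  let mk : C →ₗ[B] P := (indec π).mkQ
  let co : ℕ → C →ₗ[B] C := fun n => ((Polynomial.lcoeff C n).restrictScalars B) ∘ₗ ρ.toLinearMap
  have hco : ∀ n c, co n c = (ρ c).coeff n := fun _ _ => rfl
  -- coefficients of decomposable elements are decomposable
  have hdec : ∀ n, ∀ c ∈ indec π, co n c ∈ indec π := by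
    intro n c hc
    obtain ⟨r, hr, _, ⟨b, rfl⟩, rfl⟩ := Submodule.mem_sup.1 hc
    rw [map_add]
    refine add_mem ?_ ?_
    · refine Submodule.mul_induction_on (show r ∈ RingHom.ker π * RingHom.ker π from hr) ?_ ?_
      · intro x hx y hy
        rw [hco, map_mul, coeff_mul]
        refine sum_mem fun p _ => Submodule.mem_sup_left (Ideal.mul_mem_mul ?_ ?_)
        all_goals rw [RingHom.mem_ker]
        · by_cases hp : p.1 = 0
          · rw [hp, ← hπ, AlgHom.commutes, show π x = 0 from hx]; exact map_zero _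
          · apply hinj
            rw [hπ, h2, coeff_monomial, if_neg hp, map_zero]
        · by_cases hp : p.2 = 0
          · rw [hp, ← hπ, AlgHom.commutes, show π y = 0 from hy]; exact map_zero _
          · apply hinj
            rw [hπ, h2, coeff_monomial, if_neg hp, map_zero]
      · intro x y hx hy
        rw [map_add]
        exact add_mem hx hy
    · refine Submodule.mem_sup_right ?_
      rw [hco, Algebra.linearMap_apply, AlgHom.commutes, IsScalarTower.algebraMap_apply B C C[X],
        Polynomial.algebraMap_eq, coeff_C]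
      split
      · exact ⟨b, rfl⟩
      · exact zero_mem _
  obtain ⟨s0, hs0⟩ := Module.projective_lifting_property mk (LinearMap.id : P →ₗ[B] P) (Submodule.mkQ_surjective _)
  replace hs0 : ∀ x, mk (s0 x) = x := fun x => LinearMap.congr_fun hs0 x
  have hmk0 : ∀ c ∈ indec π, mk c = 0 := fun c hc => (Submodule.Quotient.mk_eq_zero _).2 hc
  have hdeg0 : ∀ c, mk (co 0 c) = 0 := fun c => hmk0 _ (Submodule.mem_sup_right ⟨π c, hπ c⟩)
  -- the homogeneous section
  let Φ : C →ₗ[B] C := (Polynomial.lsum fun n => co n ∘ₗ s0 ∘ₗ mk) ∘ₗ ρ.toLinearMap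
  have hΦ : ∀ c, Φ c = (ρ c).sum fun n a => co n (s0 (mk a)) := fun c => rfl
  have hΦ0 : indec π ≤ LinearMap.ker Φ := fun c hc => by
    rw [LinearMap.mem_ker, hΦ, Polynomial.sum]
    exact Finset.sum_eq_zero fun n _ => by rw [← hco, hmk0 _ (hdec n c hc), map_zero, map_zero]
  have hΦhom : ∀ n c, Φ (co n c) = co n (s0 (mk (co n c))) := fun n c => by
    rw [hΦ, hco n c, h2, Polynomial.sum_monomial_index _ _ (by simp)]
  let s : P →ₗ[B] C := (indec π).liftQ Φ hΦ0
  let φ : SymmetricAlgebra B P →ₐ[B] C := SymmetricAlgebra.lift s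
  have hφι : ∀ c, φ (SymmetricAlgebra.ι B P (mk c)) = Φ c := fun c => by
    rw [SymmetricAlgebra.lift_ι_apply]; rfl
  -- the contraction of the symmetric algebra
  let S := SymmetricAlgebra B P
  let Ψ : C →ₗ[B] S[X] := (Polynomial.lsum fun n =>
    ((Polynomial.monomial n).restrictScalars B) ∘ₗ SymmetricAlgebra.ι B P ∘ₗ mk) ∘ₗ ρ.toLinearMap
  have hΨ : ∀ c, Ψ c = (ρ c).sum fun n a => monomial n (SymmetricAlgebra.ι B P (mk a)) := fun c => rfl
  have hΨ0 : indec π ≤ LinearMap.ker Ψ := fun c hc => by
    rw [LinearMap.mem_ker, hΨ, Polynomial.sum]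
    exact Finset.sum_eq_zero fun n _ => by rw [← hco, hmk0 _ (hdec n c hc), map_zero, map_zero]
  let ρS : S →ₐ[B] S[X] := SymmetricAlgebra.lift ((indec π).liftQ Ψ hΨ0)
  have hρS : ∀ c, ρS (SymmetricAlgebra.ι B P (mk c)) = Ψ c := fun c => by
    rw [SymmetricAlgebra.lift_ι_apply]; rfl
  have hcomm : ∀ a, ρ (φ a) = (ρS a).map (φ : S →+* C) := by
    have : ρ.comp φ = (Polynomial.mapAlgHom φ).comp ρS := by
      refine SymmetricAlgebra.algHom_ext (LinearMap.ext fun x => ?_)
      obtain ⟨c, rfl⟩ := Submodule.mkQ_surjective _ x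
      show ρ (φ (SymmetricAlgebra.ι B P (mk c))) = (ρS (SymmetricAlgebra.ι B P (mk c))).map (φ : S →+* C)
      rw [hφι, hρS, hΨ, hΦ, Polynomial.sum, Polynomial.sum, map_sum, Polynomial.map_sum]
      refine Finset.sum_congr rfl fun n _ => ?_
      rw [Polynomial.map_monomial]
      show ρ (co n _) = monomial n (φ (SymmetricAlgebra.ι B P (mk ((ρ c).coeff n))))
      rw [hφι, ← hco n c, hΦhom, hco, h2]
    exact fun a => AlgHom.congr_fun this a
  have hmksum : ∀ c, mk c = (ρ c).sum fun _ a => mk a := fun c => by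
    conv_lhs => rw [← h1 c, eval_eq_sum]
    simp [Polynomial.sum]
  have hρS1 : ∀ a, (ρS a).eval 1 = a := by
    have : ((Polynomial.aeval (1 : S)).restrictScalars B).comp ρS = AlgHom.id B S := by
      refine SymmetricAlgebra.algHom_ext (LinearMap.ext fun x => ?_)
      obtain ⟨c, rfl⟩ := Submodule.mkQ_surjective _ x
      show Polynomial.aeval (1 : S) (ρS (SymmetricAlgebra.ι B P (mk c))) = SymmetricAlgebra.ι B P (mk c)
      rw [hρS, hΨ, hmksum c, Polynomial.sum, Polynomial.sum, map_sum, map_sum]
      simp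
    exact fun a => by simpa using AlgHom.congr_fun this a
  let ε : S →ₐ[B] B := π.comp φ
  have hs_mk : ∀ c, mk (Φ c) = mk c := fun c => by
    rw [hΦ, hmksum c, Polynomial.sum, Polynomial.sum, map_sum]
    refine Finset.sum_congr rfl fun n _ => ?_
    have h3 : s0 (mk ((ρ c).coeff n)) - (ρ c).coeff n ∈ indec π :=
      (Submodule.Quotient.eq _).1 (hs0 _)
    have h4 := hmk0 _ (hdec n _ h3)
    rw [map_sub, map_sub, sub_eq_zero] at h4
    rw [h4, hco n, h2, coeff_monomial_same]
  have hπΦ : ∀ c, π (Φ c) = 0 := fun c => by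
    rw [hΦ, Polynomial.sum, map_sum]
    refine Finset.sum_eq_zero fun n _ => hinj ?_
    rw [hπ, hco, h2, map_zero, coeff_monomial]
    split
    · subst_vars
      rw [← hco, ← hco 0 c, hdeg0, map_zero, map_zero]
    · rfl
  have hει : ∀ x, ε (SymmetricAlgebra.ι B P x) = 0 := fun x => by
    obtain ⟨c, rfl⟩ := Submodule.mkQ_surjective _ x
    show π (φ (SymmetricAlgebra.ι B P (mk c))) = 0
    rw [hφι, hπΦ]
  have hρS0 : ∀ a, (ρS a).coeff 0 = algebraMap B S (ε a) := by
    have : ((Polynomial.aeval (0 : S)).restrictScalars B).comp ρS = (Algebra.ofId B S).comp ε := by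
      refine SymmetricAlgebra.algHom_ext (LinearMap.ext fun x => ?_)
      obtain ⟨c, rfl⟩ := Submodule.mkQ_surjective _ x
      show Polynomial.aeval (0 : S) (ρS (SymmetricAlgebra.ι B P (mk c))) =
        algebraMap B S (ε (SymmetricAlgebra.ι B P (mk c)))
      rw [hει, map_zero, hρS, hΨ, Polynomial.sum, map_sum]
      refine Finset.sum_eq_zero fun n _ => ?_
      rcases n with _ | n
      · rw [← hco, hdeg0, map_zero, map_zero, map_zero]
      · simp
    intro a
    have := AlgHom.congr_fun this a
    simpa [coeff_zero_eq_aeval_zero] using this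
  -- surjectivity
  have hsurj : Function.Surjective φ := by
    suffices h : ∀ n c, co n c ∈ φ.range by
      intro c
      obtain ⟨a, ha⟩ : c ∈ φ.range := by
        rw [← h1 c, eval_eq_sum, Polynomial.sum]
        exact sum_mem fun n _ => by simpa [hco] using h n c
      exact ⟨a, ha⟩
    intro n
    induction n using Nat.strong_induction_on with
    | _ n ih =>
      intro c
      by_cases hn : n = 0
      · subst hn
        rw [hco, ← hπ]
        exact φ.range.algebraMap_mem _
      have hfix : co n (co n c) = co n c := by rw [hco n c, hco n, h2, coeff_monomial_same]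
      have hd : co n c - Φ (co n c) ∈ RingHom.ker π * RingHom.ker π := by
        have h3 := (mem_indec_iff π _).1 ((Submodule.Quotient.eq _).1 (hs_mk (co n c)).symm)
        have h4 : π (co n c) = 0 := hinj (by rw [hπ, hco, h2, coeff_monomial, if_neg hn, map_zero])
        rwa [map_sub, h4, hπΦ, sub_zero, map_zero, sub_zero] at h3
      have hΦn : co n (Φ (co n c)) = Φ (co n c) := by
        rw [hΦhom]
        show co n (co n (s0 (mk (co n c)))) = _
        rw [hco n (s0 _), hco n, h2, coeff_monomial_same]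
      have hr : ∀ d ∈ RingHom.ker π * RingHom.ker π, co n d ∈ φ.range := by
        intro d hd
        refine Submodule.mul_induction_on hd ?_ ?_
        · intro x hx y hy
          rw [hco, map_mul, coeff_mul]
          refine sum_mem fun p hp => ?_
          rw [Finset.HasAntidiagonal.mem_antidiagonal] at hp
          by_cases hp1 : p.1 = 0
          · rw [hp1, ← hπ, show π x = 0 from hx, map_zero, zero_mul]; exact zero_mem _
          by_cases hp2 : p.2 = 0
          · rw [hp2, ← hπ, show π y = 0 from hy, map_zero, mul_zero]; exact zero_mem _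
          exact mul_mem (ih p.1 (by omega) x) (ih p.2 (by omega) y)
        · intro x y hx hy
          rw [map_add]
          exact add_mem hx hy
      have h5 := hr _ hd
      rw [map_sub, hfix, hΦn] at h5
      have h6 : Φ (co n c) ∈ φ.range := ⟨SymmetricAlgebra.ι B P (mk (co n c)), hφι _⟩
      simpa using add_mem h5 h6
  -- injectivity
  let J : Ideal S := RingHom.ker ε
  let K : Ideal S := RingHom.ker φ
  have hKJ : K ≤ J := fun a ha => by
    rw [RingHom.mem_ker] at ha
    show π (φ a) = 0
    rw [ha, map_zero]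
  have hlin : ∀ a : S, ∃ x, a - algebraMap B S (ε a) - SymmetricAlgebra.ι B P x ∈ J * J := by
    intro a
    induction a using SymmetricAlgebra.induction with
    | algebraMap r =>
      refine ⟨0, ?_⟩
      rw [AlgHom.commutes, Algebra.algebraMap_self, RingHom.id_apply, sub_self, map_zero, sub_zero]
      exact zero_mem _
    | ι x => exact ⟨x, by simp [hει]⟩
    | mul a b ha hb =>
      obtain ⟨x, hx⟩ := ha
      obtain ⟨y, hy⟩ := hb
      refine ⟨ε a • y + ε b • x, ?_⟩
      have e : a * b - algebraMap B S (ε (a * b)) - SymmetricAlgebra.ι B P (ε a • y + ε b • x) =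
          algebraMap B S (ε a) * (b - algebraMap B S (ε b) - SymmetricAlgebra.ι B P y) +
          algebraMap B S (ε b) * (a - algebraMap B S (ε a) - SymmetricAlgebra.ι B P x) +
          (a - algebraMap B S (ε a)) * (b - algebraMap B S (ε b)) := by
        rw [map_mul ε, map_mul (algebraMap B S), map_add, map_smul, map_smul, Algebra.smul_def, Algebra.smul_def]
        ring
      rw [e]
      exact add_mem (add_mem (Ideal.mul_mem_left _ _ hy) (Ideal.mul_mem_left _ _ hx))
        (Ideal.mul_mem_mul (sub_mem_ker ε a) (sub_mem_ker ε b))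
    | add a b ha hb =>
      obtain ⟨x, hx⟩ := ha
      obtain ⟨y, hy⟩ := hb
      refine ⟨x + y, ?_⟩
      have e : a + b - algebraMap B S (ε (a + b)) - SymmetricAlgebra.ι B P (x + y) =
          (a - algebraMap B S (ε a) - SymmetricAlgebra.ι B P x) + (b - algebraMap B S (ε b) - SymmetricAlgebra.ι B P y) := by
        simp only [map_add]; ring
      rw [e]
      exact add_mem hx hy
  have hJ2 : K ≤ J * J := fun k hk => by
    obtain ⟨x, hx⟩ := hlin k
    rw [show ε k = 0 from hKJ hk, map_zero, sub_zero] at hx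
    obtain ⟨c, rfl⟩ := Submodule.mkQ_surjective _ x
    have hφJ : ∀ a ∈ J * J, φ a ∈ indec π := fun a ha => Submodule.mem_sup_left (by
      have := Ideal.mem_map_of_mem φ ha
      rw [Ideal.map_mul] at this
      refine Ideal.mul_mono ?_ ?_ this <;> exact Ideal.map_le_iff_le_comap.2 fun z hz => hz)
    have h3 := hφJ _ hx
    rw [map_sub, show φ k = 0 from hk, zero_sub, Submodule.neg_mem_iff] at h3
    have h4 : mk c = 0 := by
      rw [← hs_mk c, ← hφι]
      exact hmk0 _ h3
    have h5 : (indec π).mkQ c = 0 := h4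
    rwa [h5, map_zero, sub_zero] at hx
  have hKJK : K ≤ J * K := ker_le_mul φ hsurj J hKJ hJ2
  have hKρ : ∀ k ∈ K, ∀ n, (ρS k).coeff n ∈ K := fun k hk n => by
    show φ ((ρS k).coeff n) = 0
    have := congrArg (fun p => p.coeff n) (hcomm k)
    rw [show φ k = 0 from hk, map_zero, coeff_zero, coeff_map] at this
    exact this.symm
  have hzero : ∀ n, ∀ k ∈ K, (ρS k).coeff n = 0 := by
    intro n
    induction n using Nat.strong_induction_on with
    | _ n ih =>
      intro k hk
      have hk' := hKJK hk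
      clear hk
      refine Submodule.mul_induction_on hk' ?_ ?_
      · intro a ha b hb
        rw [map_mul, coeff_mul]
        refine Finset.sum_eq_zero fun p hp => ?_
        rw [Finset.HasAntidiagonal.mem_antidiagonal] at hp
        by_cases hp1 : p.1 = 0
        · rw [hp1, hρS0, show ε a = 0 from ha, map_zero, zero_mul]
        · rw [ih p.2 (by omega) b hb, mul_zero]
      · intro a b ha hb
        rw [map_add, coeff_add, ha, hb, add_zero]
  have hinjφ : Function.Injective φ := (injective_iff_map_eq_zero φ).2 fun k hk => by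
    rw [← hρS1 k, eval_eq_sum, Polynomial.sum]
    exact Finset.sum_eq_zero fun n _ => by rw [hzero n k hk, zero_mul]
  exact ⟨P, inferInstance, inferInstance, inferInstance, inferInstance, ⟨AlgEquiv.ofBijective φ ⟨hinjφ, hsurj⟩⟩⟩

end Groth.Agent.H28.SymSplit
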