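import Groth.Agent.H28.EndTriv.Line
import Groth.Agent.H28.Hirz.Geom
import Groth.Agent.S19434
import Groth.Agent.Lib.CurveDualPrep
import Groth.Agent.S5018
import Mathlib.LinearAlgebra.Dimension.Constructions

/-!
# Second cohomology of the tangent sheaf of a surface in `P³`
-/

set_option autoImplicit false
set_option linter.style.haveILetI false
set_option linter.unusedSectionVars false
set_option linter.overlappingInstances false
set_option backward.isDefEq.respectTransparency false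
set_option backward.isDefEq.respectTransparency.types false
set_option maxHeartbeats 1000000

universe u

open CategoryTheory CategoryTheory.Limits AlgebraicGeometry TopologicalSpace Opposite
open Groth.Agent.PnCoh.Finite (mapLin deltaLin)

noncomputable section

namespace Groth.Agent.H28.TanHyp

open Groth.Agent Groth.Agent.H23.PicMul Groth.Agent.H28.EndTriv

attribute [local instance] MvPolynomial.gradedAlgebra

theorem lf_inv' {X : Scheme.{u}} {V : X.Modules} (hV : PicF.IsInvertible V) : FlatMod.IsFinLocFree V :=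
  Synt29.PnEuler.isFinLocFree_of_rank (InvEnd.isFinLocFreeOfRank_one hV)

/-- The dual of an isomorphism. -/
def dualIso {X : Scheme.{u}} {A B : X.Modules} (e : A ≅ B) : H23.Chern.dual B ≅ H23.Chern.dual A where
  hom := (SheafHomX.homMap e.hom).app _
  inv := (SheafHomX.homMap e.inv).app _
  hom_inv_id := by rw [← SheafHomX.homMap_comp, e.inv_hom_id, SheafHomX.homMap_id]
  inv_hom_id := by rw [← SheafHomX.homMap_comp, e.hom_inv_id, SheafHomX.homMap_id]

theorem decomp_tensor_free_aux {C : Type*} [Category C] [Preadditive C] {D : Type*} [Category D] [Preadditive D]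
    (T : C ⥤ C) [T.Additive] (G : C ⥤ D) [G.Additive] {O V M M' : C} {n : ℕ} (d : Decomp (Fin n) O M) (e : M' ≅ M)
    (eU : T.obj O ≅ V) : Nonempty (Decomp (Fin n) (G.obj V) (G.obj (T.obj M'))) :=
  ⟨(((d.ofIso e.symm).map T).ofIsoSummand eU).map G⟩

theorem decomp_pull_free {X Y : Scheme.{u}} (f : Y ⟶ X) (V : X.Modules) {M : X.Modules} {n : ℕ}
    (e : M ≅ FlatMod.freeMod X n) :
    Nonempty (Decomp (Fin n) ((Scheme.Modules.pullback f).obj V)
      ((Scheme.Modules.pullback f).obj (((DCoh.tensorBi (X := X)).obj V).obj M))) := by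
  haveI : ((DCoh.tensorBi (X := X)).obj V).Additive := inferInstanceAs (DCoh.tensorBi.obj V).Additive
  let d : Decomp (Fin n) (Coh.structureModule X) (FlatMod.freeMod X n) := Decomp.sigma _
  exact decomp_tensor_free_aux _ (Scheme.Modules.pullback f) d e (KFlatLib.tensorUnitIso V)

variable (k : Type u) [Field k] {X : Scheme.{u}} [X.Over (Spec (CommRingCat.of k))]

theorem mapLin_mapLin {A B C : X.Modules} (f : A ⟶ B) (g : B ⟶ C) (m : ℕ) (x : Coh.HH X A m) :
    mapLin k g m (mapLin k f m x) = mapLin k (f ≫ g) m x :=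
  PnCoh.Finite.map_map (Y := X.toPresheafedSpace.carrier) ((QCoh.toAbFunctor X).map_comp f g).symm m x

theorem mapLin_id {A : X.Modules} (m : ℕ) (x : Coh.HH X A m) : mapLin k (𝟙 A) m x = x := by
  show Sheaf.H.map ((QCoh.toAbFunctor X).map (𝟙 A)) m x = x
  rw [CategoryTheory.Functor.map_id, Sheaf.H.map_id_apply]

/-- A sum of copies has at least as much cohomology as the copies together. -/
theorem finrank_decomp_le {r : ℕ} {V M : X.Modules} (d : Decomp (Fin r) V M) (m : ℕ)
    [Module.Finite k (Coh.HH X M m)] :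
    r * Module.finrank k (Coh.HH X V m) ≤ Module.finrank k (Coh.HH X M m) := by
  classical
  let i₁ : (Fin r → Coh.HH X V m) →ₗ[k] Coh.HH X M m := ∑ j, (mapLin k (d.i j) m).comp (LinearMap.proj j)
  have hi : Function.Injective i₁ := by
    intro c c' h
    funext l
    have key : ∀ c : Fin r → Coh.HH X V m, mapLin k (d.p l) m (i₁ c) = c l := fun c => by
      simp only [i₁, LinearMap.sum_apply, LinearMap.comp_apply, LinearMap.proj_apply, map_sum, mapLin_mapLin]
      rw [Finset.sum_eq_single l]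
      · rw [d.orth, if_pos rfl, mapLin_id]
      · intro j _ hj
        rw [d.orth, if_neg hj, CurveDuality.mapLin_zero]
      · simp
    rw [← key c, ← key c', h]
  by_cases hf : Module.Finite k (Coh.HH X V m)
  · have h := LinearMap.finrank_le_finrank_of_injective hi
    rwa [Module.finrank_pi_fintype, Finset.sum_const, Finset.card_univ, Fintype.card_fin, smul_eq_mul] at h
  · rw [Module.finrank_of_not_finite hf, mul_zero]
    exact Nat.zero_le _

variable [IsProper (X ↘ Spec (CommRingCat.of k))]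

/-- Surjectivity in the long exact sequence. -/
theorem mapLin_surjective {S : ShortComplex X.Modules} (hS : S.ShortExact) (m : ℕ)
    (h : Subsingleton (Coh.HH X S.X₁ (m + 1))) : Function.Surjective (mapLin k S.g m) := fun x => by
  haveI := h
  exact PnCoh.Finite.exists_of_deltaLin_eq_zero k hS m (Subsingleton.elim _ _)

variable {k}

/-- `O(t)` restricted to a hypersurface in space. -/
abbrev tm {d : ℕ} (F : LefPen.Form 3 k d) (t : ℤ) : (LefPen.hypIdeal F).subscheme.Modules :=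
  (Scheme.Modules.pullback (LefPen.hypIdeal F).subschemeι).obj (Twist.twistProjSpace 3 k t)

section Hyp

variable {d : ℕ} (F : LefPen.Form 3 k d) (hd : 6 ≤ d) (hF : F ≠ 0)
  [(LefPen.hypIdeal F).subscheme.Over (Spec (CommRingCat.of k))]
  (hover : (LefPen.hypIdeal F).subscheme ↘ Spec (CommRingCat.of k) =
    (LefPen.hypIdeal F).subschemeι ≫ CohB1.ProjSpace.toSpec 3 k)

include hover hd hF in
theorem cohomology (t : ℤ) :
    Module.finrank k (Coh.HH (LefPen.hypIdeal F).subscheme (tm F t) 2) =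
      Nat.choose ((d : ℤ) - 1 - t).toNat 3 - Nat.choose (-1 - t).toNat 3 ∧
      Subsingleton (Coh.HH (LefPen.hypIdeal F).subscheme (tm F t) 3) := by
  obtain ⟨hv, -, -, h2⟩ := S19434.result k 2 d (by norm_num) (by omega) (LefPen.hypIdeal F)
    (PlaneCurveCoh.idealMod_hyp_iso F hF) t
  have hq : ∀ q, Nonempty (Coh.HH (LefPen.hypIdeal F).subscheme (tm F t) q ≃ₗ[k]
      Coh.HH (CohB1.ProjSpace 3 k) (CohB1.tensorMod (ClSub.quotMod (LefPen.hypIdeal F))
        (Twist.twistProjSpace 3 k t)) q) := fun q =>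
    PlaneCurveCoh.exists_linearEquiv_closed (LefPen.hypIdeal F).subschemeι k hover.symm
      (ProjUPX.isQCoh_of_isInvertible (KPn.inv_tw k 3 t)) q
  refine ⟨(hq 2).some.finrank_eq.trans (h2.trans ?_), ?_⟩
  · congr 2 <;> omega
  · haveI := hv 3 (by norm_num) (by norm_num)
    exact (hq 3).some.toEquiv.subsingleton

variable [Smooth ((LefPen.hypIdeal F).subschemeι ≫ CohB1.ProjSpace.toSpec 3 k)]

include hd hF hover in
/-- `H²` of the dual of the sheaf of differentials is not zero. -/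
theorem nontrivial_H2 : Nontrivial (Coh.HH (LefPen.hypIdeal F).subscheme
    (H23.Chern.dual (Omega.sheaf ((LefPen.hypIdeal F).subschemeι ≫ CohB1.ProjSpace.toSpec 3 k))) 2) := by
  haveI : IsProper (CohB1.ProjSpace.toSpec 3 k) := PnCoh.Chow.isProper_toSpec.{u} 3 k
  haveI : IsProper ((LefPen.hypIdeal F).subscheme ↘ Spec (CommRingCat.of k)) := by rw [hover]; infer_instance
  haveI : AlgebraicGeometry.IsNoetherian (LefPen.hypIdeal F).subscheme := CurveCohLib.isNoetherian_of_proper (k := k)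
  let ι := (LefPen.hypIdeal F).subschemeι
  let f := CohB1.ProjSpace.toSpec 3 k
  have hΩP := Synt29.PnEuler.rank_omega 3 k
  have hΩ' : FlatMod.IsFinLocFree ((Scheme.Modules.pullback ι).obj (Omega.sheaf f)) :=
    SeesawX.isFinLocFree_pullback ι (Synt29.PnEuler.isFinLocFree_of_rank hΩP)
  have hΩZ : FlatMod.IsFinLocFree (Omega.sheaf (ι ≫ f)) :=
    S5018.result (ι ≫ f) ((S1488.result _).1 inferInstance).2 _ _ (OmegaUniv.isUniversal_dOmega _)
  -- the normal sequence
  obtain ⟨φ, hφ⟩ := GrpOmega.exists_conormalDiff f ι (Omega.sheaf f) (OmegaSh.dOmega f)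
  obtain ⟨c, hc, -⟩ := S9370.result f (ι ≫ f) ι (𝟙 _) (Category.comp_id _) (Omega.sheaf f) (OmegaSh.dOmega f)
    (OmegaUniv.isUniversal_dOmega f) (Omega.sheaf (ι ≫ f)) (OmegaSh.dOmega (ι ≫ f))
    (OmegaUniv.isUniversal_dOmega (ι ≫ f))
  obtain ⟨hepi, him⟩ := S5976.result f ι (Omega.sheaf f) (OmegaSh.dOmega f) (OmegaUniv.isUniversal_dOmega f)
    (Omega.sheaf (ι ≫ f)) (OmegaSh.dOmega (ι ≫ f)) (OmegaUniv.isUniversal_dOmega (ι ≫ f)) φ hφ c hc
  haveI : Mono φ := S5020.result ι f ((S1488.result (ι ≫ f)).mp inferInstance).2 (Omega.sheaf f)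
    (OmegaSh.dOmega f) (OmegaUniv.isUniversal_dOmega f) φ hφ
  have w : φ ≫ c = 0 := by
    rw [← imageSubobject_arrow_comp φ, Category.assoc]
    refine (congrArg (factorThruImageSubobject φ ≫ ·) ?_).trans comp_zero
    have hle : imageSubobject φ ≤ kernelSubobject c := him.le
    rw [← Subobject.ofLE_arrow hle, Category.assoc, kernelSubobject_arrow_comp, comp_zero]
  have hS : (ShortComplex.mk φ c w).ShortExact :=
    { exact := (ShortComplex.exact_iff_image_eq_kernel _).2 him }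
  obtain ⟨a₁, b₁, w₁, hD⟩ := H23.Chern.shortExact_dual hS (QCoh.isQCoh_of_isFinLocFree hΩ') hΩZ
  have htm : ∀ t : ℤ, PicF.IsInvertible (tm F t) := fun t => PicClLib.isInvertible_pullback _ (KPn.inv_tw k 3 t)
  have hdual : ∀ {M : (LefPen.hypIdeal F).subscheme.Modules} (t : ℤ), PicF.cl M = PicF.cl (tm F t) →
      PicF.cl (H23.Chern.dual M) = PicF.cl (tm F (-t)) := by
    intro M t hM
    obtain ⟨e⟩ := cl_eq_iff.1 hM
    obtain ⟨ed⟩ := H23.Chern.exists_dual_inverse (L := M)
      (fun y => by obtain ⟨U, hy, ⟨g⟩⟩ := htm t y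
                   exact ⟨U, hy, ⟨(Scheme.Modules.restrictFunctor U.ι).mapIso e ≪≫ g⟩⟩)
    have h1 : PicF.cl M * PicF.cl (H23.Chern.dual M) = 1 := by
      rw [← cl_tensor, one_def]; exact cl_eq_iff.2 ⟨ed⟩
    have h2 : PicF.cl (tm F (-t)) * PicF.cl M = 1 := by
      rw [hM]
      show PicF.pullCl ι (Synt29.PnEuler.tw 3 k (-t)) * PicF.pullCl ι (Synt29.PnEuler.tw 3 k t) = 1
      rw [← pullCl_mul, Synt29.PnEuler.tw_add, neg_add_cancel, Synt29.PnEuler.tw_zero, pullCl_one]
    exact (left_inv_eq_right_inv h2 h1).symm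
  have hN : PicF.cl (H23.Chern.dual (Omega.conormal ι)) = PicF.cl (tm F (d : ℤ)) := by
    rw [hdual (-(d : ℤ)) ?_, neg_neg]
    show PicF.pullCl ι (PicF.cl (ClSub.idealMod ι.ker)) = _
    rw [Scheme.IdealSheafData.ker_subschemeι,
      (cl_eq_iff.2 (PlaneCurveCoh.idealMod_hyp_iso F hF) : PicF.cl (ClSub.idealMod _) = _)]
    rfl
  have hT : Function.Surjective (mapLin k a₁ 2) := by
    intro x
    have hz : Module.finrank k (Coh.HH (LefPen.hypIdeal F).subscheme (H23.Chern.dual (Omega.conormal ι)) 2) = 0 := by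
      obtain ⟨e⟩ := cl_eq_iff.1 hN
      rw [(CurveCohLib.hhEquiv (k := k) e 2).finrank_eq, (cohomology F hd hF hover _).1,
        Nat.choose_eq_zero_of_lt (by omega), Nat.zero_sub]
    obtain ⟨e⟩ := cl_eq_iff.1 hN
    haveI := CurveCohLib.finite_HH (k := k) (PushLocFree.isCoh_of_isFinLocFree
      (H23.PullPush.isFinLocFree_of_iso e.symm (Hirz.lf_inv (htm (d : ℤ))))) 2
    haveI : Subsingleton (Coh.HH (LefPen.hypIdeal F).subscheme (H23.Chern.dual (Omega.conormal ι)) 2) :=
      Module.finrank_zero_iff.1 hz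
    have hker : x ∈ LinearMap.ker (mapLin k b₁ 2) := Subsingleton.elim _ _
    rw [CurveCohLib.ker_mapLin_g k hD 2] at hker
    exact hker
  -- the dual Euler sequence
  obtain ⟨S₀, hS₀, hK1, hO1, hS3, ⟨eK⟩, ⟨eF⟩⟩ := Synt29.PnEuler.exists_taut_ses 3 k
  let V := Twist.twistProjSpace 3 k (-1)
  have hV := lf_inv' (KPn.inv_tw k 3 (-1))
  have hT₀ := KFlatLib.shortExact_tensor_of_isFlat V hS₀ (KFlatLib.isFlat_of_isFinLocFree
    (Synt29.PnEuler.isFinLocFree_of_rank hO1))
  have hX₂ : FlatMod.IsFinLocFree (((DCoh.tensorBi (X := CohB1.ProjSpace 3 k)).obj V).obj S₀.X₂) :=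
    KFlatLib.isFinLocFree_tensor hV (H23.PullPush.isFinLocFree_of_iso eF.symm (Synt29.PnEuler.isFinLocFree_freeMod _))
  have hX₃ : FlatMod.IsFinLocFree (((DCoh.tensorBi (X := CohB1.ProjSpace 3 k)).obj V).obj S₀.X₃) :=
    KFlatLib.isFinLocFree_tensor hV (Synt29.PnEuler.isFinLocFree_of_rank hO1)
  have hU := PullVB.shortExact_pullback ι hT₀ (KFlatLib.isFlat_of_isFinLocFree hX₃)
  obtain ⟨a₂, b₂, w₂, hE⟩ := H23.Chern.shortExact_dual hU
    (QCoh.isQCoh_of_isFinLocFree (SeesawX.isFinLocFree_pullback ι hX₂)) (SeesawX.isFinLocFree_pullback ι hX₃)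
  have h3 : PicF.cl (H23.Chern.dual (((S₀.map ((DCoh.tensorBi (X := CohB1.ProjSpace 3 k)).obj V)).map
      (Scheme.Modules.pullback ι)).X₃)) = PicF.cl (tm F 0) := by
    rw [hdual 0 ?_, neg_zero]
    show PicF.pullCl ι (PicF.cl (((DCoh.tensorBi (X := CohB1.ProjSpace 3 k)).obj V).obj S₀.X₃)) = _
    rw [Synt29.PnEuler.cl_tens, hS3, Synt29.PnEuler.tw_add]
    rfl
  obtain ⟨h2d⟩ : Nonempty (Decomp (Fin 4) (H23.Chern.dual (tm F (-1)))
      (H23.Chern.dual (((S₀.map ((DCoh.tensorBi (X := CohB1.ProjSpace 3 k)).obj V)).map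
        (Scheme.Modules.pullback ι)).X₂))) := by
    obtain ⟨d₀⟩ := decomp_pull_free ι V eF
    exact ⟨dualDecomp d₀⟩
  obtain ⟨eV⟩ := cl_eq_iff.1 (hdual (M := tm F (-1)) (-1) rfl)
  obtain ⟨e3⟩ := cl_eq_iff.1 h3
  have h1 : PicF.cl (((S₀.map ((DCoh.tensorBi (X := CohB1.ProjSpace 3 k)).obj V)).map
      (Scheme.Modules.pullback ι)).X₁) = PicF.cl ((Scheme.Modules.pullback ι).obj (Omega.sheaf f)) := by
    show PicF.pullCl ι (PicF.cl (((DCoh.tensorBi (X := CohB1.ProjSpace 3 k)).obj V).obj S₀.X₁)) = _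
    rw [Synt29.PnEuler.cl_tens, cl_eq_iff.2 ⟨eK⟩, cl_tensor, ← mul_assoc, Synt29.PnEuler.tw_add, neg_add_cancel,
      Synt29.PnEuler.tw_zero, one_mul]
    rfl
  obtain ⟨e1⟩ := cl_eq_iff.1 h1
  by_contra hcon
  rw [not_nontrivial_iff_subsingleton] at hcon
  haveI : Subsingleton (Coh.HH (LefPen.hypIdeal F).subscheme
      (H23.Chern.dual ((Scheme.Modules.pullback ι).obj (Omega.sheaf f))) 2) := hT.subsingleton
  haveI : Subsingleton (Coh.HH (LefPen.hypIdeal F).subscheme (H23.Chern.dual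
      (((S₀.map ((DCoh.tensorBi (X := CohB1.ProjSpace 3 k)).obj V)).map (Scheme.Modules.pullback ι)).X₁)) 2) :=
    (CurveCohLib.hhEquiv (k := k) (dualIso e1) 2).toEquiv.symm.subsingleton
  have hsurj : Function.Surjective (mapLin k a₂ 2) := by
    intro x
    have hker : x ∈ LinearMap.ker (mapLin k b₂ 2) := Subsingleton.elim _ _
    rw [CurveCohLib.ker_mapLin_g k hE 2] at hker
    exact hker
  obtain ⟨c0, -⟩ := cohomology F hd hF hover 0
  obtain ⟨c1, -⟩ := cohomology F hd hF hover 1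
  have hfin : Module.Finite k (Coh.HH (LefPen.hypIdeal F).subscheme (tm F 0) 2) :=
    CurveCohLib.finite_HH (PushLocFree.isCoh_of_isFinLocFree (Hirz.lf_inv (htm 0))) 2
  let g3 := CurveCohLib.hhEquiv (k := k) e3 2
  haveI := Module.Finite.equiv g3.symm
  haveI := Module.Finite.of_surjective (mapLin k a₂ 2) hsurj
  have hle : Module.finrank k (Coh.HH (LefPen.hypIdeal F).subscheme (H23.Chern.dual
      (((S₀.map ((DCoh.tensorBi (X := CohB1.ProjSpace 3 k)).obj V)).map (Scheme.Modules.pullback ι)).X₂)) 2) ≤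
      Nat.choose (d - 1) 3 := by
    refine ((mapLin k a₂ 2).finrank_range_le.trans' (by rw [LinearMap.range_eq_top.2 hsurj, finrank_top])).trans ?_
    rw [g3.finrank_eq, c0, show ((d : ℤ) - 1 - 0).toNat = d - 1 by omega]
    exact Nat.sub_le _ _
  have h4 := (finrank_decomp_le k (h2d.ofIsoSummand eV) 2).trans hle
  rw [show -(-1 : ℤ) = 1 by ring, c1, show ((d : ℤ) - 1 - 1).toNat = d - 2 by omega,
    show (-1 - 1 : ℤ).toNat = 0 by omega, Nat.choose_zero_succ, Nat.sub_zero] at h4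
  obtain ⟨m, rfl⟩ : ∃ m, d = m + 6 := ⟨d - 6, by omega⟩
  rw [show m + 6 - 1 = (m + 4) + 1 from by omega, show m + 6 - 2 = m + 4 from by omega,
    Nat.choose_succ_succ (m + 4) 2] at h4
  have h5 := Nat.choose_succ_right_eq (m + 4) 2
  simp only [show m + 4 - 2 = m + 2 from by omega, Nat.reduceAdd, Nat.succ_eq_add_one] at h4 h5
  have hpos : 0 < (m + 4).choose 2 := Nat.choose_pos (by omega)
  nlinarith [Nat.zero_le (m * (m + 4).choose 2)]

end Hyp

end Groth.Agent.H28.TanHyp
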