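import Groth.Agent.Synt29.VirtClass
import Groth.Agent.Euler.Main
import Groth.Agent.H28.PBFree
import Groth.Agent.H28.DualCh
import Groth.Agent.H28.ExtFil
import Groth.Agent.H28.KvbAmple
import Groth.Agent.H28.KvbPull
import Groth.Agent.H28.PullVB
import Groth.Agent.H28.BlowEmb
import Groth.Agent.H28.KRRReg
import Groth.Prelude.Def_KRR
import Groth.Prelude.Def_Omega2

/-!
# The tangent element of an embedding into projective space
-/

set_option autoImplicit false
set_option linter.style.haveILetI false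
set_option linter.unusedSectionVars false
set_option backward.isDefEq.respectTransparency false
set_option backward.isDefEq.respectTransparency.types false
set_option maxHeartbeats 1000000

universe v u

open CategoryTheory CategoryTheory.Limits AlgebraicGeometry
attribute [local instance] HasDerivedCategory.standard

noncomputable section

namespace Groth.Agent.H28.TangEl

open Groth.Agent Groth.Agent.H28.KvbLam

variable {X Y : Scheme.{u}} {KX : Type v} [CommRing KX] [LambdaRing.LambdaOps KX]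
  {PX : LambdaRing.PosStructure KX} {φX : SGA6.Kvb X →+ KX}

/-- The class of the dual of an invertible module is the inverse. -/
theorem mul_dual (hK : KRR.IsModel X KX PX φX) {L : X.Modules} (hL : PicF.IsInvertible L)
    (hlf : FlatMod.IsFinLocFree L) : φX (cl L) * φX (cl (H23.Chern.dual L)) = 1 := by
  obtain ⟨e⟩ := H23.Chern.exists_dual_inverse hL
  refine (hK.map_mul _ _ hlf (DualCh.lf_dual hlf)).trans (Eq.trans ?_ hK.map_one)
  exact congrArg φX (GenPush.cl_iso e (lf_tens hlf (DualCh.lf_dual hlf)) lf_O)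

/-- `[T] = (n + 1)[O(1)] - 1`, pulled back. -/
theorem dual_omega (hK : KRR.IsModel X KX PX φX) {D : SGA6.Kvb X →+ SGA6.Kvb X}
    (hD : ∀ F : X.Modules, FlatMod.IsFinLocFree F → D (KRR.cl X F) = KRR.cl X (H23.Chern.dual F))
    (n : ℕ) (i : X ⟶ KRR.PY n Y) (Ω : (KRR.PY n Y).Modules) (d : OmegaSh.Der (KRR.pr n Y) Ω)
    (hd : OmegaSh.IsUniversal d) :
    φX (D (cl ((Scheme.Modules.pullback i).obj Ω))) =
      ((n + 1 : ℕ) : KX) * φX (cl ((Scheme.Modules.pullback i).obj (Twist.twistOver n Y 1))) - 1 := by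
  haveI : Smooth (KRR.pr n Y) := BlowEmb.smooth_pr n Y
  obtain ⟨q, hq⟩ := PBFree.exists_isProjBundle n Y
  haveI : Epi q := hq.epi
  obtain ⟨eK⟩ := Euler.nonempty_iso q d hq hd (fun x => ⟨⊤, n + 1, trivial,
    H23.Frame.exists_iso_of_frame _ (H23.Frame.incl_isFrame (X := Y) (n := n + 1))⟩)
  have hΩ : FlatMod.IsFinLocFree Ω := S5018.result (KRR.pr n Y) ((S1488.result (KRR.pr n Y)).1 inferInstance).2 Ω d hd
  have hO : FlatMod.IsFinLocFree (Twist.twistOver n Y 1) := KvbModel.lf_of_rank (PBFree.rank_twistOver n Y)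
  have hker : FlatMod.IsFinLocFree (kernel q) := H23.PullPush.isFinLocFree_of_iso eK (lf_tens hΩ hO)
  let S : ShortComplex (KRR.PY n Y).Modules := ShortComplex.mk (kernel.ι q) q (kernel.condition q)
  have hS : S.ShortExact := { exact := ShortComplex.exact_of_f_is_kernel _ (kernelIsKernel q) }
  have hS' := PullVB.shortExact_pullback i hS (KFlatLib.isFlat_of_isFinLocFree hO)
  have hfree : FlatMod.IsFinLocFree ((Scheme.Modules.pullback (KRR.pr n Y)).obj (FlatMod.freeMod Y (n + 1))) :=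
    H23.PullPush.isFinLocFree_of_iso (KFlatLib.pullFreeIso (KRR.pr n Y) (n + 1)).symm
      (fun _ => ⟨⊤, n + 1, trivial, H23.Frame.exists_iso_of_frame _ (H23.Frame.incl_isFrame (X := KRR.PY n Y) (n := n + 1))⟩)
  have hadd := KZ.clSub_ses (KRR.vbP X) hS' (KvbPull.lf_pull i hker) (KvbPull.lf_pull i hfree) (KvbPull.lf_pull i hO)
  have h2 : cl ((Scheme.Modules.pullback i).obj ((Scheme.Modules.pullback (KRR.pr n Y)).obj (FlatMod.freeMod Y (n + 1)))) =
      (n + 1) • cl (Coh.structureModule X) := by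
    rw [← KvbAmple.cl_free]
    exact KvbLam.cl_iso ((Scheme.Modules.pullback i).mapIso (KFlatLib.pullFreeIso (KRR.pr n Y) (n + 1)) ≪≫
      KFlatLib.pullFreeIso i (n + 1)) (KvbPull.lf_pull i hfree)
  set A := (Scheme.Modules.pullback i).obj Ω with hA
  set L := (Scheme.Modules.pullback i).obj (Twist.twistOver n Y 1) with hLdef
  have hlA : FlatMod.IsFinLocFree A := KvbPull.lf_pull i hΩ
  have hlL : FlatMod.IsFinLocFree L := KvbPull.lf_pull i hO
  have h1 : φX (cl ((Scheme.Modules.pullback i).obj (kernel q))) = φX (cl A) * φX (cl L) := by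
    refine Eq.trans ?_ (hK.map_mul _ _ hlA hlL).symm
    exact congrArg φX (KvbLam.cl_iso ((Scheme.Modules.pullback i).mapIso eK.symm ≪≫
      KvbPull.tensIso i Ω (Twist.twistOver n Y 1)) (KvbPull.lf_pull i hker))
  have hinv : PicF.IsInvertible L := PicClLib.isInvertible_pullback _ (KRRReg.isInvertible_twistOver 1)
  have hmd := mul_dual hK hinv hlL
  have hld : FlatMod.IsFinLocFree (H23.Chern.dual L) := DualCh.lf_dual hlL
  have key : cl A = (n + 1) • cl (H23.Chern.dual L) - cl (Coh.structureModule X) := by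
    apply hK.bijective.1
    have h3 : φX ((n + 1) • cl (Coh.structureModule X)) = ((n + 1 : ℕ) : KX) := by
      rw [map_nsmul, hK.map_one, nsmul_eq_mul, mul_one]
    have h4 : ((n + 1 : ℕ) : KX) = φX (cl A) * φX (cl L) + φX (cl L) := by
      rw [← h1, ← map_add, ← h3]
      exact congrArg φX (h2.symm.trans hadd)
    rw [map_sub, map_nsmul, hK.map_one, nsmul_eq_mul, h4]
    linear_combination (-(φX (cl A)) - 1) * hmd
  have hdO : φX (cl (H23.Chern.dual (Coh.structureModule X))) = 1 := by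
    have h := mul_dual hK (InvX.isInvertible_structureModule (X := X)) lf_O
    rwa [hK.map_one, one_mul] at h
  have hdd : φX (cl (H23.Chern.dual (H23.Chern.dual L))) = φX (cl L) := by
    have hdinv : PicF.IsInvertible (H23.Chern.dual L) :=
      PBCores.isInvertible_iff_rank.2 (H23.Chern.Filt.exists_dual.rank_dual_line hinv)
    have h := mul_dual hK hdinv hld
    linear_combination (φX (cl L)) * h - φX (cl (H23.Chern.dual (H23.Chern.dual L))) * hmd
  rw [key, map_sub, map_nsmul, hD _ hld, hD _ lf_O, map_sub, map_nsmul, nsmul_eq_mul, hdd, hdO]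

/-- Independence of the factorization. -/
theorem main (n m : ℕ) (i₁ : X ⟶ KRR.PY n Y) [IsClosedImmersion i₁] (i₂ : X ⟶ KRR.PY m Y) [IsClosedImmersion i₂]
    (h : i₁ ≫ KRR.pr n Y = i₂ ≫ KRR.pr m Y) {c₁ c₂ : ℕ}
    (hC₁ : FlatMod.IsFinLocFreeOfRank c₁ (Omega.conormal i₁)) [DCoh.HasSheafHom (Omega.conormal i₁)]
    (hC₂ : FlatMod.IsFinLocFreeOfRank c₂ (Omega.conormal i₂)) [DCoh.HasSheafHom (Omega.conormal i₂)]
    (hK : KRR.IsModel X KX PX φX) :
    ((n + 1 : ℕ) : KX) * φX (KRR.cl X ((Scheme.Modules.pullback i₁).obj (Twist.twistOver n Y 1))) - 1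
        - φX (KRR.cl X ((DCoh.sheafHom (Omega.conormal i₁)).obj (Coh.structureModule X))) =
      ((m + 1 : ℕ) : KX) * φX (KRR.cl X ((Scheme.Modules.pullback i₂).obj (Twist.twistOver m Y 1))) - 1
        - φX (KRR.cl X ((DCoh.sheafHom (Omega.conormal i₂)).obj (Coh.structureModule X))) := by
  haveI := BlowEmb.smooth_pr n Y
  haveI := BlowEmb.smooth_pr m Y
  obtain ⟨W, p, p', j, _, _, _, hj, hj', -, hiso, hiso'⟩ :=
    Synt29.CommonFact.exists_common (KRR.pr n Y) (KRR.pr m Y) i₁ i₂ h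
  obtain ⟨Ωp, dp, hdp, a₁, b₁, w₁, hS₁⟩ := Synt29.VirtClass.exists_ses p j i₁ hj
  obtain ⟨Ωq, dq, hdq, a₂, b₂, w₂, hS₂⟩ := Synt29.VirtClass.exists_ses p' j i₂ hj'
  obtain ⟨Ω₁, d₁, hd₁⟩ := Synt29.OmegaExists.exists_isUniversal (KRR.pr n Y)
  obtain ⟨Ω₂, d₂, hd₂⟩ := Synt29.OmegaExists.exists_isUniversal (KRR.pr m Y)
  obtain ⟨e₂⟩ := hiso Ω₂ d₂ hd₂ Ωp dp hdp
  obtain ⟨e₁⟩ := hiso' Ω₁ d₁ hd₁ Ωq dq hdq
  have hN₁ := KvbModel.lf_of_rank hC₁
  have hN₂ := KvbModel.lf_of_rank hC₂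
  have hP := Synt29.VirtClass.isFinLocFree_pullback_omega p j Ωp dp hdp
  have hQ := Synt29.VirtClass.isFinLocFree_pullback_omega p' j Ωq dq hdq
  have hNj : FlatMod.IsFinLocFree (Omega.conormal j) := ExtFil.isFinLocFree_mid hS₁ hN₁ hP
  have k1 := Synt29.VirtClass.cl_ses a₁ b₁ w₁ hS₁ hN₁ hNj hP
  have k2 := Synt29.VirtClass.cl_ses a₂ b₂ w₂ hS₂ hN₂ hNj hQ
  obtain ⟨D, hD⟩ := DualCh.exists_dualHom X
  have hOp : cl ((Scheme.Modules.pullback j).obj Ωp) = cl ((Scheme.Modules.pullback i₂).obj Ω₂) :=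
    KvbLam.cl_iso e₂ hP
  have hOq : cl ((Scheme.Modules.pullback j).obj Ωq) = cl ((Scheme.Modules.pullback i₁).obj Ω₁) :=
    KvbLam.cl_iso e₁ hQ
  have E := congrArg (fun x => φX (D x)) (k1.symm.trans k2)
  simp only [map_add] at E
  rw [show KRR.cl X ((Scheme.Modules.pullback j).obj Ωp) = _ from hOp,
    show KRR.cl X ((Scheme.Modules.pullback j).obj Ωq) = _ from hOq,
    dual_omega hK hD m i₂ Ω₂ d₂ hd₂, dual_omega hK hD n i₁ Ω₁ d₁ hd₁, hD _ hN₁, hD _ hN₂] at E
  have s₁ : φX (KRR.cl X ((DCoh.sheafHom (Omega.conormal i₁)).obj (Coh.structureModule X))) =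
      φX (KRR.cl X (H23.Chern.dual (Omega.conormal i₁))) :=
    congrArg φX (KvbLam.cl_iso (H23.Chern.sheafHomDual _) (H23.PullPush.isFinLocFree_of_iso (H23.Chern.sheafHomDual _).symm (DualCh.lf_dual hN₁)))
  have s₂ : φX (KRR.cl X ((DCoh.sheafHom (Omega.conormal i₂)).obj (Coh.structureModule X))) =
      φX (KRR.cl X (H23.Chern.dual (Omega.conormal i₂))) :=
    congrArg φX (KvbLam.cl_iso (H23.Chern.sheafHomDual _) (H23.PullPush.isFinLocFree_of_iso (H23.Chern.sheafHomDual _).symm (DualCh.lf_dual hN₂)))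
  rw [s₁, s₂]
  linear_combination -E

end Groth.Agent.H28.TangEl

end
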