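import Groth.Agent.H28.TorPowers
import Groth.Agent.S15828
import Mathlib.LinearAlgebra.ExteriorPower.Basis

/-!
# Tor of two quotients by partly equal Koszul regular sequences
-/

set_option autoImplicit false
set_option linter.style.haveILetI false
set_option linter.unusedSectionVars false
set_option backward.isDefEq.respectTransparency false
set_option backward.isDefEq.respectTransparency.types false
set_option maxHeartbeats 1000000

universe u

open CategoryTheory CategoryTheory.Limits MonoidalCategory CochainComplex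
attribute [local instance] HasDerivedCategory.standard

noncomputable section

namespace Groth.Agent.H28.TorExt

open Groth.Agent Groth.Agent.H9Misc Groth.Agent.H9Misc.TorBalance Groth.Agent.H9Misc.DRingLTensor Groth.Agent.KFlatLib

variable {A : Type u} [CommRing A]

local notation "K(" fs ", " M ")" => CohIII.koszulCx M fs

/-- Koszul complexes do not depend on the order of two blocks. -/
theorem nonempty_swap (f g : List A) : Nonempty (Koszul.koszul A (f ++ g) ≅ Koszul.koszul A (g ++ f)) := by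
  obtain ⟨a⟩ := S15828.result A f g
  obtain ⟨b⟩ := S15828.result A g f
  let a' : ((T (A := A)).obj (Koszul.koszul A f)).obj (Koszul.koszul A g) ≅ Koszul.koszul A (f ++ g) := a
  let b' : ((T (A := A)).obj (Koszul.koszul A g)).obj (Koszul.koszul A f) ≅ Koszul.koszul A (g ++ f) := b
  exact ⟨a'.symm ≪≫ ((symmIso (curriedTensorFlipIso (A := A)) (Koszul.koszul A g)).app (Koszul.koszul A f)) ≪≫ b'⟩

theorem nonempty_rotate (f g h : List A) :
    Nonempty (Koszul.koszul A (f ++ g ++ h) ≅ Koszul.koszul A (g ++ (f ++ h))) := by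
  obtain ⟨s⟩ := nonempty_swap f g
  obtain ⟨a⟩ := S15828.result A (f ++ g) h
  obtain ⟨b⟩ := S15828.result A (g ++ f) h
  let a' : ((T (A := A)).obj (Koszul.koszul A (f ++ g))).obj (Koszul.koszul A h) ≅ Koszul.koszul A (f ++ g ++ h) := a
  let b' : ((T (A := A)).obj (Koszul.koszul A (g ++ f))).obj (Koszul.koszul A h) ≅ Koszul.koszul A (g ++ f ++ h) := b
  exact ⟨a'.symm ≪≫ ((T (A := A)).mapIso s).app (Koszul.koszul A h) ≪≫ b' ≪≫
    eqToIso (by rw [List.append_assoc])⟩

theorem vanishesAbove_koszul (l : List A) : DRing.VanishesAbove (Koszul.koszul A l) 0 := fun j hj => by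
  show IsZero ((Koszul.koszul A l).X j)
  rw [Synt29.koszul_eq]
  exact Koszul15.isZero_X (ModuleCat.of A A) l j (Or.inl hj)

theorem exists_aug (l : List A) (hl : LCI.IsKoszulRegularSeq A l) :
    ∃ π : Koszul.koszul A l ⟶ sgl (ModuleCat.of A (A ⧸ Ideal.ofList l)), QuasiIso π := by
  obtain ⟨t⟩ := Koszul15.nonempty_top_equiv l (ModuleCat.of A A)
  have he : (Ideal.ofList l • (⊤ : Submodule A (ModuleCat.of A A)) : Submodule A A) = Ideal.ofList l := by
    show Ideal.ofList l • (⊤ : Submodule A A) = _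
    rw [smul_eq_mul, Ideal.mul_top]
  exact H23.KoszulTor.exists_quasiIso_single _ (vanishesAbove_koszul l) hl
    ((HomologicalComplex.homologyFunctor (ModuleCat.{u} A) (ComplexShape.up ℤ) 0).mapIso
      (eqToIso (Synt29.koszul_eq l)) ≪≫ t.toModuleIso ≪≫ (Submodule.quotEquivOfEq _ _ he).toModuleIso)

/-- With `g` still regular modulo `(f, h)`, the Koszul complex of `g` on that quotient is acyclic. -/
theorem isZero_H_tail (f g h : List A) (hfh : LCI.IsKoszulRegularSeq A (f ++ h))
    (hfgh : LCI.IsKoszulRegularSeq A (f ++ g ++ h)) (q : ℤ) (hq : q ≠ 0) :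
    IsZero (K(g, ModuleCat.of A (A ⧸ Ideal.ofList (f ++ h))).homology q) := by
  obtain ⟨π, hπ⟩ := exists_aug (f ++ h) hfh
  haveI := hπ
  let N : ModuleCat.{u} A := ModuleCat.of A (A ⧸ Ideal.ofList (f ++ h))
  let Kg := Koszul.koszul A g
  haveI : QuasiIso (((T (A := A)).obj Kg).map π ≫ (sglRightIso N).hom.app Kg) := by
    haveI := (kFlat_of_termwiseFlat (H23.KoszulTor.termwiseFlat_koszul g)
      (vanishesAbove_koszul g)).quasiIso_map' curriedTensorFlipIso π
    haveI : QuasiIso ((sglRightIso N).hom.app Kg) := inferInstanceAs (QuasiIso ((sglRightIso N).app Kg).hom)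
    exact quasiIso_comp _ _
  obtain ⟨e⟩ := GrLib8.KChi.nonempty_tensor_iso N g
  obtain ⟨a⟩ := S15828.result A g (f ++ h)
  obtain ⟨r⟩ := nonempty_rotate f g h
  let a' : ((T (A := A)).obj Kg).obj (Koszul.koszul A (f ++ h)) ≅ Koszul.koszul A (g ++ (f ++ h)) := a
  let H := HomologicalComplex.homologyFunctor (ModuleCat.{u} A) (ComplexShape.up ℤ) q
  refine (hfgh q hq).of_iso ?_
  exact (H.mapIso e).symm ≪≫
    (isoOfQuasiIsoAt (((T (A := A)).obj Kg).map π ≫ (sglRightIso N).hom.app Kg) q).symm ≪≫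
    H.mapIso (a' ≪≫ r.symm)

theorem smul_id_koszul (M : ModuleCat.{u} A) (f : A) (hf : f • 𝟙 M = 0) :
    ∀ l : List A, f • 𝟙 K(l, M) = 0
  | [] => by
    refine HomologicalComplex.from_single_hom_ext ?_
    rw [HomologicalComplex.smul_f_apply, HomologicalComplex.zero_f, HomologicalComplex.id_f]
    let e := HomologicalComplex.singleObjXSelf (ComplexShape.up ℤ) 0 M
    show f • 𝟙 (((HomologicalComplex.single (ModuleCat.{u} A) (ComplexShape.up ℤ) 0).obj M).X 0) = 0
    rw [← e.hom_inv_id, ← Category.id_comp e.inv, ← Linear.comp_smul, ← Linear.smul_comp, hf, zero_comp, comp_zero]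
  | g :: l => by
    have ih := smul_id_koszul M f hf l
    have h1 : (KonLib.F g).map (f • 𝟙 K(l, M)) = f • 𝟙 ((KonLib.F g).obj K(l, M)) := KonLib.F_map_smul g f _
    show f • 𝟙 ((KonLib.F g).obj K(l, M)) = 0
    rw [← h1, ih, Functor.map_zero]

/-- The homology of the cone of a zero map. -/
theorem nonempty_cone_zero {X Y : DRing.Cx A} (φ : X ⟶ Y) (hφ : φ = 0) (n : ℤ) :
    Nonempty ((mappingCone φ).homology n ≅ Y.homology n ⊞ X.homology (n + 1)) := by
  subst hφ
  let T₀ := DerivedCategory.Q.mapTriangle.obj (mappingCone.triangle (0 : X ⟶ Y))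
  have hT : T₀ ∈ Pretriangulated.distinguishedTriangles := DerivedCategory.mappingCone_triangle_distinguished _
  let r : mappingCone (0 : X ⟶ Y) ⟶ Y := mappingCone.desc _ 0 (𝟙 Y) (by simp)
  let H := fun i : ℤ => DerivedCategory.homologyFunctor (ModuleCat.{u} A) i
  have hr : T₀.mor₂ ≫ DerivedCategory.Q.map r = 𝟙 _ := by
    show DerivedCategory.Q.map (mappingCone.inr _) ≫ _ = _
    rw [← Functor.map_comp, mappingCone.inr_desc]
    exact DerivedCategory.Q.map_id _
  let δ := DerivedCategory.HomologySequence.δ T₀ n (n + 1) rfl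
  let S : ShortComplex (ModuleCat.{u} A) := ShortComplex.mk ((H n).map T₀.mor₂) δ
    (DerivedCategory.HomologySequence.comp_δ T₀ hT n (n + 1) rfl)
  have hex : S.Exact := DerivedCategory.HomologySequence.exact₃ T₀ hT n (n + 1) rfl
  haveI : Epi S.g := by
    refine (DerivedCategory.HomologySequence.exact₁ T₀ hT n (n + 1) rfl).epi_f ?_
    show (H (n + 1)).map (DerivedCategory.Q.map 0) = 0
    simp
  have hfr : S.f ≫ (H n).map (DerivedCategory.Q.map r) = 𝟙 _ := by
    show (H n).map _ ≫ _ = _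
    rw [← Functor.map_comp, hr]
    exact (H n).map_id _
  let σ := ShortComplex.Splitting.ofExactOfRetraction S hex ((H n).map (DerivedCategory.Q.map r)) hfr inferInstance
  let e : ∀ (Z : DRing.Cx A) (i : ℤ), (H i).obj (DerivedCategory.Q.obj Z) ≅ Z.homology i := fun Z i =>
    (DerivedCategory.homologyFunctorFactors (ModuleCat.{u} A) i).app Z
  exact ⟨(e _ n).symm ≪≫ σ.isoBinaryBiproduct ≪≫ biprod.mapIso (e Y n) (e X (n + 1))⟩

/-- The Betti numbers of a Koszul complex with zero differentials. -/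
def betti (s : ℕ) (q : ℤ) : ℕ := if q ≤ 0 then s.choose (-q).toNat else 0

theorem betti_succ (s : ℕ) (q : ℤ) : betti (s + 1) q = betti s q + betti s (q + 1) := by
  rcases lt_trichotomy q 0 with hq | rfl | hq
  · obtain ⟨m, rfl⟩ : ∃ m : ℕ, q = -((m : ℤ) + 1) := ⟨(-q - 1).toNat, by omega⟩
    have h1 : (-(-((m : ℤ) + 1))).toNat = m + 1 := by omega
    have h2 : (-(-((m : ℤ) + 1) + 1)).toNat = m := by omega
    rw [betti, betti, betti, if_pos hq.le, if_pos hq.le, if_pos (by omega), h1, h2, Nat.choose_succ_succ, add_comm]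
  · simp [betti]
  · rw [betti, betti, betti, if_neg (by omega), if_neg (by omega), if_neg (by omega)]

/-- `B^a × B^b = B^(a+b)`. -/
def addEquiv' (B : Type u) [AddCommGroup B] [Module A B] (a b : ℕ) :
    ((Fin a → B) × (Fin b → B)) ≃ₗ[A] (Fin (a + b) → B) :=
  (LinearEquiv.sumArrowLequivProdArrow (Fin a) (Fin b) A B).symm.trans
    (LinearEquiv.funCongrLeft A B finSumFinEquiv.symm)

/-- The Koszul cohomology when the first block kills the coefficients. -/
theorem nonempty_H (M : ModuleCat.{u} A) (g : List A) (B : Type u) [AddCommGroup B] [Module A B]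
    (h0 : Nonempty (K(g, M).homology 0 ≅ ModuleCat.of A B)) (hq : ∀ q : ℤ, q ≠ 0 → IsZero (K(g, M).homology q)) :
    ∀ l : List A, (∀ f ∈ l, f • 𝟙 M = 0) → ∀ q : ℤ,
      Nonempty (K(l ++ g, M).homology q ≅ ModuleCat.of A (Fin (betti l.length q) → B))
  | [], _, q => by
    rcases eq_or_ne q 0 with rfl | hq0
    · obtain ⟨e⟩ := h0
      show Nonempty (K(g, M).homology 0 ≅ ModuleCat.of A (Fin (betti 0 0) → B))
      rw [show betti 0 0 = 1 from rfl]
      exact ⟨e ≪≫ (LinearEquiv.funUnique (Fin 1) A B).symm.toModuleIso⟩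
    · have hb : betti 0 q = 0 := by
        rw [betti]
        split_ifs with h
        · exact Nat.choose_eq_zero_of_lt (by omega)
        · rfl
      show Nonempty (K(g, M).homology q ≅ ModuleCat.of A (Fin (betti 0 q) → B))
      rw [hb]
      exact ⟨(hq q hq0).iso (ModuleCat.isZero_of_subsingleton _)⟩
  | f :: l, hl, q => by
    obtain ⟨a⟩ := nonempty_H M g B h0 hq l (fun x hx => hl x (List.mem_cons_of_mem _ hx)) q
    obtain ⟨b⟩ := nonempty_H M g B h0 hq l (fun x hx => hl x (List.mem_cons_of_mem _ hx)) (q + 1)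
    obtain ⟨c⟩ := nonempty_cone_zero (f • 𝟙 K(l ++ g, M))
      (smul_id_koszul M f (hl f List.mem_cons_self) _) q
    show Nonempty ((mappingCone (f • 𝟙 K(l ++ g, M))).homology q ≅ _)
    rw [List.length_cons, betti_succ]
    exact ⟨c ≪≫ biprod.mapIso a b ≪≫ ModuleCat.biprodIsoProd _ _ ≪≫ (addEquiv' B _ _).toModuleIso⟩

theorem torsion_extPow (K : Ideal A) (M : Type u) [AddCommGroup M] [Module A M]
    (hM : ∀ (k : A), k ∈ K → ∀ m : M, k • m = 0) (i : ℕ) (hi : 1 ≤ i) :
    Module.IsTorsionBySet A (⋀[A]^i M) (K : Set A) := by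
  rintro x ⟨k, hk⟩
  show k • x = 0
  have hx : x ∈ Submodule.span A (Set.range (exteriorPower.ιMulti A i (M := M))) := by
    rw [exteriorPower.ιMulti_span]
    trivial
  induction hx using Submodule.span_induction with
  | mem y hy =>
    obtain ⟨m, rfl⟩ := hy
    obtain ⟨i, rfl⟩ : ∃ j, i = j + 1 := Nat.exists_eq_add_of_le' hi
    have h1 : k • exteriorPower.ιMulti A (i + 1) m = exteriorPower.ιMulti A (i + 1) (Function.update m 0 (k • m 0)) := by
      rw [AlternatingMap.map_update_smul, Function.update_eq_self]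
    rw [h1, hM k hk]
    exact (exteriorPower.ιMulti A (i + 1)).map_update_zero m 0
  | zero => exact smul_zero k
  | add a b _ _ ha hb => rw [smul_add, ha, hb, add_zero]
  | smul c a _ ha => rw [smul_comm, ha, smul_zero]

/-- Exterior powers of free modules over a quotient, taken over the ring itself. -/
theorem nonempty_extPow (K : Ideal A) (s i : ℕ) (hi : 1 ≤ i) :
    Nonempty ((⋀[A]^i (Fin s → A ⧸ K)) ≃ₗ[A] (Fin (s.choose i) → A ⧸ K)) := by
  classical
  let M := Fin s → A ⧸ K
  have htor := torsion_extPow K M (fun k hk m => funext fun j => by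
    show k • m j = 0
    obtain ⟨a, ha⟩ := Ideal.Quotient.mk_surjective (m j)
    rw [← ha]
    exact Ideal.Quotient.eq_zero_iff_mem.2 (K.mul_mem_right a hk)) i hi
  letI := htor.module
  haveI : IsScalarTower A (A ⧸ K) (⋀[A]^i M) := htor.isScalarTower
  let μ : M [⋀^Fin i]→ₗ[A] ⋀[A ⧸ K]^i M :=
    { (exteriorPower.ιMulti (A ⧸ K) i (M := M)).toMultilinearMap.restrictScalars A with
      map_eq_zero_of_eq' := fun v a b h h' => (exteriorPower.ιMulti (A ⧸ K) i (M := M)).map_eq_zero_of_eq v h h' }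
  let F : ⋀[A]^i M →ₗ[A] ⋀[A ⧸ K]^i M := exteriorPower.alternatingMapLinearEquiv μ
  let ν : M [⋀^Fin i]→ₗ[A ⧸ K] ⋀[A]^i M :=
    { toFun := exteriorPower.ιMulti A i (M := M)
      map_update_add' := fun v a x y => (exteriorPower.ιMulti A i (M := M)).map_update_add v a x y
      map_update_smul' := fun v a c x => by
        obtain ⟨c, rfl⟩ := Ideal.Quotient.mk_surjective c
        rw [← Ideal.Quotient.algebraMap_eq, algebraMap_smul, algebraMap_smul]
        exact (exteriorPower.ιMulti A i (M := M)).map_update_smul v a c x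
      map_eq_zero_of_eq' := fun v a b h h' => (exteriorPower.ιMulti A i (M := M)).map_eq_zero_of_eq v h h' }
  let G : ⋀[A ⧸ K]^i M →ₗ[A ⧸ K] ⋀[A]^i M := exteriorPower.alternatingMapLinearEquiv ν
  have hGF : (G.restrictScalars A).comp F = LinearMap.id := exteriorPower.linearMap_ext (AlternatingMap.ext fun v => by
    show G (F (exteriorPower.ιMulti A i v)) = exteriorPower.ιMulti A i v
    rw [exteriorPower.alternatingMapLinearEquiv_apply_ιMulti]
    exact exteriorPower.alternatingMapLinearEquiv_apply_ιMulti ν v)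
  have hsurj : Function.Surjective F := fun y => by
    have hy : y ∈ Submodule.span (A ⧸ K) (Set.range (exteriorPower.ιMulti (A ⧸ K) i (M := M))) := by
      rw [exteriorPower.ιMulti_span]
      trivial
    induction hy using Submodule.span_induction with
    | mem z hz =>
      obtain ⟨v, rfl⟩ := hz
      exact ⟨_, exteriorPower.alternatingMapLinearEquiv_apply_ιMulti μ v⟩
    | zero => exact ⟨0, map_zero F⟩
    | add a b _ _ ha hb =>
      obtain ⟨a, rfl⟩ := ha
      obtain ⟨b, rfl⟩ := hb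
      exact ⟨a + b, map_add F a b⟩
    | smul c a _ ha =>
      obtain ⟨a, rfl⟩ := ha
      obtain ⟨c, rfl⟩ := Ideal.Quotient.mk_surjective c
      refine ⟨c • a, (map_smul F c a).trans ?_⟩
      rw [← Ideal.Quotient.algebraMap_eq, algebraMap_smul]
  let e₁ : ⋀[A]^i M ≃ₗ[A] ⋀[A ⧸ K]^i M :=
    LinearEquiv.ofBijective F ⟨Function.LeftInverse.injective (g := G) (fun x => LinearMap.congr_fun hGF x), hsurj⟩
  let b := (Pi.basisFun (A ⧸ K) (Fin s)).exteriorPower (n := i)
  have hcard : Fintype.card (Set.powersetCard (Fin s) i) = s.choose i := by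
    rw [← Nat.card_eq_fintype_card, Set.powersetCard.card, Nat.card_eq_fintype_card, Fintype.card_fin]
  let e₂ : (⋀[A ⧸ K]^i M) ≃ₗ[A ⧸ K] (Fin (s.choose i) → A ⧸ K) :=
    (b.reindex (Fintype.equivFinOfCardEq hcard)).equivFun
  exact ⟨e₁.trans (e₂.restrictScalars A)⟩

/-- `Tor` of two quotients is an exterior power of the first one. -/
theorem main (f g h : List A)
    (hfg : LCI.IsKoszulRegularSeq A (f ++ g)) (hfh : LCI.IsKoszulRegularSeq A (f ++ h))
    (hfgh : LCI.IsKoszulRegularSeq A (f ++ g ++ h)) (i : ℕ) (hi : 1 ≤ i) :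
    Nonempty (((CategoryTheory.Tor (ModuleCat.{u} A) i).obj (ModuleCat.of A (A ⧸ Ideal.span {x | x ∈ f ++ g}))).obj (ModuleCat.of A (A ⧸ Ideal.span {x | x ∈ f ++ h})) ≅
      ModuleCat.of A (⋀[A]^i (((CategoryTheory.Tor (ModuleCat.{u} A) 1).obj (ModuleCat.of A (A ⧸ Ideal.span {x | x ∈ f ++ g}))).obj (ModuleCat.of A (A ⧸ Ideal.span {x | x ∈ f ++ h}))))) := by
  let J : Ideal A := Ideal.ofList (f ++ h)
  let K : Ideal A := J ⊔ Ideal.ofList g
  let N : ModuleCat.{u} A := ModuleCat.of A (A ⧸ J)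
  obtain ⟨π, hπ⟩ := exists_aug (f ++ g) hfg
  haveI := hπ
  obtain ⟨t⟩ := Koszul15.nonempty_top_equiv g N
  let P : Submodule A (A ⧸ J) := Ideal.ofList g • (⊤ : Submodule A (A ⧸ J))
  let ψ : A →ₗ[A] (A ⧸ J) ⧸ P := P.mkQ.comp (Submodule.mkQ (J : Submodule A A))
  have hP : P = Submodule.map (Submodule.mkQ (J : Submodule A A)) (Ideal.ofList g : Submodule A A) := by
    have h := Submodule.map_smul'' (Ideal.ofList g) (⊤ : Submodule A A) (Submodule.mkQ (J : Submodule A A))
    rw [Submodule.map_top, Submodule.range_mkQ, smul_eq_mul, Ideal.mul_top] at h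
    exact h.symm
  have hψ : LinearMap.ker ψ = (K : Submodule A A) := by
    rw [LinearMap.ker_comp, Submodule.ker_mkQ, hP, Submodule.comap_map_eq, Submodule.ker_mkQ, sup_comm]
  let eB : ((A ⧸ J) ⧸ P) ≃ₗ[A] (A ⧸ K) :=
    (LinearMap.quotKerEquivOfSurjective ψ ((Submodule.mkQ_surjective _).comp (Submodule.mkQ_surjective _))).symm.trans
      (Submodule.quotEquivOfEq _ _ hψ)
  have hH : ∀ n : ℕ, Nonempty (((CategoryTheory.Tor (ModuleCat.{u} A) n).obj
      (ModuleCat.of A (A ⧸ Ideal.ofList (f ++ g)))).obj N ≅ ModuleCat.of A (Fin (f.length.choose n) → A ⧸ K)) := fun n => by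
    obtain ⟨e⟩ := H23.KoszulTor.nonempty_tor_iso _ (H23.KoszulTor.termwiseFlat_koszul (f ++ g))
      (vanishesAbove_koszul (f ++ g)) π N n
    obtain ⟨e'⟩ := GrLib8.KChi.nonempty_tensor_iso N (f ++ g)
    have hkill : ∀ x ∈ f, x • 𝟙 N = 0 := fun x hx => ModuleCat.hom_ext (LinearMap.ext fun z => by
      obtain ⟨a, rfl⟩ := Ideal.Quotient.mk_surjective (I := J) z
      exact Ideal.Quotient.eq_zero_iff_mem.2 (J.mul_mem_right a (Ideal.subset_span (List.mem_append_left _ hx))))
    obtain ⟨c⟩ := nonempty_H N g (A ⧸ K) ⟨t.toModuleIso ≪≫ eB.toModuleIso⟩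
      (isZero_H_tail f g h hfh hfgh) f hkill (-(n : ℤ))
    have hb : betti f.length (-(n : ℤ)) = f.length.choose n := by
      rw [betti, if_pos (by omega), neg_neg, Int.toNat_natCast]
    rw [hb] at c
    exact ⟨e ≪≫ (HomologicalComplex.homologyFunctor _ _ _).mapIso e' ≪≫ c⟩
  obtain ⟨ei⟩ := hH i
  obtain ⟨e1⟩ := hH 1
  obtain ⟨ex⟩ := nonempty_extPow K f.length i hi
  have e1' : ((CategoryTheory.Tor (ModuleCat.{u} A) 1).obj (ModuleCat.of A (A ⧸ Ideal.span {x | x ∈ f ++ g}))).obj
      (ModuleCat.of A (A ⧸ Ideal.span {x | x ∈ f ++ h})) ≅ ModuleCat.of A (Fin f.length → A ⧸ K) :=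
    e1 ≪≫ eqToIso (by rw [Nat.choose_one_right])
  exact ⟨ei ≪≫ ex.symm.toModuleIso ≪≫ (ModuleCat.exteriorPower.functor.{u} A i).mapIso e1'.symm⟩

end Groth.Agent.H28.TorExt

end
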