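import Groth.Agent.KFlatLib.Ring.RegularTor
import Groth.Agent.TorBridge.LES
import Groth.Agent.LC.DepthExt
import Mathlib.RingTheory.Regular.RegularSequence

/-!
# Tor-independence from regular sequences
-/

set_option autoImplicit false
set_option linter.style.haveILetI false
set_option maxHeartbeats 1000000

universe u

open CategoryTheory CategoryTheory.Limits MonoidalCategory RingTheory.Sequence

namespace Groth.Agent.H28.TorIndep

open Groth.Agent

variable {R : Type u} [CommRing R] (N : ModuleCat.{u} R)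

/-- All higher `Tor` against `N` vanish. -/
def TI (X : ModuleCat.{u} R) : Prop := ∀ i : ℕ, IsZero (((Tor (ModuleCat.{u} R) (i + 1)).obj X).obj N)

theorem ti_iso {X X' : ModuleCat.{u} R} (e : X ≅ X') (h : TI N X) : TI N X' := fun i =>
  (h i).of_iso ((((Tor (ModuleCat.{u} R) (i + 1))).mapIso e).app N).symm

theorem ti_flat (X : ModuleCat.{u} R) [Module.Flat R X] : TI N X := fun i => TorBridge.isZero_tor_succ_of_flat X N i

theorem ti_first {S : ShortComplex (ModuleCat.{u} R)} (hS : S.ShortExact) (h₂ : TI N S.X₂) (h₃ : TI N S.X₃) :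
    TI N S.X₁ := fun i => by
  obtain ⟨w, hT⟩ := KFlatLib.exists_shortExact_torCx N S hS
  refine IsZero.of_iso ?_ (KFlatLib.torCxIso N S.X₁ (i + 1))
  exact (hT.homology_exact₁ (i + 1 + 1) (i + 1) rfl).isZero_X₂
    (((h₃ (i + 1)).of_iso (KFlatLib.torCxIso N S.X₃ (i + 1 + 1)).symm).eq_of_src _ _)
    (((h₂ i).of_iso (KFlatLib.torCxIso N S.X₂ (i + 1)).symm).eq_of_tgt _ _)

theorem ti_mid {S : ShortComplex (ModuleCat.{u} R)} (hS : S.ShortExact) (h₁ : TI N S.X₁) (h₃ : TI N S.X₃) :
    TI N S.X₂ := fun i => by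
  obtain ⟨w, hT⟩ := KFlatLib.exists_shortExact_torCx N S hS
  refine IsZero.of_iso ?_ (KFlatLib.torCxIso N S.X₂ (i + 1))
  exact (hT.homology_exact₂ (i + 1)).isZero_X₂
    (((h₁ i).of_iso (KFlatLib.torCxIso N S.X₁ (i + 1)).symm).eq_of_src _ _)
    (((h₃ i).of_iso (KFlatLib.torCxIso N S.X₃ (i + 1)).symm).eq_of_tgt _ _)

theorem injective_rTensor {S : ShortComplex (ModuleCat.{u} R)} (hS : S.ShortExact) [Module.Flat R S.X₂]
    (h₃ : TI N S.X₃) : Function.Injective (S.f.hom.rTensor N) := by
  have hg := (ModuleCat.epi_iff_surjective _).1 hS.epi_g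
  have hf := (ModuleCat.mono_iff_injective _).1 hS.mono_f
  have he := (ShortComplex.ShortExact.moduleCat_exact_iff_function_exact _).1 hS.exact
  have h := (TorBridge.isZero_tor_one_iff (↥N) (↥S.X₃) S.g.hom hg).1 (h₃ 0)
  let e : S.X₁ ≃ₗ[R] LinearMap.ker S.g.hom :=
    (LinearEquiv.ofInjective S.f.hom hf).trans (LinearEquiv.ofEq _ _ he.linearMap_ker_eq.symm)
  rw [show S.f.hom = (LinearMap.ker S.g.hom).subtype ∘ₗ e.toLinearMap from rfl, LinearMap.rTensor_comp]
  exact h.comp (LinearEquiv.rTensor N e).injective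

/-- Quotients by sequences regular on the ring and on `N`. -/
theorem ti_qList (l : List R) : IsWeaklyRegular R l → IsWeaklyRegular N l →
    Function.Injective ((Ideal.ofList l).subtype.rTensor N) ∧ TI N (KFlatLib.qList l) := by
  induction l using List.reverseRecOn with
  | nil =>
    intro _ _
    haveI : Module.Flat R (KFlatLib.qList ([] : List R)) :=
      Module.Flat.of_linearEquiv (Submodule.quotEquivOfEqBot (Ideal.ofList ([] : List R)) Ideal.ofList_nil)
    haveI : Subsingleton (Ideal.ofList ([] : List R)) := by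
      rw [Ideal.ofList_nil]
      infer_instance
    exact ⟨Function.injective_of_subsingleton _, ti_flat N _⟩
  | append_singleton l x ih =>
    intro hR hN
    obtain ⟨hl, g, w, hS⟩ := KFlatLib.exists_ses l x hR
    obtain ⟨hN', hx⟩ := (LC.isWeaklyRegular_concat_iff l x).1 hN
    obtain ⟨hinj, hti⟩ := ih hl hN'
    have hinj' : Function.Injective ((Ideal.ofList (l ++ [x])).subtype.rTensor N) := by
      rw [Ideal.ofList_append, Ideal.ofList_singleton]
      refine TorBridge.injective_sup_span (↥N) (Ideal.ofList l) x hinj fun m hm => ?_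
      have h0 : x • (Submodule.Quotient.mk m : N ⧸ (Ideal.ofList l • ⊤ : Submodule R N)) = 0 := by
        rw [← Submodule.Quotient.mk_smul, Submodule.Quotient.mk_eq_zero]
        exact hm
      exact (Submodule.Quotient.mk_eq_zero _).1 (hx (h0.trans (smul_zero x).symm))
    refine ⟨hinj', fun i => ?_⟩
    cases i with
    | zero =>
      refine (TorBridge.isZero_tor_one_iff (↥N) (R ⧸ Ideal.ofList (l ++ [x]))
        (Submodule.mkQ (Ideal.ofList (l ++ [x]))) (Submodule.mkQ_surjective _)).2 ?_
      rw [Submodule.ker_mkQ]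
      exact hinj'
    | succ i => exact TorBridge.isZero_tor_third _ hS N (i + 1) (hti (i + 1)) (hti i)

theorem ti_pi {Q : ModuleCat.{u} R} (h : TI N Q) : ∀ r : ℕ, TI N (ModuleCat.of R (Fin r → Q))
  | 0 => fun i => TorBridge.isZero_tor_succ_of_flat _ N i
  | r + 1 => by
    let S := ShortComplex.mk (ModuleCat.ofHom (LinearMap.inl R Q (Fin r → Q)))
      (ModuleCat.ofHom (LinearMap.snd R Q (Fin r → Q))) (ModuleCat.hom_ext (LinearMap.snd_comp_inl R Q (Fin r → Q)))
    have hS : S.ShortExact := ShortComplex.ShortExact.mk'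
      ((ShortComplex.ShortExact.moduleCat_exact_iff_function_exact _).2
        (Function.Exact.inl_snd))
      ((ModuleCat.mono_iff_injective _).2 LinearMap.inl_injective)
      ((ModuleCat.epi_iff_surjective _).2 LinearMap.snd_surjective)
    refine ti_iso N ?_ (ti_mid N hS h (ti_pi h r))
    exact (Fin.consLinearEquiv R fun _ : Fin (r + 1) => (Q : Type u)).toModuleIso

end Groth.Agent.H28.TorIndep
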