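import Groth.Agent.H23.KoszulTor
import Groth.Agent.H23.SemiLocTor
import Groth.Agent.LocCohDepth.KoszulFlat
import Groth.Agent.KRegLib.Kinds
import Groth.Agent.S2103
import Groth.Agent.TorBridge.FirstVar
import Groth.Agent.TorBridge.LES

/-!
# Powers of a Koszul-regular ideal and base change
-/

set_option autoImplicit false
set_option linter.style.haveILetI false
set_option linter.unusedSectionVars false
set_option backward.isDefEq.respectTransparency false
set_option backward.isDefEq.respectTransparency.types false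
set_option maxHeartbeats 1000000

universe u

open CategoryTheory CategoryTheory.Limits MonoidalCategory

noncomputable section

namespace Groth.Agent.H28.TorPowers

open Groth.Agent Groth.Agent.H9Misc

variable (A : Type u) [CommRing A] (A' : Type u) [CommRing A'] [Algebra A A']

/-- The quotient by a Koszul regular sequence has no higher Tor against an algebra in which it stays regular. -/
theorem isZero_tor_quot (fs : List A) (hfs : LCI.IsKoszulRegularSeq A fs)
    (hfs' : LCI.IsKoszulRegularSeq A' (fs.map (algebraMap A A'))) (i : ℕ) (hi : 1 ≤ i) :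
    IsZero (((Tor (ModuleCat.{u} A) i).obj (ModuleCat.of A (A ⧸ Ideal.ofList fs))).obj (ModuleCat.of A A')) := by
  let K := Koszul.koszul A fs
  have hb : DRing.VanishesAbove K 0 := fun j hj => by
    show IsZero ((Koszul.koszul A fs).X j)
    rw [Synt29.koszul_eq]
    exact Koszul15.isZero_X (ModuleCat.of A A) fs j (Or.inl hj)
  obtain ⟨t⟩ := Koszul15.nonempty_top_equiv fs (ModuleCat.of A A)
  have he : (Ideal.ofList fs • (⊤ : Submodule A (ModuleCat.of A A)) : Submodule A A) = Ideal.ofList fs := by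
    show Ideal.ofList fs • (⊤ : Submodule A A) = _
    rw [smul_eq_mul, Ideal.mul_top]
  let e0 : K.homology 0 ≅ ModuleCat.of A (A ⧸ Ideal.ofList fs) :=
    (HomologicalComplex.homologyFunctor (ModuleCat.{u} A) (ComplexShape.up ℤ) 0).mapIso
      (eqToIso (Synt29.koszul_eq fs)) ≪≫ t.toModuleIso ≪≫ (Submodule.quotEquivOfEq _ _ he).toModuleIso
  obtain ⟨π, hπ⟩ := H23.KoszulTor.exists_quasiIso_single K hb hfs e0
  haveI := hπ
  obtain ⟨e⟩ := H23.KoszulTor.nonempty_tor_iso K (H23.KoszulTor.termwiseFlat_koszul fs) hb π (ModuleCat.of A A') i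
  refine IsZero.of_iso ?_ e
  let G := TorBaseChange.G A A'
  let R := ModuleCat.restrictScalars.{u} (algebraMap A A')
  have hG : ∀ (r : A) (X : ModuleCat.{u} A), G.map (r • 𝟙 X) = algebraMap A A' r • 𝟙 (G.obj X) := fun r X => by
    refine ModuleCat.hom_ext (LinearMap.ext fun (x : TensorProduct A A' X) => ?_)
    show (r • (LinearMap.id : X →ₗ[A] X)).baseChange A' x = algebraMap A A' r • x
    rw [LinearMap.baseChange_smul, LinearMap.baseChange_id, algebraMap_smul]
    rfl
  obtain ⟨k⟩ := KonLib.nonempty_koszul fs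
  obtain ⟨k'⟩ := KonLib.nonempty_koszul (fs.map (algebraMap A A'))
  obtain ⟨c⟩ := LocCohDepth.nonempty_kon_map (algebraMap A A') G hG
    ((HomologicalComplex.single (ModuleCat.{u} A) (ComplexShape.up ℤ) 0).obj (ModuleCat.of A A)) fs
  let e' : (G.mapHomologicalComplex _).obj K ≅ Koszul.koszul A' (fs.map (algebraMap A A')) :=
    ((G.mapHomologicalComplex _).mapIso k).symm ≪≫ c ≪≫ (KonLib.kon _).mapIso
      ((HomologicalComplex.singleMapHomologicalComplex G (ComplexShape.up ℤ) 0).app (ModuleCat.of A A) ≪≫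
        (HomologicalComplex.single (ModuleCat.{u} A') (ComplexShape.up ℤ) 0).mapIso
          (TensorProduct.AlgebraTensorModule.rid A A' A').toModuleIso) ≪≫ k'
  have hz : IsZero (((G.mapHomologicalComplex _).obj K).homology (-(i : ℤ))) :=
    (hfs' _ (by omega)).of_iso
      ((HomologicalComplex.homologyFunctor (ModuleCat.{u} A') (ComplexShape.up ℤ) (-(i : ℤ))).mapIso e')
  haveI : R.PreservesHomology := inferInstance
  refine (R.map_isZero hz).of_iso ?_
  exact (HomologicalComplex.homologyFunctor (ModuleCat.{u} A) (ComplexShape.up ℤ) (-(i : ℤ))).mapIso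
      ((NatIso.mapHomologicalComplex (H23.SemiLocTor.tensorIso A A') (ComplexShape.up ℤ)).app K) ≪≫
    (((G.mapHomologicalComplex _).obj K).sc (-(i : ℤ))).mapHomologyIso R

variable {A A'}

/-- Vanishing of Tor passes to finite free modules over a quotient. -/
theorem isZero_tor_fin {M : Type u} [AddCommGroup M] [Module A M] (N : ModuleCat.{u} A) (i : ℕ)
    (h : IsZero (((Tor (ModuleCat.{u} A) i).obj (ModuleCat.of A M)).obj N)) :
    ∀ k : ℕ, 1 ≤ i → IsZero (((Tor (ModuleCat.{u} A) i).obj (ModuleCat.of A (Fin k → M))).obj N) := by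
  intro k hi
  induction k with
  | zero =>
    obtain ⟨i, rfl⟩ : ∃ m, i = m + 1 := Nat.exists_eq_add_of_le' hi
    exact TorBridge.isZero_tor_succ_of_flat (ModuleCat.of A (Fin 0 → M)) N i
  | succ k ih =>
    let a : M →ₗ[A] (Fin (k + 1) → M) := LinearMap.single A (fun _ : Fin (k + 1) => M) 0
    let b : (Fin (k + 1) → M) →ₗ[A] (Fin k → M) := LinearMap.funLeft A M Fin.succ
    have hab : b.comp a = 0 := LinearMap.ext fun m => funext fun j => by
      simp [a, b, LinearMap.funLeft, Fin.succ_ne_zero]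
    let S : ShortComplex (ModuleCat.{u} A) := ShortComplex.mk (ModuleCat.ofHom a) (ModuleCat.ofHom b)
      (by rw [← ModuleCat.ofHom_comp, hab]; rfl)
    have hS : S.ShortExact := by
      refine .mk' ?_ ((ModuleCat.mono_iff_injective _).2 fun x y hxy => ?_) ((ModuleCat.epi_iff_surjective _).2 fun v => ?_)
      · rw [ShortComplex.moduleCat_exact_iff]
        intro x hx
        refine ⟨x 0, funext fun j => ?_⟩
        rcases Fin.eq_zero_or_eq_succ j with rfl | ⟨l, rfl⟩
        · simp [S, a]
        · have : x l.succ = 0 := congrFun hx l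
          simp [S, a, this, Fin.succ_ne_zero]
      · simpa [S, a] using congrFun hxy 0
      · exact ⟨Fin.cons 0 v, funext fun j => by simp [S, b, LinearMap.funLeft]⟩
    exact TorBridge.isZero_tor_second S hS N i h ih

/-- The graded pieces of the ideal of a quasi-regular sequence are free over the quotient. -/
theorem exists_gr_equiv {c : ℕ} (f : Fin c → A) (hf : CAlgX.IsQuasiRegular f) (n : ℕ) :
    ∃ k : ℕ, Nonempty (((↥(Ideal.span (Set.range f) ^ n)) ⧸
      Submodule.comap (Ideal.span (Set.range f) ^ n).subtype (Ideal.span (Set.range f) ^ (n + 1))) ≃ₗ[A]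
      (Fin k → A ⧸ Ideal.span (Set.range f))) := by
  classical
  set J := Ideal.span (Set.range f) with hJ
  let D := {d : Fin c →₀ ℕ // d.degree = n}
  haveI : Finite D := (Finsupp.finite_of_degree_le n).subset (fun d hd => hd.le) |>.to_subtype
  haveI := Fintype.ofFinite D
  let mon : D → A := fun d => MvPolynomial.eval f (MvPolynomial.monomial d.1 1)
  have hmon : ∀ d, mon d ∈ J ^ n := fun d =>
    (Ideal.mem_span_pow_iff_exists_isHomogeneous f _).2 ⟨_, MvPolynomial.isHomogeneous_monomial 1 d.2, rfl⟩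
  let poly : (D → A) → MvPolynomial (Fin c) A := fun v => ∑ d : D, MvPolynomial.monomial d.1 (v d)
  have hpoly : ∀ v, MvPolynomial.eval f (poly v) = ∑ d : D, v d * mon d := fun v => by
    simp only [poly, mon, map_sum, MvPolynomial.eval_monomial, one_mul]
  have hcoeff : ∀ v (d : D), (poly v).coeff d.1 = v d := fun v d => by
    simp only [poly, MvPolynomial.coeff_sum, MvPolynomial.coeff_monomial]
    rw [Finset.sum_eq_single d (fun d' _ h => if_neg fun h' => h (Subtype.ext h')) (fun h => absurd (Finset.mem_univ d) h),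
      if_pos rfl]
  let Φ : (D → A) →ₗ[A] ↥(J ^ n) := Fintype.linearCombination A fun d => (⟨mon d, hmon d⟩ : ↥(J ^ n))
  have hΦ : ∀ v, (Φ v : A) = MvPolynomial.eval f (poly v) := fun v => by
    rw [hpoly]
    simp [Φ, Fintype.linearCombination_apply]
  let Θ : (D → A) →ₗ[A] (↥(J ^ n) ⧸ Submodule.comap (J ^ n).subtype (J ^ (n + 1))) := (Submodule.mkQ _).comp Φ
  have hsurj : Function.Surjective Θ := fun y => by
    obtain ⟨⟨y, hy⟩, rfl⟩ := Submodule.mkQ_surjective _ y
    obtain ⟨P, hP, rfl⟩ := (Ideal.mem_span_pow_iff_exists_isHomogeneous f _).1 hy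
    refine ⟨fun d => P.coeff d.1, congrArg (Submodule.mkQ _) (Subtype.ext ?_)⟩
    rw [hΦ]
    refine congrArg (MvPolynomial.eval f) (MvPolynomial.ext _ _ fun e => ?_)
    by_cases he : e.degree = n
    · exact hcoeff _ ⟨e, he⟩
    · rw [hP.coeff_eq_zero he]
      simp only [poly, MvPolynomial.coeff_sum, MvPolynomial.coeff_monomial]
      exact Finset.sum_eq_zero fun d _ => if_neg fun h => he (by rw [← h]; exact d.2)
  have hker : LinearMap.ker Θ = Submodule.pi Set.univ fun _ : D => (J : Submodule A A) := by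
    ext v
    rw [LinearMap.mem_ker, LinearMap.comp_apply, Submodule.mkQ_apply, Submodule.Quotient.mk_eq_zero,
      Submodule.mem_comap, Submodule.coe_subtype, hΦ, Submodule.mem_pi]
    constructor
    · intro h d _
      have := hf n (poly v) (MvPolynomial.IsHomogeneous.sum _ _ _ fun d _ =>
        MvPolynomial.isHomogeneous_monomial _ d.2) h d.1
      rwa [hcoeff] at this
    · intro h
      rw [hpoly, pow_succ']
      exact Ideal.sum_mem _ fun d _ => Ideal.mul_mem_mul (h d trivial) (hmon d)
  let e₁ : ((D → A) ⧸ LinearMap.ker Θ) ≃ₗ[A] (↥(J ^ n) ⧸ Submodule.comap (J ^ n).subtype (J ^ (n + 1))) :=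
    LinearMap.quotKerEquivOfSurjective Θ hsurj
  let e₂ : ((D → A) ⧸ LinearMap.ker Θ) ≃ₗ[A] (D → A ⧸ J) :=
    (Submodule.quotEquivOfEq _ _ hker).trans (Submodule.quotientPi fun _ : D => (J : Submodule A A))
  let e₃ : (D → A ⧸ J) ≃ₗ[A] (Fin (Fintype.card D) → A ⧸ J) :=
    LinearEquiv.funCongrLeft A (A ⧸ J) (Fintype.equivFin D).symm
  exact ⟨Fintype.card D, ⟨e₁.symm.trans (e₂.trans e₃)⟩⟩

/-- Powers of a Koszul regular ideal have no higher Tor against such an algebra. -/
theorem main (fs : List A) (hfs : LCI.IsKoszulRegularSeq A fs)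
    (hfs' : LCI.IsKoszulRegularSeq A' (fs.map (algebraMap A A'))) (n i : ℕ) (hi : 1 ≤ i) :
    IsZero (((Tor (ModuleCat.{u} A) i).obj (ModuleCat.of A ↥(Ideal.span {x | x ∈ fs} ^ n))).obj (ModuleCat.of A A')) ∧
    IsZero (((Tor (ModuleCat.{u} A) i).obj (ModuleCat.of A
      (↥(Ideal.span {x | x ∈ fs} ^ n) ⧸ Submodule.comap (Ideal.span {x | x ∈ fs} ^ n).subtype
        (Ideal.span {x | x ∈ fs} ^ (n + 1))))).obj (ModuleCat.of A A')) := by
  have hrange : Ideal.span {x | x ∈ fs} = Ideal.span (Set.range fs.get) := by rw [Set.range_list_get]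
  have hq : CAlgX.IsQuasiRegular fs.get := S2103.result _ (KRegLib.h1_of_koszul fs hfs)
  set J := Ideal.span {x | x ∈ fs} with hJ
  have hgr : ∀ n i : ℕ, 1 ≤ i → IsZero (((Tor (ModuleCat.{u} A) i).obj (ModuleCat.of A
      (↥(J ^ n) ⧸ Submodule.comap (J ^ n).subtype (J ^ (n + 1))))).obj (ModuleCat.of A A')) := fun n i hi => by
    obtain ⟨k, ⟨e⟩⟩ := exists_gr_equiv fs.get hq n
    rw [← hrange] at e
    exact (isZero_tor_fin (ModuleCat.of A A') i (isZero_tor_quot A A' fs hfs hfs' i hi) k hi).of_iso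
      (((Tor (ModuleCat.{u} A) i).mapIso e.toModuleIso).app _)
  refine ⟨?_, hgr n i hi⟩
  induction n generalizing i with
  | zero =>
    obtain ⟨i, rfl⟩ : ∃ m, i = m + 1 := Nat.exists_eq_add_of_le' hi
    haveI : Module.Flat A ↥(J ^ 0) := by
      rw [pow_zero, Ideal.one_eq_top]
      exact Module.Flat.of_linearEquiv (Submodule.topEquiv (R := A) (M := A))
    exact TorBridge.isZero_tor_succ_of_flat (ModuleCat.of A ↥(J ^ 0)) _ i
  | succ n ih =>
    have hle : (J ^ (n + 1) : Ideal A) ≤ J ^ n := Ideal.pow_le_pow_right n.le_succ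
    let a : ↥(J ^ (n + 1)) →ₗ[A] ↥(J ^ n) := Submodule.inclusion hle
    let b := (Submodule.comap (J ^ n).subtype (J ^ (n + 1))).mkQ
    let S : ShortComplex (ModuleCat.{u} A) := ShortComplex.mk (ModuleCat.ofHom a) (ModuleCat.ofHom b)
      (ModuleCat.hom_ext (LinearMap.ext fun x => (Submodule.Quotient.mk_eq_zero _).2 x.2))
    have hS : S.ShortExact := by
      refine .mk' ?_ ((ModuleCat.mono_iff_injective _).2 (Submodule.inclusion_injective hle))
        ((ModuleCat.epi_iff_surjective _).2 (Submodule.mkQ_surjective _))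
      rw [ShortComplex.moduleCat_exact_iff]
      intro x hx
      exact ⟨⟨x.1, (Submodule.Quotient.mk_eq_zero (Submodule.comap (J ^ n).subtype (J ^ (n + 1)))).1 hx⟩, Subtype.ext rfl⟩
    exact TorBridge.isZero_tor_first S hS _ i (hgr n (i + 1) (by omega)) (ih i hi)

end Groth.Agent.H28.TorPowers

end
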