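import Groth.Agent.H23.Chern.Split
import Groth.Agent.H23.P1Sect
import Groth.Agent.S9708
import Groth.Agent.S9717
import Groth.Agent.SymAlgX.Gen
import Groth.Agent.QCoh.FT

/-!
# Projective bundles and their towers are projective
-/

set_option autoImplicit false
set_option backward.isDefEq.respectTransparency false
set_option backward.isDefEq.respectTransparency.types false
set_option linter.style.haveILetI false
set_option linter.unusedSectionVars false

universe u

open CategoryTheory CategoryTheory.Limits AlgebraicGeometry TopologicalSpace Opposite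

noncomputable section

namespace Groth.Agent.H28.TowerProj

open Groth.Agent Groth.Agent.SymAlgX Groth.Agent.H23.ProjBd

variable {X : Scheme.{u}} {E : X.Modules} {𝒮 : RelProj.QCGrAlg X} {j : E ⟶ 𝒮.toModule}

/-- The degree one part of a symmetric algebra of a module of finite type is of finite type. -/
theorem isFTDeg_one (hE : Coh.IsQCoh E) (hft : CohB1.IsFT E) (hj : RelProj.IsGrSymAlg E 𝒮 j) : 𝒮.IsFTDeg 1 := by
  classical
  intro U hU
  haveI := QCoh.finite_of_isFT hE hft hU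
  obtain ⟨n, g, hg⟩ := Module.Finite.exists_fin (R := Γ(X, U)) (M := Γ(E, U))
  let s : Γ(X, U) →+* 𝒮.presheaf.obj (op U) := (𝒮.str.app (op U)).hom
  let v : Γ(E, U) → 𝒮.presheaf.obj (op U) := jv 𝒮.toQCAlg j U
  have hsmul : ∀ r e, v (r • e) = s r * v e := fun r e => Scheme.Modules.Hom.app_smul j r e
  have hadd : ∀ a b, v (a + b) = v a + v b := fun a b => map_add (j.app U).hom a b
  have hzero : v 0 = 0 := map_zero (j.app U).hom
  letI : GradedRing (𝒮.deg U hU) := inferInstance
  have hmon : ∀ y ∈ Submonoid.closure (Set.range s ∪ Set.range v),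
      (y ∈ Set.range s ∧ y ∈ 𝒮.deg U hU 0) ∨ (y ∈ Set.range v ∧ y ∈ 𝒮.deg U hU 1) ∨
        ∃ i, 2 ≤ i ∧ y ∈ 𝒮.deg U hU i := by
    intro y hy
    induction hy using Submonoid.closure_induction with
    | mem y hy =>
      rcases hy with ⟨a, rfl⟩ | ⟨e, rfl⟩
      · exact Or.inl ⟨⟨a, rfl⟩, 𝒮.str_mem U hU a⟩
      · exact Or.inr (Or.inl ⟨⟨e, rfl⟩, hj.2 U hU e⟩)
    | one => exact Or.inl ⟨⟨1, map_one s⟩, SetLike.one_mem_graded _⟩
    | mul a b _ _ ha hb =>
      rcases ha with ⟨⟨r, rfl⟩, ha⟩ | ⟨⟨e, rfl⟩, ha⟩ | ⟨i, hi, ha⟩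
      · rcases hb with ⟨⟨r', rfl⟩, hb⟩ | ⟨⟨e', rfl⟩, hb⟩ | ⟨i', hi', hb⟩
        · exact Or.inl ⟨⟨r * r', map_mul s r r'⟩, by simpa using SetLike.mul_mem_graded ha hb⟩
        · exact Or.inr (Or.inl ⟨⟨r • e', hsmul r e'⟩, by simpa using SetLike.mul_mem_graded ha hb⟩)
        · exact Or.inr (Or.inr ⟨0 + i', by omega, SetLike.mul_mem_graded ha hb⟩)
      · rcases hb with ⟨⟨r', rfl⟩, hb⟩ | ⟨⟨e', rfl⟩, hb⟩ | ⟨i', hi', hb⟩
        · exact Or.inr (Or.inl ⟨⟨r' • e, (hsmul r' e).trans (mul_comm _ _)⟩, by simpa using SetLike.mul_mem_graded ha hb⟩)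
        · exact Or.inr (Or.inr ⟨1 + 1, le_rfl, SetLike.mul_mem_graded ha hb⟩)
        · exact Or.inr (Or.inr ⟨1 + i', by omega, SetLike.mul_mem_graded ha hb⟩)
      · rcases hb with ⟨-, hb⟩ | ⟨-, hb⟩ | ⟨i', hi', hb⟩
        · exact Or.inr (Or.inr ⟨i + 0, by omega, SetLike.mul_mem_graded ha hb⟩)
        · exact Or.inr (Or.inr ⟨i + 1, by omega, SetLike.mul_mem_graded ha hb⟩)
        · exact Or.inr (Or.inr ⟨i + i', by omega, SetLike.mul_mem_graded ha hb⟩)
  have htop : Subring.closure (Set.range s ∪ Set.range v) = ⊤ := genAt_eq_top hE hj.1 hU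
  have hdeg : ∀ x ∈ 𝒮.deg U hU 1, ∃ e, v e = x := by
    suffices key : ∀ x : 𝒮.presheaf.obj (op U),
        ∃ e, v e = (DirectSum.decompose (𝒮.deg U hU) x 1 : 𝒮.presheaf.obj (op U)) by
      intro x hx
      obtain ⟨e, he⟩ := key x
      exact ⟨e, he.trans (DirectSum.decompose_of_mem_same _ hx)⟩
    intro x
    have hx : x ∈ AddSubgroup.closure (Submonoid.closure (Set.range s ∪ Set.range v) : Set _) := by
      rw [← Subring.mem_closure_iff, htop]
      trivial
    induction hx using AddSubgroup.closure_induction with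
    | mem y hy =>
      rcases hmon y hy with ⟨-, h0⟩ | ⟨⟨e, he⟩, h1⟩ | ⟨i, hi, hd⟩
      · exact ⟨0, hzero.trans (DirectSum.decompose_of_mem_ne _ h0 (by omega)).symm⟩
      · exact ⟨e, he.trans (DirectSum.decompose_of_mem_same _ h1).symm⟩
      · exact ⟨0, hzero.trans (DirectSum.decompose_of_mem_ne _ hd (by omega)).symm⟩
    | zero => exact ⟨0, by simp [hzero]⟩
    | add a b _ _ ha hb =>
      obtain ⟨e, he⟩ := ha
      obtain ⟨e', he'⟩ := hb
      exact ⟨e + e', by simp [hadd, he, he', DirectSum.decompose_add]⟩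
    | neg a _ ha =>
      obtain ⟨e, he⟩ := ha
      refine ⟨(-1 : Γ(X, U)) • e, ?_⟩
      rw [hsmul, map_neg, map_one, neg_one_mul, he]
      simp only [DirectSum.decompose_neg]
      rfl
  refine ⟨Finset.univ.image fun i => v (g i), ?_, fun x hx => ?_⟩
  · intro t ht
    obtain ⟨i, -, rfl⟩ := Finset.mem_image.1 (Finset.mem_coe.1 ht)
    exact hj.2 U hU _
  · obtain ⟨e, rfl⟩ := hdeg x hx
    have he : e ∈ Submodule.span Γ(X, U) (Set.range g) := hg ▸ trivial
    induction he using Submodule.span_induction with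
    | mem y hy =>
      obtain ⟨i, rfl⟩ := hy
      refine ⟨fun t => if t = v (g i) then 1 else 0, ?_⟩
      rw [Finset.sum_eq_single_of_mem (v (g i)) (Finset.mem_image.2 ⟨i, Finset.mem_univ i, rfl⟩)
        (fun t _ ht => by simp [ht])]
      simp
    | zero => exact ⟨fun _ => 0, by simp [hzero]⟩
    | add a b _ _ ha hb =>
      obtain ⟨c, hc⟩ := ha (hj.2 U hU a)
      obtain ⟨c', hc'⟩ := hb (hj.2 U hU b)
      refine ⟨c + c', ?_⟩
      rw [hadd, hc, hc', ← Finset.sum_add_distrib]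
      refine Finset.sum_congr rfl fun t _ => ?_
      simp [add_mul]
    | smul r a _ ha =>
      obtain ⟨c, hc⟩ := ha (hj.2 U hU a)
      refine ⟨fun t => r * c t, ?_⟩
      rw [hsmul, hc, Finset.mul_sum]
      refine Finset.sum_congr rfl fun t _ => ?_
      simp [s, mul_assoc]

variable {P : Scheme.{u}} {p : P ⟶ X} {O1 : P.Modules} {q : (Scheme.Modules.pullback p).obj E ⟶ O1}

/-- A projective bundle is projective. -/
theorem isProjective_projBundle {n : ℕ} (hE : FlatMod.IsFinLocFreeOfRank (n + 1) E)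
    (hP : KRR.IsProjBundle p E O1 q) : RelProj.IsProjective p := by
  have hlf := H28.KvbModel.lf_of_rank hE
  have hq : Coh.IsQCoh E := QCoh.isQCoh_of_isFinLocFree hlf
  let 𝒮 := PBSym.grSymAlg hq
  have hj : RelProj.IsGrSymAlg E 𝒮 (symJ hq) := PBSym.isGrSymAlg hq
  obtain ⟨P', p', chart, hP'⟩ := Proj16.exists_isRelProj 𝒮
  obtain ⟨O1', lam, hO1⟩ := RelTildeX.Exists.exists_isRelTwist (𝒮 := 𝒮) p' chart hP' 1
  have hgen : 𝒮.IsGenDegOne := SymAlgX.isGenDegOne hq hj
  have hinv : FlatMod.IsFinLocFreeOfRank 1 O1' :=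
    PBCores.isInvertible_iff_rank.1 (RelTildeX.isInvertible_twist hgen hO1)
  obtain ⟨φ, hφ⟩ := PBHom.exists_hom hj hO1 hP' hgen
  let q' := ((Scheme.Modules.pullbackPushforwardAdjunction p').homEquiv E O1').symm φ
  have hB : KRR.IsProjBundle p' E O1' q' := by
    refine PBExist.isProjBundle q' hinv fun x => ?_
    obtain ⟨W, hxW, ⟨i⟩⟩ := hE x
    obtain ⟨b₀, hb₀⟩ := H23.Frame.exists_frame i
    obtain ⟨_, ⟨U, hU, rfl⟩, hxU, hUW⟩ := X.isBasis_affineOpens.exists_subset_of_mem_open hxW W.isOpen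
    let b : Fin (n + 1) → Γ(E, U) := fun i => E.presheaf.map (homOfLE hUW).op (b₀ i)
    have hb : H23.Frame.IsFrame E b := hb₀.res hUW
    obtain ⟨D, hD, hT⟩ := PBMake.exists_pres hq hj hU b hb
    refine ⟨U, n, b, hxU, PBExist.good_of_coords q' b hb (H23.ProjBd.coordsOfPres hP' hU D hD hO1) fun l => ?_⟩
    have h1 : φ.app U (b l) = PBlow.sig q' b l := by
      show _ = q'.app (p' ⁻¹ᵁ U) (InvX.pullElt p' (b l))
      rw [← ((Scheme.Modules.pullbackPushforwardAdjunction p').homEquiv E O1').apply_symm_apply φ,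
        Adjunction.homEquiv_unit]
      rfl
    refine Eq.trans ?_ ((hφ U hU (b l)).symm.trans h1)
    show H23.ProjBd.sd hU D l hO1 = PBHom.fund hj hO1 U hU (b l)
    refine PBHom.eq_of_val hO1 hU le_rfl _ _ fun y => ?_
    have ha := H23.ProjBd.val_sd hU D l hO1 (le_rfl : p' ⁻¹ᵁ U ≤ p' ⁻¹ᵁ U) y
    have hc := PBHom.val_fund hj hO1 hU (b l) (le_rfl : p' ⁻¹ᵁ U ≤ p' ⁻¹ᵁ U) y
    rw [AModX.res_self] at ha hc
    rw [ha, hc, hT]
  obtain ⟨θ, hθ, -⟩ := exists_iso_of_projBundle hB hP (Iso.refl E)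
  exact ⟨𝒮, P', p', chart, θ, hgen,
    isFTDeg_one hq (QCoh.isFP_of_isFinLocFree hlf |> fun h => (QCoh.isFT_of_isFP h)) hj, hP', hθ⟩

/-- An isomorphism is projective. -/
theorem isProjective_of_isIso {P X : Scheme.{u}} (π : P ⟶ X) [IsIso π] : RelProj.IsProjective π := by
  refine S9717.result π ⟨1, π ≫ P1.sect X 0, ?_, ?_⟩
  · haveI : IsClosedImmersion (P1.sect X 0 ≫ CohB1.ProjSpaceOver.toBase 1 X) := by
      rw [H23.P1Sect.sect_toBase]; infer_instance
    haveI : IsSeparated (CohB1.ProjSpaceOver.toBase 1 X) := by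
      haveI := PnCoh.Chow.isProper_toSpec 1 (ULift.{u} ℤ)
      exact MorphismProperty.pullback_snd _ _ inferInstance
    haveI := IsClosedImmersion.of_comp (P1.sect X 0) (CohB1.ProjSpaceOver.toBase 1 X)
    infer_instance
  · rw [Category.assoc, H23.P1Sect.sect_toBase, Category.comp_id]

/-- Towers of projective bundles are projective over quasi-compact quasi-separated bases. -/
theorem isProjective_tower {P X : Scheme.{u}} {π : P ⟶ X} {d : ℕ} (h : H23.Chern.Tower π d) :
    ∀ [CompactSpace X] [QuasiSeparatedSpace X], RelProj.IsProjective π := by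
  induction h with
  | of_iso π h => exact isProjective_of_isIso π
  | @step X₁ X π d h p E O1 q n hE hP ih =>
    intro _ _
    haveI := isProper_of_projBundle hP hE
    haveI : CompactSpace X₁ := QuasiCompact.compactSpace_of_compactSpace p
    haveI : QuasiSeparatedSpace X₁ := quasiSeparatedSpace_of_quasiSeparated p
    exact S9708.result π p ih (isProjective_projBundle hE hP)

/-- Towers of projective bundles are locally projective. -/
theorem isLocallyProjective_tower {P X : Scheme.{u}} {π : P ⟶ X} {d : ℕ} (h : H23.Chern.Tower π d) :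
    RelProj.IsLocallyProjective π := by
  intro x
  obtain ⟨U, hU, hx, -⟩ := exists_isAffineOpen_mem_and_subset (x := x) (U := ⊤) trivial
  haveI : IsAffine U.toScheme := hU
  exact ⟨U, hx, isProjective_tower (h.baseChange (isPullback_morphismRestrict π U).flip)⟩

end Groth.Agent.H28.TowerProj

namespace Groth.Agent.H28.TowerProj

open Groth.Agent

/-- A filtration by invertible modules as a chain of short exact sequences. -/
theorem exists_chain {X : Scheme.{u}} {E : X.Modules} {r : ℕ} (h : H23.Chern.Filt E r) :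
    ∃ M L : ℕ → X.Modules, IsZero (M 0) ∧ Nonempty (M r ≅ E) ∧ ∀ j < r, PicF.IsInvertible (L j) ∧
      ∃ (a : M j ⟶ M (j + 1)) (b : M (j + 1) ⟶ L j) (w : a ≫ b = 0), (ShortComplex.mk a b w).ShortExact := by
  induction h with
  | zero E h => exact ⟨fun _ => E, fun _ => E, h, ⟨Iso.refl _⟩, fun j hj => absurd hj (by omega)⟩
  | step S hS h3 r h ih =>
    obtain ⟨M, L, h0, ⟨e⟩, hs⟩ := ih
    classical
    refine ⟨fun j => if j = r + 1 then S.X₂ else M j, fun j => if j = r then S.X₃ else L j, ?_, ?_, fun j hj => ?_⟩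
    · simpa [show (0 : ℕ) ≠ r + 1 by omega] using h0
    · exact ⟨eqToIso (by simp)⟩
    · have tr : ∀ {A B C A' B' C' : X.Modules}, A' = A → B' = B → C' = C →
          (PicF.IsInvertible C ∧ ∃ (a : A ⟶ B) (b : B ⟶ C) (w : a ≫ b = 0), (ShortComplex.mk a b w).ShortExact) →
          (PicF.IsInvertible C' ∧ ∃ (a : A' ⟶ B') (b : B' ⟶ C') (w : a ≫ b = 0), (ShortComplex.mk a b w).ShortExact) := by
        intro A B C A' B' C' hA hB hC hh
        subst hA hB hC
        exact hh
      rcases Nat.lt_succ_iff_lt_or_eq.1 hj with hj' | rfl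
      · exact tr (if_neg (show j ≠ r + 1 by omega)) (if_neg (show j + 1 ≠ r + 1 by omega))
          (if_neg (show j ≠ r by omega)) (hs j hj')
      · exact tr (A := M j) (B := S.X₂) (C := S.X₃) (if_neg (show j ≠ j + 1 by omega)) (if_pos rfl) (if_pos rfl)
          ⟨h3, e.hom ≫ S.f, S.g, by simp, ShortComplex.shortExact_of_iso
            (ShortComplex.isoMk e.symm (Iso.refl S.X₂) (Iso.refl S.X₃) (by simp) (by simp)) hS⟩

end Groth.Agent.H28.TowerProj
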