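import Groth.Agent.Triage.FibMaxFlat
import Groth.Agent.VarDim.Fibre
import Groth.Prelude.Def_BlowUp2
import Groth.Agent.FlatComplDvr5.Basic
import Groth.Agent.H28.FlatCl
import Groth.Agent.RelPC17.TruncFree
import Mathlib.AlgebraicGeometry.Morphisms.FlatDescent

/-!
# Universal equidimensionality of flat morphisms
-/

set_option autoImplicit false
set_option linter.style.haveILetI false
set_option backward.isDefEq.respectTransparency false
set_option backward.isDefEq.respectTransparency.types false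

universe u

open CategoryTheory CategoryTheory.Limits AlgebraicGeometry TopologicalSpace Topology

noncomputable section

namespace Groth.Agent.H28.UnivEquidim

/-- `ξ` is a maximal point. -/
def IsMaxPt {X : Type*} [TopologicalSpace X] (ξ : X) : Prop := ∀ z, z ⤳ ξ → z = ξ

theorem exists_isMaxPt {X : Scheme.{u}} (x : X) : ∃ ξ : X, IsMaxPt ξ ∧ ξ ⤳ x := by
  obtain ⟨Z, hZ, hxZ⟩ := exists_mem_irreducibleComponents_subset_of_isIrreducible _
    (isIrreducible_singleton (x := x))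
  obtain ⟨ξ, rfl, hξ⟩ := FDescent.exists_maximal_of_mem_irreducibleComponents hZ
  exact ⟨ξ, hξ, specializes_iff_mem_closure.2 (hxZ rfl)⟩

theorem locallyOfFinitePresentation_of_noetherian {X Y : Scheme.{u}} (f : X ⟶ Y) [IsLocallyNoetherian Y]
    [h : LocallyOfFiniteType f] : LocallyOfFinitePresentation f := by
  rw [HasRingHomProperty.iff_appLE (P := @LocallyOfFinitePresentation)]
  intro U V e
  have : IsNoetherianRing Γ(Y, U) := IsLocallyNoetherian.component_noetherian U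
  exact (RingHom.FinitePresentation.of_finiteType).1 (HasRingHomProperty.appLE @LocallyOfFiniteType f h U V e)

theorem isMaxPt_apply {Φ B : Scheme.{u}} (q : Φ ⟶ B) [Flat q] {ξ : Φ} (hξ : IsMaxPt ξ) : IsMaxPt (q ξ) := by
  intro t ht
  obtain ⟨ξ', h', rfl⟩ := FibDim.lifts_of_flat_stalk q (z := ξ) (x := ξ) (Flat.stalkMap q ξ) specializes_rfl (t := t) ht
  rw [hξ ξ' h']

/-- A flat morphism whose generic points all have relative degree `r` is universally equidimensional. -/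
theorem univ_equidim {Φ B B' : Scheme.{u}} (q : Φ ⟶ B) [Flat q] [LocallyOfFinitePresentation q] (r : ℕ)
    (h : ∀ ξ : Φ, IsMaxPt ξ → FibDim.rd q ξ = r) (g : B' ⟶ B) :
    (∀ w : ↥(pullback q g), FlatMor.fibreDimAt (pullback.snd q g) w = r) ∧
      ∀ C ∈ irreducibleComponents ↥(pullback q g),
        closure ((pullback.snd q g).base '' C) ∈ irreducibleComponents ↥B' := by
  refine ⟨fun w => ?_, fun C hC => ?_⟩
  · rw [FibDim.fibreDimAt_baseChange (IsPullback.of_hasPullback q g) w]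
    obtain ⟨z, -, -, hz, he⟩ := FibDim.exists_fibMax_generization q (pullback.fst q g w)
    obtain ⟨ξ, hξ, hξz⟩ := exists_isMaxPt z
    rw [he, ← FibDim.fibreDimAt_eq_rd q hz, ← Triage.FibMaxFlat.fibreDimAt_eq_of_specializes q hξz hz,
      FibDim.fibreDimAt_eq_rd q (fun z' h' _ => hξ z' h'), h ξ hξ]
    rfl
  · obtain ⟨ξ, rfl, hξ⟩ := FDescent.exists_maximal_of_mem_irreducibleComponents hC
    rw [closure_image_closure (pullback.snd q g).continuous, Set.image_singleton]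
    exact FDescent.closure_mem_irreducibleComponents (isMaxPt_apply (pullback.snd q g) hξ)

theorem rd_preimmersion {X Y : Scheme.{u}} (f : X ⟶ Y) [IsPreimmersion f] [LocallyOfFiniteType f] (x : X) :
    FibDim.rd f x = 0 := by
  have h := FibDim.rd_eq_rdeg f x
  rw [VarDim.rdeg_preimmersion f x] at h
  exact_mod_cast h

/-- The generic point of an irreducible closed subscheme and its relative degree. -/
theorem exists_generic {X S Z : Scheme.{u}} (p : X ⟶ S) [LocallyOfFiniteType p] (z : X) (r : ℕ)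
    (hr : topologicalKrullDim ↥(closure ({p.asFiber z} : Set ↥(p.fiber (p.base z)))) = r)
    (ι : Z ⟶ X) [IsClosedImmersion ι] (hZ : Set.range ι.base = closure {z}) :
    ∃ z₀ : Z, (ι ≫ p) z₀ = p z ∧ (∀ w : Z, z₀ ⤳ w) ∧ FibDim.rd (ι ≫ p) z₀ = r := by
  obtain ⟨z₀, hz₀⟩ : z ∈ Set.range ι.base := hZ ▸ subset_closure rfl
  refine ⟨z₀, congrArg p.base hz₀, fun w => ?_, ?_⟩
  · refine ι.isEmbedding.isInducing.specializes_iff.1 ?_
    rw [show ι z₀ = z from hz₀]
    exact specializes_iff_mem_closure.2 (hZ ▸ ⟨w, rfl⟩)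
  · rw [FibDim.rd_comp, rd_preimmersion ι, add_zero, show ι z₀ = z from hz₀]
    rw [VarDim.topologicalKrullDim_closure_singleton (k := S.residueField (p z))
      (p.fiberToSpecResidueField (p z)), FibDim.deg_fiber, Scheme.Hom.fiberι_asFiber] at hr
    exact_mod_cast hr

/-- Points of a base change of a morphism from an irreducible scheme over a maximal point. -/
theorem rd_eq_of_isPullback {P Z S B : Scheme.{u}} {fst : P ⟶ Z} {snd : P ⟶ B} {W : Z ⟶ S} {x : B ⟶ S}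
    (hP : IsPullback fst snd W x) [LocallyOfFiniteType W] [LocallyOfFiniteType snd] {z₀ : Z} (hgen : ∀ w, z₀ ⤳ w)
    {ζ : P} (hζ : IsMaxPt ζ) (hx : ∀ s, s ⤳ x (snd ζ) → s = x (snd ζ)) :
    FibDim.rd snd ζ = FibDim.rd W z₀ := by
  have hw : W (fst ζ) = x (snd ζ) := congrArg (fun φ : P ⟶ S => φ ζ) hP.w
  have h1 : W z₀ = x (snd ζ) := hx _ (hw ▸ (hgen (fst ζ)).map W.continuous)
  obtain ⟨u, hu, hpu⟩ := FibDim.exists_generization_lift hP.flip (x' := ζ) (hgen (fst ζ)) (h1.trans hw.symm)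
  rw [FibDim.rd_baseChange_eq_of_minimal hP ζ fun w hw _ _ => hζ w hw, ← hpu, hζ u hu]

end Groth.Agent.H28.UnivEquidim

namespace Groth.Agent.H28.UnivEquidim

variable {R : Type u} [CommRing R] [IsDomain R] [IsDiscreteValuationRing R]

/-- The scheme theoretic closure of the generic fibre is flat. -/
theorem flat_image {P Y : Scheme.{u}} (v : P ⟶ Y) [QuasiCompact v] (f : Y ⟶ Spec (CommRingCat.of R))
    (s : P ⟶ Spec (CommRingCat.of (FractionRing R))) (h : v ≫ f = s ≫ FlatCl.genI R) :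
    Flat (v.imageι ≫ f) := by
  obtain ⟨π, hπ⟩ := IsDiscreteValuationRing.exists_irreducible R
  refine FlatComplDvr5.flat_of_regular hπ _ fun x => ?_
  obtain ⟨U₀, hU₀, hxU, -⟩ := exists_isAffineOpen_mem_and_subset (x := v.imageι x) (U := (⊤ : Y.Opens)) trivial
  refine ⟨v.imageι ⁻¹ᵁ U₀, hxU, hU₀.preimage v.imageι, fun a ha => ?_⟩
  refine v.toImage_app_injective ⟨U₀, hU₀⟩ ?_
  rw [map_zero]
  have h2 := congrArg (v.toImage.app (v.imageι ⁻¹ᵁ U₀)).hom ha
  rw [map_mul, map_zero, FlatComplDvr5.fun'_comp, ← Category.assoc, Scheme.Hom.toImage_imageι, h] at h2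
  have hu : IsUnit (FlatComplDvr5.fun' (π := π) (s ≫ FlatCl.genI R) (v.toImage ⁻¹ᵁ v.imageι ⁻¹ᵁ U₀)) := by
    have e : (s ≫ FlatCl.genI R).appLE ⊤ (v.toImage ⁻¹ᵁ v.imageι ⁻¹ᵁ U₀) le_top =
        (FlatCl.genI R).appTop ≫ s.appLE ⊤ _ le_top := by
      rw [Scheme.Hom.appLE, Scheme.Hom.comp_app, Category.assoc]
      rfl
    refine Eq.mpr (congrArg (fun φ => IsUnit (φ.hom ((Scheme.ΓSpecIso (CommRingCat.of R)).inv.hom π))) e) ?_
    rw [CommRingCat.hom_comp, RingHom.comp_apply]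
    refine IsUnit.map (s.appLE ⊤ _ le_top).hom ?_
    rw [← CommRingCat.comp_apply, ← Scheme.ΓSpecIso_inv_naturality, CommRingCat.comp_apply]
    refine IsUnit.map (Scheme.ΓSpecIso (CommRingCat.of (FractionRing R))).inv.hom (isUnit_iff_ne_zero.2 ?_)
    exact fun h0 => hπ.ne_zero (IsFractionRing.injective R (FractionRing R) (h0.trans (map_zero _).symm))
  exact hu.mul_right_eq_zero.1 h2

theorem isOpenImmersion_genI : IsOpenImmersion (FlatCl.genI R) := by
  obtain ⟨ϖ, hϖ⟩ := IsDiscreteValuationRing.exists_irreducible R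
  haveI := RelPC17.TruncFree.isAway_fractionRing hϖ
  exact IsOpenImmersion.of_isLocalization ϖ

end Groth.Agent.H28.UnivEquidim

namespace Groth.Agent.H28.UnivEquidim

variable {Y : Scheme.{u}} (E J : Y.IdealSheafData)

theorem exists_mul_pow_mem {A : Type u} [CommRing A] (I P : Ideal A) [P.IsPrime]
    (hmin : ∀ Q : Ideal A, Q.IsPrime → I ≤ Q → Q ≤ P → P ≤ Q) {e : A} (he : e ∈ P) :
    ∃ h ∉ P, ∃ n : ℕ, h * e ^ n ∈ I := by
  by_contra! hc
  let M : Submonoid A := P.primeCompl ⊔ Submonoid.powers e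
  have hd : Disjoint (I : Set A) (M : Set A) := by
    rw [Set.disjoint_left]
    intro a ha hM
    obtain ⟨h, hh, _, ⟨n, rfl⟩, rfl⟩ := Submonoid.mem_sup.1 hM
    exact hc h hh n ha
  obtain ⟨Q, hQ, hIQ, hQM⟩ := Ideal.exists_le_prime_disjoint I M hd
  have hQP : Q ≤ P := fun a ha => by
    by_contra haP
    exact Set.disjoint_left.1 hQM ha (Submonoid.mem_sup_left haP)
  exact Set.disjoint_left.1 hQM (hmin Q hQ hIQ hQP he) (Submonoid.mem_sup_right (Submonoid.mem_powers e))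

theorem false_of_minimal {A : Type u} [CommRing A] [IsNoetherianRing A] (E J P : Ideal A) [P.IsPrime]
    (hJ : ∀ a, a ∈ J ↔ ∃ n : ℕ, ∀ c ∈ E ^ n, c * a = 0) (hE : E ≤ P) (hJP : J ≤ P)
    (hmin : ∀ Q : Ideal A, Q.IsPrime → J ≤ Q → Q ≤ P → P ≤ Q) : False := by
  obtain ⟨s, hs⟩ := IsNoetherian.noetherian E
  choose h hh n hn using fun e : s => exists_mul_pow_mem J P hmin (e := e.1) (hE (hs ▸ Ideal.subset_span e.2))
  have hH : ∏ e, h e ∉ P := fun hc => by
    obtain ⟨e, -, he⟩ := (Ideal.IsPrime.prod_mem_iff).1 hc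
    exact hh e he
  obtain ⟨N, hN⟩ : ∃ N : ℕ, E ^ N ≤ J.colon {∏ e, h e} := by
    refine Ideal.exists_pow_le_of_le_radical_of_fg ?_ (IsNoetherian.noetherian E)
    rw [← hs]
    refine Submodule.span_le.2 fun e he => ⟨n ⟨e, he⟩, Submodule.mem_colon_singleton.2 ?_⟩
    obtain ⟨c, hc⟩ := Finset.dvd_prod_of_mem h (Finset.mem_univ (⟨e, he⟩ : s))
    rw [hc, smul_eq_mul, ← mul_assoc, mul_comm (e ^ _) (h _)]
    exact J.mul_mem_right _ (hn ⟨e, he⟩)
  obtain ⟨t, ht⟩ := IsNoetherian.noetherian J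
  choose m hm using fun a : t => (hJ a.1).1 (ht ▸ Ideal.subset_span a.2)
  let M := ∑ a, m a
  have hM : ∀ c ∈ E ^ M, ∀ a ∈ J, c * a = 0 := by
    intro c hc
    have : J ≤ (⊥ : Ideal A).colon {c} := by
      rw [← ht]
      refine Submodule.span_le.2 fun a ha => Submodule.mem_colon_singleton.2 ?_
      rw [Submodule.mem_bot, smul_eq_mul, mul_comm]
      exact hm ⟨a, ha⟩ c (Ideal.pow_le_pow_right
        (Finset.single_le_sum (f := m) (fun _ _ => Nat.zero_le _) (Finset.mem_univ ⟨a, ha⟩)) hc)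
    intro a ha
    have := Submodule.mem_colon_singleton.1 (this ha)
    rwa [Submodule.mem_bot, smul_eq_mul, mul_comm] at this
  refine hH (hJP ((hJ _).2 ⟨N + M, fun c hc => ?_⟩))
  rw [pow_add] at hc
  refine Submodule.mul_induction_on hc (fun a ha b hb => ?_) fun a b ha hb => by rw [add_mul, ha, hb, add_zero]
  have := hM b hb _ (Submodule.mem_colon_singleton.1 (hN ha))
  rw [smul_eq_mul] at this
  rw [← this]
  ring

theorem mem_support_iff_le {V : Y.affineOpens} (I : Y.IdealSheafData) (P : PrimeSpectrum Γ(Y, V.1)) :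
    V.2.fromSpec P ∈ (I.support : Set Y) ↔ I.ideal V ≤ P.asIdeal := by
  have hmem : V.2.fromSpec P ∈ V.1 := by
    rw [← SetLike.mem_coe, ← V.2.range_fromSpec]
    exact ⟨P, rfl⟩
  rw [SetLike.mem_coe, Scheme.IdealSheafData.mem_support_iff_of_mem hmem]
  have : P ∈ V.2.fromSpec ⁻¹' Y.zeroLocus (U := V.1) (I.ideal V : Set Γ(Y, V.1)) ↔
      P ∈ PrimeSpectrum.zeroLocus (I.ideal V : Set Γ(Y, V.1)) := by
    rw [V.2.fromSpec_preimage_zeroLocus]
  rw [Set.mem_preimage] at this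
  rw [this]
  exact Iff.rfl

theorem mem_support_of_not_mem
    (hJ : ∀ (V : Y.affineOpens) (a : Γ(Y, V.1)), a ∈ J.ideal V ↔ ∃ n : ℕ, ∀ c ∈ (E ^ n).ideal V, c * a = 0)
    {y : Y} (hy : y ∉ (E.support : Set Y)) : y ∈ (J.support : Set Y) := by
  obtain ⟨V, hV, hyV, -⟩ := exists_isAffineOpen_mem_and_subset (x := y) (U := (⊤ : Y.Opens)) trivial
  obtain ⟨P, rfl⟩ := VarDim.exists_fromSpec_eq hV hyV
  rw [mem_support_iff_le (V := ⟨V, hV⟩)] at hy ⊢
  intro a ha
  obtain ⟨e, he, heP⟩ := SetLike.not_le_iff_exists.1 hy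
  obtain ⟨n, hn⟩ := (hJ ⟨V, hV⟩ a).1 ha
  have h0 := hn (e ^ n) (by rw [Scheme.IdealSheafData.ideal_pow]; exact Ideal.pow_mem_pow he n)
  exact (P.2.mem_or_mem (show e ^ n * a ∈ P.asIdeal by rw [h0]; exact zero_mem _)).resolve_left
    fun hc => heP (P.2.mem_of_pow_mem n hc)

theorem not_mem_support_of_isMaxPt [IsLocallyNoetherian Y]
    (hJ : ∀ (V : Y.affineOpens) (a : Γ(Y, V.1)), a ∈ J.ideal V ↔ ∃ n : ℕ, ∀ c ∈ (E ^ n).ideal V, c * a = 0)
    (ξ : J.subscheme) (hξ : IsMaxPt ξ) : J.subschemeι ξ ∉ (E.support : Set Y) := by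
  intro hE
  obtain ⟨V, hV, hyV, -⟩ := exists_isAffineOpen_mem_and_subset (x := J.subschemeι ξ) (U := (⊤ : Y.Opens)) trivial
  obtain ⟨P, hP⟩ := VarDim.exists_fromSpec_eq hV hyV
  have hJP : J.subschemeι ξ ∈ (J.support : Set Y) := J.range_subschemeι ▸ ⟨ξ, rfl⟩
  rw [← hP, mem_support_iff_le (V := ⟨V, hV⟩)] at hE hJP
  haveI : IsNoetherianRing Γ(Y, V) := IsLocallyNoetherian.component_noetherian ⟨V, hV⟩
  refine false_of_minimal (E.ideal ⟨V, hV⟩) (J.ideal ⟨V, hV⟩) P.asIdeal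
    (fun a => (hJ ⟨V, hV⟩ a).trans (by simp only [Scheme.IdealSheafData.ideal_pow, Pi.pow_apply])) hE hJP
    fun Q hQ hJQ hQP => ?_
  obtain ⟨ξ', hξ'⟩ : hV.fromSpec (⟨Q, hQ⟩ : PrimeSpectrum Γ(Y, V)) ∈ Set.range J.subschemeι := by
    rw [J.range_subschemeι]
    exact (mem_support_iff_le (V := ⟨V, hV⟩) J ⟨Q, hQ⟩).2 hJQ
  have hsp : ξ' ⤳ ξ := J.subschemeι.isEmbedding.isInducing.specializes_iff.1 (by
    rw [hξ', ← hP]
    exact (VarDim.fromSpec_specializes_iff hV ⟨Q, hQ⟩ P).2 hQP)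
  rw [hξ ξ' hsp, ← hP] at hξ'
  exact (congrArg PrimeSpectrum.asIdeal (hV.fromSpec.isOpenEmbedding.injective hξ')).le

/-- Generalizations lift along the first projection away from the centre. -/
theorem exists_lift_of_iso {Z S S' : Scheme.{u}} (W : Z ⟶ S) (b : S' ⟶ S) (U : S.Opens) [IsIso (b ∣_ U)]
    {y : ↥(pullback W b)} (hy : W (pullback.fst W b y) ∈ U) {z₀ : Z} (hz : z₀ ⤳ pullback.fst W b y) :
    ∃ y', y' ⤳ y ∧ pullback.fst W b y' = z₀ := by
  let O : Z.Opens := W ⁻¹ᵁ U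
  have big : IsPullback ((pullback.fst W b ⁻¹ᵁ O).ι ≫ pullback.snd W b) (pullback.fst W b ∣_ O) b
      ((W ∣_ U) ≫ U.ι) := by
    rw [morphismRestrict_ι]
    exact ((isPullback_morphismRestrict (pullback.fst W b) O).flip).paste_horiz
      (IsPullback.of_hasPullback W b).flip
  have hb1 : IsPullback (b ⁻¹ᵁ U).ι (b ∣_ U) b U.ι := (isPullback_morphismRestrict b U).flip
  have key : IsPullback (hb1.lift ((pullback.fst W b ⁻¹ᵁ O).ι ≫ pullback.snd W b)
      ((pullback.fst W b ∣_ O) ≫ (W ∣_ U)) (by rw [Category.assoc]; exact big.w.trans (Category.assoc _ _ _).symm))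
      (pullback.fst W b ∣_ O) (b ∣_ U) (W ∣_ U) := by
    refine IsPullback.of_right ?_ (hb1.lift_snd _ _ _) hb1
    rw [hb1.lift_fst]
    exact big
  haveI : IsIso (pullback.fst W b ∣_ O) := key.isIso_snd_of_isIso
  have hzO : z₀ ∈ O := hz.mem_open O.2 hy
  let hom := (asIso (pullback.fst W b ∣_ O)).schemeIsoToHomeo
  refine ⟨(pullback.fst W b ⁻¹ᵁ O).ι (hom.symm ⟨z₀, hzO⟩), ?_, ?_⟩
  · let y₀ : (pullback.fst W b ⁻¹ᵁ O : (pullback W b).Opens).toScheme := ⟨y, hy⟩
    suffices h : hom.symm ⟨z₀, hzO⟩ ⤳ y₀ from h.map (pullback.fst W b ⁻¹ᵁ O).ι.continuous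
    rw [← hom.isInducing.specializes_iff, Homeomorph.apply_symm_apply, ← O.ι.isEmbedding.isInducing.specializes_iff]
    show z₀ ⤳ ((pullback.fst W b ∣_ O) ≫ O.ι) y₀
    rw [morphismRestrict_ι]
    exact hz
  · rw [← Scheme.Hom.comp_apply, ← morphismRestrict_ι, Scheme.Hom.comp_apply]
    show O.ι (hom (hom.symm ⟨z₀, hzO⟩)) = z₀
    rw [Homeomorph.apply_symm_apply]
    rfl

end Groth.Agent.H28.UnivEquidim
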